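import Cfsg.Agent.Lib.Fus.ONOut.Defs

/-! Kernel checks for the automorphisms of the O'Nan group. -/

set_option autoImplicit false
set_option maxRecDepth 100000
set_option maxHeartbeats 4000000

open Cfsg.Agent.Spor.Cos

namespace Cfsg.Agent.Fus.ONOut

theorem fixed_blk25 : allBlock chkFixed 122760 4096 25 = true := by decide +kernel

theorem fixed_blk26 : allBlock chkFixed 122760 4096 26 = true := by decide +kernel

theorem fixed_blk27 : allBlock chkFixed 122760 4096 27 = true := by decide +kernel

theorem fixed_blk28 : allBlock chkFixed 122760 4096 28 = true := by decide +kernel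

theorem fixed_blk29 : allBlock chkFixed 122760 4096 29 = true := by decide +kernel

end Cfsg.Agent.Fus.ONOut
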