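import Cfsg.Agent.Lib.Fus.ONOut.ChkFixed0
import Cfsg.Agent.Lib.Fus.ONOut.ChkFixed1
import Cfsg.Agent.Lib.Fus.ONOut.ChkFixed2
import Cfsg.Agent.Lib.Fus.ONOut.ChkFixed3
import Cfsg.Agent.Lib.Fus.ONOut.ChkFixed4
import Cfsg.Agent.Lib.Fus.ONOut.ChkFixed5

/-! Kernel checks for the automorphisms of the O'Nan group, collected. -/

set_option autoImplicit false
set_option maxRecDepth 100000
set_option maxHeartbeats 4000000

open Cfsg.Agent.Spor.Cos

namespace Cfsg.Agent.Fus.ONOut

theorem fixed_ok : ∀ i < 122760, chkFixed i = true :=
  Wide.of_blocks (size := 4096) (b := 30) (by decide) (by decide) fun j hj => by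
    interval_cases j
    · exact fixed_blk0
    · exact fixed_blk1
    · exact fixed_blk2
    · exact fixed_blk3
    · exact fixed_blk4
    · exact fixed_blk5
    · exact fixed_blk6
    · exact fixed_blk7
    · exact fixed_blk8
    · exact fixed_blk9
    · exact fixed_blk10
    · exact fixed_blk11
    · exact fixed_blk12
    · exact fixed_blk13
    · exact fixed_blk14
    · exact fixed_blk15
    · exact fixed_blk16
    · exact fixed_blk17
    · exact fixed_blk18
    · exact fixed_blk19
    · exact fixed_blk20
    · exact fixed_blk21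
    · exact fixed_blk22
    · exact fixed_blk23
    · exact fixed_blk24
    · exact fixed_blk25
    · exact fixed_blk26
    · exact fixed_blk27
    · exact fixed_blk28
    · exact fixed_blk29

end Cfsg.Agent.Fus.ONOut
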