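import Cfsg.Agent.Lib.Fus.ONOut.Defs

/-! Kernel checks for the automorphisms of the O'Nan group: small facts and orbits. -/

set_option autoImplicit false
set_option maxRecDepth 100000
set_option maxHeartbeats 4000000

open Cfsg.Agent.Spor.Cos
open Cfsg.Agent.Spor.Cos.ON (actA sa1)

namespace Cfsg.Agent.Fus.ONOut

theorem root_words : same (fW iD) [3] = true ∧ same (fW iE) [4] = true ∧ same (fW iU) [6] = true := by decide +kernel

theorem root_labs : labT.at iD = 0 ∧ labT.at iE = 0 ∧ labT.at iU = 1 := by decide +kernel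

theorem idx_lt : iD < 1750 ∧ iE < 1750 ∧ iU < 1750 ∧ iA < 1750 ∧ (∀ e ∈ eReps, e < 1750) ∧
    ∀ o ∈ uNodes, o.2 < 1750 := by decide +kernel

theorem ad_words : same (fW iA) (adW.reverse ++ (0 :: adW)) = true ∧ same (adW ++ (0 :: adW.reverse)) [3] = true ∧
    (adW.all fun s => Nat.blt s 7) = true := by decide +kernel

theorem c_words : same (toG cWord) [2] = true ∧ same (toG fWord) [5] = true ∧ (cWord.all fun t => Nat.blt t 3) = true ∧
    (fWord.all fun t => Nat.blt t 3) = true := by decide +kernel

theorem comm_words : same [3, 0] [0, 3] = true ∧ same [4, 0] [0, 4] = true ∧ same [6, 0] [0, 6] = true ∧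
    same [1, 3] [3, 1] = true ∧ same [0, 1, 0, 1, 0, 1] [] = true ∧ same [3, 4, 3, 4, 3, 4] [] = true := by
  decide +kernel

theorem gen_diff : diff [3] [0] = true ∧ diff [4] [0] = true ∧ diff [6] [0] = true ∧ diff [1] [3] = true ∧
    diff [1] [] = true ∧ diff [0] [] = true ∧ diff [3] [] = true ∧ diff [4] [] = true ∧ diff [6] [] = true := by
  decide +kernel

theorem rel_ok : ∀ r ∈ relW, (r.all fun t => Nat.blt t 3) = true ∧ same (toG r) [] = true := by decide +kernel

theorem kW_ok : ∀ w ∈ kW, (w.all fun s => [3, 4, 6].contains s) = true ∧ actA.go w 0 = 0 ∧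
    actA.go w ptQ = ptQ := by decide +kernel

theorem ptQ_ok : sa1.mem ptQ = true ∧ actA.im ptQ 0 = ptQ ∧ ptQ < 122760 := by decide +kernel

theorem move_ok : (moveW.all fun s => Nat.blt s 7) = true ∧ actA.go moveW 15 = 0 ∧
    (evenW.all fun s => Nat.blt s 6) = true ∧ evenW.length % 2 = 0 ∧
    same (moveW ++ (0 :: moveW.reverse)) evenW = true := by decide +kernel

theorem node_words : same [1, 0, 1] [0, 1, 0] = true ∧ same [2, 1, 2] [1, 2, 1] = true ∧
    same [4, 3, 4] [3, 4, 3] = true ∧ same [5, 4, 5] [4, 5, 4] = true ∧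
    same [0, 5] [2, 3, 2, 3, 2, 3, 2, 3] = true := by decide +kernel

theorem sylW_lt : ∀ w ∈ sylW, ∀ t ∈ w, t < 3 := by decide +kernel

theorem lab_count : ((List.range 1750).filter fun i => Nat.beq (labT.at i) 0).length = 630 := by decide +kernel

theorem psi_ok : chkPsi = true := by decide +kernel

theorem actF_inv : ∀ p < 1750, actF.chkInv p = true :=
  of_blocks (size := 250) (b := 7) (by decide) (by decide) fun j hj => by interval_cases j <;> decide +kernel

theorem fix240_ok : fix240.Ok actA cenW 0 := ⟨by decide +kernel, by decide, by decide +kernel⟩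

theorem fix120_ok : fix120.Ok actA cenW 15 := ⟨by decide +kernel, by decide, by decide +kernel⟩

theorem regK_ok : regK.Ok actA kW (regK.pt 0) := ⟨by decide +kernel, by decide, by decide +kernel⟩

theorem regK_size : regK.m = 672 := rfl

end Cfsg.Agent.Fus.ONOut
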