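import Cfsg.Agent.Lib.Fus.ONOut.ChkSub0

/-! Kernel checks for the automorphisms of the O'Nan group, collected. -/

set_option autoImplicit false
set_option maxRecDepth 100000
set_option maxHeartbeats 4000000

open Cfsg.Agent.Spor.Cos

namespace Cfsg.Agent.Fus.ONOut

theorem sub_ok : ∀ i < 5586, chkSub i = true :=
  Wide.of_blocks (size := 512) (b := 11) (by decide) (by decide) fun j hj => by
    interval_cases j
    · exact sub_blk0
    · exact sub_blk1
    · exact sub_blk2
    · exact sub_blk3
    · exact sub_blk4
    · exact sub_blk5
    · exact sub_blk6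
    · exact sub_blk7
    · exact sub_blk8
    · exact sub_blk9
    · exact sub_blk10

end Cfsg.Agent.Fus.ONOut
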