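import Cfsg.Agent.Lib.Spor.Cos.ON.IsSimple
import Cfsg.Agent.Lib.Spor.Cos.ON.HSub
import Cfsg.Agent.Lib.Spor.Cos.ON.Psl
import Cfsg.Agent.Lib.Fus.ONOut.ChkMisc
import Cfsg.Agent.Lib.Fus.ONOut.ChkFixed
import Cfsg.Agent.Lib.Fus.ONOut.ChkSub

/-!
The centraliser of the first generator of the O'Nan group is generated by the fourth, fifth and seventh.
-/

set_option autoImplicit false
set_option maxRecDepth 100000
set_option maxHeartbeats 1000000

open Cfsg.Agent.Spor.Cos
open Cfsg.Agent.Spor.Cos.ON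

namespace Cfsg.Agent.Fus.ONOut

theorem baseP_lt : ∀ p ∈ baseP, p < 122760 := by decide

theorem lt_of_all {v : List ℕ} {n : ℕ} (h : (v.all fun s => Nat.blt s n) = true) : ∀ s ∈ v, s < n :=
  fun s hs => Nat.le_of_ble_eq_true (List.all_eq_true.1 h s hs)

theorem eq_of_same {v w : List ℕ} (h : same v w = true) : ev g v = ev g w := by
  simp only [same, agr, force_eq, Bool.and_eq_true] at h
  obtain ⟨⟨hv, hw⟩, ha⟩ := h
  refine (inv_mul_eq_one.1 (det _ fun q hq => ?_)).symm
  rw [map_mul, map_inv, Equiv.Perm.mul_apply, Equiv.Perm.inv_eq_iff_eq]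
  refine Fin.ext ?_
  rw [homA.apply_ev v (lt_of_all hv), homA.apply_ev w (lt_of_all hw)]
  exact Nat.eq_of_beq_eq_true (List.all_eq_true.1 ha _ hq)

theorem ne_of_diff {v w : List ℕ} (h : diff v w = true) : ev g v ≠ ev g w := by
  intro e
  simp only [diff, agr, force_eq, Bool.and_eq_true, Bool.not_eq_true'] at h
  obtain ⟨⟨hv, hw⟩, ha⟩ := h
  refine Bool.eq_false_iff.1 ha (List.all_eq_true.2 fun p hp => ?_)
  have := congrArg (fun y : Spor.ON => (piA y ⟨p, baseP_lt p hp⟩ : ℕ)) e
  simp only [homA.apply_ev v (lt_of_all hv), homA.apply_ev w (lt_of_all hw)] at this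
  rw [this]
  exact Nat.beq_refl _

theorem ev_one (s : ℕ) : ev g [s] = g s := mul_one _

theorem comm_of_same {s t : ℕ} (h : same [s, t] [t, s] = true) : g s * g t = g t * g s := by
  simpa [ev] using eq_of_same h

/-- The centraliser of the first generator. -/
abbrev C : Subgroup Spor.ON := Subgroup.centralizer ({g 0} : Set Spor.ON)

theorem mem_C {y : Spor.ON} : y ∈ C ↔ y * g 0 = g 0 * y := Subgroup.mem_centralizer_singleton_iff

/-- The letter of a generator of the centraliser. -/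
def letterC (t : ℕ) : ℕ := bif Nat.beq t 0 then 3 else bif Nat.beq t 1 then 4 else 6

/-- The generators of the centraliser. -/
noncomputable def gc (t : ℕ) : Spor.ON := g (letterC t)

theorem ev_toG : ∀ w : List ℕ, ev g (toG w) = ev gc w
  | [] => rfl
  | t :: w => by rw [toG, List.map_cons, ev, ev]; exact congrArg _ (ev_toG w)

theorem gc_mem (t : ℕ) : gc t ∈ C := by
  rw [mem_C, gc, letterC]
  rcases t with _ | _ | t
  · exact comm_of_same comm_words.1
  · exact comm_of_same comm_words.2.1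
  · exact comm_of_same comm_words.2.2.1

theorem cen_le : val g cenW ≤ C := by
  refine (Subgroup.closure_le _).2 ?_
  rintro _ ⟨w, hw, rfl⟩
  fin_cases hw <;> rw [ev_one]
  exacts [gc_mem 0, gc_mem 1, gc_mem 2]

theorem gc_val (t : ℕ) : gc t ∈ val g cenW := by
  have h : ∀ s, [s] ∈ cenW → g s ∈ val g cenW := fun s hs => ev_one s ▸ mem_val hs
  rcases t with _ | _ | t
  exacts [h 3 (by decide), h 4 (by decide), h 6 (by decide)]

/-! ### The point stabiliser -/

theorem g_mem_nodes {s : ℕ} (hs : s < 6) : g s ∈ val g lv1W := by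
  rw [← ev_one s]; exact mem_val (by interval_cases s <;> decide)

theorem ev_mem_nodes {w : List ℕ} (hw : ∀ s ∈ w, s < 6) : ev g w ∈ val g lv1W :=
  ev_mem w fun s hs => g_mem_nodes (hw s hs)

/-- An element of the point stabiliser conjugate there to the first generator is no even product of nodes. -/
theorem even_ne (x : val g lv1W) :
    (x : Spor.ON) * g 0 * (x : Spor.ON)⁻¹ ≠ ev g evenW := by
  have := ON.finite
  obtain ⟨N, hN, hi, -⟩ := exists_half
  have := hN
  let P : Spor.ON → Prop := fun y => ∃ h : y ∈ val g lv1W, (⟨y, h⟩ : val g lv1W) ∈ N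
  have hmul : ∀ {a b}, a ∈ val g lv1W → b ∈ val g lv1W → (P (a * b) ↔ (P a ↔ P b)) := by
    intro a b ha hb
    have := Subgroup.mul_mem_iff_of_index_two hi (a := (⟨a, ha⟩ : val g lv1W)) (b := ⟨b, hb⟩)
    exact ⟨fun ⟨_, h⟩ => ⟨fun ⟨_, k⟩ => ⟨hb, (this.1 h).1 k⟩, fun ⟨_, k⟩ => ⟨ha, (this.1 h).2 k⟩⟩,
      fun h => ⟨mul_mem ha hb, this.2 ⟨fun k => (h.1 ⟨ha, k⟩).2, fun k => (h.2 ⟨hb, k⟩).2⟩⟩⟩
  have hone : P (ev g []) := ⟨one_mem _, N.one_mem⟩
  have hcons : ∀ {s} {w : List ℕ}, s < 6 → (∀ t ∈ w, t < 6) → (P (ev g (s :: w)) ↔ (P (g s) ↔ P (ev g w))) :=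
    fun hs hw => by rw [ev]; exact hmul (g_mem_nodes hs) (ev_mem_nodes hw)
  have triple : ∀ {s t}, s < 6 → t < 6 → same [t, s, t] [s, t, s] = true → (P (g s) ↔ P (g t)) := by
    intro s t hs ht h
    have e := congrArg P (eq_of_same h)
    rw [eq_iff_iff, hcons ht (by simp [hs, ht]), hcons hs (by simp [ht]), hcons ht (by simp),
      hcons hs (by simp [hs, ht]), hcons ht (by simp [hs]), hcons hs (by simp)] at e
    simp only [hone, iff_true] at e
    by_cases k : P (g s) <;> by_cases k' : P (g t) <;> simp_all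
  have e01 := triple (s := 0) (t := 1) (by norm_num) (by norm_num) node_words.1
  have e12 := triple (s := 1) (t := 2) (by norm_num) (by norm_num) node_words.2.1
  have e34 := triple (s := 3) (t := 4) (by norm_num) (by norm_num) node_words.2.2.1
  have e45 := triple (s := 4) (t := 5) (by norm_num) (by norm_num) node_words.2.2.2.1
  have e05 : P (g 0) ↔ P (g 5) := by
    have e := congrArg P (eq_of_same node_words.2.2.2.2)
    have k0 : (0 : ℕ) < 6 := by norm_num
    have k2 : (2 : ℕ) < 6 := by norm_num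
    have k3 : (3 : ℕ) < 6 := by norm_num
    have k5 : (5 : ℕ) < 6 := by norm_num
    rw [eq_iff_iff, hcons (s := 0) (w := [5]) k0 (by simp), hcons (s := 5) (w := []) k5 (by simp),
      hcons (s := 2) (w := [3, 2, 3, 2, 3, 2, 3]) k2 (by simp), hcons (s := 3) (w := [2, 3, 2, 3, 2, 3]) k3 (by simp),
      hcons (s := 2) (w := [3, 2, 3, 2, 3]) k2 (by simp), hcons (s := 3) (w := [2, 3, 2, 3]) k3 (by simp),
      hcons (s := 2) (w := [3, 2, 3]) k2 (by simp), hcons (s := 3) (w := [2, 3]) k3 (by simp),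
      hcons (s := 2) (w := [3]) k2 (by simp), hcons (s := 3) (w := []) k3 (by simp)] at e
    simp only [hone, iff_true] at e
    by_cases h2 : P (g 2) <;> by_cases h3 : P (g 3) <;> simp only [h2, h3, iff_true, iff_false,
      iff_self, not_true] at e <;> exact e
  have h0 : ¬ P (g 0) := by
    intro h
    have hall : ∀ s < 6, P (g s) := fun s hs => by
      interval_cases s
      · exact h
      · exact e01.1 h
      · exact e12.1 (e01.1 h)
      · exact e34.2 (e45.2 (e05.1 h))
      · exact e45.2 (e05.1 h)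
      · exact e05.1 h
    have hle : val g lv1W ≤ N.map (val g lv1W).subtype := by
      refine (Subgroup.closure_le _).2 ?_
      rintro _ ⟨w, hw, rfl⟩
      have : ∀ w ∈ lv1W, ∃ s < 6, w = [s] := by decide
      obtain ⟨s, hs, rfl⟩ := this w hw
      rw [ev_one]
      obtain ⟨h1, h2⟩ := hall s hs
      exact ⟨_, h2, rfl⟩
    have : N = ⊤ := top_le_iff.1 fun y _ => by
      obtain ⟨z, hz, e⟩ := hle y.2
      exact (Subtype.ext e : z = y) ▸ hz
    rw [this, Subgroup.index_top] at hi
    norm_num at hi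
  have hg : ∀ s < 6, ¬ P (g s) := fun s hs => by
    interval_cases s <;> tauto
  have heven : ∀ w : List ℕ, (∀ t ∈ w, t < 6) → (P (ev g w) ↔ w.length % 2 = 0) := by
    intro w
    induction w with
    | nil => exact fun _ => ⟨fun _ => rfl, fun _ => hone⟩
    | cons s w ih =>
      intro hl
      rw [hcons (hl s (by simp)) fun t ht => hl t (by simp [ht]), ih fun t ht => hl t (by simp [ht]), List.length_cons]
      have := hg s (hl s (by simp))
      constructor
      · intro h
        by_contra hc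
        exact this (h.2 (by omega))
      · exact fun h => ⟨fun k => absurd k this, fun k => by omega⟩
  intro e
  have hw : P (ev g evenW) := (heven _ (lt_of_all move_ok.2.2.1)).2 move_ok.2.2.2.1
  rw [← e] at hw
  obtain ⟨h1, h2⟩ := hw
  refine h0 ⟨g_mem_nodes (by norm_num), ?_⟩
  have := hN.conj_mem _ h2 x⁻¹
  convert this using 1
  exact Subtype.ext (by simp [mul_assoc])

/-- The base point and the point of the suborbit. -/
noncomputable def ptQF : Fin actA.N := ⟨ptQ, ptQ_ok.2.2⟩

theorem g0_apply (p : Fin actA.N) : (piA (g 0) p : ℕ) = actA.im p 0 := by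
  rw [← ev_one 0, homA.apply_ev [0] (by decide), Wide.Act.go_cons, Wide.Act.go_nil]

theorem inv_apply {α : Type*} (f : Equiv.Perm α) (x : α) : f⁻¹ (f x) = x := f.symm_apply_apply x

theorem fixed_of_comm {c : Spor.ON} (hc : c ∈ C) {p : Fin actA.N} (hp : piA (g 0) p = p) :
    piA (g 0) (piA c p) = piA c p := by
  rw [← Equiv.Perm.mul_apply, ← map_mul, ← mem_C.1 hc, map_mul, Equiv.Perm.mul_apply, hp]

theorem g0_base : piA (g 0) baseA = baseA := Wide.mem_stab.1 (stabA ▸ g_mem_nodes (by norm_num))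

theorem g0_ptQ : piA (g 0) ptQF = ptQF := Fin.ext ((g0_apply _).trans ptQ_ok.2.1)

/-- The stabiliser of two points. -/
noncomputable abbrev K : Subgroup Spor.ON := val g lv1W ⊓ Wide.stab piA ptQF

theorem card_K : Nat.card K = 672 := by
  have := ON.finite
  have h1 := saList_ok _ (show (sa1, 5) ∈ saList by simp [saList])
  have horb := h1.1.orbit_eq h1.2 homA ⟨5, h1.1.root_lt⟩ rfl
  obtain ⟨y0, hy0, e0⟩ := h1.1.mem_orbit homA ⟨5, h1.1.root_lt⟩ rfl (p := ptQF) ptQ_ok.1
  set S := val g lv1W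
  let f : S →* Equiv.Perm (Fin actA.N) := piA.comp S.subtype
  let _ : MulAction S (Fin actA.N) := MulAction.compHom (Fin actA.N) f
  have hset : MulAction.orbit S ptQF = {p : Fin actA.N | sa1.mem p = true} := by
    rw [← horb]
    ext p
    constructor
    · rintro ⟨y, rfl⟩
      exact ⟨y * y0, mul_mem y.2 hy0, by rw [map_mul, Equiv.Perm.mul_apply, e0]; rfl⟩
    · rintro ⟨y, hy, rfl⟩
      refine ⟨⟨y * y0⁻¹, mul_mem hy (inv_mem hy0)⟩, ?_⟩
      show piA (y * y0⁻¹) ptQF = _
      rw [map_mul, Equiv.Perm.mul_apply, map_inv, ← e0, inv_apply]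
  have key : (MulAction.orbit S ptQF).ncard * Nat.card (MulAction.stabilizer S ptQF) = Nat.card S := by
    rw [← Nat.card_coe_set_eq, ← Nat.card_prod]
    exact Nat.card_congr (MulAction.orbitProdStabilizerEquivGroup S ptQF)
  rw [hset, h1.1.ncard_mem, card_nodes] at key
  have hm : (sa1, 5).1.m = 5586 := rfl
  rw [hm] at key
  have hK : Nat.card K = Nat.card (MulAction.stabilizer S ptQF) :=
    Nat.card_congr
      { toFun := fun y => ⟨⟨y.1, y.2.1⟩, y.2.2⟩
        invFun := fun y => ⟨y.1.1, y.1.2, y.2⟩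
        left_inv := fun _ => rfl
        right_inv := fun _ => rfl }
  omega

theorem K_le : K ≤ val g cenW := by
  have := ON.finite
  have hl : Wide.Act.lettersOk actA.n kW = true := regK_ok.letters
  have hle : val g kW ≤ K := by
    refine (Subgroup.closure_le _).2 ?_
    rintro _ ⟨w, hw, rfl⟩
    obtain ⟨-, h2, h3⟩ := kW_ok w hw
    refine ⟨?_, Fin.ext ((homA.apply_ev w (Wide.Act.lt_of_lettersOk hl hw) ptQF).trans h3)⟩
    rw [stabA]
    exact Fin.ext ((homA.apply_ev w (Wide.Act.lt_of_lettersOk hl hw) baseA).trans h2)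
  have h : 672 * 1 ≤ Nat.card (val g kW) :=
    regK_size ▸ (Wide.Lev.nil.step homA regK_ok (by decide +kernel) (by decide +kernel) (by decide +kernel)).le
  have e : val g kW = K := Subgroup.eq_of_le_of_card_ge hle (card_K.trans_le (by omega))
  rw [← e]
  refine (Subgroup.closure_le _).2 ?_
  rintro _ ⟨w, hw, rfl⟩
  refine ev_mem w fun s hs => ?_
  have := List.all_eq_true.1 (kW_ok w hw).1 s hs
  simp only [List.contains_cons, List.contains_nil, Bool.or_false, Bool.or_eq_true, beq_iff_eq] at this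
  rcases this with rfl | rfl | rfl
  exacts [gc_val 0, gc_val 1, gc_val 2]

theorem base_stab {c : Spor.ON} (hc : c ∈ C) (hb : piA c baseA = baseA) : c ∈ val g cenW := by
  have hS : c ∈ val g lv1W := stabA ▸ hb
  have h1 := saList_ok _ (show (sa1, 5) ∈ saList by simp [saList])
  obtain ⟨y0, hy0, e0⟩ := h1.1.mem_orbit homA ⟨5, h1.1.root_lt⟩ rfl (p := ptQF) ptQ_ok.1
  have hmem : piA c ptQF ∈ {p : Fin actA.N | sa1.mem p = true} := by
    have horb := h1.1.orbit_eq h1.2 homA ⟨5, h1.1.root_lt⟩ rfl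
    rw [← horb]
    exact ⟨c * y0, mul_mem hS hy0, by rw [map_mul, Equiv.Perm.mul_apply, e0]⟩
  simp only [Set.mem_ofPred_eq, Wide.Orb.mem, force_eq, Bool.and_eq_true] at hmem
  have hsub := sub_ok _ (show sa1.pos.at (piA c ptQF : ℕ) < 5586 from Nat.le_of_ble_eq_true hmem.1)
  simp only [chkSub, force_eq, Nat.eq_of_beq_eq_true hmem.2] at hsub
  rw [show actA.im (piA c ptQF : ℕ) 0 = (piA c ptQF : ℕ) by rw [← g0_apply, fixed_of_comm hc g0_ptQ]] at hsub
  simp only [Nat.beq_refl, Bool.not_true, Bool.false_or, Bool.or_eq_true, List.any_eq_true, Bool.and_eq_true] at hsub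
  rcases hsub with h | ⟨o, -, ⟨⟨-, hl⟩, hgo⟩, hd⟩
  · exact K_le ⟨hS, Fin.ext (Nat.eq_of_beq_eq_true h)⟩
  · exfalso
    have hlt : ∀ s ∈ o.2, s < 7 := fun s hs => (lt_of_all hl s hs).trans (by norm_num)
    have e : piA (ev g o.2) ptQF = piA c ptQF :=
      Fin.ext ((homA.apply_ev _ hlt _).trans (Nat.eq_of_beq_eq_true hgo))
    have hk : (ev g o.2)⁻¹ * c ∈ K := by
      refine ⟨(val g lv1W).mul_mem ((val g lv1W).inv_mem (ev_mem_nodes (lt_of_all hl))) hS, ?_⟩
      show piA ((ev g o.2)⁻¹ * c) ptQF = ptQF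
      rw [map_mul, Equiv.Perm.mul_apply, map_inv, ← e, inv_apply]
    have ho' : ev g o.2 ∈ C := by
      have := mul_mem hc (inv_mem (cen_le (K_le hk)))
      rwa [mul_inv_rev, inv_inv, ← mul_assoc, mul_inv_cancel, one_mul] at this
    refine ne_of_diff hd ?_
    rw [ev_append, ev_one, ev]
    exact mem_C.1 ho'

/-- The centraliser. -/
theorem C_eq : C = val g cenW := by
  refine le_antisymm (fun c hc => ?_) cen_le
  have hfix : actA.im (piA c baseA : ℕ) 0 = (piA c baseA : ℕ) := by rw [← g0_apply, fixed_of_comm hc g0_base]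
  have h := fixed_ok _ (piA c baseA).2
  simp only [chkFixed, hfix, Nat.beq_refl, Bool.not_true, Bool.false_or, Bool.and_eq_true, Bool.or_eq_true] at h
  rcases h.1 with hm | hm
  · obtain ⟨k, hk, e⟩ := fix240_ok.mem_orbit homA baseA rfl hm
    have hb : piA (k⁻¹ * c) baseA = baseA := by
      rw [map_mul, Equiv.Perm.mul_apply, map_inv, ← e, inv_apply]
    have := mul_mem hk (base_stab (mul_mem (inv_mem (cen_le hk)) hc) hb)
    rwa [mul_inv_cancel_left] at this
  · exfalso
    obtain ⟨k, hk, e⟩ := fix120_ok.mem_orbit homA ⟨15, fix120_ok.root_lt⟩ rfl hm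
    have hc' : k⁻¹ * c ∈ C := mul_mem (inv_mem (cen_le hk)) hc
    have hS : ev g moveW * (k⁻¹ * c) ∈ val g lv1W := by
      rw [stabA]
      show piA (ev g moveW * (k⁻¹ * c)) baseA = baseA
      rw [map_mul, map_mul, Equiv.Perm.mul_apply, Equiv.Perm.mul_apply, map_inv, ← e, inv_apply]
      exact Fin.ext ((homA.apply_ev _ (lt_of_all move_ok.1) _).trans move_ok.2.1)
    refine even_ne ⟨_, hS⟩ ?_
    rw [← eq_of_same move_ok.2.2.2.2, ev_append, ev, ev_reverse (n := 7) (fun s _ => g_sq s) _ (lt_of_all move_ok.1)]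
    show ev g moveW * (k⁻¹ * c) * g 0 * (ev g moveW * (k⁻¹ * c))⁻¹ = _
    rw [mul_assoc (ev g moveW), mem_C.1 hc']
    group

end Cfsg.Agent.Fus.ONOut
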