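import Cfsg.Agent.Lib.Fus.ONOut.Defs

/-! Kernel checks for the automorphisms of the O'Nan group. -/

set_option autoImplicit false
set_option maxRecDepth 100000
set_option maxHeartbeats 4000000

open Cfsg.Agent.Spor.Cos

namespace Cfsg.Agent.Fus.ONOut

theorem e_blk0 : allBlock chkE 1750 128 0 = true := by decide +kernel

theorem e_blk1 : allBlock chkE 1750 128 1 = true := by decide +kernel

theorem e_blk2 : allBlock chkE 1750 128 2 = true := by decide +kernel

theorem e_blk3 : allBlock chkE 1750 128 3 = true := by decide +kernel

theorem e_blk4 : allBlock chkE 1750 128 4 = true := by decide +kernel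

theorem e_blk5 : allBlock chkE 1750 128 5 = true := by decide +kernel

theorem e_blk6 : allBlock chkE 1750 128 6 = true := by decide +kernel

theorem e_blk7 : allBlock chkE 1750 128 7 = true := by decide +kernel

theorem e_blk8 : allBlock chkE 1750 128 8 = true := by decide +kernel

theorem e_blk9 : allBlock chkE 1750 128 9 = true := by decide +kernel

theorem e_blk10 : allBlock chkE 1750 128 10 = true := by decide +kernel

theorem e_blk11 : allBlock chkE 1750 128 11 = true := by decide +kernel

theorem e_blk12 : allBlock chkE 1750 128 12 = true := by decide +kernel

theorem e_blk13 : allBlock chkE 1750 128 13 = true := by decide +kernel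

end Cfsg.Agent.Fus.ONOut
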