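import Cfsg.Agent.Lib.Fus.ONOut.Defs

/-! Kernel checks for the automorphisms of the O'Nan group. -/

set_option autoImplicit false
set_option maxRecDepth 100000
set_option maxHeartbeats 4000000

open Cfsg.Agent.Spor.Cos

namespace Cfsg.Agent.Fus.ONOut

theorem f_blk14 : allBlock chkF 1750 64 14 = true := by decide +kernel

theorem f_blk15 : allBlock chkF 1750 64 15 = true := by decide +kernel

theorem f_blk16 : allBlock chkF 1750 64 16 = true := by decide +kernel

theorem f_blk17 : allBlock chkF 1750 64 17 = true := by decide +kernel

theorem f_blk18 : allBlock chkF 1750 64 18 = true := by decide +kernel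

theorem f_blk19 : allBlock chkF 1750 64 19 = true := by decide +kernel

theorem f_blk20 : allBlock chkF 1750 64 20 = true := by decide +kernel

end Cfsg.Agent.Fus.ONOut
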