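import Cfsg.Agent.Lib.Fus.ONOut.Defs

/-! Kernel checks for the automorphisms of the O'Nan group. -/

set_option autoImplicit false
set_option maxRecDepth 100000
set_option maxHeartbeats 4000000

open Cfsg.Agent.Spor.Cos

namespace Cfsg.Agent.Fus.ONOut

theorem f_blk21 : allBlock chkF 1750 64 21 = true := by decide +kernel

theorem f_blk22 : allBlock chkF 1750 64 22 = true := by decide +kernel

theorem f_blk23 : allBlock chkF 1750 64 23 = true := by decide +kernel

theorem f_blk24 : allBlock chkF 1750 64 24 = true := by decide +kernel

theorem f_blk25 : allBlock chkF 1750 64 25 = true := by decide +kernel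

theorem f_blk26 : allBlock chkF 1750 64 26 = true := by decide +kernel

theorem f_blk27 : allBlock chkF 1750 64 27 = true := by decide +kernel

end Cfsg.Agent.Fus.ONOut
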