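import Cfsg.Agent.Lib.Fus.ONOut.Defs

/-! Kernel checks for the automorphisms of the O'Nan group. -/

set_option autoImplicit false
set_option maxRecDepth 100000
set_option maxHeartbeats 4000000

open Cfsg.Agent.Spor.Cos

namespace Cfsg.Agent.Fus.ONOut

theorem fixed_blk0 : allBlock chkFixed 122760 4096 0 = true := by decide +kernel

theorem fixed_blk1 : allBlock chkFixed 122760 4096 1 = true := by decide +kernel

theorem fixed_blk2 : allBlock chkFixed 122760 4096 2 = true := by decide +kernel

theorem fixed_blk3 : allBlock chkFixed 122760 4096 3 = true := by decide +kernel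

theorem fixed_blk4 : allBlock chkFixed 122760 4096 4 = true := by decide +kernel

end Cfsg.Agent.Fus.ONOut
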