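import Cfsg.Agent.Lib.Fus.ONOut.ChkSyl0
import Cfsg.Agent.Lib.Fus.ONOut.ChkSyl1

/-! Kernel checks for the automorphisms of the O'Nan group, collected. -/

set_option autoImplicit false
set_option maxRecDepth 100000
set_option maxHeartbeats 4000000

open Cfsg.Agent.Spor.Cos

namespace Cfsg.Agent.Fus.ONOut

theorem syl_ok : ∀ i < 512, chkSyl i = true :=
  Wide.of_blocks (size := 32) (b := 16) (by decide) (by decide) fun j hj => by
    interval_cases j
    · exact syl_blk0
    · exact syl_blk1
    · exact syl_blk2
    · exact syl_blk3
    · exact syl_blk4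
    · exact syl_blk5
    · exact syl_blk6
    · exact syl_blk7
    · exact syl_blk8
    · exact syl_blk9
    · exact syl_blk10
    · exact syl_blk11
    · exact syl_blk12
    · exact syl_blk13
    · exact syl_blk14
    · exact syl_blk15

end Cfsg.Agent.Fus.ONOut
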