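import Cfsg.Agent.Lib.Fus.ONOut.Defs

/-! Kernel checks for the automorphisms of the O'Nan group. -/

set_option autoImplicit false
set_option maxRecDepth 100000
set_option maxHeartbeats 4000000

open Cfsg.Agent.Spor.Cos

namespace Cfsg.Agent.Fus.ONOut

theorem u_blk7 : allBlock chkU 5250 256 7 = true := by decide +kernel

theorem u_blk8 : allBlock chkU 5250 256 8 = true := by decide +kernel

theorem u_blk9 : allBlock chkU 5250 256 9 = true := by decide +kernel

theorem u_blk10 : allBlock chkU 5250 256 10 = true := by decide +kernel

theorem u_blk11 : allBlock chkU 5250 256 11 = true := by decide +kernel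

theorem u_blk12 : allBlock chkU 5250 256 12 = true := by decide +kernel

theorem u_blk13 : allBlock chkU 5250 256 13 = true := by decide +kernel

end Cfsg.Agent.Fus.ONOut
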