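import Cfsg.Agent.Lib.Fus.ONOut.ChkU0
import Cfsg.Agent.Lib.Fus.ONOut.ChkU1
import Cfsg.Agent.Lib.Fus.ONOut.ChkU2

/-! Kernel checks for the automorphisms of the O'Nan group, collected. -/

set_option autoImplicit false
set_option maxRecDepth 100000
set_option maxHeartbeats 4000000

open Cfsg.Agent.Spor.Cos

namespace Cfsg.Agent.Fus.ONOut

theorem u_ok : ∀ i < 5250, chkU i = true :=
  Wide.of_blocks (size := 256) (b := 21) (by decide) (by decide) fun j hj => by
    interval_cases j
    · exact u_blk0
    · exact u_blk1
    · exact u_blk2
    · exact u_blk3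
    · exact u_blk4
    · exact u_blk5
    · exact u_blk6
    · exact u_blk7
    · exact u_blk8
    · exact u_blk9
    · exact u_blk10
    · exact u_blk11
    · exact u_blk12
    · exact u_blk13
    · exact u_blk14
    · exact u_blk15
    · exact u_blk16
    · exact u_blk17
    · exact u_blk18
    · exact u_blk19
    · exact u_blk20

end Cfsg.Agent.Fus.ONOut
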