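import Cfsg.Agent.Lib.Spor.Cos.ON.Wide.Orb

/-!
Certificates for the automorphisms of the O'Nan group: the centraliser of an involution and its involutions.
-/

set_option autoImplicit false
set_option maxRecDepth 100000

namespace Cfsg.Agent.Fus.ONOut

open Cfsg.Agent.Spor.Cos

def fTB0 : Bst := (.node 16 (.node 8 (.node 4 (.node 2 (.node 1 (.leaf 0x27bb9ddbb00000000000277760000000003bbbbbb000000000000002e) (.leaf 0x200000e7b6767bb7b000000000001dedd000067b79ddd9eed)) (.node 3 (.leaf 0x67b76e7bb9db00006d9dd9ddbbbb000000001b7b7b79000006d9ddee777b) (.leaf 0x19dededd90000000000277b760000b9ed9d9eedee000000003bbbbbbb))) (.node 6 (.node 5 (.leaf 0x67bbb76deed000007bb76776eee000007bb79dbbbb60000007bb77b9dde) (.leaf 0x3b9deddbb0000000dbb79eee70000003b9eddedbb000001b776767779)) (.node 7 (.leaf 0x67676ed900000000000779ed0000000db779ede700000003b6edee7b) (.leaf 0x1ddb79dd000000001ee7b6ee000000000000079e000000006dbb6edb)))) (.node 12 (.node 10 (.node 9 (.leaf 0x1ddb9ed000000001deddedd0000000000019dd9000000001ee776ed)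 (.leaf 0x6eeedeeee7bb0000036776eedbb700000001ede776ee0000002edddee77b)) (.node 11 (.leaf 0x2edd9d9eeddb00007b77bb779ddb00000037b9dddbb700006eeedbbbb7bb) (.leaf 0x779de000036eedeedeee700000e7bb776767b0000000000037677))) (.node 14 (.node 13 (.leaf 0x6ed9ede777b00019ed9ee77bb7900000003b79ee7bb00019eeddbb67b79) (.leaf 0x9ddde00000000000001ed0000019ede76eed9000000067b9ddb9d)) (.node 15 (.leaf 0xb767b767000001b9eedede760000000277b67b76000000002777b776) (.leaf 0x36ddd9dde7000000001bbbbbb90000000b7bb9ddbb00001bb6776e7b7b))))) (.node 24 (.node 20 (.node 18 (.node 17 (.leaf 0x1dededd0000002eeeeddb7b000000b77b9dde7b0000000079dbb6ee) (.leaf 0x19e77b9edb00000079eee77bb700002d9d9ee7bb7b000000001ddb79de)) (.node 19 (.leaf 0x3b79ede7bb000003bb677767bb00000001db7b6ee70000076dedbbb677) (.leaf 0x1eed9dedbb7000001ed9ee77bb7000001de7b67b767000000003b79dbbb))) (.node 22 (.node 21 (.leaf 0x36776dedbb7000006ed9ddbbb7b0000006edee7777b0000079ddd9eee7b) (.leaf 0x1b7b79000006eed9dddb7b00000006d9ddeede000001dd9ede77bb))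 (.node 23 (.leaf 0xb9dddee000000bbb9deeee70000000b7676777b000000002ee7b6ee) (.leaf 0x1b76eee7b00000001eededeed00000000000002de000002d9dedbb77b)))) (.node 28 (.node 26 (.node 25 (.leaf 0x19dde7b7bbb600000000000027760000019ddeeddb7b00000000006779dd) (.leaf 0x6ddbbb9eede00000003bb6767bb000001b9ddedddb90000001e777b776d)) (.node 27 (.leaf 0x1e7b779e00001d9dddbb6eed0000000037b7b7b70000000003b9ddbb) (.leaf 0xbb76e77bb70000002eeede77bb0000067b776deedd00000001dbbb9edb))) (.node 30 (.node 29 (.leaf 0x2edddee0000000076e7b6ed0000000bb7bb9ddb000067b77b9dde76) (.leaf 0x1db7b9edb00000000006776de0000000000002d9e00000002e7bbbbbb)) (.node 31 (.leaf 0x27b77bb77b6000000006edd9ede0000019eddb9eed900000001dbbb6ee7) (.leaf 0x1ed9dd9ed000001d9ddb9dd9d00000000000002ee00000000003bbbbb))))))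

def fTB1 : Bst := (.node 48 (.node 40 (.node 36 (.node 34 (.node 33 (.leaf 0x6deee7bbb7000000000019d9d9000000036e7b79db000000b6eede77bb) (.leaf 0x1eeddbb67b7000000bbb6eeeddb000000b9eeeddb7b0000076edee777b6)) (.node 35 (.leaf 0x2e77bb9ddb000000001de7b9ed00000036deddede7000027b79ede7bb6) (.leaf 0x277677600000001dd9dd9dd00000001bbbbbbbb0000000000000001))) (.node 38 (.node 37 (.leaf 0x1d9dddb7bb7000076e7776e776700002eeedeedbbbb0000000019dd9dd9) (.leaf 0x1deede77767000076776e7776e7000006d9dedbb77b0000000037677677)) (.node 39 (.leaf 0x2d9ddd9e00000007767677bb00000001ddb79ee7000000000001e76e) (.leaf 0x2dee7b6eee0000002dddb79dde000000000000001d00000001bbbbbbb9)))) (.node 44 (.node 42 (.node 41 (.leaf 0x9d9ddb7b60000002dde776dee0000002dddb79dee00000001de7b9ee7) (.leaf 0x1ddbb6edb00000000000019d9000000000001db9e0000002eee7b6eee)) (.node 43 (.leaf 0x19deddedd9000000bb9eeeddb7000000000000037700000001bb9ddbbb) (.leaf 0x3b767b677b0000000dedd9eddb000006dded9ee7770000006ddeeddbbb)))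 (.node 46 (.node 45 (.leaf 0x19eedeed9000000037bb67bb700000002eeedbbbb00000002eeedeeee) (.leaf 0x27b777b600000767677bbb760000001bbb7b7bb900000001b9edde76)) (.node 47 (.leaf 0x19d9eedeedbb0000009deeedbbb700000067bb7bb9de0000067b9dddeed9) (.leaf 0x2767776760000067bb7676779000001ddb7bb7767000001bbb67bb77b))))) (.node 56 (.node 52 (.node 50 (.node 49 (.leaf 0x767677bb700000000027b77b6000003bbb7bb7bbb00002eeee7bb7bbb) (.leaf 0x77b677b6000000003767b677000001de7b7677b6000000e7b677b67b)) (.node 51 (.leaf 0x1b9eede760000001b67bbb6790000027bb9edbbb60000027776de77b6) (.leaf 0x9e7776dee7000006e7b79ede76000001bb9eeee7b60000006dbb76dedb))) (.node 54 (.node 53 (.leaf 0xdbb767b7b00000037b67767b700000039eed9eedb000001db7b67b79d) (.leaf 0x39dededdb0000000000000019000000001edd9ded00000001eeeeeeed)) (.node 55 (.leaf 0x7b677b67000000277bb9ddbb000000000002ddde0000001dded9eddd) (.leaf 0x1bbbb76deed0000000036eddee7000000027bb77bb6000001eede76eeed)))) (.node 60 (.node 58 (.node 57 (.leaf 0x7bb7767670000037b77bb77b7000002e7b9eedee700000001b77bb779)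 (.leaf 0x2776dedbb000001b7b6eddeee0000002eede77bbb000002eede76eeee)) (.node 59 (.leaf 0xb79eddedbb00000079dddee777000000067677bb77000006de7776e7b7) (.leaf 0x67b9edeee77000000b9dde7bb770000001b79ede7b900000003b767677b))) (.node 62 (.node 61 (.leaf 0x39dd9d9ddb0000079ddd9ddbbb0000001ee77bbb7700000037779ddbbb) (.leaf 0x676eeede77b9000000bb779eee77000000003776e777000001b777bbb76d)) (.node 63 (.leaf 0x39eddb9eedb00000001b7b6ee770000027779eee7b7000002ed9dedbb77) (.leaf 0x6ddede7b76d00000001bb6767b9000000001b79dbb9000009ddd9eee7b7))))))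

def fTB2 : Bst := (.node 80 (.node 72 (.node 68 (.node 66 (.node 65 (.leaf 0x377676777000001ddd9ee7bb70000000367b77b67000006dddb9dde77) (.leaf 0x776edee7b7000000b76deeee770000001b676ede7700000002779eee77)) (.node 67 (.leaf 0x7776deeedb00000001b79ee777000001e7b79eee770000000b6767bb77) (.leaf 0x1ddd9dbb777000000776767bb670000000000379dbb0000000039eeeedb))) (.node 70 (.node 69 (.leaf 0x3776dde777000000000367bb6700000003bb7bb7bb0000001dede7bb77) (.leaf 0x7676ed000000001de776de00000000000001dd000000002ee776ee)) (.node 71 (.leaf 0xb79ee000000001ee7b6ed000000000db79ee7000000000000676e) (.leaf 0x9de770000001bb79dbbb90000000000007777000001bb79deeeed)))) (.node 76 (.node 74 (.node 73 (.leaf 0x2e77bb67677b0000dbb7bb76eddb00000007bb9ddbbb00019ded9ee77bb9) (.leaf 0x1b7677677900000000002dd9de00019d9dddb7bb79000000006ee7b9db)) (.node 75 (.leaf 0x19dde776ed000006e7bb76e7b7000002de77bb76de000000019ddb9dd9) (.leaf 0x2dde000000000000027600000001db79ee7b00000019ee776eee))) (.node 78 (.node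 77 (.leaf 0x2eeddeee000000001ddeeddd0000006eede77bbb00000379dbb79dbb) (.leaf 0x2dbb77b9e0000009eeddd9d9e00000001bbb77bb9000000000377bb77)) (.node 79 (.leaf 0x1eeddeed00000019ddeeddd9000002dbb7bb6edb000006ddbbb7b6ee) (.leaf 0x2dde7b79ede0000027b79ededee000006e77b76eede000000027b7bb7b6))))) (.node 88 (.node 84 (.node 82 (.node 81 (.leaf 0x77bb67bbb7bb000077bb9eeee7bb0002dde77b9eedbb0002dde7bb6eddbb) (.leaf 0xb7bb6eeedbbb0000b7bb7bbb67bb000077bb6eeedbbb000077bb7bbb67bb)) (.node 83 (.leaf 0x3b9deeddbb00000077bb779eee00002dededddb7b700000037b76e7bb7) (.leaf 0x7bb7bbb67bb7000001dee7bb6edd0000006dbb7bb7770000009e77b77bbb))) (.node 86 (.node 85 (.leaf 0x2deedeede000000001b67767900007bb6eeedbbb7000001dee77b9eed) (.leaf 0x2ededdedee0000027b7b79edee000000039deeeddb00000076ded9deed)) (.node 87 (.leaf 0x1bb6eddbb00000377b7bb7b77000036dedde7bb77000000003b9eedbb) (.leaf 0x9dbb79edeee000006e7776e7bbb0000019dedbb77bb000006ee7b7bb9de)))) (.node 92 (.node 90 (.node 89 (.leaf 0x277b67b9deee0000277bb76ed9ee000002eddee7b76700002edeedbb6767)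 (.leaf 0x2ddd9dde000001dde7b67b760000002e77b7b76e000000027b7677b6)) (.node 91 (.leaf 0x2eddeeddee000000067b77bb6700000000b6779dde0000000007779edd) (.leaf 0x67767677bb9000000001d9ddd9d0000009e777bb77b000000076777bb76))) (.node 94 (.node 93 (.leaf 0x37b6edbbb000000009dde7b760000000000367b67000000000d9de777) (.leaf 0x37b777b700000000001dd9dd000002dddededdde0000001ddee776ee)) (.node 95 (.leaf 0x2dbb7bb7b9e00000001b767677900000009ed9ded9e000001b9dededdb9) (.leaf 0x676edbb6e000000bb6eede77b0000000001db779d00000039ed9d9edb))))))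

def fTB3 : Bst := (.node 112 (.node 104 (.node 100 (.node 98 (.node 97 (.leaf 0x1b6eeded9db000000db767b76770000007bb677767600000000000009e7) (.leaf 0xbb76776eee7000000bb77b9dde700000002ede76eee0000002ede77bbbb)) (.node 99 (.leaf 0x1b6eddd9db000002ddde76edde0000003bb79dbbbb0000002eeeddb7bb) (.leaf 0xdb7bb779eedb000006dddb7bb79d0000dbb776deeddb00001dbb76e7bb9d))) (.node 102 (.node 101 (.leaf 0x36eed9eee70000036eee7bbbb700001b7b76e7bb790000037bb6767bb7) (.leaf 0x1eee776ee0000000000001ddd0000002e7bb7bb6e000000006d9ddedb)) (.node 103 (.leaf 0xb9ede7bb6e0000019eedddeed90000002ddbb7b9de00000027bb777bb6) (.leaf 0x2ddeeedde0000002776edddbb0000000000001eed0000000001bbbbb9)))) (.node 108 (.node 106 (.node 105 (.leaf 0x2eeeeeee000000000000000300000001dde776ee0000000001ddb9dd) (.leaf 0x6767b77bb00000003677bb7670000000bb77b67670000000019deedd9)) (.node 107 (.leaf 0x6edd9d9ddd0000001ed9ddd9ed0000000001de76ed00000001dddb79ee) (.leaf 0x39ddb9ddb00000001e7b9dedb00000776eee7bb76000009dede7b76ee)))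 (.node 110 (.node 109 (.leaf 0x677bb776700001dddeeedbbb7000009deddbb76770000006dbbb77bb7) (.leaf 0x1de7776dd00000000001deedd00000019ee7bb9de00000001dbbbbb9d)) (.node 111 (.leaf 0x39eedeedb000000001b77b7790000277b9dee7bb600001b7b9dddbb79) (.leaf 0x376deede770000000003b7bb7b0000027bb6767bb600000002ee7bbbbb))))) (.node 120 (.node 116 (.node 114 (.node 113 (.leaf 0xd9dbb00000000006de7b900000000002ed9ee0000001ededde7bb) (.leaf 0x36ededee70000000001eeeeed0000000000001bb90000000003676767)) (.node 115 (.leaf 0x1d9dbb779ee0000002de7bb79ee00000003779ee7b7000000002ded9ede) (.leaf 0xb7b77b7b770000000b779eede700000000377b7b7700000000036dede7))) (.node 118 (.node 117 (.leaf 0x2767bb67600000076eeede77b000000077bb6767b0000000036deede7) (.leaf 0x39ded9ee77bbb00019deddb9eedd9000002ded9dd9ede000000b6edd9edee)) (.node 119 (.leaf 0xb7676ede000000000bb79eee0000009eeeddb7bb0000067bb79dbbbb) (.leaf 0x2d9edeeded9e0001dd9ddb9dd9dd00000036ded9ede7000001e7bb67b79e)))) (.node 124 (.node 122 (.node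 121 (.leaf 0x1b6eed9db000000001b7bbb7900000037b77b77b7000000001bb777b9) (.leaf 0x1e7bb9dee770000000000001b7900000003bb9ddbbb0000000000003777)) (.node 123 (.leaf 0x1b7b777b79000001dddede777700001bb76eddbb76000001db7b6ede7b) (.leaf 0x2d9dddbb6eee000001ddeeddb7b6000000003676edbb00001b7b6eddb7b6))) (.node 126 (.node 125 (.leaf 0x3676700000001b79ee7b7000000019dbb676e00000002e7779ee7) (.leaf 0x6767bb7bb79e000000001b9dddb9000000003776e7b700000037b79ddbbb)) (.node 127 (.leaf 0x3bb9edbbb00000003776de77b0000019dddb7bb770000001b9eee776d) (.leaf 0x2d9d9ed9d9e000000eedde77bbb000001b7b9edbbb9000001b776de7779))))))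

def fTB4 : Bst := (.node 144 (.node 136 (.node 132 (.node 130 (.node 129 (.leaf 0x1b7bb7bb7900000002dbb67b9e00000000377bbb7700000001ddeeeddd) (.leaf 0x2dee7776ede00002d9ddbbb6ede0000001e77bbb76d0000001dd9d9d9dd)) (.node 131 (.leaf 0x6e77b77bbb60000009dddeedee7000006d9eeedbbbb000002dde77b9dee) (.leaf 0x2d9ddb9dd9e0000007b776deede00067bbb6eeedeee00067bbb7bbb9eee))) (.node 134 (.node 133 (.leaf 0x1b77bb79dde0000076deedeed9e000000777676eddd000000077b79eedd) (.leaf 0x1edeeeded000000002e7b7b6e00000002eededeee0000001bb7bbb7b9)) (.node 135 (.leaf 0x3b76e7bb0000002eeedde7b7000002dee7776dee00002d9ddbb79eee) (.leaf 0x1bbb9000000002deeeede0000001b776e77790000006eeededdde)))) (.node 140 (.node 138 (.node 137 (.leaf 0x3700000001bb9ddbb900000000001eeeed0000000002dbbb9e) (.leaf 0x19deee776ed0000000077b777b7000006dddededdde00000000001b7779)) (.node 139 (.leaf 0xb76eeedbbb000000b77bbb67bb0000002eee77bbbb00000002eddb9dee) (.leaf 0x9ede7bb6000000001dbb7b9d00000076eeedbbbb00000076eeedeeee)))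 (.node 142 (.node 141 (.leaf 0x76e7777b9d00000036e7b779db00000000277bbb760000000276eeee76) (.leaf 0x1e7b767779e00000000001ed9ed0000000036ed9ee70000001dbb9deee7)) (.node 143 (.leaf 0x1dee77bbb700000000001e779e0000001bbbbbb6ed00000039edd9dedb) (.leaf 0x19e776edb00000677bb79ddee00002dde77bb676700000001bb7bb7b9))))) (.node 152 (.node 148 (.node 146 (.node 145 (.leaf 0x6eddeed9e0000001deeddeedd0000002dddeeeddb000000277bbb777b) (.leaf 0x76edee7b770000277bb79ddd9e000076767bb76dee0000027b79eee777)) (.node 147 (.leaf 0x2dede0000076e7b76e7bb0000006deee776ed0000000000677779) (.leaf 0x1ede76eed000001bbbbb76ded000001eeddb7b677000000000037b7b7))) (.node 150 (.node 149 (.leaf 0x1ded9ee77bb000001deeddbb67b00000000006de776000000000db9edbb) (.leaf 0x9dd9e7776000000006dde77b900000000019dedd900000000277b7b76)) (.node 151 (.leaf 0x1bb7b6edbb0000000001bb67b9000001deddb7b7770000001b76deddb7) (.leaf 0x3bb7b77b7bb00002ededdeee7bb000000077bb7767600000003b77bb77b)))) (.node 156 (.node 154 (.node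 153 (.leaf 0xb67bbb77bb000000b9eeee77bb00000002777bb7760000000003bb77bb) (.leaf 0x1b779000009dddb9eeedb0000001bbb9ddbb60000001dd9ddd9dd)) (.node 155 (.leaf 0x1b767790000000027b9edbb000006dedbbb67770000009eee77bb77) (.leaf 0x3bb9dddbbb00000002dd9dd9de00002eeedbbb77b7000000000379ddb7))) (.node 158 (.node 157 (.leaf 0x2dedddede0000003777b7b777000037b77bb67bbb0000003776eedbbb) (.leaf 0x1bb9edbb000000009ee776e70000001b9edbb76e00000002e7b79ddb)) (.node 159 (.leaf 0x376de7700000009ddbbb7bb000000000006ddb700000000ee7777bb) (.leaf 0x367776edbbb0000000001e7776d00000002eeeee7bb00000000003bb7bb))))))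

def fTB5 : Bst := (.node 176 (.node 168 (.node 164 (.node 162 (.node 161 (.leaf 0x1eeeddbb7700000036edeedee70000001b9ddbb79e00000036776e7b67) (.leaf 0x6d9ded9dd000001dddb7bb77600000079deeedbbb00000002e7779ddb)) (.node 163 (.leaf 0x27b7bbb7b60000019edeeeded900000000037b67b700000001b79eddbb) (.leaf 0x6ddb9edbb7900000006d9ddb7b9000003bb77bb77bb000000dd9ddeeddb))) (.node 166 (.node 165 (.leaf 0x6eed9ddd9e000001bb767677b9000000001eeeeeed00000000000001b9) (.leaf 0x1e7b79e00000019de7b9ede000000001dd9d9dd000001d9ddbb77bb)) (.node 167 (.leaf 0x1ee77b9ee00000001ee7bb6ed00000000002d9d9e0000001b6edbb76d) (.leaf 0x2eddee0000002eddbbbbbb0000007677767bb600000019dd9d9dd9)))) (.node 172 (.node 170 (.node 169 (.leaf 0x367b9eee77b000002777676777600000001de776ee7000000000001db9d) (.leaf 0xbb79deeedb000001e7bb77b79e0000006dddbb77bb0000003779dddb77)) (.node 171 (.leaf 0x36e7bbb79db000000279deed9e7000000777b6eddde000007767b9eedde) (.leaf 0x2dddeeddde00000001dbb77b9d00000b79dbb779db0000002eeeddeeee)))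 (.node 174 (.node 173 (.leaf 0xb76e7b6ede00000000b6776dee0000001ddedbb777000001dd9ee7bb77) (.leaf 0x27b7b6000000002767767600000000eede7bbb0000000002ededee)) (.node 175 (.leaf 0x36eedeee7000001b7b767b76e00000000002e776e0000000000039ddb) (.leaf 0x6edeee776d000000000002edee000000006e7777b90000000027b7b7b6))))) (.node 184 (.node 180 (.node 178 (.node 177 (.leaf 0x19e77679d0000001db7676ee70000000003b7677b0000001e77b7b76d) (.leaf 0x76eedeee7000000b7b767b76e0000000039deeddb0000039dbbbbb9db)) (.node 179 (.leaf 0x6e760000000000037bb70000000076de7b9d0000000036eeeee7) (.leaf 0x379eede7b000006edeeddbb76000067b7bb76e776000001dee7b767bb))) (.node 182 (.node 181 (.leaf 0x7b6776deed000019dddb79ddd90000003767bbb677000007b6eed9dddb) (.leaf 0x1db79ee77000000000001b9db0000006776eedeed00000007b9dddeed)) (.node 183 (.leaf 0x779eede7b000000b7bb7b7bb70000000b79edde7b0000001e76ede76e) (.leaf 0x1b7b9dde7bb0000000009d9dbb60000036e7b79ddb70000007767bbb677)))) (.node 188 (.node 186 (.node 185 (.leaf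 0xde7b0000001db9eddb9e000001dee7b76ede000000bbb76deee7) (.leaf 0x7bb9eeee7bb7000000002d9eed9e0000002ed9eed9ee000002ee7bbbb6ee)) (.node 187 (.leaf 0x3779eee77b0000076deddb9ede00007bb67bbb7bb700000002e7bbbb6e) (.leaf 0x1dbb9ddb70000076776eee7bb000000379deeddb7000001b776dedbbb))) (.node 190 (.node 189 (.leaf 0x277b9deeede0000036776eee7bb00000000000036e700000077b9dde7bb) (.leaf 0x27bb7b7bb60000000bb79edde700000019edeeded900000037b9dde7bb)) (.node 191 (.leaf 0x1deee7bbbb7b000001deed9eee7b000000037676767700000000036ddde7) (.leaf 0x7b6767bb70000007b76deeee70000d9edddb7bb770000376776e77677))))))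

def fTB6 : Bst := (.node 208 (.node 200 (.node 196 (.node 194 (.node 193 (.leaf 0x1e7b7bb779e000000000db79ddb00000000006e7b6e000002e7bb77bb6e) (.leaf 0x39eddedb00000000000276760000001ed9eed9ed000000000379ee7b)) (.node 195 (.leaf 0x6dde7b79000001ee7bbbb6ed000000002e77b76e00000007bb767677) (.leaf 0x19dedd9eddb0000002dbbb7bb9e0000077b6eddb7bb000007b76eddbb7b))) (.node 198 (.node 197 (.leaf 0x19deed9eee7b900001bb6767bb7bb00000edbb767b7bb000002e7bb67bb6e) (.leaf 0xddb779ede7700000001b776edbb000000002ddeedde00000019eeddeed9)) (.node 199 (.leaf 0xbb7b7bb7b7000000001b76e7b900000009edde7bb70000037b9deddbb7) (.leaf 0x2deddede0000000767b77bb60000002dde7bb7b700000006ddeedd9e)))) (.node 204 (.node 202 (.node 201 (.leaf 0x7779eeedb0000001dbb7b7b9d000006ddee7779ed000006dddb79dde7) (.leaf 0x1b767b7677b000001db7767779d00000003b676767b00000001b7b67b79)) (.node 203 (.leaf 0x19edded90000002deeddeede0000027776de77760000000ed9ddb7bb) (.leaf 0x6767bb77b0000000377b67b77000000077bb76767000000002edd9dee)))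 (.node 206 (.node 205 (.leaf 0x1eddeed9eee00001eddeee7bbbb0000000002ddedde0000001e7bb7b79e) (.leaf 0x1dd9ed9dd0000000067b767b7000000677679ddd9000000000b779dee)) (.node 207 (.leaf 0x1bb9eee77000000027b6ede770000001bbbbb6eed000000001eed9eed) (.leaf 0x9d9eedeeedb000006deedeed9e7000006de7b7bb76d000001ddeede7776))))) (.node 216 (.node 212 (.node 210 (.node 209 (.leaf 0x27767677600000036ed9d9ee70000000079ee776e000000000277bb76) (.leaf 0x1e7bb79e0000000000076ddb000000776deede7b0000001ded9d9edd)) (.node 211 (.leaf 0x2e776776e0000002e777b9ddb000000276eeeee7600000001d9eeed9d) (.leaf 0x3b67bb67b000000000019eed900000000027bbbb60000003b9eeeedbb))) (.node 214 (.node 213 (.leaf 0x2ddbb67b77b00000006deeddd9e000000037bb77bb700000006d9eeddee) (.leaf 0x36ee70000000000039edb00000001b7b77b79000000b79deeedbb)) (.node 215 (.leaf 0x1db79d0000000001b9ee7600000000001dbb9d000000002dbb6ee7) (.leaf 0x1ddbb9ede0000000002ddb9de0000000002ddb9ee00000001ee7b9dde)))) (.node 220 (.node 218 (.node 217 (.leaf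 0x6776eee7bb70000007b9dde7bb70000000002de76ee00000001ddbb9eee) (.leaf 0x6dddb9eede700000003b677767b0000000bb76767770000002dd9ddd9de)) (.node 219 (.leaf 0x1deddb9eedd000001db7b6777bb0000001ddeddeddd000001b76edddeed) (.leaf 0x1db7b7b79d0000000001ddeddd0001b7b7b776dedd000006edeeddb9dd))) (.node 222 (.node 221 (.leaf 0x1b6edb00000000001e7b9e00000077b767b76d000001edd9ed9ded) (.leaf 0x2edeed9d9ee7000027767b79deee0000000002d9dd9e0000000db7b677bb)) (.node 223 (.leaf 0x7b76eeede70000067777bb7b9d0000067bbb77b76e00000007b77bb676) (.leaf 0x6ddbbbb79dd00000027776e7b76000019ddbb777bb6000001bbb7bb7bb9))))))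

def fTB7 : Bst := (.node 240 (.node 232 (.node 228 (.node 226 (.node 225 (.leaf 0x19eee776ed0000001ee7bbb9ee00000002edeeedee000000003b7bbb7b) (.leaf 0x19d9d9d90000001ee7bbb6ed0000001ed9eeedee000000000019ddd9)) (.node 227 (.leaf 0x367676767000000019ddb9ed900000019dddbb6ee0000001ee7b7b9ee) (.leaf 0x76deeddd9ed00001b77b67b9ded000001ee77bb76ed0000006ede7b7bb7))) (.node 230 (.node 229 (.leaf 0x1b9edbbb6e00000002e7776de70000001de7bb7b7b00000000001edded) (.leaf 0x2779dbb60000076ede76edde00000077b79eddbb00000776e7779ddb)) (.node 231 (.leaf 0x1ed9d9ed00000076deede7b7000000027776de7b00001ddb7b79dbb6) (.leaf 0x39ededb000000003bb7b7bb00000001de7b79ed00000019ee7b79de)))) (.node 236 (.node 234 (.node 233 (.leaf 0x7b776ded9ee00000027b79dbbb600000007b79ededb0000007b7bb7b7bb) (.leaf 0x79de7000000000ed9dbbb00001b9eeddede7600000039edeededb)) (.node 235 (.leaf 0x3b77b0000009dde7bb77b000000000dd9e777000000006e776edb) (.leaf 0x1ededede7b000000001bb9ee7b00000000000027b6000001bb67bb67b9))) (.node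 238 (.node 237 (.leaf 0x37779dbb770000001ddede7bb700000079eddbb77b000006ee7b76e77b) (.leaf 0x1deedbb67770000001ddd9d9ddd0000009d9d9ddeee00000776eededbb6)) (.node 239 (.leaf 0x19edbb76ee0000007b7b77b7b700000002ee7776ee00000007b779eede) (.leaf 0x1dbb777b9d000000003b77b77b00000007b779eded00000001ddb779dd))))) (.node 248 (.node 244 (.node 242 (.node 241 (.leaf 0x1ddbbb6ee00000001b7bbbb79000000001b6ed9db0000000037bb7bb7) (.leaf 0x9e776ee7000000000000679d0000000000001d9d000000002de7b9ee)) (.node 243 (.leaf 0xb676ee00000000007679dd0000000000019ed9000000001edbb6ee) (.leaf 0x2e77bbbb76e0000001db9dddb9d000001ddb7bb79dd00000e77bb6767bb))) (.node 246 (.node 245 (.leaf 0x277677b7bb6700000003767776770000000bb776767700000b9ddd9ee7bb) (.leaf 0x376eddee77000006e7b779dbbb0000000767bb77b6000001ee77677bb7)) (.node 247 (.leaf 0x7676777bb0000000377b77b7700000000001d9d9d00000001dde7b9ee) (.leaf 0xb9ede77767b000006ddb9deeded0000002ddbb777bb000007b9edeee776)))) (.node 252 (.node 250 (.node 249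 (.leaf 0x76ede7b7bb00001d9edeeded9d0000377b9eedbb770000006dee77bb7b) (.leaf 0x777b9edddb000001dde7bb9ded000001dde7bb9ede000002dddb779dde)) (.node 251 (.leaf 0xb7bb76e77b000000b6eeeddbbb0000077bb6ed9ddb0000003776dedbbb) (.leaf 0x2e7bb6e00000002e77b9ee70000002eeeeddbbb000000003b76e77b))) (.node 254 (.node 253 (.leaf 0x1d9dedeed9e700000001e77bb76d0000001bb76e77b9000001bbb9deeeed) (.leaf 0x1ee77b76ed00000076dde7b79d00000ddbb767b7b7000007bb779deeed)) (.node 255 (.leaf 0x1bbbb7bbb90000001bbbb6eeed0000036ddeeedde7000006d9ddb7bb6e) (.leaf 0x19eeeedbbb6000000027bb67bb60000000000e7777b0000000b9ddbbb7b))))))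

def fTB8 : Bst := (.node 272 (.node 264 (.node 260 (.node 258 (.node 257 (.leaf 0x2e7776e000000000003bbbb0000000000002eee00000002e7bb9ddb) (.leaf 0x1ddb9ededbb60000007777b7bbb600000027776e77760000007bb779eee7)) (.node 259 (.leaf 0x1b79ee7b900000002dd9ed9de000000007b767b760000000000000367) (.leaf 0x1eeed00000000001bbbb90000001de7b779ed0000003677bbb767))) (.node 262 (.node 261 (.leaf 0x277b9eddbb7000000036e7776e7000027bb76ded9de000009ede77767bb) (.leaf 0xd9dddeedee770000d9eeeddeddbb0001b6edddb7bb7b00009dbb76e7767b)) (.node 263 (.leaf 0xd9e770000006e776eeded00000000037767770000000006d9dbb9) (.leaf 0x1bbb76deeed000000077779eddd0000000002d9ed9e000027b9deeddbb6)))) (.node 268 (.node 266 (.node 265 (.leaf 0x37b9dee7bb00000037b9eedbb7000001bbb6767bb90000067b79edeede) (.leaf 0x6dede7b7b00000077b7b77b7b0000000001ededed0000000000003b7b)) (.node 267 (.leaf 0x1de7b79eee70000001bb777bbb70000001eeedddee70000007776edee7b) (.leaf 0x1b67bb6790000001b9eeede760000009ed9d9eede000009eddb7bbb9e)))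 (.node 270 (.node 269 (.leaf 0x1deed9dedbb000006deddb9ede7000000000036dde700000027bb7b7b77) (.leaf 0x1b9deddb9000000000b779ede0000002eedeedeee0000027b9deeedde)) (.node 271 (.leaf 0x36deeede7000000002767b67600000376e7b76e7b00000767b79deede) (.leaf 0x6e77bb7bb7000000b9deedde7b000000006ded9dee000000003b67767b))))) (.node 280 (.node 276 (.node 274 (.node 273 (.leaf 0x27b67b9deede0000036dddb9dde700000dbbbb7b777b000027bb76ed9ede) (.leaf 0xb7679dde0000000007779ded00000b76e7b76e7b000001d9ede77bb7)) (.node 275 (.leaf 0x1ededdeded0000076dddb9dde700001dbbbb7b777b0000007776e7777b) (.leaf 0x7bb9dd9dddb00000000b677b677000000001ded9edd0000001edde7bb7b))) (.node 278 (.node 277 (.leaf 0x2eeeee000000003779dbb700000000027b67b600000007777b6777) (.leaf 0x1b79eee77600000001b79dddbb00000000000003bb0000001dddede7bb)) (.node 279 (.leaf 0x2e7bbb6e00000002d9eeed9e00000001e776776d0000002ed9d9d9ee) (.leaf 0x6eeede77b70000000001b676790000001b7676ee7700000007bb6767b7)))) (.node 284 (.node 282 (.node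 281 (.leaf 0x2767776deede0000b6776e77b9db0000002779ede7b600000001bb9ede77) (.leaf 0x2deed9d9eede000067776deede7600000039deeeeddb000000039dbbb9db)) (.node 283 (.leaf 0x3b6767b0000002eeeede77b000006e7bbb79ede000000027b6767b6) (.leaf 0x1d9eedeedbb60000006eddd9d9dd000000b776deede7000009d9eed9d9de))) (.node 286 (.node 285 (.leaf 0x6dddeeddde0000006eeeddeeee0000007bb7bb76e700000079edeeddbb) (.leaf 0x2eeddbb777000009eddee77b6e000009eddb9dedbb0000001ddee77bbb)) (.node 287 (.leaf 0x1dddede77b70000000003b9edbb00000000000037b70000000002dedede) (.leaf 0x1bb76ed9eddd000006ed9ddeeedb000000001b79ddb700000009dedddede))))))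

def fTB9 : Bst := (.node 304 (.node 296 (.node 292 (.node 290 (.node 289 (.leaf 0x1e7776edb00000001e7bb9de70000067bbb6eeede0000067bbb7bbb9e) (.leaf 0xdd9dbb700000002dddb9ede000002dede776eee00000002776eedbb)) (.node 291 (.leaf 0x3b6ed9ee7b000000003b9dddbb00000007bb79eeed000000019d9dd9d9) (.leaf 0x3b7b77b7b0000001edede7b7b0000000000ede7bb00000027b9edee7b))) (.node 294 (.node 293 (.leaf 0x1eed9d9eed000001bbbb79deed00000002dbbbbb9e00000000002deede) (.leaf 0x2dbb777b9e0000000db9dddee7000001e7bb9ede77000001dbb76ede7b)) (.node 295 (.leaf 0x7bb6eeedbbbb000001b9ddbbb76d00007bb6eeedeeee0000000001eddded) (.leaf 0x2dde7b7bbb0000001bbb777bb900000001eedddeed000002eddb7b6777)))) (.node 300 (.node 298 (.node 297 (.leaf 0x1eee7776eed00000001b76eddb700000002eddb9eee000006e7b76e7bb7) (.leaf 0x3b6eddee7b000000002ed9d9ee000001dddbbb6eed000000027b9dee7b)) (.node 299 (.leaf 0x1ddb779eedbbb0001de7776dee77b0000002eddb7bbbb0000027b67bb67b6) (.leaf 0x1dddb79ded0000001eee7b6eed0000000379edde7b000000b76e77bb7b)))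 (.node 302 (.node 301 (.leaf 0x2eedbbbbb0000000002eedeee0000007b7bb76ede00000037bb7b7bb7) (.leaf 0x76e77bb7bb0000007b9deededb00000001e7b9ee7700000000000039db)) (.node 303 (.leaf 0x2ee77bb76ee0000009deedde7bb000001dee7779eee0000036e7776de77) (.leaf 0x67776dedbbb000000b779eee77b0000bbb9eeee7bb70000bbb67bbb7bb7))))) (.node 312 (.node 308 (.node 306 (.node 305 (.leaf 0x2dedede7b70000027776dedbbb00000000037b77b7000001b779eee77b) (.leaf 0x19ded9edd9000001dbbb67bb9d00000b76eddbb7b700000006dd9edd9d)) (.node 307 (.leaf 0x376e77000001edbbb67bb7000001ee7b77b6ed0000002ddd9d9dde) (.leaf 0xedde7b7b000001ded9dd9edd00001edeeeedbbb700000001b79ee77b))) (.node 310 (.node 309 (.leaf 0xde7b79dee7b00002dee7bbb9eee00000076edd9eded00000001deedeedd) (.leaf 0x1eee77bb6767000001bb79deedde00000039eeddeedb00000036ddeedde7)) (.node 311 (.leaf 0x7b77b9dedb000007b76e77b6ee00000001eddb9ded000001bbbbb76eed) (.leaf 0x6deede777b000002ede7b79eee000001dee7776ded00001b6776e77679)))) (.node 316 (.node 314 (.node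 313 (.leaf 0x1ed9ddb7bb6e00000677bb6eee7700000002dbb76edb00000001e77b9de7) (.leaf 0x19dddb79ed000000019de76ed900000006777bb76700000007bb77b676)) (.node 315 (.leaf 0x1eeeddeeed000001b779edeeed0000001bb76e7bb90000001dddee7777) (.leaf 0x2dde76ede000000379eeede7b00001b779ede7b79000006deee77b76e))) (.node 318 (.node 317 (.leaf 0x1b9ede776d0000001b9dee7b6e00000776dddb9dde000000b77b79eddb) (.leaf 0x6edee77b67b00001bb76ded9ddd0000002dedde7bb7000000037b7bb7b7)) (.node 319 (.leaf 0x2e77676776e00000019ed9d9ed900000003777bb77700000003bbb77bbb) (.leaf 0x7bb79dee7b7000007b7b9dee77b000000067b79eed900000000036edee7))))))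

def fTB10 : Bst := (.node 336 (.node 328 (.node 324 (.node 322 (.node 321 (.leaf 0x1db79ddb00000000002e7b6e00000006d9de77790000000000dde7b7) (.leaf 0xdd9ddd9eedb0000002e777b776e000000779eee77bb000001bbbb779edd)) (.node 323 (.leaf 0x39ddedddb0000067b9dddb77b000000019d9ed9d90000000b7779edde) (.leaf 0x379ede7b0000001b76dedbb600000001eddb9eed0000036776767767))) (.node 326 (.node 325 (.leaf 0x19de76eede77000003bb67bb67bb0000001deeedddee0000001dbb777bbb) (.leaf 0x6eeedbbbb70000006eeedeeee70000007776767bb600000067bbb7b777)) (.node 327 (.leaf 0x3b9eeedbb000000019deeedd90000001b76eedbb600000000379dddb7) (.leaf 0x2eed9eee00000002eee7bbbb0000001bb6ededbb00000019dbbb676e)))) (.node 332 (.node 330 (.node 329 (.leaf 0x2dee77b9eee000001dee7776edd00000007b779deed000007bb67bb7b7b) (.leaf 0x1eddbb76ede000001dedbb76dee0000003b776e7b7b000001ede7776eee)) (.node 331 (.leaf 0x1dd9dddb7bb0000000000376e7b0000002edd9d9dee000000b67677767b) (.leaf 0x37b9eeee7bb0000776e7776e7760000037b67bbb7bb00000001bb9ddb7b)))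 (.node 334 (.node 333 (.leaf 0xddde7b77000000001b67b67900000001bbb67bb90000001bbb9eeeed) (.leaf 0x6eddb9deedd000000b7bb76ede7000067b6777bbb6e00000ddeeedbbb7b)) (.node 335 (.leaf 0x39deddeddb0000019de7b79ed90000002dddee77bb00000001ddb7b6ee) (.leaf 0x2eddd9ede7700000b9ed9eddbb7000000000376767700000037779ee7bb))))) (.node 344 (.node 340 (.node 338 (.node 337 (.leaf 0x3b7b7b000000000001eded000001eede77767700006776e7776e77) (.leaf 0x376dde770000001bb9dee7b60000001b77bbb7790000019ddbb776ed)) (.node 339 (.leaf 0xb79edeeddb0000006dddedeeee00000002dddb9dde00000679deedeede) (.leaf 0x2eeeeee000000000000003b000000002dbb7b9e000000006ede7bb9))) (.node 342 (.node 341 (.leaf 0x779eeede7700000079ede7b79e000000079edde7bb0000002dd9d9d9de) (.leaf 0x1ddbb7b9dd000000037b6767b70000000ddd9dbb7700000000dede7bb7)) (.node 343 (.leaf 0x2eeee00000367b7bb7b67000007776e7bbb6e0000009eddbb77b7) (.leaf 0x27b76e7bb6000019eeedde7b76000039dee77bbb7b0000000000003bbb)))) (.node 348 (.node 346 (.node 345 (.leaf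 0xb76eeede7700000000001e776d0000007777b9ddde0000000001b9ddb9) (.leaf 0xbb779edee000000277bb7bb760000000b77bb67670000007bbb77bbb6)) (.node 347 (.leaf 0xbb9deedde700000001db76eedb0000001bbbbb9eed0000000001eedeed) (.leaf 0x19ded9de7b7000000019eddded900000001e7b9dddb00000677bbb6eedd))) (.node 350 (.node 349 (.leaf 0x1bbb9edbbb9000001b776de77b9000002deddeddede00000001b7767779) (.leaf 0x2dbbbb9e0000000002deeede00000000367bbb6700000000039eeedb)) (.node 351 (.leaf 0x36edddee70000277b76e7bb76000000027676ee77000000000001b679) (.leaf 0x19edbbbb6ee000000002d9d9d9e00000001b67676790006e7b79edeeedb))))))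

def fTB11 : Bst := (.node 368 (.node 360 (.node 356 (.node 354 (.node 353 (.leaf 0x277b77b760000002eddbb777b00000079ede77b9e00000001eddedded) (.leaf 0x1bb779edeed0000009deedd9d9e00000001dde76edd0000001ede7bb777)) (.node 355 (.leaf 0x27b79ddbb000000002776e7b60000000001bb77b900000677bb7bb76d) (.leaf 0x19de7bb9dd0000019e77bb679d00000019de7776ee000002edd9ddbb77))) (.node 358 (.node 357 (.leaf 0x6ddb9eddb9ed0000000b6767b77b00000077bbb6eede000006eedbbbb76d) (.leaf 0x1bb7b7b900000000019eded9000001deeddb7b670000000001b7bb79)) (.node 359 (.leaf 0x19ddbbb6ed00000001ee7776ed000000077767b77700000019ddbbb9ee) (.leaf 0x19ed9ed900000001ee7779ee000000000027bbb600000000019eeed9)))) (.node 364 (.node 362 (.node 361 (.leaf 0x79dddb9eddb0000b6eee7bb777b00000019ddb7b6ed00000002de7b79ee) (.leaf 0x7b7bb9dd9ee00000027b76e77b600000006d9deedde000000067bb77b67)) (.node 363 (.leaf 0x777bb767600000001bbb6ee770000039dddb9eddb00009eedeeddb7b7) (.leaf 0xde7b79ede7b000000eddde7b77b000000001b76e77900000006d9eddeee)))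 (.node 366 (.node 365 (.leaf 0x2eeeeedbb00000036767b6767000000000003b67b000003776edee777) (.leaf 0x1bb7b77b7b9000019d9edde77bb0000009dd9d9deee0000000003677767)) (.node 367 (.leaf 0x276eee7600000376e7776e77000000027779ddbb000000002776e776) (.leaf 0x39deddb000000067779edd9000006eede7776770000000277bbbb76))))) (.node 376 (.node 372 (.node 370 (.node 369 (.leaf 0x6edde7b7b9000001b7b779eedd0000001dedeededd00000036e7bb79db) (.leaf 0x19eeeed90000000000027bb600001b67bb7bb6ee0000006dd9d9dded)) (.node 371 (.leaf 0x76dddb9eede000006d9eedeede7000000079eede7b70000001ed9d9d9ed) (.leaf 0x2dded9ee77b000000db7bb7767b000001b776deedde000001ee7b767bb7))) (.node 374 (.node 373 (.leaf 0x9edeeddbb70000007bbb6eede70000009deeee7bbb000000bb7bb76e77) (.leaf 0x79eeede777000000002edeedee00001eedeed9d9ee0000277bb67bb9ee)) (.node 375 (.leaf 0x7b7779edded0000006ee7777bb900000006eedeee77000000767bb67677) (.leaf 0x1deeeddbb7000003b76edee77b00000ee7b79eedbb000000dee7777bb7)))) (.node 380 (.node 378 (.node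 377 (.leaf 0x1ede7b79eed0000076eed9ee7b7000000777b6edee70000037b677767b7) (.leaf 0x1b76ede7b000000027b9dddb7000000777b7bbb670000006eeeddeddb)) (.node 379 (.leaf 0x6deeddb9ded000006dbbbb76eed0000027bbb777b9e0000007bb76ede7b) (.leaf 0x2eededdedeee00001deee7bbb7770000036776ede7bb00000037b9dddb7b))) (.node 382 (.node 381 (.leaf 0x3776de777000000037b9edbbb00000001db76eddb00000002e776dedb) (.leaf 0x19eededeed90000000039dd9ddb000000036dedede70000000000377b77)) (.node 383 (.leaf 0x1b9dee7b9d000001edbb76dee7000000001db7779d0000002e776edddb) (.leaf 0x19e776ede700000000279dd9e7000002ddbb76ede7000000001b9ede76))))))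

def fTB12 : Bst := (.node 400 (.node 392 (.node 388 (.node 386 (.node 385 (.leaf 0x1bb6eeedbb0000000db779dee70000000e7b79eedb0000000376edee77) (.leaf 0x7776ed9edde0000007bb9deedde000000777b9ddde7000000bbb77bbb67)) (.node 387 (.leaf 0x6deedde7bb60000b7677767bb6e0000039ede76eedb000067b76deed9db) (.leaf 0x19eee7bbbb60000036eddb9eee700000ddbb79eee770000037b6edee7b7))) (.node 390 (.node 389 (.leaf 0x36ddedde70000000027bb7bb600000019eed9eed9000036dde7b7bbb7) (.leaf 0x19dee77b9dee00000b67b76edee700006776e77bb7b600000677b9deedee)) (.node 391 (.leaf 0x7767776deee00001d9d9eeddbbb0000002ed9ddd9ee0000000b7767677b) (.leaf 0x1db7bb79d00000001ee7776de000001b77bb76dee00001ddb9dddb9dd)))) (.node 396 (.node 394 (.node 393 (.leaf 0x3b777b0000002e776eeddb00000019d9eed9d900000019ddbb79ee) (.leaf 0x3bb67bb0000001dee7b6eed000000000037bbb700000000036eeee7)) (.node 395 (.leaf 0x76ede7bb9d0000001edbb7b9ed0000001dddb79ddd00000002eeeedbbb) (.leaf 0x2e7b77b6e0000009eedd9d9de000000eee7777bbb000000dddbbb7bbb)))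 (.node 398 (.node 397 (.leaf 0x2eddbb67b77000002d9ee77bb770000001ede7b7b7b000000001edeeded) (.leaf 0x1bbb779eedbb700000002e77bb76e0000001dbbb76ee700000001dbb67b9d)) (.node 399 (.leaf 0x1bbb9dddb7b000001b779ddb7b90001bbb779dee7bb00000ddeedde7bbb) (.leaf 0x3779ede7b7000000676776ded90000001bbb6eeeed000000001bbb7bb9))))) (.node 408 (.node 404 (.node 402 (.node 401 (.leaf 0x1dbb9eee700000001e7b6ede70000002eedde7b7b0000003bb76e7bbb) (.leaf 0x7bb9eeeddb00000001e7bbb79e00000006dd9e77790000000000dde77b)) (.node 403 (.leaf 0x19ddeede777000000003bbb7bbb00000001eeedeeed000000001d9eed9d) (.leaf 0x1ddeedbb6770000000007b79eed0000000077676edd0000001dddee7b77))) (.node 406 (.node 405 (.leaf 0x1ddb7b6eedb000001de7bb9dee700000002e776eedb000000000039dddb) (.leaf 0x6ededeededd0000000bb779deee000000036de76ee700000001dbb9ede7)) (.node 407 (.leaf 0x7bbb79ddde0000067777b9edde00006767b67bb77700000001dddb9ddd) (.leaf 0xbb9dddeee000006edddb7bb7600000000019dbb6e0000000000036de7)))) (.node 412 (.node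 410 (.node 409 (.leaf 0x2767b67bb7770000027777b9edde0000276776e776760000000776eedeee) (.leaf 0x79deddeeee000000767bbb7b7700000036776e77670000009edddb7bb7)) (.node 411 (.leaf 0x2dede777b7b7000002deddb9eede0000000076776ded00000003779ddb7b) (.leaf 0x9ee7777bb60000000001deeedd000000001dbbbb9d0000003676776767))) (.node 414 (.node 413 (.leaf 0x7777bb7b9e000001bb79ede7b7000000dd9eddeedb000000db77bb767b) (.leaf 0x67777bb77700000067bbb77bbb000000bb77bbb67b000000bb76eeedbb)) (.node 415 (.leaf 0x9dbbbb79dee0000009deed9d9ee0000003779dee77b00000076deee7bbb) (.leaf 0x9dddb7bbb6e000009dd9d9eed9e000001b777b9deed00000036dd9d9de7))))))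

def fTB13 : Bst := (.node 427 (.node 421 (.node 418 (.node 417 (.leaf 0x2ddee77677b0000001b9deeddb9000001b7b9dee77b000001bb79dee7b7) (.leaf 0x7767bb9ede700019d9d9eedede70000019ede77bb7700000077bb76eedb)) (.node 419 (.leaf 0x1d9d9d9d0000000001d9dd9d00000002767676760000000367767767) (.node 420 (.leaf 0x1de77b9de00000019ee77b9ed00000001edbbb9de00000001e7b6eee7) (.leaf 0x1d9ed9d00000001de7bb9de00000019ee7776dd0000000dded9dedb)))) (.node 424 (.node 422 (.leaf 0x2eeddb7bbb0000002eed9d9eee000001dbb79ede7b00000067677767bb) (.node 423 (.leaf 0x7776e7b76de000001d9ee7bb7770000007b6edee777000000002dd9d9de) (.leaf 0x6ddeedbb677000000bbb67bbb7700000001dddb9edd000006e7779eeddd))) (.node 425 (.leaf 0x6edd9ddbbb9d000006eddee7779d0000006dddee7b77000000bbb9eeee77) (.node 426 (.leaf 0x2e7b7bb7b6e000000000036776700000000000006db000000037b9ddbb7) (.leaf 0x19ededed90000000079ee7b9e000001db7b77b79d00000000001bb7b9))))) (.node 432 (.node 429 (.node 428 (.leaf 0x1eddeedded0000000676777bb7000000001deeeedd0000000001dbbb9d)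 (.leaf 0x1ddededdd00000000edde77bb000000001db7b79d0000000077679ddd)) (.node 430 (.leaf 0x9deedeeddb0000000002767676000000027779ee7b000007b7b7bb67bb) (.node 431 (.leaf 0x37bbbb700001ddb9eddb9ed0000000039ed9edb0000002edde7b7bb) (.leaf 0x1ddbb79eedb00000077b6edee77000000000036eee7000006deeddb7b67)))) (.node 435 (.node 433 (.leaf 0x1b9dddb79d0000001b9eee7b6e00000002dbb6eddb000000000039eedb) (.node 434 (.leaf 0xddb9edbb7000000000d9ddb7b00000002eedddeee000000003bb777bb) (.leaf 0x2ed9dd9ee000009deddb9eedb00000002dbbb9de700001ddedeededdd))) (.node 436 (.leaf 0x677b677b00000001e7b76edb000002ddee7b767b0000077767bb9ede) (.node 437 (.leaf 0x1eedeedeed0000001ddeeeddbb000009e7777b9dde000007bb76e7b76e) (.leaf 0xbb67bbb77b000000bb9eeee77b))))))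

/-- The involutions of the centraliser. -/
def fT : Tab := ⟨(.node 224 (.node 96 (.node 32 fTB0 (.node 64 fTB1 fTB2)) (.node 160 (.node 128 fTB3 fTB4) (.node 192 fTB5 fTB6))) (.node 320 (.node 256 fTB7 (.node 288 fTB8 fTB9)) (.node 384 (.node 352 fTB10 fTB11) (.node 416 fTB12 fTB13)))), 64, 2⟩

def conjTB0 : Bst := (.node 16 (.node 8 (.node 4 (.node 2 (.node 1 (.leaf 0x65101970383065001960384045301a30291045501a20290) (.leaf 0x54e000700d6042d000d041105f4000e0479042c000b0410)) (.node 3 (.leaf 0x57a0004037706d0000a00c005f5000f047806d1000800c1) (.leaf 0x5be0009025405bf00050255057c00060376054f000c00d4))) (.node 6 (.node 5 (.leaf 0x6a3001301d9046f001402a206a2001101d8046e001502a5) (.leaf 0x309055703f7054c0382062b062f001004c9062e001204c8)) (.node 7 (.leaf 0x501041802de0500041b02e3030b055203f6054d0385062a) (.leaf 0x5f3026c027b05f2026a027702e3018006a502de017f06aa)))) (.node 12 (.node 10 (.node 9 (.leaf 0x1f5058a052a03da058304c106a601e6006206a401ed0068) (.leaf 0x481020c0499059b0206052301f4058b052c03dd058204c3))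 (.node 11 (.leaf 0x37d012302450138002a0160059a020705220480020d049b) (.leaf 0x644011f0279037c012502460136002d016103c501260176))) (.node 14 (.node 13 (.leaf 0x67f011c03a306390122044303c401270174063701200440) (.leaf 0x3fd011d0248047903ad054e067e011e03a2064501240276)) (.node 15 (.leaf 0x6cf044e04c40506036f019506cb044d04c7050b036e0194) (.leaf 0x57002370326047803ae054f03fc01210249042006a30475))))) (.node 24 (.node 20 (.node 18 (.node 17 (.leaf 0x1cd0254024c035f0184024e03b103620321017202500124) (.leaf 0x46104f2065505e80536068406cc0160004501fa047d026c)) (.node 19 (.leaf 0x5a004de05e3061903d005c5046004f3065405e905370687) (.leaf 0x5cc053f02cc008704430252056f0238032703610185024f))) (.node 22 (.node 21 (.leaf 0x5a104dd05e2020b03f005a7020a03f105a605cb053e02d0) (.leaf 0x1cc0255024b04a00377024a04d906ae0352049c0376024d)) (.node 23 (.leaf 0x27803fd02bd047303ea0536061803d105c401fb047a026a) (.leaf 0x6c90598068d04b002f7039e0424022301e606cd0161005c)))) (.node 28 (.node 26 (.node 25 (.leaf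 0x6c804ea055e02b80115002100bc061d028001700251011f) (.leaf 0x3b00363032004a606960493030f00c50506030e00c4050b)) (.node 27 (.leaf 0x4ad02f8039f00bb061a027f0425022201ed02b901140020) (.leaf 0x47203eb053704a90697049202fd065e066406ce059e068c))) (.node 30 (.node 29 (.leaf 0x6c4062301e006c702760250027a03fc02bf041c06a20476) (.leaf 0x33a06c2064206c60279025105b10408057805b3040b0579)) (.node 31 (.leaf 0x4d806af035300d30336043d06ca04e9055f033b06c30643) (.leaf 0xd20337043c02fc06610665055c054e01c5055b054f01c6))))))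

def conjTB1 : Bst := (.node 48 (.node 40 (.node 36 (.node 34 (.node 33 (.leaf 0x5d204b7059101c40578030605fc02d802e205fb02e002e1) (.leaf 0x4e0440025305d104b60590035402a706a7014605e20219)) (.node 35 (.leaf 0x6c5062201e101c905790304035502a606a9014705e30218) (.leaf 0x5f60176009005f801740094022200d4008d022300d6008c))) (.node 38 (.node 37 (.leaf 0x5410463009705400462009603e500c000910688026b008f) (.leaf 0x1f90246009301f70245009203e400c10095068a026e008e)) (.node 39 (.leaf 0x36605b40307036505b50308010a02ef02d7010d02f102d6) (.leaf 0x38805f201fd038605f301fc00a9012e01a200a8012d01a3)))) (.node 44 (.node 42 (.node 41 (.leaf 0xcc0669063e00cd0668063a028b01fa057201f20291012d) (.leaf 0x52c02d704b501f30290012e052a02d604b4028a01fb0573)) (.node 43 (.leaf 0x28603550583028503540582009d012f0196009c012c0197) (.leaf 0x40a02c70370040902c60371056c028d0607056b028c0606))) (.node 46 (.node 45 (.leaf 0x339063c06120338063d0613051e064903fa051f064a03fb) (.leaf 0x1520498056e0154049a0571023305f70215023205f90216))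 (.node 47 (.leaf 0x6a05c5033206470591056c052105d9066c052005da066f) (.leaf 0x18b016e062f018a016f062e064b0590056b006105c40333))))) (.node 56 (.node 52 (.node 50 (.node 49 (.leaf 0x3080391032d03070390032b04350095000804340091000a) (.leaf 0x690040903360693040a03370178006500c40179006400c5)) (.node 51 (.leaf 0x5c006b1045b05c306b3045a00c904ae03f800c804af03f9) (.leaf 0x28e03f70199028f03f6019b00a2062b057f00a3062a0581))) (.node 54 (.node 53 (.leaf 0x7a01d404d1007f01d504ce03fe031001dc03ff031101dd) (.leaf 0x254016502c00408008c00070255016402c1040b008d000c)) (.node 55 (.leaf 0x3360179032c062201e50227062301e4022403370178032e) (.leaf 0x11c00df01880589013702ae04d5013b0314011e00dc0189)))) (.node 60 (.node 58 (.node 57 (.leaf 0x6ae013603db06af013803dc0586013902ad04d4013a0315) (.leaf 0x274053805a105e2015d03b50697018800e50696018900e4)) (.node 59 (.leaf 0x69405280619026406d10448032d05a505ab039404f1069b) (.leaf 0x5e3015c03b4039504f0069c0275053a05a0069805290618))) (.node 62 (.node 61 (.leaf 0x34304fb04a9026606d0044f05df043406d201a1054a065b)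 (.leaf 0x55e0608067b03e30505024001a00549065803df050a0241)) (.node 63 (.leaf 0x55f0609067a065404e7035f03bb03e503e902cc06cd028c) (.leaf 0x449051304f0034204fa04a6065504e6036102d006cc028d))))))

def conjTB2 : Bst := (.node 80 (.node 72 (.node 68 (.node 66 (.node 65 (.leaf 0x29504c803b6029304c903b7032b05a405ac044a051204f1) (.leaf 0x699065306be01d20563048502c20691058d02c30692058f)) (.node 67 (.leaf 0x406067f05d70099035f01a80695065206bf01d105650486) (.leaf 0x10f02ad03b30405067e05d80098036101a9034d02e80646))) (.node 70 (.node 69 (.leaf 0x3bc03e403e7034e02e6064805d6043506d3011002ae03b2) (.leaf 0x48702de01c30668027b047d01e40062022301e500680222)) (.node 71 (.leaf 0x48d02e301c206690277047a01c206aa02c901c306a502cb) (.leaf 0x346002f006000dc00350185011d0037011d00df00330184)))) (.node 76 (.node 74 (.node 73 (.leaf 0x5d5002b046202ce003201620121003d012102cd00300163) (.leaf 0x2c00031026e02c1002c026b05d4002e0463034100340040)) (.node 75 (.leaf 0x66405aa05b9058802ea0559058702ed0558066505ad05b8)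 (.leaf 0x3ab00a9026704b4009d00a604b5009c00a003af00a80265))) (.node 78 (.node 77 (.leaf 0x4f80260013504f90261013402e001d9013102d801d80130) (.leaf 0x4a700de018b002d00e3015d01b40314013301b603150132)) (.node 79 (.leaf 0x35100dd0260035000e0026104a800e1018a002a00e2015c) (.leaf 0x1ef063f04ed03a5063102f301ee063b04ec03a4063002f5))))) (.node 88 (.node 84 (.node 82 (.node 81 (.leaf 0x1e90499014f01ec049b015101b8014f020c01b90151020d) (.leaf 0x8804bd04aa008404bc04ab04ed04aa02e704ec04ab02e9)) (.node 83 (.leaf 0x63604bb038d063804ba038c0504066b036d050d066a036b) (.leaf 0x2e90141014303e101b8042205ab0666067305ac06670672))) (.node 86 (.node 85 (.leaf 0x23003c0020300b70488037502e70140014203e201b90423) (.leaf 0x25f048f05b7025e048e05b6023103bd020500b604890374)) (.node 87 (.leaf 0x3ee03bb029b05c1043306c805c2043206ca03ef03bc029a) (.leaf 0x41103e306d1041003df06d0016100e60136016000ef0138)))) (.node 92 (.node 90 (.node 89 (.leaf 0x1d70253012001d602520122015d005c002d015c0045002a) (.leaf 0x194041905700195041a056f023700d70178023800d50179))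 (.node 91 (.leaf 0x28d025c01b005a4024303d5053201700501053301720500) (.leaf 0x3d300be05b503d200bf05b405a5024203d4028c025d01b3))) (.node 94 (.node 93 (.leaf 0x3c8041e06900040016805be03c9041d06930060016905bf) (.leaf 0x498027301770419008f002c049a02720175041a008e0031)) (.node 95 (.leaf 0x46902820670067c029c069800c400db016400c500d80165) (.leaf 0x6aa001c03c7054605fb0430054705fc0431046802830671))))))

def conjTB3 : Bst := (.node 112 (.node 104 (.node 100 (.node 98 (.node 97 (.leaf 0x4c70183030e04c40182030f067d029d069406a5001d03c6) (.leaf 0x2a203b006a302a503b106a20189004c011e01880042011c)) (.node 99 (.leaf 0xbf03b2013700be03b30139018500e400dc018400e500df) (.leaf 0x60b01d7066b04920466046d065e0312061006610313060e))) (.node 102 (.node 101 (.leaf 0x53105dc04c6053005db04c5060a01d6066a04930467046c) (.leaf 0x197000300a80196000200a9016601bb003a016701ba0038)) (.node 103 (.leaf 0x5dd060100ce02d2049e019805de060000cf02d3049d019a) (.leaf 0x34b02010545034a0200054402ca05c6045502c805c70453))))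 (.node 108 (.node 106 (.node 105 (.leaf 0x1a30001009c01a20000009d00f005b904cc00f505b804cb) (.leaf 0x1a505ac04e401a405ab04e501a70592034901a605940340)) (.node 107 (.leaf 0x5e10292036505e00294036604520397010d04540399010a) (.leaf 0x5b8028806c905b9028406ce01ad039404e201ac039504e3))) (.node 110 (.node 109 (.leaf 0x4e50352016c04a502d005ee04a302cc05ef04e40353016b) (.leaf 0x2a4033a05180134034002ca02a3033b05190135034902c8)) (.node 111 (.leaf 0x612019503300613019403310140015002060141014e0207) (.leaf 0x61f049203cd049005d606300621049303cc062805b3025b))))) (.node 120 (.node 116 (.node 114 (.node 113 (.leaf 0x11803cb0117011903ca011b062705b1025a049105df0631) (.leaf 0x59702870322035903c8007c035703c9007d0082057e068b)) (.node 115 (.leaf 0x57102d102da056e02cf02d9008a057d0689059602890324) (.leaf 0x42605c8034a042705c9034b0043034806b30057034706b1))) (.node 118 (.node 117 (.leaf 0x592064806210106067b02fe0108067a02ff05940646061f) (.leaf 0x163018f057c01620191057a031000d201d4031100d301d5)) (.node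 119 (.leaf 0x2b60487054d02b5048d054c02a70131001302a601300011) (.leaf 0x36b055a02fd036d055d02fc032401dc00d0032201dd00d1)))) (.node 124 (.node 122 (.node 121 (.leaf 0x43a051c0577043b051a057605800571008b057b056e0073) (.leaf 0x49405fd0674065c0021005d011400da01e5011500d901e4)) (.node 123 (.leaf 0x62601eb0273062901ea0272014304a30617049505fa0675) (.leaf 0x13f027f0686013d02800685065d00200069014204a50616))) (.node 126 (.node 125 (.leaf 0xa6029903d900a0029603d8028403c105bb028803c205bc) (.leaf 0x9605ca033f041202c3040300230486069d00250485069a)) (.node 127 (.leaf 0x5800a404ae004400a104af009705cd033c041302c20400) (.leaf 0x65705b203f5065605ae03f401fd02d3009f01fc02d2009e))))))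

def conjTB4 : Bst := (.node 144 (.node 136 (.node 132 (.node 130 (.node 129 (.leaf 0x60f05c00153048b023502f6066e019f0200066d019e0201) (.leaf 0x206002901b80207002601b9061105c30155048c023402f9)) (.node 131 (.leaf 0x520672037900510673037a033f06780480033c06790481) (.leaf 0x212066504dc0213066404df020c00280140020d00270141))) (.node 134 (.node 133 (.leaf 0x20e064b05cd020f064705ca021102320555021002330554) (.leaf 0x216028b03800217039f00b40214039e00b50215028a0381)) (.node 135 (.leaf 0x35d04a1050d035c049f0504047e05ec0084047f05ed0088) (.leaf 0x6bd034e040106ac06bb03c204420515054904410514054a)))) (.node 140 (.node 138 (.node 137 (.leaf 0x8c005d0115008d0069011406bb034d040206ad06bd03c1) (.leaf 0x2f7022700da05f9047c022605f7047b022502f8022400d9)) (.node 139 (.leaf 0x6d406a005fd06d5069e05fa02af03ed03f002ac03ec03f1) (.leaf 0x601064e04fd0600064d04fc06a005d10517069e05d20516))) (.node 142 (.node 141 (.leaf 0xb50210049600b4021104970155066e051a0153066d051c) (.leaf 0x165003f02380289045105b1025a02020634025b02040635))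 (.node 143 (.leaf 0x28302f305df0578023a03560287045005b30164004d0237) (.leaf 0x579023f035805b704df065e05b604dc0661028202f505d6))))) (.node 152 (.node 148 (.node 146 (.node 145 (.leaf 0x4c8016a035004c9016d03510240051000f40241051100f6) (.leaf 0x6be052405e104670097002e04660096002b06bf052505e0)) (.node 147 (.leaf 0x54304790057044504100056036f0249003d036e02480037) (.leaf 0x4e603a2004c04e703a30042044404110054054204780043))) (.node 150 (.node 149 (.leaf 0x6330163008706320162004e030200600076030100400072) (.leaf 0x60306b00335060206b9033400d50057000e00d70043000f)) (.node 151 (.leaf 0x234059901bc0235059f01c104580259047b04590258047c) (.leaf 0x15705ef053f015605ee053e0314016c06ae0315016b06af)))) (.node 156 (.node 154 (.node 153 (.leaf 0x675060403e50674060503e4029e0132013a029f0133013b) (.leaf 0x4310384012f00f2055903d304300383012c00ea055803d2)) (.node 155 (.leaf 0x446009001260560001e00580687060706cc0684060606cd) (.leaf 0x3b9052704a30447009401270332038e05340562001f0044))) (.node 158 (.node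 157 (.leaf 0x6b1017701eb06b3017501ea0333038f053503c3052604a5) (.leaf 0x35a011a001e03a80072003400ed05f104f200e705f004f3)) (.node 159 (.leaf 0x35b0116001f0071066002d503a70076002f005b065f02d4) (.leaf 0x38901ef006a051805fe065002bc04b3056902be04b20568))))))

def conjTB5 : Bst := (.node 176 (.node 168 (.node 164 (.node 162 (.node 161 (.leaf 0x23b017c0474023c017b0477051905ff0651038a01ee0061) (.leaf 0x23901c7044e00ab033c064b00aa033f064701f101ae0598)) (.node 163 (.leaf 0xa10217028a00a40214028b023601c8044d01f001af059e) (.leaf 0xce063a02b300cf063e02b2016b00ad00fc016c00ac00f8))) (.node 166 (.node 165 (.leaf 0x1020342053c058c01ab052902ef00a0000102f100a60000) (.leaf 0x50f043106c0046a01f2045d01030343053d058e01aa0528)) (.node 167 (.leaf 0x42304a4015b042204a20158046b01f3045e050e043006c1) (.leaf 0x26003ab0589026103af0586050701810342050c017a0343)))) (.node 172 (.node 170 (.node 169 (.leaf 0x1b503e90604018703b6001204cc04b502ef04cb04b402f1) (.leaf 0x1d9008504d401d8008904d5018603b7001001b703e70605))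 (.node 171 (.leaf 0x42e03f3058c042f03f2058e03e702a906a103e902a8069f) (.leaf 0x22904f902af03d7011000de03d6010f00e1022804f802ac))) (.node 174 (.node 173 (.leaf 0x32906c7028f032806c6028e03b602b1064c03b702b0064f) (.leaf 0x39f0542059601db068a048801da06880489039e05430597)) (.node 175 (.leaf 0x63c030e02bb063d030f02ba006802b80560006202b90562) (.leaf 0x497056f0071027c042406a804960570005b027d042506ab))))) (.node 184 (.node 180 (.node 178 (.node 177 (.leaf 0x10401f605fe010501f805ff0126032c00d50127032e00d7) (.leaf 0x5d900af02c705da00ae02c60340063603f20349063803f3)) (.node 179 (.leaf 0x2cb03c60118019d049001b602c903c70119019c049101b4) (.leaf 0x34701ca02cf0122036a06140120036c061500f801b1004f))) (.node 182 (.node 181 (.leaf 0x19801fd0328019a01fc0329034801cb02d100fc01b20050) (.leaf 0x2d700a7009902d600a5009805db066c027a05dc066f0278)) (.node 183 (.leaf 0x5c9040d02db055002da01cb055102d901ca013000810464) (.leaf 0x4f202f404b9001c0117001b04f302f204b805c8040c02dc)))) (.node 188 (.node 186 (.node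 185 (.leaf 0x1d011b001a043904120081043804130080013100800465) (.leaf 0x15104160145034f0112042f0512034f03ac0513034c03aa)) (.node 187 (.leaf 0x69202eb03e603f3012a0367014f04170144034c010c042e) (.leaf 0x291009902a1036302ee02ee03f201290364069102ec03e8))) (.node 190 (.node 189 (.leaf 0x55d023b013e059802dd02f20290009802a0036202f002f0) (.leaf 0x227005e05f7068905510202055a023c013c059e02df02f4)) (.node 191 (.leaf 0x61a05d504cd061d05d404ca068b055002040224006b05f9) (.leaf 0x45c042d01d1045f042c01d2006d063701df007e063901de))))))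

def conjTB6 : Bst := (.node 208 (.node 200 (.node 196 (.node 194 (.node 193 (.leaf 0x6bc04d403a402510341030202500346030106ba04d503a5) (.leaf 0xc2062f009b037303c5008204fa04a8034f037203c4008a)) (.node 195 (.leaf 0x1905be043604fb04a7034c001705bf043700c3062e009a) (.leaf 0x6502ba0182006402bb0183030d062d04ff030c062c04fe))) (.node 198 (.node 197 (.leaf 0x376018c05d40377018d05d501d400d0031001d500d10311) (.leaf 0x3f6031805af068d0389035c025c013400e0025d013500dd)) (.node 199 (.leaf 0x3a003ba0657068c038a035d03a103b8065603f7031705b0) (.leaf 0x48f04c10355067104e405a4048e04c30354067004e505a5)))) (.node 204 (.node 202 (.node 201 (.leaf 0x57d045905c901dc04c401c7032104e30041032004e20067) (.leaf 0x3710326004d03700327003f057e045805c801dd04c701c8)) (.node 203 (.leaf 0x101058900c205630351037b02b3062902d202b2062602d3) (.leaf 0x56503500378044d02c000d800e9058600c3044e02c100db))) (.node 206 (.node 205 (.leaf 0x271046e00bc026d046f00bb03be05f401ba03bf05f501bb) (.leaf 0xd8007f00c600db007a00c706b40645025706b206440256))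 (.node 207 (.leaf 0x7801b503c3007701b703b900b303ff062800b203fe0627) (.leaf 0x209028501f705ca0588054805cd0587054b0208028601f9))))) (.node 216 (.node 212 (.node 210 (.node 209 (.leaf 0xf30295029c00fe0293029d0124030203a802c501b601a4) (.leaf 0x2cf01cc0574011f030103a705d70584055305d805850556)) (.node 211 (.leaf 0x19f05f601ce019e05f801cf02c401b401a502d101cd0575) (.leaf 0x2e602e503050112021f05c6010c022105c702e802e4030a))) (.node 214 (.node 213 (.leaf 0x5cf01b0007b05ce01b30055013b032a0242013a032f0243) (.leaf 0x1c50562035903ad0502023a008900ab031f008500aa031d)) (.node 215 (.leaf 0x27b035a065c0277035b065d01c60560035703ae0503023f) (.leaf 0x42010a00fa03ec04cb05ad021b052a031a021a052c0316)))) (.node 220 (.node 218 (.node 217 (.leaf 0x2ee0067039402f000410395004c010d00fd03ed04cc05aa) (.leaf 0x43203d302ea009b061901aa009a061801ab043303d202ed)) (.node 219 (.leaf 0x1df057a0148053f02ce05d306a1037c03da069f037d03dd) (.leaf 0x249003a05f50248003805f401de057c0149053e02cd05d0))) (.node 222 (.node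 221 (.leaf 0x306065d03720304065c03730327037100ae0326037000af) (.leaf 0x3120056000b03130054000d043c06a60152043d06a40154)) (.node 223 (.leaf 0x54a03d4032a041705e5020a041605e4020b054903d5032f) (.leaf 0x5a8069a056305a9069d0565002b03680434002e03690435))))))

def conjTB7 : Bst := (.node 240 (.node 232 (.node 228 (.node 226 (.node 225 (.leaf 0x5b502650003052f00160603057703800214057603810217) (.leaf 0x38b045e06b6009e048b051b052d0018060205b402670002)) (.node 227 (.leaf 0x387045d06b50280031a058a027f0316058b009f048c051d) (.leaf 0x5ef027105ce05ee026d05cf0407041c014b04040420014a))) (.node 230 (.node 229 (.leaf 0x457056a06c20456056d06c304c300c303af04c100c203ab) (.leaf 0x56a01a904e605a3069b051200ee01ac036200e801ad0363)) (.node 231 (.leaf 0x5560468046b05530469046a056d01a804e705a2069c0513) (.leaf 0x2b70216006b02b40215005e063f0461050f063b0460050e)))) (.node 236 (.node 234 (.node 233 (.leaf 0x608024e00330609024f0035031906340551031b06350550) (.leaf 0x27903a7034603cb044606b9013e06a90300013c06a70303))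 (.node 235 (.leaf 0x12f029f039004f003d702e403ca044706b0027603a80341) (.leaf 0x12c029e03910358003e03c80356003603c904f103d602e5))) (.node 238 (.node 237 (.leaf 0x585018a010f0584018b01100041018604db0067018704da) (.leaf 0x2b002a5010202b102a2010304dd03db00e604de03dc00ef)) (.node 239 (.leaf 0xf9015b054603ba031b0426026f048a033a03b803190427) (.leaf 0x3300555057b0331055405800569015504cf011301580547))))) (.node 248 (.node 244 (.node 242 (.node 241 (.leaf 0x2700484033b06b501f0021e06b601f102200568015304d0) (.leaf 0x41802c9017f041b02cb0180002c0306040800310304040b)) (.node 243 (.leaf 0x3a601c3041803a901c2041b017101c503ad017301c603ae) (.leaf 0x5bd0465041305ba04640412067b041f01bf067a042101bd))) (.node 246 (.node 245 (.leaf 0x16f03670266016e0364026403db0059046e03dc004a046f) (.leaf 0x2ae03aa04a702ad03ac04a805280378016a0529037b016d)) (.node 247 (.leaf 0x3d103b500e3002206d30369053d06b601f3053c06b501f2) (.leaf 0xf4015e04070537061504ac002406d2036803d003b400e2)))) (.node 252 (.node 250 (.node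 249 (.leaf 0xf6015f040401500415055a014e0414055d0536061404b1) (.leaf 0x2a902a40113053a04c002eb009100f90263009501130262)) (.node 251 (.leaf 0x4ac006f05eb04b1005a05ea02a802a300f9053804c202ec) (.leaf 0x15806c005fc015b06c105fb0360022904d8035e022804d9))) (.node 254 (.node 253 (.leaf 0x2ea02ab02c402ed02aa02c504ca0051022804cd00520229) (.leaf 0x31800cf0017031700ce001904d104c601ff04ce04c501fe)) (.node 255 (.leaf 0x3fb03fa00b003fa03fb00b10545057200c80544057300c9) (.leaf 0xd00339060f00d1033806110037005b0419003d0071041a))))))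

def conjTB8 : Bst := (.node 272 (.node 264 (.node 260 (.node 258 (.node 257 (.leaf 0x48a065001f604010453022104020455021f0484065101f8) (.leaf 0x38d044f03df010b065b0514010e06580515038c044803e3)) (.node 259 (.leaf 0xd4007403c400af00c606cb00ae00c706cf00d6007503c5) (.leaf 0x625059d055c0624059c055b051c02db04ad051a02dc04b0))) (.node 262 (.node 261 (.leaf 0x1f802e103cf01f602e203ce015f024d0006015e024a0004) (.leaf 0x37a02e904bc037902e704bd046303e20637046203e10639)) (.node 263 (.leaf 0x3c6001a03ca0174016603fc0176016703fd03c7001b03cb) (.leaf 0x69c03cd0697059901730533059f017105320070038d060a)))) (.node 268 (.node 266 (.node 265 (.leaf 0x29b05230150029a0522014e069b03cc0696003c038c060b) (.leaf 0x1ce052103b801cf052003ba006902bc0543005d02be0542)) (.node 267 (.leaf 0x67204940695042905e80511042a05e90510067304950699) (.leaf 0x2aa062102e602ab061f02e8000602ff0609000402fe0608))) (.node 270 (.node 269 (.leaf 0x364015a05cc0367015905cb02670297017d02650298017e) (.leaf 0x4d00501030904cf0500030b00c10111037c00c000f1037d))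 (.node 271 (.leaf 0x1e20690050801e30693050902e2043906ba02e1043806bc) (.leaf 0x471054806400470054b0641037406cf007a037506cb007f))))) (.node 280 (.node 276 (.node 274 (.node 273 (.leaf 0x614004e0032021d05410442021c05400441061500870030) (.leaf 0x26e03a90645026b03a60644024a04450593024d04440595)) (.node 275 (.leaf 0x44b04f4048f010005bd044a00ff05ba04490561040400ea) (.leaf 0x564040700f2032c003b0287032e00390289044c04f5048e))) (.node 278 (.node 277 (.leaf 0x10402019c01a904ef058506b90236059f06b002390599) (.leaf 0x393058f06200392058d061e00000401019d01a804ee0584)) (.node 279 (.leaf 0x51b057400cb051d057500ca0258032305f60259032505f8) (.leaf 0x2fe055304ee05fe0387029905ff038b029602ff055604ef)))) (.node 284 (.node 282 (.node 281 (.leaf 0x415009301250414009201230047039d053a0049039c0538) (.leaf 0x2460190067e0245018e067f05bc03cf02e005bb03ce02d8)) (.node 283 (.leaf 0x29904a6039b029604a9039a017b039a04fb017c039b04fa) (.leaf 0x12033203d00010033303d104df05d7018e04dc05d80190))) (.node 286 (.node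 285 (.leaf 0x5a06770473006f06760472043f056c04b7043e056b04b6) (.leaf 0x47405390282061c04db0070061b04da003c0477053b0283)) (.node 287 (.leaf 0x4af0225025905020058011a0036024b0005003e024c0009) (.leaf 0x2180534063302190535063205030044011604ae02260258))))))

def conjTB9 : Bst := (.node 304 (.node 296 (.node 292 (.node 290 (.node 289 (.leaf 0x5e60643056d05e70642056a002705170208002805160209) (.leaf 0x11701db064d052501f50108052401f40106040003c3059b)) (.node 291 (.leaf 0x2020386048c040303b9059a066f015402b5066c015202b6) (.leaf 0x31f0157044b031d0156044c011b01da064e02040388048b))) (.node 294 (.node 293 (.leaf 0x19001bd0066018e01bf006e01c002c8059201be02ca0594) (.leaf 0x2bf057b023202bd0580023301e80428065301e7042b0652)) (.node 295 (.leaf 0x4bd01420028017500b6062204bc01430027017700b70623) (.leaf 0x641021a04ea0634019a06c50635019806c4005405cc04f6)))) (.node 300 (.node 298 (.node 297 (.leaf 0x1b101e9026f04e0029a068f0640021b04e9005605cb04f7) (.leaf 0x137030a03d70066046b00fe01b201ec027004e1029b068e))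 (.node 299 (.leaf 0x4aa0144014604ab01450147006e046a00f30139030503d6) (.leaf 0x47b00c801fa047c00c901fb006b04ad040d03eb05d003de))) (.node 302 (.node 301 (.leaf 0x649027d063d064a027c063c03ea05d303e0005e04b0040c) (.leaf 0x5d00083047105d300860470012d02a100a7012e02a000a5)) (.node 303 (.leaf 0x548014b0507054b014a050c06c204b902df06c304b802dd) (.leaf 0x50a04bf04bf050504be04be049b01470416049901460417))))) (.node 312 (.node 308 (.node 306 (.node 305 (.leaf 0x391031d0024065303e804c20390031f0022065203e604c0) (.leaf 0x1830324003904ff03f5019304fe03f4019201820322003b)) (.node 307 (.leaf 0x2a0035e01a003f1060e02fa024201020015024301030014) (.leaf 0x436056703bd03f404d100d203f0061002fb02a1036001a1))) (.node 310 (.node 309 (.leaf 0x581052d04d2057f052f04d303f504ce00d30437056603c0) (.leaf 0x6620686061a06630685061d00dd030002a600e0030302a7)) (.node 311 (.leaf 0x558047603b10559047503b0005505a603ec007b05a703ed) (.leaf 0x46d023e020e03b4004b05ed03b5005305ec046c023d020f)))) (.node 316 (.node 314 (.node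 313 (.leaf 0x6a9032101ac06a7032001ad04a4065405f004a2065505f1) (.leaf 0x24e00fa0399024f00fd039701b3031c01a601b0031e01a7)) (.node 315 (.leaf 0x65b04eb04f806100063049f060e007904a1065804e804f9) (.leaf 0x6480452045c06460454045f014505e0013f014405e1013d))) (.node 318 (.node 317 (.leaf 0x2dd0049027402df0047027503ac00e8010003aa00ee00ff) (.leaf 0x61606ca04a0061706c8049c0631044c05c20630044b05c1)) (.node 319 (.leaf 0x30a00f30469030500fe0468013202af04e8013302ac04eb) (.leaf 0x4c604fe030d04c504ff030c06ab054c022f06a8054d022e))))))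

def conjTB10 : Bst := (.node 336 (.node 328 (.node 324 (.node 322 (.node 321 (.leaf 0x47d03580503047a03560502001b04370169001a04360168) (.leaf 0x29d060a04bb003a050b006504be00f605e80149055e021a)) (.node 323 (.leaf 0x380506006404bf00f405e905b20532043a05ae0533043b) (.leaf 0x29705a0039d029805a1039c0148055f021b029c060b04ba))) (.node 326 (.node 325 (.leaf 0x2e400ff039802e50100039606d30240042a06d202410429) (.leaf 0x5170481022d05160480022c05e4021d040505e5021c0406)) (.node 327 (.leaf 0x45b051d0386040c01e202310281059b01b5027e059a01b7) (.leaf 0xb00627053100b106280530045a051b0388040d01e30230)))) (.node 332 (.node 330 (.node 329 (.leaf 0x66b04230026066a0422002900b9042706b200b8042606b4) (.leaf 0x527026f068105260270068004860244063f04850247063b)) (.node 331 (.leaf 0x5a6052b054100a5035d002303d400ec029203d500eb0294) (.leaf 0x38204d2060d05a7052e0540038504d3060c00a7035c0025))) (.node 334 (.node 333 (.leaf 0x1680508041e01690509041d01930611051f0192060f051e) (.leaf 0x3de0048006f03e00046005a0590047e02710591047f026d))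 (.node 335 (.leaf 0x5830474067c03e600ed046105820477067d03e800e70460) (.leaf 0x36a004f025f036c0050025e03d90698029503d806940293))))) (.node 344 (.node 340 (.node 338 (.node 337 (.leaf 0x24b02b40425024c02b7042400930442052b00920441052e) (.leaf 0x17d068f03bc017e068e03bb03f90544019f03f80545019e)) (.node 339 (.leaf 0x4ba043e033d037b00f0021c037800f5021d04bb043f033e) (.leaf 0xc007c003e0007007d0036001804fc01db001604fd01da))) (.node 342 (.node 341 (.leaf 0x39a045f034505af0019060102d902f603a102da02f903a0) (.leaf 0x5b000170600039b045c0344064d03bf0211064e03be0210)) (.node 343 (.leaf 0x7c055c040e02f501df03e204da0266012a04db02640129) (.leaf 0xfb050d007900f70504006302f301de03e1007d055b040f)))) (.node 348 (.node 346 (.node 345 (.leaf 0x32a0106037f026c035702b8044805610677026a035902b9) (.leaf 0x56704cf05c3056604d005c0032f0108037e044f05640676)) (.node 347 (.leaf 0xac047000bd03970393048203bd0613027d03c00612027c) (.leaf 0x4d02bf016601ca01e000b703990392048300ad047100ba))) (.node 350 (.node 349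 (.leaf 0x63e03f800a4063a03f900a101cb01e100b6003f02bd0167) (.leaf 0x381062401e30380062501e2059c045a0348059d045b0347)) (.node 351 (.leaf 0x1e0049703bf000b036b01d6023f008a0074023a00820075) (.leaf 0x4d2060300cd032501c4057d032301c9057e000d036d01d7))))))

def conjTB11 : Bst := (.node 368 (.node 360 (.node 356 (.node 354 (.node 353 (.leaf 0x53b002200ab0539002400aa04d3060200cc01e1049603be) (.leaf 0x129033d06b800e1032d029e03b30344045203b203450454)) (.node 355 (.leaf 0x5f00025038905f10023038a00de032b029f012a033e06b7) (.leaf 0x667045701040294068202aa0666045601050292068302ab))) (.node 358 (.node 357 (.leaf 0x68605a8044501d301a50491053400ba0083053500bd0086) (.leaf 0x1c706ab02b401c806a802b7068505a9044401d001a40490)) (.node 359 (.leaf 0x260519048400290518048a041e025b045002f2005f0284) (.leaf 0x41d025a045102f4006c02880574040f059c0575040e059d)))) (.node 364 (.node 362 (.node 361 (.leaf 0x39606bc05a3039806ba05a20053050e00e7004b050f00ed) (.leaf 0x52e04d80052052b04d90051016d00e9031c016a0101031e))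 (.node 363 (.leaf 0x14d01a600e90643012b0360037e059505a9037f059305a8) (.leaf 0x55205de0317050801fe05db06420128035e014c01a70101))) (.node 366 (.node 365 (.leaf 0x7401bc0239050901ff05dc007501c10236055705dd0318) (.leaf 0x23e05c10157023d05c201560383009a016f0384009b016e)) (.node 367 (.leaf 0x46406ac01f103ce0449061c01ae01a1012b01af01a00128) (.leaf 0xe03090170000f030b017203cf044a061b046506ad01f0))))) (.node 376 (.node 372 (.node 370 (.node 369 (.leaf 0xca02050567015905b604f5015a05b704f400cb02030566) (.leaf 0x6c1019c034d06c0019d034e060700bb004a060600bc0059)) (.node 371 (.leaf 0x5004a00432033e01f7021202db01ce032302dc01cf0325) (.leaf 0x3530633038e03520632038f033d01f90213004f049c0433))) (.node 374 (.node 373 (.leaf 0x4b604b1036a0083022c06780086022d067904b704ac036c) (.leaf 0x345046d010b011101be023c012302fb0312012502fa0313)) (.node 375 (.leaf 0x2d5019205ae02c600b8065f02c700b906600344046c010e) (.leaf 0xf101c0023b019905af05dd019b05b005de02d4019305b2)))) (.node 380 (.node 378 (.node 377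 (.leaf 0xef0088004b00e60084005301ab04ec024701aa04ed0244) (.leaf 0x482062006920483061e06910514037a0666051503790667)) (.node 379 (.leaf 0x659068703eb065a068403ea00480429050a0046042a0505) (.leaf 0x38f025f01b1038e025e01b20620021804de061e021904dd))) (.node 382 (.node 381 (.leaf 0x1f009e0629001e009f0626058a027504e0058b027404e1) (.leaf 0x22500b502f7008f034b045900090330036f00050331036e)) (.node 383 (.leaf 0x80017e03ee068001e8022a022600b402f8008e034a0458) (.leaf 0x45d028102c2045e027e02c3068101e7022b0081017d03ef))))))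

def conjTB12 : Bst := (.node 400 (.node 392 (.node 388 (.node 386 (.node 385 (.leaf 0x257057f0382025605810385022f019b0552022e01990557) (.leaf 0x5c5026900ad05c4026800ac0677026202a40676026302a3)) (.node 387 (.leaf 0x18f050c042001910507041c03a200fb042d03a300f7042c) (.leaf 0x203053003ff04e904ca018c062b060c052f062a060d052d))) (.node 390 (.node 389 (.leaf 0x1ba056900b201bb056800b30205053103fe04ea04cd018d) (.leaf 0x4f6068101e904f7068001ec044003de02cd044303e002ce)) (.node 391 (.leaf 0x475061b05bd02fb006a04d7004a036600eb0059036500ec) (.leaf 0x1bf042e01d005ec05e6045602fa006104d60476061c05ba)))) (.node 396 (.node 394 (.node 393 (.leaf 0xd90073049800da008b049a01bd042f01d305ed05e70457) (.leaf 0x1c1051f033801eb032805f2040f0576066e040e0577066d)) (.node 395 (.leaf 0x60d00cd0016060c00cc001801ea032905f301bc051e0339) (.leaf 0x15030700bf0014030800be065f030d062c0660030c062d))) (.node 398 (.node 397 (.leaf 0x25305cf047f025205ce047e04f5013e01c004f4013c01be) (.leaf 0x3002fd0415014b02c50682049d03a00234049e03a10235))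 (.node 399 (.leaf 0x39c013d05240572028f00a2003202fc0414014a02c40683) (.leaf 0x39d013f05250573028e00a302ba00b204b302bb00b304b2))))) (.node 408 (.node 404 (.node 402 (.node 401 (.leaf 0x5aa0483007805ad04820077049f06b8043e04a106b7043f) (.leaf 0xba0212028504ee01d0010c003403350447002f03340446)) (.node 403 (.leaf 0xbd0213028604b200b0064904b300b1064a04ef01d30112) (.leaf 0x69a066302b00554022f048d0555022e0487069d066202b1))) (.node 406 (.node 405 (.leaf 0x4c20107049504c00109049400030400028100020403027e) (.leaf 0x1ff06b4031b01fe06b2031900fd04e0004700fa04e10049)) (.node 407 (.leaf 0x4eb040600f005ea06a1065a05eb069f065904e8040500f5) (.leaf 0x62d027805da018d006d023e01ed0373035a01e60372035b)))) (.node 412 (.node 410 (.node 409 (.leaf 0x4d6064f066304d7064c0662018c007e023d062c027a05d9) (.leaf 0x58f014c05e4058d014d05e50128020f007e012b020e006d)) (.node 411 (.leaf 0x5230149018f052201480191011a00a306c6011600a206c7) (.leaf 0x48902d400b8020102310625020002300624048802d500b9))) (.node 414 (.node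 413 (.leaf 0x428020a014d042b020b014c031e067c017c031c067d017b) (.leaf 0x60504730561060404720564026306d501e8026206d401e7)) (.node 415 (.leaf 0x3cd01d200f703cc01d100fb068f020805d1068e020905d2) (.leaf 0x33010b04660035010e0467018106700539017a0671053b))))))

def conjTB13 : Bst := (.node 427 (.node 421 (.node 418 (.node 417 (.leaf 0x682058c06380683058e063605fd0617052705fa06160526) (.leaf 0x26905eb0048059304d701ef059504d601ee026805ea0046)) (.node 419 (.leaf 0x2f9068901c4009402b606a602f6068b01c9009002b506a4) (.node 420 (.leaf 0x679054704a20678054604a4031606ce005f031a06c9006c) (.leaf 0xc6043a017102eb010405e702ec010505e600c7043b0173)))) (.node 424 (.node 422 (.leaf 0xe5006e041f00e400660421010906bf042b00eb053c0181) (.node 423 (.leaf 0x421039600e8064f037f01f4010706be042800ec053d017a) (.leaf 0x368065902a8022c022a06d5064c037e01f5041f039800ee))) (.node 425 (.leaf 0x13003c01870011007001860369065a02a9022d022b06d4) (.node 426 (.leaf 0x4e203a4008500210375068a01800118001d002003740688) (.leaf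 0x4fd059702bc017f0119001c04e303a5008904fc059602be))))) (.node 432 (.node 429 (.node 428 (.leaf 0xe2007b025c00e30055025d022005bc06bb021e05bb06bd) (.leaf 0x27200ca01cd033406560521027300cb01cc0450025703a9)) (.node 430 (.leaf 0x6b70640058803c103d9038703c203d8038b033506570520) (.node 431 (.leaf 0x221021e06ad030005a204390451025603a606b806410587) (.leaf 0x24406950109024706990107021f022006ac030305a30438)))) (.node 435 (.node 433 (.leaf 0x4b80078039204b90077039305c703ee029805c603ef0297) (.node 434 (.leaf 0x7202b30668007602b20669008b06c4049e007306c5049d) (.leaf 0x39043c040a007904f70159005f068c01af006304f6015a))) (.node 436 (.leaf 0x3b043d0409006c068d01ae005c00f80268004500fc0269) (.node 437 (.leaf 0x51103da0111051003dd00f1000800ea015f000a00f2015e) (.leaf 0x22a0675069e022b067406a0))))))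

/-- The conjugation action on them. -/
def conjT : Tab := ⟨(.node 224 (.node 96 (.node 32 conjTB0 (.node 64 conjTB1 conjTB2)) (.node 160 (.node 128 conjTB3 conjTB4) (.node 192 conjTB5 conjTB6))) (.node 320 (.node 256 conjTB7 (.node 288 conjTB8 conjTB9)) (.node 384 (.node 352 conjTB10 conjTB11) (.node 416 conjTB12 conjTB13)))), 48, 2⟩

def pathTB0 : Bst := (.node 16 (.node 8 (.node 4 (.node 2 (.node 1 (.leaf 0x2eee7600000000000000760000000000000bbb0000000000000002) (.leaf 0x9000000000067b7bb00000000000009dd0000000001b7b76e)) (.node 3 (.leaf 0x6deddb000000000bb9eeed0000000000003b7900000000002deeed) (.leaf 0xedd9000000000000277600000000019edeee0000000000027bbb))) (.node 6 (.node 5 (.leaf 0xb779dd000000000019ddd9000000000079dbb9000000000007b6ee) (.leaf 0x9ddbb0000000000b767b7000000000001edbb0000000000067779)) (.node 7 (.leaf 0x2de7b60000000003677bb600000000003b767b000000000000ee7b) (.leaf 0x36de000000000000db9e0000000002de7bb90000000000d9dbbb)))) (.node 12 (.node 10 (.node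 9 (.leaf 0x6dd0000000000001edd00000000000000d900000000000036ed) (.leaf 0x79dee7000000000076deee0000000002eed9dd0000000002dddb9d)) (.node 11 (.leaf 0xb79deed0000000000b77b7b000000000001db7b000000001db7b9de) (.leaf 0x2de7700000000001edddb0000000001bbb7bb00000000000000b7))) (.node 14 (.node 13 (.leaf 0x7bbb7bb0000000001bb677b000000000000e7bb0000000006dedddb) (.leaf 0xb777000000000000009d000000000009eed900000000003677b7)) (.node 15 (.leaf 0x2deee00000000000ede76000000000000bb760000000000027776) (.leaf 0x2dde70000000000003b7b00000000003b79dd00000000019dd9e7))))) (.node 24 (.node 20 (.node 18 (.node 17 (.leaf 0xedd0000000000bbb7bb0000000001d9ddb700000000003b7677) (.leaf 0x27b9d0000000001eddedb0000000002ddeedb00000000000036dd)) (.node 19 (.leaf 0x1e7bb00000000000767bb0000000002ed9ddb0000000007b77b7b) (.leaf 0x7677b70000000006eedded00000000000b7b6e00000000000027bb))) (.node 22 (.node 21 (.leaf 0xbb677b0000000000b777b6000000000006eed90000000002ddeedd) (.leaf 0x27790000000006ded9e7000000000001bbb70000000001d9dedb))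 (.node 23 (.leaf 0xb7760000000001db777b00000000000677b7000000000000db9d) (.leaf 0x6de7b000000000009deed000000000000000e0000000019dedde7)))) (.node 28 (.node 26 (.node 25 (.leaf 0xb7b7770000000000000036000000000006dd9d000000000009ddb7) (.leaf 0x19dddbb00000000000067bb00000000009dddb900000000000eee7b)) (.node 27 (.leaf 0x379e0000000001b777b6000000000000b6ed0000000000000dbb) (.leaf 0x6deeddee000000000019ddb70000000001b7b777000000000001b79d))) (.node 30 (.node 29 (.leaf 0xdee00000000000e77b7000000000037b9ed0000000000b76edb) (.leaf 0x1bb9d00000000002de776000000000000002e0000000000039ed9)) (.node 31 (.leaf 0xb77b600000000000b7b9e000000000006ded9000000000bbb779d) (.leaf 0xd9ed000000000006ed9d000000000000009e00000000000027bb))))))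

def pathTB1 : Bst := (.node 48 (.node 40 (.node 36 (.node 34 (.node 33 (.leaf 0x1b7bb7600000000000002d900000000000079db00000000002e7bb6) (.leaf 0x1bbb77b700000000001e77b700000000002dde76000000000bb677b6)) (.node 35 (.leaf 0x37bbb00000000000039ed000000000001ede700000000001e7bb6) (.leaf 0xb76000000000000d9dd0000000000036ee70000000000000000))) (.node 38 (.node 37 (.leaf 0x6ede7b000000000b6eddee000000000bb67bbb0000000000002dd9) (.leaf 0x19eedee0000000006ed9edb00000000001e777b0000000000003677)) (.node 39 (.leaf 0x1d9e000000000019dedb000000000002eede000000000000009e) (.leaf 0xdb9ee0000000000036dee0000000000000001000000000000bbb9)))) (.node 44 (.node 42 (.node 41 (.leaf 0xe76ee0000000000039dee0000000000036dde000000000000bbb6) (.leaf 0x2eed9d0000000000000019000000000000006d00000000000db9de)) (.node 43 (.leaf 0x1edd90000000002dde76e0000000000000007000000000002eee7) (.leaf 0xd9ee70000000000b7b9db00000000002ddeee00000000019deddd))) (.node 46 (.node 45 (.leaf 0xeed9000000000000bbb7000000000003bbb6000000000000bbbb)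 (.leaf 0x37b6000000000036ede70000000000277bb9000000000000de76)) (.node 47 (.leaf 0x767bb60000000001b7bb7900000000000d9d9d0000000000b7679d) (.leaf 0x7676000000000027b77b00000000007b767700000000001b7677))))) (.node 56 (.node 52 (.node 50 (.node 49 (.leaf 0xb7679d00000000000007b600000000000b7bbb0000000002ee7bbb) (.leaf 0xb7b9d000000000002767700000000002ded9d00000000000b7b67)) (.node 51 (.leaf 0x9de76000000000003b776000000000036e77600000000000db776) (.leaf 0xee7790000000000e77b6700000000000e77bb00000000000ee7b6))) (.node 54 (.node 53 (.leaf 0x2dee7b00000000000367b7000000000002eedb00000000000bb79d) (.leaf 0xeddb00000000000000020000000000002ded0000000000039ee7)) (.node 55 (.leaf 0xb7b90000000000036eee00000000000000de000000000002eddd) (.leaf 0x19ddb7b90000000000001ee70000000000007bb6000000000009eee7)))) (.node 60 (.node 58 (.node 57 (.leaf 0x1bbb7b00000000000b77b700000000002dddb7000000000000b779) (.leaf 0xbb6779000000000677b7b900000000019ddb7b0000000000067bbb)) (.node 59 (.leaf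 0x767b9000000000007677700000000000b7679000000000067bb9d) (.leaf 0x1e7bb700000000007b9dee000000000001e7b9000000000000677b))) (.node 62 (.node 61 (.leaf 0x19ddb0000000002ddbb7900000000002ee7bb00000000001eeedd) (.leaf 0xb79ddd00000000007b77b90000000000001bb70000000001eddeed)) (.node 63 (.leaf 0x6dedb0000000000bbb7b90000000000bb67bb0000000001dbbb7b) (.leaf 0x76e77b00000000000067b900000000000027b900000000002ddeed))))))

def pathTB2 : Bst := (.node 80 (.node 72 (.node 68 (.node 66 (.node 65 (.leaf 0x6777000000000019ee7b0000000000007b6700000000002d9eee) (.leaf 0xb767b7700000000001eedee00000000006767b70000000000019e77)) (.node 67 (.leaf 0x7bbb7b00000000000bbb7b00000000006ddeed000000000001b779) (.leaf 0x9eddd000000000006eddb000000000000027b0000000000002edb))) (.node 70 (.node 69 (.leaf 0x1e7770000000000000b67000000000000b7bb000000000001ee76) (.leaf 0xd9dbb00000000000039de000000000000000d00000000000036ee)) (.node 71 (.leaf 0xb767bb000000000000e76e0000000002de7b7900000000002de7bb)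 (.leaf 0xb79de0000000000027bb9000000000002ddde000000000bbb7bb9)))) (.node 76 (.node 74 (.node 73 (.leaf 0xb6edded0000000006dedd9d0000000000ede7760000000019dd9eed) (.leaf 0x3677900000000000002de00000000007b776e0000000000d9dede)) (.node 75 (.leaf 0x676eed00000000006deee700000000000b76de0000000000006ed9) (.leaf 0x1e0000000000000006000000000002eed900000000000bbb9e))) (.node 78 (.node 77 (.leaf 0x1eee0000000000002ddd00000000002e7bb70000000000079dbb) (.leaf 0x7b9e00000000006eedee0000000000007bb90000000000000b77)) (.node 79 (.leaf 0x1eed000000000002ddd9000000000027b77900000000002ddede) (.leaf 0x79ede00000000002ee7b600000000001b767b000000000000b7b6))))) (.node 88 (.node 84 (.node 82 (.node 81 (.leaf 0x76eedb000000001b7b67b7000000000076dee70000000001db7bb7) (.leaf 0x79eedb000000001b767b790000000000767b7b0000000001b767b7)) (.node 83 (.leaf 0x2ddbb000000000067767600000000067767b6000000000001b7b7) (.leaf 0x1db7b9e00000000000b6edd00000000000b767b000000000007b677))) (.node 86 (.node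 85 (.leaf 0xeede0000000000003679000000000767b7b70000000000b7b677) (.leaf 0x1edee0000000006ed9d9d000000000009eddb00000000000dbb79)) (.node 87 (.leaf 0xbb67b00000000000b7b7700000000006ded9d0000000000002dbb) (.leaf 0x7677790000000002ddbb760000000001bbb7b9000000000079eede)))) (.node 92 (.node 90 (.node 89 (.leaf 0x67767bb0000000001b7b7670000000006eedee70000000001e7bb7b) (.leaf 0x2dde00000000000eedbb000000000003b76e000000000000b7b6)) (.node 91 (.leaf 0x2ddee000000000007b67b000000000009d9e700000000003b7676) (.leaf 0x9eddee0000000000001d9d000000000007bb7600000000001eed9e))) (.node 94 (.node 93 (.leaf 0x9e77b00000000000edd9d0000000000002767000000000002776d) (.leaf 0x37b700000000000002dd00000000000eddde0000000000036776)) (.node 95 (.leaf 0xb7b9e0000000000006779000000000002ded900000000000bb776) (.leaf 0xb79edd00000000002ed9d9000000000000079d0000000000019edb))))))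

def pathTB3 : Bst := (.node 112 (.node 104 (.node 100 (.node 98 (.node 97 (.leaf 0xbb76700000000002deee7000000000019ee760000000002de7bbb) (.leaf 0x19dddb00000000007b6ee70000000000009eee0000000002eedeee)) (.node 99 (.leaf 0x1d9db000000000009edde0000000000027bbb0000000006776dee) (.leaf 0x67767b00000000002de77b0000000001edee7700000000001b7b9d))) (.node 102 (.node 101 (.leaf 0x2eee70000000000d9d9ee00000000001b7b790000000000067bb7) (.leaf 0xbbb9d000000000000001d000000000003bb6e000000000000b77b)) (.node 103 (.leaf 0xee777b00000000000bb9de000000000003b9de0000000000037bb6) (.leaf 0x2ddbb000000000027b776000000000000002d0000000000000bb9)))) (.node 108 (.node 106 (.node 105 (.leaf 0x2eee000000000000000000000000002eeddd00000000000006ed) (.leaf 0x7b676000000000000b76700000000000b676e0000000000002dd9)) (.node 107 (.leaf 0x19ded9000000000001d9ed00000000000009ed00000000002de7bb) (.leaf 0x6edb00000000000676ee0000000000b7b6ed00000000007b79dd))) (.node 110 (.node 109 (.leaf 0xb76770000000002ddeede00000000001dbbb700000000000b77b9)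 (.leaf 0x76dd00000000000002dd00000000019d9eed000000000000bb9d)) (.node 111 (.leaf 0xeedb0000000000027779000000000076deed00000000001db7b9) (.leaf 0x2de770000000000000b7b0000000000067bb6000000000039ed9e))))) (.node 120 (.node 116 (.node 114 (.node 113 (.leaf 0xb79ee0000000000d9deee00000000000002ee000000000002ee7b) (.leaf 0x9dee70000000000009e7700000000000002790000000000000b67)) (.node 115 (.leaf 0xeddee0000000000037b67000000000000e7b70000000000002ede) (.leaf 0xb67b6000000000002ddb90000000000003b770000000000009de7))) (.node 118 (.node 117 (.leaf 0xb67600000000007bb7bb000000000006dde70000000000002de7) (.leaf 0x19dd9ee00000000006dedd900000000000d9ede0000000000367b79)) (.node 119 (.leaf 0xd9db00000000000b767b00000000002dde7700000000001e76ee) (.leaf 0x1b7b7700000000006ed9dd000000000002ede700000000000bb79e)))) (.node 124 (.node 122 (.node 121 (.leaf 0x9d9db0000000000027b7900000000000deeed00000000000037b9) (.leaf 0x1db776d0000000000000039000000000000dbbb0000000000000037)) (.node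 123 (.leaf 0x37b7900000000000db7b700000000001dbbb6000000000b767b7b) (.leaf 0x1e7b7b000000000006dd9e0000000000002dbb0000000006ded9ed))) (.node 126 (.node 125 (.leaf 0x67000000000002eedb000000000000676e000000000002e776) (.leaf 0x1bb67b60000000000001db90000000000001b770000000001eeded9)) (.node 127 (.leaf 0x36e77000000000000db77000000000079deed00000000006767b6) (.leaf 0x9d9d9e0000000000b79dbb000000000036e7b900000000000db7b9))))))

def pathTB4 : Bst := (.node 144 (.node 136 (.node 132 (.node 130 (.node 129 (.leaf 0x3bb79000000000000bb9e0000000000027b77000000000009eddd) (.leaf 0x76dee00000000001db7bb00000000000bbb67000000000002d9dd)) (.node 131 (.leaf 0x7b677600000000001bbb67000000001bb67b670000000000079dee) (.leaf 0x6ed9e0000000001edd9db00000000076dee770000000001db7b9d))) (.node 134 (.node 133 (.leaf 0x7b767600000000001bb67b00000000000de76e00000000002777b9) (.leaf 0xedbb0000000000003b6e000000000009deee0000000000277bbb)) (.node 135 (.leaf 0x1b7b0000000006de77b70000000006eedde7000000000079eed9)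 (.leaf 0xb90000000000002e77000000000001bb7900000000007bb79d)))) (.node 140 (.node 138 (.node 137 (.leaf 0x3000000000000dbb900000000000002ed0000000000000b9e) (.leaf 0xdbbb9000000000000de77000000000036ddde0000000000000379)) (.node 139 (.leaf 0x1dbbb9d000000006ded9eed00000000000b777b0000000000006eee) (.leaf 0x9ddeee0000000000003b9d00000000001e77b6000000001b7bb76e))) (.node 142 (.node 141 (.leaf 0x2ddd9d00000000000379db0000000000027b76000000000003bb7b) (.leaf 0xb779e00000000000002ed0000000000002ee700000000000b6776)) (.node 143 (.leaf 0x19edbb00000000000002e700000000000b7bb7000000000002dedb) (.leaf 0x39edb00000000001edee700000000006ed9d9000000000000b7b9))))) (.node 152 (.node 148 (.node 146 (.node 145 (.leaf 0x6777b000000000001eedd00000000007b77bb00000000001eddee) (.leaf 0x19ded9d000000000067bb7b0000000002de77bb000000000006ddee)) (.node 147 (.leaf 0x9de000000001b777bb700000000000ede770000000000027777) (.leaf 0x9eed0000000002eedeed0000000001b776e700000000000003b7))) (.node 150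 (.node 149 (.leaf 0xb77b67b0000000001bbb77b00000000002776de000000000039dedd) (.leaf 0xd9ded9000000000000bb6e0000000000009dd90000000000003b76)) (.node 151 (.leaf 0x2d9ddb0000000000000bb900000000000b67bb000000000002ddb7) (.leaf 0x7b7bb000000001bb67677000000000007bb67000000000000b77b)))) (.node 156 (.node 154 (.node 153 (.leaf 0xbb67bb900000000001db776000000000000b77600000000000007bb) (.leaf 0x790000000006deee7600000000002ed9db000000000001d9dd)) (.node 155 (.leaf 0xb7900000000000036e70000000001d9eede00000000019dedde) (.leaf 0x1dbbb000000000000d9de000000000677767b0000000000000db7))) (.node 158 (.node 157 (.leaf 0xdede000000000003b7770000000001b76777000000002ddeeded) (.leaf 0x39db000000000039dede000000000001b76e0000000002ed9de7)) (.node 159 (.leaf 0xe77000000000036767900000000000b79dd000000000002dddb) (.leaf 0x79edee000000000000076d000000000009dedb00000000000003bb))))))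

def pathTB5 : Bst := (.node 176 (.node 168 (.node 164 (.node 162 (.node 161 (.leaf 0x67b6e000000000002dee7000000000019d9ee000000000001b767) (.leaf 0x2deed000000000007b7670000000001bb67b90000000000019dbb)) (.node 163 (.leaf 0x3b6ee00000000000edbb90000000000000bb7000000000001bb6e) (.leaf 0x39ded900000000003b9de700000000000b77bb00000000007bb67b))) (.node 166 (.node 165 (.leaf 0x67b9e00000000000677b90000000000002eed0000000000000009) (.leaf 0x79e000000000006767900000000000019dd00000000000767b6)) (.node 167 (.leaf 0x2ed9ed000000000000b6ed000000000000019e000000000002ed9d) (.leaf 0x1ee000000000002dddb0000000000067b9d0000000000019dd9)))) (.node 172 (.node 170 (.node 169 (.leaf 0x6767bb70000000000067776000000000002eedd000000000000006e) (.leaf 0xb779d000000000007b79e00000000001edbb9000000000001db77)) (.node 171 (.leaf 0xb79db000000000002d9e700000000001db77b000000000bb67bb7) (.leaf 0x2ddde0000000000007b9d000000000027b776000000000001bbbb))) (.node 174 (.node 173 (.leaf 0xe77b6000000000039dbb6000000000006777700000000019ee7b7)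 (.leaf 0x3b60000000000003676000000000002dd9e0000000000009dee)) (.node 175 (.leaf 0xeee700000000000bbb7b000000000000036e00000000000000db) (.leaf 0xdee7b00000000000000ee000000000002ddd900000000000277b6))))) (.node 184 (.node 180 (.node 178 (.node 177 (.leaf 0x679d000000000019d9ed0000000000000b7b000000000002edde) (.leaf 0x367b9e0000000000b776e70000000000002ddb00000000000bb9db)) (.node 179 (.leaf 0xb79eed00000000000000b70000000000b79ede0000000000002ee7) (.leaf 0x9de7b0000000001edeede000000001b7bb776000000000076eede))) (.node 182 (.node 181 (.leaf 0xdeedb00000000002ee77b000000000003b77b0000000000b77bb7) (.leaf 0xbbb7900000000000001b600000000000d9d9e00000000000b776d)) (.node 183 (.leaf 0xde7b600000000000b677b00000000000ded9d000000000001e76e) (.leaf 0x1b76e700000000003676ee0000000000676ede00000000000b67b7)))) (.node 188 (.node 186 (.node 185 (.leaf 0x2dd9eee000000000001db9e0000000000b9eed900000000000b9eed) (.leaf 0x1d9eded0000000000002d9e000000000002d9ee00000000000bb6ee)) (.node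 187 (.leaf 0x19e77b0000000000b79dbb0000000006dd9edd000000000000bb6e) (.leaf 0xbbb70000000019dddbbb000000000002ddb70000000006767b7b))) (.node 190 (.node 189 (.leaf 0x67b6ee000000000019dbb70000000000000027000000001d9ddb7b) (.leaf 0x277bb6000000000002d9db000000000002ded900000000001b79db)) (.node 191 (.leaf 0x1b777b700000000001bbb9d000000000000b6770000000000000de7) (.leaf 0x67b7b00000000002de7b700000000006deddd00000000001bb677))))))

def pathTB6 : Bst := (.node 208 (.node 200 (.node 196 (.node 194 (.node 193 (.leaf 0xb779e00000000009ddb7b0000000000b79dee000000000007bb6e) (.leaf 0x1edb00000000000000b6000000000002d9ed0000000000000e7b)) (.node 195 (.leaf 0xedd9e000000000007b9ee000000000002776e000000000067779e) (.leaf 0x2eedee000000000003bb9e0000000000b776ee0000000002dddbb6))) (.node 198 (.node 197 (.leaf 0x6dee760000000006deddb700000000002ede7600000000000bbb6e) (.leaf 0xee777600000000006de77b0000000000002dde000000000001eed9)) (.node 199 (.leaf 0x2d9de70000000000001b7900000000000bb9db00000000003b9ddd)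 (.leaf 0x1ede000000000007b6790000000002dddb9e00000000000b7676)))) (.node 204 (.node 202 (.node 201 (.leaf 0x2d9e70000000000277b9d00000000007b79de0000000000b7b6ee) (.leaf 0x2dde7600000000000b779d000000000000b67b000000000000bb79)) (.node 203 (.leaf 0x1ed9000000000001eede00000000000db7b6000000000036e7b6) (.leaf 0x6eded000000000000bb7700000000002dd9e70000000000002dee))) (.node 206 (.node 205 (.leaf 0x6dd9dd00000000019ddd9e0000000000009dde000000000003b79e) (.leaf 0x367b6000000000002dee700000000003677b6000000000002de76)) (.node 207 (.leaf 0x6767bb6000000000001db76000000000003bb670000000000002eed) (.leaf 0x6ed9ed900000000006deed90000000000b76dee00000000001e77bb))))) (.node 216 (.node 212 (.node 210 (.node 209 (.leaf 0x67760000000000019ee70000000002776dee0000000000000b76) (.leaf 0x2779e00000000002de77b00000000007676ee0000000000019edd)) (.node 211 (.leaf 0xb76e00000000000d9dde000000000002ee76000000000000edde) (.leaf 0xb67b00000000000002d90000000000000bb6000000000002edbb))) (.node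 214 (.node 213 (.leaf 0x2dded9000000000006eedd0000000000007bb700000000000b7767) (.leaf 0x9e700000000000009db0000000000007b790000000000b779db)) (.node 215 (.leaf 0x39d0000000000000e76000000000000279d000000000003b7bb) (.leaf 0x2eedee00000000000006ee00000000000006de0000000001b79ded)))) (.node 220 (.node 218 (.node 217 (.leaf 0x67776ee00000000076776de00000000000009ee00000000002eedde) (.leaf 0x2de76ed000000000000767b00000000000677b6000000000001d9de)) (.node 219 (.leaf 0x6dedd00000000007b7bb7000000000001eddd000000000bb9eed9) (.leaf 0x3b79d0000000000009ddd0000000001bb67770000000006deeddd))) (.node 222 (.node 221 (.leaf 0x2db000000000000039e0000000000b779db00000000002dde77) (.leaf 0x1b7b76d0000000001b7b9db0000000000000d9e0000000000036ede)) (.node 223 (.leaf 0x7bb7900000000006eed9d00000000006edd9e000000000001bb7b) (.leaf 0x1eeded000000000001b7760000000002ee7bb9000000000007b776))))))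

def pathTB7 : Bst := (.node 240 (.node 232 (.node 228 (.node 226 (.node 225 (.leaf 0xbb676e0000000002dd9ede000000000009edee0000000000027b7b) (.leaf 0x19d900000000000bb9ee000000000003b9ee00000000000001d9)) (.node 227 (.leaf 0x67670000000000006dd90000000001b79dee00000000002d9dde) (.leaf 0x6eeddd0000000002dded9d00000000000b76ed00000000019dd9d9))) (.node 230 (.node 229 (.leaf 0x27b6e000000000b767bbb00000000002dddb900000000000001ed) (.leaf 0x27b600000000002d9eed0000000001ede77600000000019eee77)) (.node 231 (.leaf 0x19ed000000000067679d0000000000b79eee0000000000bb6eed) (.leaf 0xedb00000000000277bb00000000000079ed00000000002ed9dd)))) (.node 236 (.node 234 (.node 233 (.leaf 0xb79dddb0000000000027bb6000000000002ee7600000000000b6779) (.leaf 0x2de777000000000000b79e00000000001ede76000000000002dedb)) (.node 235 (.leaf 0x7b000000000007b9de00000000000d9dee0000000000e77b7b) (.leaf 0xb776e000000000000edee000000000000027600000000000b67b9))) (.node 238 (.node 237 (.leaf 0x27b77000000000007676e000000000076776d000000000067776e)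 (.leaf 0x67b9ed0000000000019ddd00000000019dedee00000000001e7bbb)) (.node 239 (.leaf 0x2ed9ee0000000000b6779e00000000000076ee00000000002ddb9d) (.leaf 0x37b9d000000000002777b000000000027b76e00000000000079dd))))) (.node 248 (.node 244 (.node 242 (.node 241 (.leaf 0x19d9ed9e000000000000b9dd00000000000019db0000000000003bb7) (.leaf 0x2de7b70000000002de7bb6000000000000002d00000000000039ee)) (.node 243 (.leaf 0x2de7b00000000003677bb00000000000009d900000000000279de) (.leaf 0xb9eee000000000001db9d00000000000b79dd000000000019eed9))) (.node 246 (.node 245 (.leaf 0x27b77bb0000000000007677000000000019dede00000000001d9eee) (.leaf 0x1ee7700000000002d9ed9000000000006edee00000000000677bb)) (.node 247 (.leaf 0x677b7b0000000000007b77000000000000019d0000000000067676) (.leaf 0xb76edd000000001b7bb7790000000002ee7bb600000000002ddedd)))) (.node 252 (.node 250 (.node 249 (.leaf 0x1d9ddd900000000002ded9d00000000002dbb77000000001db777b7) (.leaf 0x76dde00000000001e7b670000000002ed9eee0000000000079dde))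 (.node 251 (.leaf 0x1b7bb77b0000000001eddded0000000002ed9eed000000000bb67767) (.leaf 0xb6e000000000002ed9e00000000002dddee0000000000001bbb))) (.node 254 (.node 253 (.leaf 0x2de76e000000000000b76d000000000001bbb900000000002ddded) (.leaf 0x2776ed0000000000edd9ed00000000002eee760000000000367b77)) (.node 255 (.leaf 0x2eeed00000000000bbbb600000000002ddbb70000000000b76edb) (.leaf 0xeed9e000000000000bbb60000000000002ddd000000000036776d))))))

def pathTB8 : Bst := (.node 272 (.node 264 (.node 260 (.node 258 (.node 257 (.leaf 0x76e00000000000000bb000000000000002e00000000019d9ed9) (.leaf 0x2ddbb700000000001eeede000000000001bb760000000000767776)) (.node 259 (.leaf 0xe7b900000000000367b900000000002dee76000000000000000b) (.leaf 0x9ed00000000000027b900000000000379ed000000000027b767))) (.node 262 (.node 261 (.leaf 0x2e7bb900000000000076e700000000019edeed0000000006deddb9) (.leaf 0x1bbb6770000000001bb767b0000000000b7b6760000000000b6edde)) (.node 263 (.leaf 0xd9deed00000000000d9ddb0000000000000b7700000000000b79ed)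 (.leaf 0x2de7760000000000279dee0000000000009d9e00000000002ddbb6)))) (.node 268 (.node 266 (.node 265 (.leaf 0xbb67b7000000000002dbb70000000000067bb90000000000677679) (.leaf 0xb76e700000000002d9edb0000000000009ded000000000000003b)) (.node 267 (.leaf 0x7b677700000000001edded00000000007b77b70000000000b767b7) (.leaf 0xb679000000000002de76000000000019edee0000000000b79ede))) (.node 270 (.node 269 (.leaf 0x7677b0000000001b7b67600000000000001e700000000000bb676) (.leaf 0x3bb7700000000003b7679000000000002deee0000000000bb9eee)) (.node 271 (.leaf 0x9ede700000000000276760000000000076e7b0000000000b779ed) (.leaf 0x6deed00000000019dd9de00000000000dbb7b000000000000367b))))) (.node 280 (.node 276 (.node 274 (.node 273 (.leaf 0x6ed9ded000000000006ede70000000001eede77000000001b7b776d) (.leaf 0x3677b0000000000002de70000000006dddeed00000000006dddb9)) (.node 275 (.leaf 0x1eded0000000000b67bbb00000000001db9de00000000001d9ddd) (.leaf 0xb76ede000000000000b7bb0000000000002edd0000000000bb9ede)))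 (.node 278 (.node 277 (.leaf 0x2ee00000000000027b70000000000000bb600000000002deede) (.leaf 0x9edbb0000000002dd9eee000000000000000b00000000000b79ee)) (.node 279 (.leaf 0x27b6e000000000009ed9e000000000000b76d000000000002d9ee) (.leaf 0xb79ed00000000000006790000000000019d9e0000000000019ede)))) (.node 284 (.node 282 (.node 281 (.leaf 0x1bb79ee0000000002dbb77b000000000001e7b60000000000bb6776) (.leaf 0x19eede0000000000b79dee000000000002e7bb000000000000b9db)) (.node 283 (.leaf 0x67b000000000019d9e7000000000019ddb900000000000067b6) (.leaf 0x67776700000000001edbbb0000000000b79ded000000000019edde))) (.node 286 (.node 285 (.leaf 0x76ddde000000002ddbb7b600000000001b7bb70000000001e77b79) (.leaf 0xb7b9d000000000076776e0000000002e7bbb7000000000007b76e)) (.node 287 (.leaf 0xdb7770000000000009dbb00000000000002770000000000000ede) (.leaf 0x1e7bb670000000001bbb779000000000000db7600000000000379de))))))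

def pathTB9 : Bst := (.node 304 (.node 296 (.node 292 (.node 290 (.node 289 (.leaf 0xb79eeed000000000001bb9e00000000001e77b9000000006ed9ed9d) (.leaf 0x3676e0000000000006dde00000000007bb7b90000000006767b67)) (.node 291 (.leaf 0x2ee7b0000000000001dbb00000000000b7679000000000000d9d9) (.leaf 0x7b7b0000000002ee7b7900000000002dd9ee00000000000b6777))) (.node 294 (.node 293 (.leaf 0x19eed00000000000b79de000000000000bb9e00000000000002de) (.leaf 0x37b9e00000000000b77670000000002dd9ede0000000001ed9dde)) (.node 295 (.leaf 0x79eedbb000000000036eeed0000000001dbbb6e0000000000000ded) (.leaf 0xb76dedb000000000002ee77000000000000deed00000000007677b6)))) (.node 300 (.node 298 (.node 297 (.leaf 0x76eed000000000001e7790000000000006dee0000000001b7b679) (.leaf 0x1ee7b00000000000019ee000000000b77bb7b0000000000bb67b6)) (.node 299 (.leaf 0x6dd9ede0000000001d9edee000000000006776d00000000000b67b6) (.leaf 0x36ddd00000000000db9dd000000000000de7b0000000006deedde))) (.node 302 (.node 301 (.leaf 0x3bbb70000000000000eee00000000079dedee0000000000277bb7)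 (.leaf 0x6deedd000000000079dede00000000000bbb67000000000000001b)) (.node 303 (.leaf 0xb76ee000000000019dd9d00000000001bb9db00000000019dbb79) (.leaf 0x1eddede70000000007b77b670000000001e7bb6e0000000006eed9dd))))) (.node 312 (.node 308 (.node 306 (.node 305 (.leaf 0xb776e7000000002dd9ede700000000000007b7000000000079ed9e) (.leaf 0x2edd900000000000bbb9d0000000000d9edde00000000000b7bb9)) (.node 307 (.leaf 0x1bb000000000006eee7000000000007b6ed0000000000019dde) (.leaf 0x9eddb900000000000d9edd0000000000b777b700000000000bbb77))) (.node 310 (.node 309 (.leaf 0x2edbbb0000000000bb6eed0000000000367b76000000000000eedd) (.leaf 0x1b777b00000000006dd9d9000000000001eedb000000000002dde7)) (.node 311 (.leaf 0x1d9ddb00000000019dddb90000000000006eed00000000002ddedb) (.leaf 0x7b7b9e0000000000079eee0000000002ed9dee00000000001bb679)))) (.node 316 (.node 314 (.node 313 (.leaf 0x1ede7700000000002dedbb0000000002ed9edb000000000001b76d) (.leaf 0x2de7bb90000000000009ed9000000000002dd9d00000000001ed9d9))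 (.node 315 (.leaf 0x1eeed0000000002deddde000000000001b7b9000000000001bb77) (.leaf 0x9ede000000000002de7b00000000001d9ede00000000006dd9ed))) (.node 318 (.node 317 (.leaf 0x19dbb7b000000000006ddb900000000002d9ee700000000001ee77b) (.leaf 0x6ded9e0000000000b7b77600000000002ee7b7000000000000b7b7)) (.node 319 (.leaf 0x6776e0000000000019ed9000000000000b7770000000000007bbb) (.leaf 0x2eee770000000000bbb9de0000000000277b670000000000000ee7))))))

def pathTB10 : Bst := (.node 336 (.node 328 (.node 324 (.node 322 (.node 321 (.leaf 0x36ddb000000000000276e00000000000eedde0000000000edd9d9) (.leaf 0x19ee77000000000027776e0000000001edded9000000000b79ddde)) (.node 323 (.leaf 0x9dddb0000000007b77b79000000000009d9d9000000000027b79d) (.leaf 0x1e7b00000000000bb6770000000000006ded0000000000067767))) (.node 326 (.node 325 (.leaf 0x2edbbb00000000000b67bb000000000007b77b0000000001eddedd) (.leaf 0x79ded9000000006deeddb9000000000006edd900000000007bbb79)) (.node 327 (.leaf 0x9edbb000000000009edd900000000006767bb0000000000001db7)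 (.leaf 0x2eee00000000000eeedb000000000027b67b00000000000de7b7)))) (.node 332 (.node 330 (.node 329 (.leaf 0x1db7bb90000000000076ded00000000002ddb9e0000000000b67b6e) (.leaf 0x76eee000000001b7b67b9000000000001b77b0000000001b767b9)) (.node 331 (.leaf 0x6eedb00000000000001b70000000000019dee00000000001bb7bb) (.leaf 0xee7b790000000002ddedbb00000000000ee7bb0000000000bbb677))) (.node 334 (.node 333 (.leaf 0x9e77b90000000000027679000000000000bbb900000000003bb79e) (.leaf 0x1eddedee00000000076ddded0000000001e77b7700000000079eed9e)) (.node 335 (.leaf 0x1eddb0000000000079ed900000000002dee760000000002ed9dd9) (.leaf 0x1edeed000000000b77bb760000000000000677000000000019d9db))))) (.node 344 (.node 340 (.node 338 (.node 337 (.leaf 0x277b00000000000000ed00000000001bb79e0000000007bb79de) (.leaf 0x1e770000000000bb676700000000000b76ed00000000002ddbb6)) (.node 339 (.leaf 0x67767700000000001eede70000000000006ede00000000001b7bb6) (.leaf 0x9eee00000000000000270000000000003b9e00000000002dd9ed)))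 (.node 342 (.node 341 (.leaf 0x2de7b60000000000edd9ee00000000000b676e000000000002d9de) (.leaf 0x3b9dd00000000000067b7000000000003b9db000000000009ddee)) (.node 343 (.leaf 0x9ee00000000000b7b670000000001b7bb9d0000000000076776) (.leaf 0x1b7b60000000002de77770000000000b6eddd000000000000027b)))) (.node 348 (.node 346 (.node 345 (.leaf 0x7bb7b000000000000036d00000000007677770000000000000db9) (.leaf 0x3b776d000000000003bb76000000000006ddd90000000002ddbb7b)) (.node 347 (.leaf 0x1edd9dd0000000000009edb00000000000bbb760000000000000eed) (.leaf 0x2dedbb000000000000ded90000000002de7bbb00000000006deede))) (.node 350 (.node 349 (.leaf 0x36e77900000000000db779000000000037bbb6000000000000b779) (.leaf 0x27b9e0000000000009ede0000000000027b670000000000009edb)) (.node 351 (.leaf 0xdee700000000001b7b76000000000000e7b600000000000000b9) (.leaf 0x39deed0000000000002d9e000000000000b67900000000067767b9))))))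

def pathTB11 : Bst := (.node 368 (.node 360 (.node 356 (.node 354 (.node 353 (.leaf 0x7b760000000000b7b9db00000000000bb6ee000000000009dded) (.leaf 0x2ddb7b00000000000b776d0000000000009edd00000000001d9dbb)) (.node 355 (.leaf 0x6de77b90000000000001b7600000000000007b900000000001b7bb9) (.leaf 0x679dd00000000000b679d0000000000b767bb000000000019dee7))) (.node 358 (.node 357 (.leaf 0x1b777bb000000000002d9db0000000006deedd9000000000079dedd) (.leaf 0x277b90000000000000ed900000000001b776e0000000000000b79)) (.node 359 (.leaf 0x19d9eee00000000000076de00000000009e77bb00000000000676ed) (.leaf 0x2ed9000000000006de7600000000000027b60000000000009ed9)))) (.node 364 (.node 362 (.node 361 (.leaf 0xb67bb7000000000076e7b600000000002ed9de00000000000079ee) (.leaf 0xb77b6e000000000001bbb600000000001eeddb000000000001ed9e)) (.node 363 (.leaf 0x2dd9e0000000000bbb779000000000006dddb00000000007bb7b7) (.leaf 0x3b9dee00000000009ede770000000000001bb9000000000001ed9d))) (.node 366 (.node 365 (.leaf 0xe7b67000000000027676700000000000000bb00000000000ee777)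 (.leaf 0x7b7b90000000001bb67670000000000677b6e0000000000000767)) (.node 367 (.leaf 0x2e760000000000076e77000000000019dbbb0000000000001bb6) (.leaf 0x9ddb000000000003b76700000000002e7bbb000000000000b9ee))))) (.node 376 (.node 372 (.node 370 (.node 369 (.leaf 0xedddb0000000000bb9edd000000000002dedd00000000000eedd9) (.leaf 0x2ed900000000000000b600000000001d9eed000000000019dedd)) (.node 371 (.leaf 0x6ded9d900000000006ed9ed00000000000b679d000000000002d9ed) (.leaf 0xb77b6700000000001bbb770000000001e77bb600000000001d9ded))) (.node 374 (.node 373 (.leaf 0x1e77b7b0000000006deeddb0000000000079ded0000000001b7bb77) (.leaf 0x1d9dbbb0000000000002dee0000000006dddede00000000006eee76)) (.node 375 (.leaf 0x36767b00000000002dddb900000000003676760000000000067b77) (.leaf 0xbb9ee00000000000ee77b00000000003b9dde00000000000bbb9e)))) (.node 380 (.node 378 (.node 377 (.leaf 0x79eed0000000002ed9ded0000000000677b6700000000000767b7) (.leaf 0x6ee7b0000000006767b790000000000b767b900000000001bb767)) (.node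 379 (.leaf 0x1d9eedee00000000007b777b0000000001eddede00000000007b77b6) (.leaf 0x1edeee000000000b77b67700000000001e7bb9000000000bb677b9))) (.node 382 (.node 381 (.leaf 0xdb7b0000000000036e7b0000000000006ddb000000000bb6779e) (.leaf 0x9deed90000000000002ddb000000000000ede70000000000002777)) (.node 383 (.leaf 0xbb679000000001b7b67bb000000000000379d0000000000036777) (.leaf 0x6767b00000000000019e7000000000076eee70000000000001e76))))))

def pathTB12 : Bst := (.node 400 (.node 392 (.node 388 (.node 386 (.node 385 (.leaf 0xe77bb6000000000002edbb0000000002777bbb000000000000ee77) (.leaf 0x767bb70000000000677b770000000000076ddd0000000019d9eedd)) (.node 387 (.leaf 0x19dd9e000000000067b9de000000000009eedb0000000002de7776) (.leaf 0xeede7000000000006dee700000000003b9ede00000000000ee7b7))) (.node 390 (.node 389 (.leaf 0x2eedd0000000000003bb6000000000002eed90000000002dddede) (.leaf 0x76eed90000000001b7b67b000000006dedddb70000000007b7bb79)) (.node 391 (.leaf 0xb9eeed00000000006ddded000000000001d9ee0000000000019ded)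 (.leaf 0xb79d000000000b767bb900000000001b767600000000001db9dd)))) (.node 396 (.node 394 (.node 393 (.leaf 0x37b00000000000dbbbb000000000002d9d900000000001bb9ee) (.leaf 0xbbb00000000000db9ed00000000000027b70000000000009ee7)) (.node 395 (.leaf 0x39deee000000000003b9ed0000000000036ded00000000000eed9d) (.leaf 0x7b6e000000000019dde700000000002dddbb0000000000b776ed))) (.node 398 (.node 397 (.leaf 0x2dded9e00000000006eedde00000000000bb9ed0000000000002ded) (.leaf 0x1b7b776000000000000b76e0000000000037bb7000000000000bb9d)) (.node 399 (.leaf 0x6dd9ee00000000000e77b900000000006ed9de00000000002ddb9d) (.leaf 0x1e7b7000000000039dbb9000000000002eede0000000000003bb9))))) (.node 408 (.node 404 (.node 402 (.node 401 (.leaf 0x2eedde70000000000006ee70000000002ddb7b6000000000001b7bb) (.leaf 0x6ed9ee000000000000b79e00000000000d9ded000000000000b79d)) (.node 403 (.leaf 0x1edd9d0000000000003bbb000000000000eeed0000000000002d9d) (.leaf 0x1eededb00000000002777bb000000000000ee76000000000001b777)))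 (.node 406 (.node 405 (.leaf 0xb767b790000000001b77bb600000000006767b900000000000001db) (.leaf 0xb6779d00000000002de76e0000000000009ee70000000002eedee7)) (.node 407 (.leaf 0x7bbb700000000001eddde00000000767bb7bb0000000000006edd) (.leaf 0xb776e00000000007b7b9d0000000000000b6e00000000000000e7)))) (.node 412 (.node 410 (.node 409 (.leaf 0x1b76767000000000006ddde00000000001bb6760000000000d9d9d9) (.leaf 0x19e77700000000002dd9ee000000000001bb6700000000019dbbb7)) (.node 411 (.leaf 0x19dd9ed000000000006dede0000000000039dbb000000000000e77b) (.leaf 0x2dd9e70000000000009edd0000000000027b9d0000000000036767))) (.node 414 (.node 413 (.leaf 0x2dd9ed00000000001ed9dd000000000006779e00000000002dd9db) (.leaf 0x1db777000000000b76eded000000002dd9eded000000000076dddb)) (.node 415 (.leaf 0x2de77700000000001b779e000000000001e77b000000000bb6767b) (.leaf 0x1eeedee00000000001bb76e000000000067b9db0000000000019de7))))))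

def pathTB13 : Bst := (.node 427 (.node 421 (.node 418 (.node 417 (.leaf 0xb76e7000000000002ddb900000000001dbbb90000000006ded9ee) (.leaf 0x767bb7b00000000006dddee00000000001b76790000000001edddee)) (.node 419 (.leaf 0x2d9d0000000000000d9d000000000000b676000000000000b767) (.node 420 (.leaf 0x79de0000000002ed9d9e00000000001b79de0000000000006de7) (.leaf 0x9d9d00000000000679de00000000019d9ede0000000000279ded)))) (.node 424 (.node 422 (.leaf 0x6776de0000000000019eee00000000006ddeee00000000001d9ee7) (.node 423 (.leaf 0x19eee700000000007bb7b60000000002dd9edd00000000000019de) (.leaf 0x2ed9eedd000000006deeddbb0000000000006ddd0000000000b79ddb))) (.node 425 (.leaf 0x67776d0000000001e76ee7000000000007b777000000000079dedb) (.node 426 (.leaf 0xb7b6e00000000000003670000000000b79eee000000000000dbb7) (.leaf 0x9ded90000000002de7b77000000000007b79d00000000000003b9))))) (.node 432 (.node 429 (.node 428 (.leaf 0x2dded000000000006eede0000000000002e7b0000000000000b9d) (.leaf 0xeddd00000000000b79db000000000002779d00000000003677b9))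 (.node 430 (.leaf 0x6deee00000000000006760000000000019d9d0000000000d9dedb) (.node 431 (.leaf 0xbb700000000001db9ed0000000000002edb0000000000b76ded) (.leaf 0x1b77bb000000000677b67700000000000002e700000000002dde7b)))) (.node 435 (.node 433 (.leaf 0x676ede7000000000006ee76000000000000bb6700000000000002db) (.node 434 (.leaf 0x39ded00000000000e76ed000000000000deee00000000000037bb) (.leaf 0xd9ee00000000001b7b67000000000001b79e00000000002deddd))) (.node 436 (.leaf 0xb7bbb000000000006de77000000000677b7790000000000b77bb6) (.node 437 (.leaf 0x1edde0000000000bb9eed00000000001d9dde000000000b76edd9) (.leaf 0xb767b7b60000000001db776e))))))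

/-- Conjugating words from the roots. -/
def pathT : Tab := ⟨(.node 224 (.node 96 (.node 32 pathTB0 (.node 64 pathTB1 pathTB2)) (.node 160 (.node 128 pathTB3 pathTB4) (.node 192 pathTB5 pathTB6))) (.node 320 (.node 256 pathTB7 (.node 288 pathTB8 pathTB9)) (.node 384 (.node 352 pathTB10 pathTB11) (.node 416 pathTB12 pathTB13)))), 64, 2⟩

def labTB0 : Bst := (.node 16 (.node 8 (.node 4 (.node 2 (.node 1 (.leaf 0x1000101010101) (.leaf 0x10001010001)) (.node 3 (.leaf 0x10101010101) (.leaf 0))) (.node 6 (.node 5 (.leaf 0x101010101010000) (.leaf 0x1010001010101)) (.node 7 (.leaf 0x10001010001) (.leaf 0x100000000)))) (.node 12 (.node 10 (.node 9 (.leaf 0x101010000010100) (.leaf 0x101000101010101)) (.node 11 (.leaf 0x1010101010101) (.leaf 0x100000100010100))) (.node 14 (.node 13 (.leaf 0x101000001000100) (.leaf 0x101010100010000)) (.node 15 (.leaf 0x100000000000001) (.leaf 0x1000001000101))))) (.node 24 (.node 20 (.node 18 (.node 17 (.leaf 0x101010101000101) (.leaf 0x101)) (.node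 19 (.leaf 0x101010001010100) (.leaf 0x10101010101))) (.node 22 (.node 21 (.leaf 0x101010000000001) (.leaf 0x10101010101)) (.node 23 (.leaf 0) (.leaf 0x101010101010000)))) (.node 28 (.node 26 (.node 25 (.leaf 0x1010101) (.leaf 0)) (.node 27 (.leaf 0) (.leaf 0x101010100000000))) (.node 30 (.node 29 (.leaf 0x101010101010101) (.leaf 0x101010101010101)) (.node 31 (.leaf 0x101010101010101) (.leaf 0x101010101010101))))))

def labTB1 : Bst := (.node 48 (.node 40 (.node 36 (.node 34 (.node 33 (.leaf 0x101010101010101) (.leaf 0x101010101010101)) (.node 35 (.leaf 0x1010101) (.leaf 0x1000100000000))) (.node 38 (.node 37 (.leaf 0x10001010001) (.leaf 0x101010101010101)) (.node 39 (.leaf 0x101010101010101) (.leaf 0x101010101010101)))) (.node 44 (.node 42 (.node 41 (.leaf 0x101010101010101) (.leaf 0x101010101010101)) (.node 43 (.leaf 0x101000000000101) (.leaf 0x101010101010101))) (.node 46 (.node 45 (.leaf 0x1010101) (.leaf 0x101010101010000)) (.node 47 (.leaf 0) (.leaf 0x1010101010000)))))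 (.node 56 (.node 52 (.node 50 (.node 49 (.leaf 0x101010100000100) (.leaf 0x101010101010101)) (.node 51 (.leaf 0x101000000000101) (.leaf 0x10100000000))) (.node 54 (.node 53 (.leaf 0x101010101010101) (.leaf 0x101010101010101)) (.node 55 (.leaf 0x101010101010101) (.leaf 0x101010000000101)))) (.node 60 (.node 58 (.node 57 (.leaf 0x1) (.leaf 0)) (.node 59 (.leaf 0x101000001010101) (.leaf 0x101000000000101))) (.node 62 (.node 61 (.leaf 0x100000000000000) (.leaf 0x101000100000101)) (.node 63 (.leaf 0x101010101010101) (.leaf 0x101))))))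

def labTB2 : Bst := (.node 80 (.node 72 (.node 68 (.node 66 (.node 65 (.leaf 0x101000000000000) (.leaf 0x101010101010101)) (.node 67 (.leaf 0x1010000) (.leaf 0x101010101010101))) (.node 70 (.node 69 (.leaf 0x101) (.leaf 0x10101010101)) (.node 71 (.leaf 0) (.leaf 0x1010101000000)))) (.node 76 (.node 74 (.node 73 (.leaf 0x101010101010101) (.leaf 0x101010000010000)) (.node 75 (.leaf 0x1010000) (.leaf 0x101010100000000))) (.node 78 (.node 77 (.leaf 0x101010101010101) (.leaf 0x100010000000101)) (.node 79 (.leaf 0x10100000101) (.leaf 0x101000000000000))))) (.node 88 (.node 84 (.node 82 (.node 81 (.leaf 0x1010101010101) (.leaf 0x10100000001)) (.node 83 (.leaf 0x101010101010101) (.leaf 0x101010101010101))) (.node 86 (.node 85 (.leaf 0x101010101010101) (.leaf 0x101010101010101)) (.node 87 (.leaf 0x101) (.leaf 0)))) (.node 92 (.node 90 (.node 89 (.leaf 0x10101010000) (.leaf 0x1010100010001)) (.node 91 (.leaf 0x101000000000001) (.leaf 0x100010000000001))) (.node 94 (.node 93 (.leaf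 0x101010100010101) (.leaf 0x101010101010101)) (.node 95 (.leaf 0x10101010101) (.leaf 0x101010101010000))))))

def labTB3 : Bst := (.node 112 (.node 104 (.node 100 (.node 98 (.node 97 (.leaf 0x100010001000001) (.leaf 0x10001)) (.node 99 (.leaf 0x1010101010000) (.leaf 0x101010100010000))) (.node 102 (.node 101 (.leaf 0x101) (.leaf 0x100010001010000)) (.node 103 (.leaf 0x1010000) (.leaf 0x101010101010000)))) (.node 108 (.node 106 (.node 105 (.leaf 0x10101010001) (.leaf 0x101010100000100)) (.node 107 (.leaf 0x10101010101) (.leaf 0x101010100000000))) (.node 110 (.node 109 (.leaf 0x101010101010101) (.leaf 0x10101010101)) (.node 111 (.leaf 0x101000000000000) (.leaf 0x101010101010101))))) (.node 120 (.node 116 (.node 114 (.node 113 (.leaf 0x100000101000000) (.leaf 0x101010101010100)) (.node 115 (.leaf 0x101010101010101) (.leaf 0x10101010101))) (.node 118 (.node 117 (.leaf 0x10101010000) (.leaf 0x100000101010000)) (.node 119 (.leaf 0x101010101010101) (.leaf 0x101000100)))) (.node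 124 (.node 122 (.node 121 (.leaf 0x1010100) (.leaf 0x101010100000000)) (.node 123 (.leaf 0x101010101010101) (.leaf 0x101010101010101))) (.node 126 (.node 125 (.leaf 0x101010101010101) (.leaf 0x101010101010101)) (.node 127 (.leaf 0x1010101) (.leaf 0))))))

def labTB4 : Bst := (.node 144 (.node 136 (.node 132 (.node 130 (.node 129 (.leaf 0x101010101010101) (.leaf 0)) (.node 131 (.leaf 0x101010101010101) (.leaf 0x100000100000000))) (.node 134 (.node 133 (.leaf 0x1010101) (.leaf 0x101010101010101)) (.node 135 (.leaf 0x10101010101) (.leaf 0x101000000000101)))) (.node 140 (.node 138 (.node 137 (.leaf 0x10101010101) (.leaf 0x100000101010101)) (.node 139 (.leaf 0x101010101010000) (.leaf 0x101010100000000))) (.node 142 (.node 141 (.leaf 0x101010101010101) (.leaf 0x101010101010101)) (.node 143 (.leaf 0x101010101010101) (.leaf 0x101000000000000))))) (.node 152 (.node 148 (.node 146 (.node 145 (.leaf 0x1010101010101) (.leaf 0x101000000010000)) (.node 147 (.leaf 0x10101010101) (.leaf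 0x100000101000100))) (.node 150 (.node 149 (.leaf 0x101010101010101) (.leaf 0x101010101)) (.node 151 (.leaf 0x101010100000100) (.leaf 0x101010101010101)))) (.node 156 (.node 154 (.node 153 (.leaf 0x1010101) (.leaf 0x10101010101)) (.node 155 (.leaf 0x101010100000000) (.leaf 0x101010101010101))) (.node 158 (.node 157 (.leaf 0x101010101010101) (.leaf 0x101010101010101)) (.node 159 (.leaf 0x101010101010101) (.leaf 0x1010101))))))

def labTB5 : Bst := (.node 176 (.node 168 (.node 164 (.node 162 (.node 161 (.leaf 0x100010100000000) (.leaf 0x101010100010000)) (.node 163 (.leaf 0x101010101010101) (.leaf 0x101))) (.node 166 (.node 165 (.leaf 0x101010101010000) (.leaf 0x1000101010101)) (.node 167 (.leaf 0x101010100000000) (.leaf 0x101010101010101)))) (.node 172 (.node 170 (.node 169 (.leaf 0x101000000000101) (.leaf 0x1010101)) (.node 171 (.leaf 0x1000001000000) (.leaf 0x101010000010101))) (.node 174 (.node 173 (.leaf 0x10101000100) (.leaf 0x10101010000)) (.node 175 (.leaf 0) (.leaf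 0x100010000))))) (.node 184 (.node 180 (.node 178 (.node 177 (.leaf 0x101010101010000) (.leaf 0x101010101010101)) (.node 179 (.leaf 0x10101010101) (.leaf 0x1000001010001))) (.node 182 (.node 181 (.leaf 0x101010101010101) (.leaf 0x10101010101)) (.node 183 (.leaf 0x101010100000000) (.leaf 0x10101010101)))) (.node 188 (.node 186 (.node 185 (.leaf 0x101010100010100) (.leaf 0x101010101010000)) (.node 187 (.leaf 0x101010101010101) (.leaf 0x100000000000001))) (.node 190 (.node 189 (.leaf 0x101010101010101) (.leaf 0x101010101010101)) (.node 191 (.leaf 0x101) (.leaf 0x101010101010000))))))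

def labTB6 : Bst := (.node 205 (.node 198 (.node 195 (.node 193 (.leaf 0x101010100000000) (.node 194 (.leaf 0x1000001010101) (.leaf 0x101010100000001))) (.node 196 (.leaf 0x101010101010101) (.node 197 (.leaf 0x101) (.leaf 0x101000000000000)))) (.node 201 (.node 199 (.leaf 0x101000001010101) (.node 200 (.leaf 0x100000001000101) (.leaf 0x101000001010101))) (.node 203 (.node 202 (.leaf 0x100000101000001) (.leaf 0x10101010101)) (.node 204 (.leaf 0x1000001010101) (.leaf 0x101010101010100))))) (.node 212 (.node 208 (.node 206 (.leaf 0x1010000) (.node 207 (.leaf 0x101010101010101) (.leaf 0x101010101010101))) (.node 210 (.node 209 (.leaf 0x101010101010101) (.leaf 0x101010100000000)) (.node 211 (.leaf 0x101010100010100) (.leaf 0x101010101010101)))) (.node 215 (.node 213 (.leaf 0x100000001010101) (.node 214 (.leaf 0x101010100000100) (.leaf 0x101010000000000))) (.node 217 (.node 216 (.leaf 0x101010101010001) (.leaf 0x1010101)) (.node 218 (.leaf 0x1010100010101) (.leaf 0x10101010101))))))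

/-- The classes. -/
def labT : Tab := ⟨(.node 96 (.node 32 labTB0 (.node 64 labTB1 labTB2)) (.node 160 (.node 128 labTB3 labTB4) (.node 192 labTB5 labTB6))), 8, 3⟩

def eTB0 : Bst := (.node 16 (.node 8 (.node 4 (.node 2 (.node 1 (.leaf 0) (.leaf 0x80000000000000000000000000000000000000000008c00000000000000000000000)) (.node 3 (.leaf 0x8c00000000000000000000000) (.leaf 0x8c00000000000000000000230000000000000000000000000000000000000000000001))) (.node 6 (.node 5 (.leaf 0) (.leaf 0x180000000000000000000230000000000000000000000000000000000000000000000)) (.node 7 (.leaf 0x8c00000000000000000000230000000000000000000000040000000000000000000230) (.leaf 0x400000000367767bb6c0002000000000000000000008c00000000000000000000230)))) (.node 12 (.node 10 (.node 9 (.leaf 0x8c00000000000000000000230) (.leaf 0)) (.node 11 (.leaf 0) (.leaf 0x8c00000000000000000000000000000000000000000000000000000000000000000230))) (.node 14 (.node 13 (.leaf 0x8c00000000000000000000000) (.leaf 0x7777000080000000000000000000230000000000000000000000000000000000000000000230))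 (.node 15 (.leaf 0x8c00000000000000000000230000000000000000000008c00000000000000000000230) (.leaf 0x8c00000000000000000000230000000000000000000000040000000000000000000000))))) (.node 24 (.node 20 (.node 18 (.node 17 (.leaf 0x40000000000000000000000000000000000000000000000000000000000000000230) (.leaf 0x1)) (.node 19 (.leaf 0) (.leaf 0x8c00000000000000000000000))) (.node 22 (.node 21 (.leaf 0) (.leaf 0x19e777bb6000080000000000000000000000000000000000000000000000000000000000000000000)) (.node 23 (.leaf 0x8c000000000000000000000000000000000000000000000000000000003b67b7b80002) (.leaf 0x230000000000000000000008c00000000000000000000000)))) (.node 28 (.node 26 (.node 25 (.leaf 0x230000000000000000000000000000000000000000000230) (.leaf 0x8c00000000000000000000230)) (.node 27 (.leaf 0x8c00000000000000000000000000000000000000000008c00000000000000000000230) (.leaf 0))) (.node 30 (.node 29 (.leaf 0x8c00000000000000000000001000000000000000000008c00000000000000000000000) (.leaf 0xdedddedc0002000000000000000000008c00000000000000000000230))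 (.node 31 (.leaf 0x1000000000000000000000000000000000000000000000) (.leaf 0x6dddeeddde000080000000000000000000000000000000000000000008c00000000000000000000230))))))

def eTB1 : Bst := (.node 48 (.node 40 (.node 36 (.node 34 (.node 33 (.leaf 0x230000000000000000000000000000000000000000000000) (.leaf 0)) (.node 35 (.leaf 0x8c00000000000000000000230000000000000000000000000000000000000000000000) (.leaf 0x79edd9d9e00008000000000000000000000100000000000000000000004000000000000000000000a))) (.node 38 (.node 37 (.leaf 0xe7b7676780002) (.leaf 0x1)) (.node 39 (.leaf 0) (.leaf 0x8c00000000000000000000230000000000000000000000000000000000000000000000)))) (.node 44 (.node 42 (.node 41 (.leaf 0x8c00000000000000000000230000000000000000000008c00000000000000000000000) (.leaf 0x230)) (.node 43 (.leaf 0) (.leaf 0x8c00000000000000000000230000000000000000000000000000000000000000000000))) (.node 46 (.node 45 (.leaf 0x8c0000000000000000000023000000000000000000000004000000000679ddeed80006) (.leaf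 0x8c00000000000000000000230000000000000000000008c00000000000000000000230)) (.node 47 (.leaf 0x8c00000000000000000000230) (.leaf 0))))) (.node 56 (.node 52 (.node 50 (.node 49 (.leaf 0) (.leaf 0x8c00000000000000000000230000000000000000000008c00000000000000000000230)) (.node 51 (.leaf 0x8c00000000000000000000230000000000000000000008c00000000000000000000230) (.leaf 0x8c00000000000000000000230000000000000000000008c00000000000000000000230))) (.node 54 (.node 53 (.leaf 0x8c00000000000000000000230000000000000000000008c00000000000000000000230) (.leaf 0x8c00000000000000000040002000000000000000000008c00000000000000000000001)) (.node 55 (.leaf 0x39ddb7b77000080000000000000000000230000000000000000000008c00000000000000000000001) (.leaf 0)))) (.node 60 (.node 58 (.node 57 (.leaf 0) (.leaf 0)) (.node 59 (.leaf 0) (.leaf 0))) (.node 62 (.node 61 (.leaf 0) (.leaf 0)) (.node 63 (.leaf 0) (.leaf 0))))))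

def eTB2 : Bst := (.node 80 (.node 72 (.node 68 (.node 66 (.node 65 (.leaf 0) (.leaf 0)) (.node 67 (.leaf 0) (.leaf 0))) (.node 70 (.node 69 (.leaf 0) (.leaf 0x379eede7b000080000000000000000000001000000000000000000008c00000000000000000000230)) (.node 71 (.leaf 0x40000000002dedd9dd80002000000000000000000008c00000000000000000000230) (.leaf 0x8c00000000000000000000000000000000000000000000700000000000000000000000)))) (.node 76 (.node 74 (.node 73 (.leaf 0x700000000000000000000000) (.leaf 0x8c00000000000000000000230000000000000000000000000000000000000000000230)) (.node 75 (.leaf 0) (.leaf 0))) (.node 78 (.node 77 (.leaf 0) (.leaf 0)) (.node 79 (.leaf 0) (.leaf 0))))) (.node 88 (.node 84 (.node 82 (.node 81 (.leaf 0) (.leaf 0)) (.node 83 (.leaf 0) (.leaf 0))) (.node 86 (.node 85 (.leaf 0x8c00000000000000000000230000000000000000000000000000000000000000000000) (.leaf 0x8c00000000000000000000230)) (.node 87 (.leaf 0) (.leaf 0)))) (.node 92 (.node 90 (.node 89 (.leaf 0) (.leaf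 0x8c00000000000000000000230000000000000000000008c00000000000000000000230)) (.node 91 (.leaf 0x8c00000000000000000000230) (.leaf 0))) (.node 94 (.node 93 (.leaf 0x400000000027bb7679c00060000000009dedd9ee7000180000000000000000000001) (.leaf 0x700000000000000000000230000000000000000000000700000000000000000000230)) (.node 95 (.leaf 0x8c00000000000000000000230) (.leaf 0x8c00000000000000000000000000000000000000000000000000000000000000000000))))))

def eTB3 : Bst := (.node 112 (.node 104 (.node 100 (.node 98 (.node 97 (.leaf 0x8c00000000000000000000230000000000000000000000000000000000000000000230) (.leaf 0)) (.node 99 (.leaf 0) (.leaf 0))) (.node 102 (.node 101 (.leaf 0x8c00000000000000000000230000000000000000000000000000000000000000000000) (.leaf 0x8c00000000000000000000230)) (.node 103 (.leaf 0x8c00000000000000000000230000000000000000000008c00000000000000000000230) (.leaf 0x8c00000000000000000000230000000000000000000000000000000000000000000000)))) (.node 108 (.node 106 (.node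 105 (.leaf 0) (.leaf 0)) (.node 107 (.leaf 0) (.leaf 0))) (.node 110 (.node 109 (.leaf 0) (.leaf 0)) (.node 111 (.leaf 0x8c00000000000000000000230000000000000000000000000000000000000000000000) (.leaf 0x230))))) (.node 120 (.node 116 (.node 114 (.node 113 (.leaf 0x779eede7b000080000000000000000000001000000000000000000008c00000000000000000000000) (.leaf 0x40000000000000000000230000000000000000000008c00000000000000000000230)) (.node 115 (.leaf 0x8c00000000000000000000230000000000000000000008c000000000e7b9deeed80002) (.leaf 0x8c000000000000000000002300000000000b7b76776000180000000000000000000001))) (.node 118 (.node 117 (.leaf 0) (.leaf 0x8c00000000000000000000230)) (.node 119 (.leaf 0x8c00000000000000000000230000000000000000000000000000000000000000000000) (.leaf 0x8c00000000000000000000230)))) (.node 124 (.node 122 (.node 121 (.leaf 0x8c00000000000000000000230000000000000000000008c00000000000000000000230) (.leaf 0x23000000000000000000000070000000000000000000001c)) (.node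 123 (.leaf 0x8c00000000000000000000230000000000000000000000000000000000000000000000) (.leaf 0x8c00000000000000000000000))) (.node 126 (.node 125 (.leaf 0) (.leaf 0)) (.node 127 (.leaf 0x8c00000000000000000000230000000000000000000000000000000000000000000000) (.leaf 0x8c00000000000000000000230000000000000000000008c00000000000000000000230))))))

def eTB4 : Bst := (.node 144 (.node 136 (.node 132 (.node 130 (.node 129 (.leaf 0x8c00000000000000000000230000000000000000000008c00000000000000000000230) (.leaf 0x8c00000000000000000000230)) (.node 131 (.leaf 0) (.leaf 0))) (.node 134 (.node 133 (.leaf 0x8c00000000000000000000230) (.leaf 0x8c00000000000000000000230000000000000000000008c00000000000000000000230)) (.node 135 (.leaf 0) (.leaf 0)))) (.node 140 (.node 138 (.node 137 (.leaf 0x8c00000000000000000000230000000000000000000000000000000000000000000000) (.leaf 0x8c0000000000000000000001c000000000000000000000700000000000000000000230)) (.node 139 (.leaf 0) (.leaf 0x8c00000000000000000000230000000000000000000000000000000000000000000000)))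 (.node 142 (.node 141 (.leaf 0x8c00000000000000000000230000000000000000000000040000000002ed9ed9d80002) (.leaf 0x8c0000000000b67677b6c0006000000000000000000008c00000000000000000000230)) (.node 143 (.leaf 0x1000000000000000000000040000000000000000000230) (.leaf 0x6e7b6e000080000000000000000000000000000000000000000000000000000000000000000000))))) (.node 152 (.node 148 (.node 146 (.node 145 (.leaf 0) (.leaf 0)) (.node 147 (.leaf 0x9e777bb60000800000000000000000000000000000000000000000000400000000000000dddc0002) (.leaf 0x1))) (.node 150 (.node 149 (.leaf 0x77b777b7000080000000000000000000001) (.leaf 0x8c00000000000000000000230000000000000000000008c00000000000000000000230)) (.node 151 (.leaf 0x8c00000000000000000000230000000000000000000008c00000000000000000000230) (.leaf 0)))) (.node 156 (.node 154 (.node 153 (.leaf 0) (.leaf 0)) (.node 155 (.leaf 0x8c000000000002eded9ec0002000000000000000000000000000000000000000000000) (.leaf 0x230000000000000000000000000000000000000000000001)))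 (.node 158 (.node 157 (.leaf 0x8c00000000000000000000230000000000000000000000000000000000000000000000) (.leaf 0xe7bb67767000080000000000000000000230000000000000000000000000000000000000000000000)) (.node 159 (.leaf 0x40000000000000000000230000000000000000000008c00000000000000000000230) (.leaf 0x8c00000000000000000000230))))))

def eTB5 : Bst := (.node 176 (.node 168 (.node 164 (.node 162 (.node 161 (.leaf 0) (.leaf 0x8c00000000000000000000000000000000000000000000000000000000000000000000)) (.node 163 (.leaf 0x8c00000000000000000000230000000000000000000008c00000000000000000000000) (.leaf 0x8c00000000000000000000230000000000000000000000000000000000000000000000))) (.node 166 (.node 165 (.leaf 0) (.leaf 0)) (.node 167 (.leaf 0) (.leaf 0)))) (.node 172 (.node 170 (.node 169 (.leaf 0) (.leaf 0)) (.node 171 (.leaf 0) (.leaf 0))) (.node 174 (.node 173 (.leaf 0x8c00000000000000000000230000000000000000000000000000000000000000000000) (.leaf 0x8c0000000000e776deddc0006000000000000000000000040000000000000000000230))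 (.node 175 (.leaf 0x70000000000000000000001c00000000000000000000004000000000de7bb79ec0006) (.leaf 0x8c000000000000000dddc0006000000000000000000008c00000000000000000000001))))) (.node 184 (.node 180 (.node 178 (.node 177 (.leaf 0x8c00000000000000000000230) (.leaf 0x70000000000000000000001c000000000000000000000000000000000000000000000)) (.node 179 (.leaf 0x8c00000000000000000000000000000000000000000008c00000000000000000000000) (.leaf 0x700000000000000000000000000000000000000000000000000000000000000000000))) (.node 182 (.node 181 (.leaf 0x8c00000000000000000000230000000000000000000000700000000000000000000000) (.leaf 0x8c00000000000000000000230)) (.node 183 (.leaf 0x700000000000000000000230000000000000000000008c00000000000000000000000) (.leaf 0x23000000000000000000000000000000000000000000001c)))) (.node 188 (.node 186 (.node 185 (.leaf 0x8c00000000000000000000000000000000000000000000000000000000000000000000) (.leaf 0)) (.node 187 (.leaf 0) (.leaf 0))) (.node 190 (.node 189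 (.leaf 0) (.leaf 0xbb7b67b000180000000000000000000230000000000000000000000000000000000000000000000)) (.node 191 (.leaf 0x8c00000000000000000000001) (.leaf 0))))))

def eTB6 : Bst := (.node 208 (.node 200 (.node 196 (.node 194 (.node 193 (.leaf 0x1c000000000000000000000700000000000000000000000) (.leaf 0x230000000000000000000000000000000000000000000230)) (.node 195 (.leaf 0x8c00000000000000000000000000000000000000000008c00000000000000000000000) (.leaf 0x8c000000000000000000002300000000027bb767b77000180000000000000000000001))) (.node 198 (.node 197 (.leaf 0x8c00000000000000000000230) (.leaf 0x8c00000000000000000000000000000000000000000000000000000000000000000000)) (.node 199 (.leaf 0x8c00000000000000000000000000000000000000000008c00000000000000000000230) (.leaf 0)))) (.node 204 (.node 202 (.node 201 (.leaf 0x8c00000000000000000000001000000000000000000000000000000000000000000000) (.leaf 0x8c00000000000000000000230000000000000000000008c0000000009eeeddbb6c0002)) (.node 203 (.leaf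 0x8c00000000000000000000230) (.leaf 0x100000000000000000000000000000000ddede776c0002))) (.node 206 (.node 205 (.leaf 0x8c00000000000000000000230) (.leaf 0x8c00000000000000000000230000000000000000000008c00000000000000000000230)) (.node 207 (.leaf 0x8c00000000000000000000230) (.leaf 0))))) (.node 216 (.node 212 (.node 210 (.node 209 (.leaf 0x8c00000000000000000000000) (.leaf 0x8c00000000000000000000230000000000000000000000000000000000000000000000)) (.node 211 (.leaf 0x8c00000000000000000000230000000000000000000000000000000000000000000230) (.leaf 0))) (.node 214 (.node 213 (.leaf 0) (.leaf 0x8c00000000000000000000001000000000000000000000000000000000000000000000)) (.node 215 (.leaf 0x37b777b7000180000000000000000000001000000000000000000008c0000000000000b9edb80002) (.leaf 0)))) (.node 220 (.node 218 (.node 217 (.leaf 0) (.leaf 0)) (.node 219 (.leaf 0) (.leaf 0x8c00000000000000000000230000000000000000000000000000000000000000000000))) (.node 222 (.node 221 (.leaf 0x8c00000000000000000000230000000000000000000008c00000000000000000000230)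 (.leaf 0x8c00000000000000000000230)) (.node 223 (.leaf 0) (.leaf 0))))))

def eTB7 : Bst := (.node 240 (.node 232 (.node 228 (.node 226 (.node 225 (.leaf 0x1000000000000000000008c00000000000000000000230) (.leaf 0x2300000000000002e7b6e000180000000000000000000000)) (.node 227 (.leaf 0x230) (.leaf 0))) (.node 230 (.node 229 (.leaf 0) (.leaf 0)) (.node 231 (.leaf 0) (.leaf 0x8c00000000000000000000230000000000000000000000000000000000000000000000)))) (.node 236 (.node 234 (.node 233 (.leaf 0x9eedd9e7000080000000000000000000001) (.leaf 0x8c00000000000000000000230000000000000000000000000000000000000000000000)) (.node 235 (.leaf 0x8c00000000000000000000230) (.leaf 0x230000000000000000000008c00000000000000000000000))) (.node 238 (.node 237 (.leaf 0) (.leaf 0)) (.node 239 (.leaf 0x230000000000000000000000000000000000000000000230) (.leaf 0x8c00000000000000000000230000000000000000000008c00000000000000000000000))))) (.node 248 (.node 244 (.node 242 (.node 241 (.leaf 0x230) (.leaf 0x8c00000000000000000000230000000000000000000008c00000000000000000000230))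 (.node 243 (.leaf 0x8c00000000000000000000230000000000000000000008c00000000000000000000230) (.leaf 0))) (.node 246 (.node 245 (.leaf 0) (.leaf 0)) (.node 247 (.leaf 0) (.leaf 0)))) (.node 252 (.node 250 (.node 249 (.leaf 0) (.leaf 0)) (.node 251 (.leaf 0) (.leaf 0))) (.node 254 (.node 253 (.leaf 0) (.leaf 0x1000180000000000000000000001000000000000000000008c00000000000000000000230)) (.node 255 (.leaf 0x9e777bb6000180000000000000000000001000000000000000000008c00000000000000000000230) (.leaf 0x8c00000000000000000000230000000000000000000008c00000000000000000000230))))))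

def eTB8 : Bst := (.node 272 (.node 264 (.node 260 (.node 258 (.node 257 (.leaf 0) (.leaf 0)) (.node 259 (.leaf 0x8c00000000000000000000230000000000000000000008c00000000000000000000230) (.leaf 0x8c00000000000000000000230000000000000000000008c00000000000000000000230))) (.node 262 (.node 261 (.leaf 0) (.leaf 0)) (.node 263 (.leaf 0x8c00000000000000000000230000000000000000000008c00000000000000000000230) (.leaf 0x230000000000000000000008c00000000000000000000000)))) (.node 268 (.node 266 (.node 265 (.leaf 0) (.leaf 0x8c00000000000000000000230000000000000000000008c00000000000000000000230)) (.node 267 (.leaf 0) (.leaf 0))) (.node 270 (.node 269 (.leaf 0) (.leaf 0x8c00000000000000000000230000000000000000000000000000000000000000000000)) (.node 271 (.leaf 0x8c00000000000000000000230000000000000000000000000000000000000000000000) (.leaf 0x400000000b777bb77780002))))) (.node 280 (.node 276 (.node 274 (.node 273 (.leaf 0) (.leaf 0x37b9dde7bb000180000000000000000000001000000000000000000000000000000000000000000000))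 (.node 275 (.leaf 0) (.leaf 0x230000000000000000000008c00000000000000000000000))) (.node 278 (.node 277 (.leaf 0x8c00000000000000000000230) (.leaf 0)) (.node 279 (.leaf 0x8c0000000000000000000023000000000000000000000004000000001dbbb7bb9c0006) (.leaf 0)))) (.node 284 (.node 282 (.node 281 (.leaf 0) (.leaf 0)) (.node 283 (.leaf 0) (.leaf 0))) (.node 286 (.node 285 (.leaf 0) (.leaf 0)) (.node 287 (.leaf 0x8c0000000000277677b780002000000000000000000008c00000000000000000000230) (.leaf 0x40000000000000000000230))))))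

def eTB9 : Bst := (.node 304 (.node 296 (.node 292 (.node 290 (.node 289 (.leaf 0) (.leaf 0x36eddd9de000080000000000000000000000000000000000000000000000000000000000000000000)) (.node 291 (.leaf 0x8c0000000000000000000000000000000000000000000004000000000ddede776c0006) (.leaf 0x40000000000000000000230))) (.node 294 (.node 293 (.leaf 0) (.leaf 0x8c00000000000000000000230000000000000000000000000000000000000000000000)) (.node 295 (.leaf 0x67bb9edec0006000000000000000000000000000000000000000000001) (.leaf 0x230000000000000000000008c00000000000000000000000)))) (.node 300 (.node 298 (.node 297 (.leaf 0) (.leaf 0)) (.node 299 (.leaf 0) (.leaf 0x8c00000000000000000000230000000000000000000008c00000000000000000000000))) (.node 302 (.node 301 (.leaf 0x8c00000000000000000000230000000000000000000000000000000000000000000230) (.leaf 0)) (.node 303 (.leaf 0) (.leaf 0))))) (.node 312 (.node 308 (.node 306 (.node 305 (.leaf 0) (.leaf 0x8c00000000000000000000230000000000000000000008c00000000000000000000230))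 (.node 307 (.leaf 0) (.leaf 0x8c00000000000000000000230000000000000000000000000000000000000000000000))) (.node 310 (.node 309 (.leaf 0x8c00000000000000000000230000000000000000000008c00000000000000000000230) (.leaf 0)) (.node 311 (.leaf 0) (.leaf 0)))) (.node 316 (.node 314 (.node 313 (.leaf 0) (.leaf 0)) (.node 315 (.leaf 0) (.leaf 0))) (.node 318 (.node 317 (.leaf 0) (.leaf 0)) (.node 319 (.leaf 0) (.leaf 0x2767767b67000180000000000000000000001000000000000000000008c00000000000000000000230))))))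

def eTB10 : Bst := (.node 336 (.node 328 (.node 324 (.node 322 (.node 321 (.leaf 0x70000000000000000000001c000000000000000000008c00000000000000000000230) (.leaf 0x230000000000000000000000000000000000000000000000)) (.node 323 (.leaf 0x8c00000000000000000000000000000000000000000008c00000000000000000000230) (.leaf 0))) (.node 326 (.node 325 (.leaf 0) (.leaf 0)) (.node 327 (.leaf 0x8c00000000000000000000001000000000000000000000000000000000000000000000) (.leaf 0x8c00000000000000000000230000000000000000000008c00000000006ed9ed9d80002)))) (.node 332 (.node 330 (.node 329 (.leaf 0x8c00000000000000000000230) (.leaf 0)) (.node 331 (.leaf 0) (.leaf 0x8c00000000000000000000000000000000000000000008c00000000000000000000000))) (.node 334 (.node 333 (.leaf 0x8c00000000000000000000230000000000000000000008c00000000000000000000230) (.leaf 0)) (.node 335 (.leaf 0) (.leaf 0))))) (.node 344 (.node 340 (.node 338 (.node 337 (.leaf 0x8c00000000000000000000230000000000000000000000000000000000000000000000)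 (.leaf 0x8c00000000000000000000230)) (.node 339 (.leaf 0) (.leaf 0x8c00000000000000000000230000000000000000000008c00000000000000000000230))) (.node 342 (.node 341 (.leaf 0x23000000000009d9ed9ee000080000000000000000000001) (.leaf 0x8c00000000000000000000000000000000000000000008c00000000000000000000230)) (.node 343 (.leaf 0x8c00000000000000000000000000000000000000000000000000000000000000000000) (.leaf 0x230)))) (.node 348 (.node 346 (.node 345 (.leaf 0x1de7bb79ec0006000000000000000000000000000000000000000000001) (.leaf 0x8c00000000000000000000230000000000000000000000000000000000000000000000)) (.node 347 (.leaf 0x8c00000000000000000000230) (.leaf 0x8c00000000000000000000230000000000000000000000000000000000000000000000))) (.node 350 (.node 349 (.leaf 0x8c00000000000000000000230000000000000000000008c00000000000000000000230) (.leaf 0x8c00000000000000000000230000000000000000000008c00000000000000000000230)) (.node 351 (.leaf 0x8c00000000000000000000000000000000000000000008c00000000000000000000230)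 (.leaf 0x8c00000000000000000000230000000000000000000008c00000000000000000000000))))))

def eTB11 : Bst := (.node 368 (.node 360 (.node 356 (.node 354 (.node 353 (.leaf 0x8c00000000000000000000230) (.leaf 0)) (.node 355 (.leaf 0) (.leaf 0))) (.node 358 (.node 357 (.leaf 0) (.leaf 0x8c00000000000000000000230000000000000000000000000000000000000000000000)) (.node 359 (.leaf 0x8c00000000000000000000000) (.leaf 0x8c00000000000000000000000000000000000000000008c00000000000000000000230)))) (.node 364 (.node 362 (.node 361 (.leaf 0) (.leaf 0)) (.node 363 (.leaf 0) (.leaf 0x8c00000000000000000000230000000000000000000000000000000000000000000000))) (.node 366 (.node 365 (.leaf 0x40000000000000000000230000000000277b77b9e000180000000000000000000230) (.leaf 0)) (.node 367 (.leaf 0) (.leaf 0x40000000003b7b6eed80006000000000000000000000000000000000000000000000))))) (.node 376 (.node 372 (.node 370 (.node 369 (.leaf 0x8c00000000000000000000000000000000000000000000000000000000000000000230)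 (.leaf 0)) (.node 371 (.leaf 0x8c00000000000000000000230) (.leaf 0))) (.node 374 (.node 373 (.leaf 0) (.leaf 0)) (.node 375 (.leaf 0x8c00000000000000000000230000000000000000000008c00000000000000000000000) (.leaf 0x230000000000000000000008c00000000000000000000230)))) (.node 380 (.node 378 (.node 377 (.leaf 0) (.leaf 0)) (.node 379 (.leaf 0) (.leaf 0))) (.node 382 (.node 381 (.leaf 0x8c00000000000000000000230000000000000000000000000000000000000000000000) (.leaf 0xed9edee000180000000000000000000001000000000000000000008c00000000000000000000230)) (.node 383 (.leaf 0x4000000000dbbb7bb9c0006) (.leaf 0))))))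

def eTB12 : Bst := (.node 400 (.node 392 (.node 388 (.node 386 (.node 385 (.leaf 0x4000000000001b9edb80006000000000000000000008c00000000000000000000230) (.leaf 0)) (.node 387 (.leaf 0) (.leaf 0x8c00000000000000000000000000000000000000000008c00000000000000000000230))) (.node 390 (.node 389 (.leaf 0x8c00000000000000000000230000000000000000000008c00000000000000000000000) (.leaf 0)) (.node 391 (.leaf 0) (.leaf 0)))) (.node 396 (.node 394 (.node 393 (.leaf 0x400000000027bb9edec0006000000000000000000000000000000000000000000000) (.leaf 0x8c00000000000000000000230000000000000000000008c00000000000000000000230)) (.node 395 (.leaf 0x8c00000000000000000000230000000000000000000008c00000000000000000000230) (.leaf 0x8c00000000000000000000230))) (.node 398 (.node 397 (.leaf 0) (.leaf 0x8c00000000000000000000230)) (.node 399 (.leaf 0x230000000000000000000000000000000000000000000000) (.leaf 0x230000000000000000000008c00000000000000000000230))))) (.node 408 (.node 404 (.node 402 (.node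 401 (.leaf 0) (.leaf 0x77b9dde7bb000180000000000000000000001)) (.node 403 (.leaf 0x230000000000000000000008c00000000000000000000000) (.leaf 0x10000000002dbb77b76000080000000000000000000000))) (.node 406 (.node 405 (.leaf 0) (.leaf 0x8c00000000000000000000230000000000000000000000000000000000000000000000)) (.node 407 (.leaf 0) (.leaf 0x8c00000000000000000000000000000000000000000000040000000001dedddedc0006)))) (.node 412 (.node 410 (.node 409 (.leaf 0x230) (.leaf 0)) (.node 411 (.leaf 0x8c00000000000000000000230) (.leaf 0x8c00000000000000000000230000000000000000000008c00000000000000000000230))) (.node 414 (.node 413 (.leaf 0) (.leaf 0)) (.node 415 (.leaf 0) (.leaf 0))))))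

def eTB13 : Bst := (.node 427 (.node 421 (.node 418 (.node 417 (.leaf 0) (.leaf 0)) (.node 419 (.leaf 0x8c00000000000000000000230000000000000000000008c00000000000000000000230) (.node 420 (.leaf 0) (.leaf 0xb7677bb9e000180000000000000000000000000000000000000000000000000000000000000000001)))) (.node 424 (.node 422 (.leaf 0) (.node 423 (.leaf 0) (.leaf 0))) (.node 425 (.leaf 0) (.node 426 (.leaf 0x230000000000000000000008c00000000000000000000230) (.leaf 0x400000000000000000002300000000000000000000000000000000000001dddc0006))))) (.node 432 (.node 429 (.node 428 (.leaf 0) (.leaf 0x9dd9dede000180000000000000000000230000000000000000000000040000000000000000000230)) (.node 430 (.leaf 0x230) (.node 431 (.leaf 0x8c00000000000000000000000) (.leaf 0)))) (.node 435 (.node 433 (.leaf 0) (.node 434 (.leaf 0x8c00000000000000000000230000000000000000000008c00000000000000000000230) (.leaf 0x8c00000000000000000000000000000000000000000000000000000000000000000000))) (.node 436 (.leaf 0x8c00000000000000000000000000000000000000000000000000000000000000000000)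 (.node 437 (.leaf 0) (.leaf 0))))))

/-- The verdicts on the second generator. -/
def eT : Tab := ⟨(.node 224 (.node 96 (.node 32 eTB0 (.node 64 eTB1 eTB2)) (.node 160 (.node 128 eTB3 eTB4) (.node 192 eTB5 eTB6))) (.node 320 (.node 256 eTB7 (.node 288 eTB8 eTB9)) (.node 384 (.node 352 eTB10 eTB11) (.node 416 eTB12 eTB13)))), 90, 2⟩

def uTB0 : Bst := (.node 16 (.node 8 (.node 4 (.node 2 (.node 1 (.leaf 0x8c000100000000000000002300004000000000000000000000040000000000000000000001) (.leaf 0x2300004000000000000000000000000000000000000002300004)) (.node 3 (.leaf 0x8c0001000000000000000001c00040000000000000000000000000000000000000001c0004) (.leaf 0x8c000100000000000000000000000))) (.node 6 (.node 5 (.leaf 0x7000100000000000000002300004000000000000000007000100000000000000002300004) (.leaf 0x8c000100000000000000002300004)) (.node 7 (.leaf 0) (.leaf 0)))) (.node 12 (.node 10 (.node 9 (.leaf 0x8c000100000000000000002300004000000000000000000000000000000000000000000000) (.leaf 0x4000000000000000230000400000000000000008c000100000000000000002300004))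 (.node 11 (.leaf 0x8c0001000000000000000001c000400000000000000008c000100000000000000000000001) (.leaf 0x2300004000000000000000007000100000000000000000000000))) (.node 14 (.node 13 (.leaf 0x8c000100000000000000002300004000000000000000000000000000000000000002300004) (.leaf 0x8c000100000000000000000000000)) (.node 15 (.leaf 0) (.leaf 0x2300004))))) (.node 24 (.node 20 (.node 18 (.node 17 (.leaf 0x2300004000000000000000000000040000000000000000000000) (.leaf 0x8c00010000000000000000230000400000000000000008c000100000000000000000000000)) (.node 19 (.leaf 0x8c00010000000000000000230000400000000000000008c000100000000000000002300004) (.leaf 0x8c000100000000000000002300004000000000000000000000000000000000000002300004))) (.node 22 (.node 21 (.leaf 0x8c00010000000000000000230000400000000000000008c000100000000000000002300004) (.leaf 0x230000400000000000000008c000100000000000000002300004)) (.node 23 (.leaf 0x230000400000000000000008c000100000000000000000000000) (.leaf 0x8c000100000000000000000000000000000000000000000000000000000000000002300004))))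 (.node 28 (.node 26 (.node 25 (.leaf 0x8c00010000000000000000000000000000000000000008c000100000000000000000000000) (.leaf 0x40000000000000002300004000000000000000000000000000000000000000000000)) (.node 27 (.leaf 0x2300004000000000000000000000000000000000000000000000) (.leaf 0x8c00010000000000000000230000400000000000000008c000100000000000000002300004))) (.node 30 (.node 29 (.leaf 0x2300004) (.leaf 0x8c000100000000000000000000000000000000000000000000000000000000000000000000)) (.node 31 (.leaf 0x8c00010000000000000000000000000000000000000008c000100000000000000002300004) (.leaf 0x2300004000000000000000000000000000000000000000000000))))))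

def uTB1 : Bst := (.node 48 (.node 40 (.node 36 (.node 34 (.node 33 (.leaf 0x8c00010000000000000000000000000000000000000008c000200000000000000002300008) (.leaf 0x8c00010000000000000000230000400000000000000008c000100000000000000002300004)) (.node 35 (.leaf 0x8c000100000000000000002300004) (.leaf 0))) (.node 38 (.node 37 (.leaf 0x8c00010000000000000000230000400000000000000008c000100000000000000000000000) (.leaf 0x8c00010000000000000000230000400000000000000008c000100000000000000000000000)) (.node 39 (.leaf 0x8c00010000000000000000230000400000000000000008c000000000000000000002300000) (.leaf 0x19eeedbbbb7bbb000180000000000000000000006)))) (.node 44 (.node 42 (.node 41 (.leaf 0x1) (.leaf 0x8c00000000000000000000000000100000000000000008c000000000000000000000000000)) (.node 43 (.leaf 0x8c00010000000000000000230000400000000000000008c000100000000000000002300004) (.leaf 0x8c000100000000000000002300004))) (.node 46 (.node 45 (.leaf 0) (.leaf 0)) (.node 47 (.leaf 0x8c000100000000000000002300004000000000000000000000000000000000000000000000)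 (.leaf 0x8c00010000000000000000230000400000000000000008c000100000000000000002300004))))) (.node 56 (.node 52 (.node 50 (.node 49 (.leaf 0x8c00010000000000000000230000400000000000000008c000100000000000000002300004) (.leaf 0)) (.node 51 (.leaf 0) (.leaf 0))) (.node 54 (.node 53 (.leaf 0) (.leaf 0)) (.node 55 (.leaf 0) (.leaf 0x700010000000000000000230000400000000000000008c0001000000000000000001c0004)))) (.node 60 (.node 58 (.node 57 (.leaf 0x8c00010000000000000000230000400000000000000008c000100000000000000002300004) (.leaf 0x8c00010000000000000000230000400000000000000008c000100000000000000002300004)) (.node 59 (.leaf 0x8c00010000000000000000230000400000000000000008c000100000000000000002300004) (.leaf 0x8c00010000000000000000230000400000000000000008c000100000000000000002300004))) (.node 62 (.node 61 (.leaf 0x8c00010000000000000000230000400000000000000008c000100000000000000002300004) (.leaf 0x8c00010000000000000000000000100000000000000008c000100000000000000000000001)) (.node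 63 (.leaf 0x8c00010000000000000000230000400000000000000008c000200000000000000002300004) (.leaf 0x8c00010000000000000000230000400000000000000008c000100000000000000002300004))))))

def uTB2 : Bst := (.node 80 (.node 72 (.node 68 (.node 66 (.node 65 (.leaf 0x8c00010000000000000000230000400000000000000008c000100000000000000002300004) (.leaf 0x8c00010000000000000000230000400000000000000008c000100000000000000002300004)) (.node 67 (.leaf 0x8c00010000000000000000230000400000000000000008c000100000000000000002300004) (.leaf 0x8c00010000000000000000230000400000000000000008c000100000000000000002300004))) (.node 70 (.node 69 (.leaf 0x8c00020000000000000000230000400000000000000008c000100000000000000002300004) (.leaf 0)) (.node 71 (.leaf 0) (.leaf 0x2300004000000000000000000000000000000000000002300004)))) (.node 76 (.node 74 (.node 73 (.leaf 0x8c000100000000000000002300004000000000000000000000000000000000000002300004) (.leaf 0x8c000100000000000000000000000)) (.node 75 (.leaf 0x8c00010000000000000000230000400000000000000008c000100000000000000002300004)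 (.leaf 0x8c000100000000000000000000001000000000000000000000040000000000000002300004))) (.node 78 (.node 77 (.leaf 0x8c00010000000000000000230000400000000000000008c000100000000000000002300004) (.leaf 0x8c00010000000000000000230000400000000000000008c000100000000000000002300004)) (.node 79 (.leaf 0x8c00010000000000000000230000400000000000000008c000100000000000000002300004) (.leaf 0x8c00010000000000000000230000400000000000000008c000100000000000000002300004))))) (.node 88 (.node 84 (.node 82 (.node 81 (.leaf 0x40000000000000000000001000019eeedbbbb7bbb00028000000000000000000000a) (.leaf 0x8c00000000000000000000230000000000000000000008c000000000000000000002300000)) (.node 83 (.leaf 0x8c00010000000000000000230000400000000000000008c000100000000000000002300004) (.leaf 0x4000000000000000230000400000000000000008c000100000000000000002300004))) (.node 86 (.node 85 (.leaf 0x40000000000000002300004) (.leaf 0x8c000100000000000000002300004000000000000000000000000000000000000000000000))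 (.node 87 (.leaf 0x8c00010000000000000000230000400000000000000008c000100000000000000002300004) (.leaf 0x8c00010000000000000000230000400000000000000008c000100000000000000002300004)))) (.node 92 (.node 90 (.node 89 (.leaf 0x8c00010000000000000000230000400000000000000008c000100000000000000002300004) (.leaf 0)) (.node 91 (.leaf 0x8c000100000000000000002300004000000000000000000000000000000000000000000000) (.leaf 0x8c00010000000000000000230000400000000000000008c000100000000000000002300004))) (.node 94 (.node 93 (.leaf 0) (.leaf 0)) (.node 95 (.leaf 0x8c000100000000000000002300004000000000000000000000000000000000000000000000) (.leaf 0x230000400000000000000008c000100000000000000002300004))))))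

def uTB3 : Bst := (.node 112 (.node 104 (.node 100 (.node 98 (.node 97 (.leaf 0x8c000100000000000000000000000) (.leaf 0x8c00010000000000000000230000400000000000000008c000100000000000000002300004)) (.node 99 (.leaf 0x8c00010000000000000000230000400000000000000008c000100000000000000002300004) (.leaf 0x8c00010000000000000000230000400000000000000008c000100000000000000002300004))) (.node 102 (.node 101 (.leaf 0x8c000100000000000000002300004) (.leaf 0x8c000100000000000000002300004000000000000000000000000000000000000000000000)) (.node 103 (.leaf 0) (.leaf 0x8c000100000000000000002300004)))) (.node 108 (.node 106 (.node 105 (.leaf 0x19eeedbbbb7bbb00008000000000000000000000200000000000000008c000100000000000000002300004) (.leaf 0x8c00010000000000000000230000400000000000000008c000100000000000000002300004)) (.node 107 (.leaf 0x8c00010000000000000000230000400000000000000008c000100000000000000002300004) (.leaf 0x8c000100000000000000002300004000000000000000000000040000000000000000000001)))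 (.node 110 (.node 109 (.leaf 0x8c00010000000000000000230000400000000000000008c000100000000000000002300004) (.leaf 0x8c00010000000000000000230000400000000000000008c000100000000000000002300004)) (.node 111 (.leaf 0x8c000100000000000000002300004) (.leaf 0x8c00010000000000000000230000400000000000000008c000100000000000000000000000))))) (.node 120 (.node 116 (.node 114 (.node 113 (.leaf 0x2300004) (.leaf 0)) (.node 115 (.leaf 0) (.leaf 0))) (.node 118 (.node 117 (.leaf 0x8c00010000000000000000230000400000000000000008c000100000000000000002300004) (.leaf 0x8c000100000000000000002300004000000000000000000000000000000000000000000000)) (.node 119 (.leaf 0x8c000100000000000000002300004) (.leaf 0x8c000100000000000000002300004000000000000000000000000000000000000000000000)))) (.node 124 (.node 122 (.node 121 (.leaf 0) (.leaf 0x8c000100000000000000000000000000000000000000000000000000000000000000000000)) (.node 123 (.leaf 0x8c000100000000000000002300004) (.leaf 0x8c000100000000000000002300004000000000000000000000000000000000000002300004)))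 (.node 126 (.node 125 (.leaf 0x8c00010000000000000000230000400000000000000008c000100000000000000002300004) (.leaf 0x8c00010000000000000000230000400000000000000008c000100000000000000002300004)) (.node 127 (.leaf 0x8c000100000000000000002300004) (.leaf 0))))))

def uTB4 : Bst := (.node 144 (.node 136 (.node 132 (.node 130 (.node 129 (.leaf 0) (.leaf 0x8c000100000000000000002300004000000000000000000000000000000000000000000000)) (.node 131 (.leaf 0x8c00010000000000000000230000400000000000000008c000100000000000000002300004) (.leaf 0x8c000100000000000000002300004000019eeedbbbb7bbb00038000000000000000000000e))) (.node 134 (.node 133 (.leaf 0x8c000100000000000000002300004000000000000000000000000000000000000000000000) (.leaf 0)) (.node 135 (.leaf 0x8c00010000000000000000230000400000000000000008c000100000000000000002300004) (.leaf 0x8c00010000000000000000230000400000000000000008c000100000000000000002300004)))) (.node 140 (.node 138 (.node 137 (.leaf 0x8c000100000000000000002300004)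 (.leaf 0)) (.node 139 (.leaf 0x8c00010000000000000000230000400000000000000008c000100000000000000002300004) (.leaf 0x8c000100000000000000002300004))) (.node 142 (.node 141 (.leaf 0) (.leaf 0)) (.node 143 (.leaf 0x8c000100000000000000000000000000000000000000000000000000000000000000000000) (.leaf 0x230000400000000000000008c000100000000000000002300004))))) (.node 152 (.node 148 (.node 146 (.node 145 (.leaf 0x8c000100000000000000002300004000000000000000000000040000000000000000000001) (.leaf 0x8c00010000000000000000230000400000000000000008c000100000000000000002300004)) (.node 147 (.leaf 0x2300004000000000000000000000000000000000000000000000) (.leaf 0x8c00010000000000000000230000400000000000000008c000100000000000000000000000))) (.node 150 (.node 149 (.leaf 0x8c000100000000000000002300004000000000000000000000000000000000000000000000) (.leaf 0)) (.node 151 (.leaf 0) (.leaf 0x8c00010000000000000000230000400000000000000008c000100000000000000002300004)))) (.node 156 (.node 154 (.node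 153 (.leaf 0x8c00000000000000000000230000000000000000000008c000100000000000000002300004) (.leaf 0x8c00010000000000000000230000400000000000000008c000100000000000000002300004)) (.node 155 (.leaf 0x8c000100000000000000002300004) (.leaf 0x8c00010000000000000000000000000000000000000008c000100000000000000000000000))) (.node 158 (.node 157 (.leaf 0x8c000100000000000000002300004) (.leaf 0x8c000100000000000000002300004)) (.node 159 (.leaf 0) (.leaf 0x8c000100000000000000002300004000000000000000000000000000000000000000000000))))))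

def uTB5 : Bst := (.node 176 (.node 168 (.node 164 (.node 162 (.node 161 (.leaf 0x8c00010000000000000000230000400000000000000008c000100000000000000002300004) (.leaf 0x230000400000000000000008c000100000000000000002300004)) (.node 163 (.leaf 0x2300004) (.leaf 0x8c000100000000000000002300004))) (.node 166 (.node 165 (.leaf 0x8c000100000000000000002300004000000000000000000000040000000000000000000001) (.leaf 0x8c00010000000000000000230000400000000000000008c000100000000000000002300004)) (.node 167 (.leaf 0x8c00010000000000000000230000400000000000000008c000100000000000000002300004) (.leaf 0x8c00010000000000000000230000400000000000000008c000100000000000000002300004)))) (.node 172 (.node 170 (.node 169 (.leaf 0x8c00020000000000000000230000400000000000000008c000000000000000000002300000) (.leaf 0x8c00010000000000000000230000400000000000000008c000100000000000000002300008)) (.node 171 (.leaf 0x8c00010000000000000000230000400000000000000008c000100000000000000002300004) (.leaf 0x8c00010000000000000000230000400000000000000008c000100000000000000002300004)))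 (.node 174 (.node 173 (.leaf 0x8c000100000000000000002300004) (.leaf 0)) (.node 175 (.leaf 0) (.leaf 0))))) (.node 184 (.node 180 (.node 178 (.node 177 (.leaf 0x8c000100000000000000002300004000000000000000000000000000000000000000000000) (.leaf 0x8c000100000000000000002300004)) (.node 179 (.leaf 0x2300004000000000000000000000000000000000000002300004) (.leaf 0x230000400000000000000008c000100000000000000002300004))) (.node 182 (.node 181 (.leaf 0x2300004) (.leaf 0x8c000000000000000000002300000000000000000000000000000000000000000000000000)) (.node 183 (.leaf 0x2300000) (.leaf 0x8c00000000000000000000000000000000000000000008c000000000000000000000000000)))) (.node 188 (.node 186 (.node 185 (.leaf 0x230000800000000000000008c000200000000000000002300000) (.leaf 0x8c00000000000000000000230000400000000000000008c000100000000000000002300004)) (.node 187 (.leaf 0x8c00000000000000000000230000400000000000000008c000000000000000000002300004) (.leaf 0x8c00000000000000000000230000400000000000000008c000100000000000000002300000)))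 (.node 190 (.node 189 (.leaf 0x8c00010000000000000000000000d00000000000000008c000000000000000000002300004) (.leaf 0x8c00010000000000000000000000d)) (.node 191 (.leaf 0x8c000100000000000000002300004000000000000000000000000000000000000000000000) (.leaf 0x8c00010000000000000000230000400000000000000008c000100000000000000002300004))))))

def uTB6 : Bst := (.node 208 (.node 200 (.node 196 (.node 194 (.node 193 (.leaf 0x8c000100000000000000000000000000000000000000000000000000000000000002300004) (.leaf 0x8c00010000000000000000000000000000000000000008c000100000000000000000000000)) (.node 195 (.leaf 0x2300004000000000000000000000000000000000000002300004) (.leaf 0))) (.node 198 (.node 197 (.leaf 0x8c000100000000000000002300004000000000000000000000000000000000000000000000) (.leaf 0x230000400000000000000008c000100000000000000002300004)) (.node 199 (.leaf 0x2300004000000000000000000000000000000000000000000000) (.leaf 0x8c00010000000000000000230000400000000000000008c000100000000000000002300004))))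 (.node 204 (.node 202 (.node 201 (.leaf 0x40000000000000000000001) (.leaf 0)) (.node 203 (.leaf 0x8c000100000000000000002300004000000000000000000000000000000000000000000000) (.leaf 0x8c00010000000000000000000000000000000000000008c000100000000000000000000000))) (.node 206 (.node 205 (.leaf 0x8c000100000000000000002300004000000000000000000000000000000000000000000000) (.leaf 0)) (.node 207 (.leaf 0x8c000100000000000000002300004000000000000000000000000000000000000000000000) (.leaf 0x8c00010000000000000000230000400000000000000008c000100000000000000002300004))))) (.node 216 (.node 212 (.node 210 (.node 209 (.leaf 0x8c000100000000000000002300004000000000000000000000000000000000000002300004) (.leaf 0x8c000100000000000000002300004)) (.node 211 (.leaf 0x8c000100000000000000000000000) (.leaf 0x8c00010000000000000000230000400000000000000008c000100000000000000002300004))) (.node 214 (.node 213 (.leaf 0x8c00010000000000000000230000400000000000000008c000100000000000000002300004) (.leaf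 0x8c000100000000000000002300004)) (.node 215 (.leaf 0) (.leaf 0x8c00010000000000000000230000400000000000000008c000100000000000000002300004)))) (.node 220 (.node 218 (.node 217 (.leaf 0xb779eee77b0000800000001dee7779eec000200000000000000008c000100000000000000002300004) (.leaf 0x8c00010000000000000000230000400000000000000008c000100000000000000002300004)) (.node 219 (.leaf 0x8c00010000000000000000230000400000000000000008c000100000000000000002300004) (.leaf 0x8c000100000000000000002300004))) (.node 222 (.node 221 (.leaf 0) (.leaf 0x8c000100000000000000002300004000000000000000000000000000000000000000000000)) (.node 223 (.leaf 0x8c00010000000000000000230000400000000000000008c000100000000000000002300004) (.leaf 0x8c00010000000000000000230000400000000000000008c000100000000000000002300004))))))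

def uTB7 : Bst := (.node 240 (.node 232 (.node 228 (.node 226 (.node 225 (.leaf 0x8c000100000000000000000000000000000000000000000000000000000000000000000000) (.leaf 0x8c000100000000000000000000000000000000000000000000000000000000000002300004)) (.node 227 (.leaf 0x8c00010000000000000000230000400000000000000008c000100000000000000000000000) (.leaf 0x8c00010000000000000000230000400000000000000008c000100000000000000002300004))) (.node 230 (.node 229 (.leaf 0x8c00010000000000000000230000400000000000000008c000100000000000000002300004) (.leaf 0x8c00010000000000000000230000400000000b779eee77b0001800000001dee7779eec0006)) (.node 231 (.leaf 0x8c00010000000000000000230000400000000000000008c000100000000000000002300004) (.leaf 0x8c000100000000000000002300004)))) (.node 236 (.node 234 (.node 233 (.leaf 0x8c000100000000000000002300004000000000000000000000000000000000000000000000) (.leaf 0x8c000100000000000000002300004)) (.node 235 (.leaf 0x8c000100000000000000002300004000000000000000000000000000000000000000000000)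 (.leaf 0x8c000100000000000000000000000000000000000000000000000000000000000002300004))) (.node 238 (.node 237 (.leaf 0x8c00010000000000000000230000400000000000000008c000100000000000000002300004) (.leaf 0x8c00010000000000000000230000400000000000000008c000100000000000000002300004)) (.node 239 (.leaf 0x8c00010000000000000000000000000000000000000008c000100000000000000000000000) (.leaf 0x2300004))))) (.node 248 (.node 244 (.node 242 (.node 241 (.leaf 0x8c00010000000000000000230000400000000000000008c000100000000000000000000000) (.leaf 0)) (.node 243 (.leaf 0) (.leaf 0x8c00020000000000000000230000800000000000000008c000100000000000000002300004))) (.node 246 (.node 245 (.leaf 0x8c00010000000000000000230000400000000000000008c000100000000000000002300004) (.leaf 0x8c00010000000000000000230000400000000000000008c000100000000000000002300004)) (.node 247 (.leaf 0x8c00010000000000000000230000400000000000000008c000100000000000000002300004) (.leaf 0x8c00010000000000000000230000400000000000000008c000100000000000000002300004))))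 (.node 252 (.node 250 (.node 249 (.leaf 0x8c00010000000000000000230000400000000000000008c000100000000000000002300004) (.leaf 0x8c00020000000000000000230000000000000000000008c000000000000000000002300000)) (.node 251 (.leaf 0x8c00010000000000000000230000400000000000000008c000200000000000000002300000) (.leaf 0x8c00010000000000000000230000400000000000000008c000100000000000000002300004))) (.node 254 (.node 253 (.leaf 0x8c00010000000000000000230000400000000000000008c000100000000000000002300004) (.leaf 0)) (.node 255 (.leaf 0) (.leaf 0))))))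

def uTB8 : Bst := (.node 272 (.node 264 (.node 260 (.node 258 (.node 257 (.leaf 0x8c00010000000000000000230000400000000000000008c000100000000000000002300004) (.leaf 0x8c00010000000000000000230000400000000000000008c000100000000000000002300004)) (.node 259 (.leaf 0) (.leaf 0))) (.node 262 (.node 261 (.leaf 0x8c00020000000000000000230000800000000000000008c000100000000000000002300004) (.leaf 0x8c00000000000000000000230000000000000000000008c000100000000000000002300004)) (.node 263 (.leaf 0) (.leaf 0x8c000100000000000000000000000000000000000000000000000000000000000002300004)))) (.node 268 (.node 266 (.node 265 (.leaf 0x8c00010000000000000000230000400000000000000008c000100000000000000002300004) (.leaf 0)) (.node 267 (.leaf 0x8c000100000000000000000000001000000000000000000000040000000000000002300004) (.leaf 0x8c00010000000000000000230000400000000000000008c000100000000000000002300004))) (.node 270 (.node 269 (.leaf 0x8c00010000000000000000230000400000000000000008c000100000000000000002300004)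 (.leaf 0x8c000100000000000000002300004)) (.node 271 (.leaf 0x8c000100000000000000002300004) (.leaf 0x8c000100000000000000002300004000000000000000000000000000000000000000000000))))) (.node 280 (.node 276 (.node 274 (.node 273 (.leaf 0x8c00010000000000000000230000400000000000000008c000100000000000000002300004) (.leaf 0x8c000100000000000000002300004)) (.node 275 (.leaf 0x8c00010000000000000000230000400000000000000008c000100000000000000002300004) (.leaf 0x8c000100000000000000000000000000000000000000000000000000000000000002300004))) (.node 278 (.node 277 (.leaf 0x8c000100000000000000002300004000000000000000000000000000000000000000000000) (.leaf 0x8c00010000000000000000230000400000000000000008c000100000000000000002300004)) (.node 279 (.leaf 0) (.leaf 0x8c00010000000000000000230000400000000000000008c000100000000000000002300004)))) (.node 284 (.node 282 (.node 281 (.leaf 0x8c00010000000000000000230000400000000000000008c000100000000000000002300004) (.leaf 0x8c00010000000000000000230000400000000000000008c000000000000000000002300000))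 (.node 283 (.leaf 0x8c00010000000000000000230000400000000000000008c000100000000000000002300004) (.leaf 0x8c00010000000000000000230000400000000000000008c000100000000000000002300004))) (.node 286 (.node 285 (.leaf 0x8c00010000000000000000230000400000000000000008c000100000000000000002300004) (.leaf 0x8c00010000000000000000230000400000000000000008c000100000000000000002300004)) (.node 287 (.leaf 0) (.leaf 0x8c000100000000000000002300004000000000000000000000000000000000000000000000))))))

def uTB9 : Bst := (.node 304 (.node 296 (.node 292 (.node 290 (.node 289 (.leaf 0x8c00010000000000000000230000400000000000000008c000100000000000000002300004) (.leaf 0x230000400000000000000008c000100000000000000002300004)) (.node 291 (.leaf 0x2300004000000000000000000000000000000000000000000000) (.leaf 0x8c000100000000000000002300004000000000000000000000000000000000000000000000))) (.node 294 (.node 293 (.leaf 0x8c00010000000000000000230000400000000000000008c000100000000000000002300004) (.leaf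 0x8c000100000000000000002300004)) (.node 295 (.leaf 0x40000000000000000000000000000000000000000000040000000000000000000000) (.leaf 0x8c000100000000000000000000000000000000000000000000000000000000000002300004)))) (.node 300 (.node 298 (.node 297 (.leaf 0x8c00010000000000000000230000400000000000000008c000100000000000000002300004) (.leaf 0x8c00010000000000000000230000400000000000000008c000100000000000000002300004)) (.node 299 (.leaf 0x8c00000000000000000000230000000000000000000008c000100000000000000002300004) (.leaf 0x2300004))) (.node 302 (.node 301 (.leaf 0x8c000100000000000000000000000) (.leaf 0x8c00010000000000000000230000400000000000000008c000000000000000000002300000)) (.node 303 (.leaf 0x8c00010000000000000000230000400000000000000008c000000000000000000002300000) (.leaf 0x8c00010000000000000000230000400000000000000008c000000000000000000002300000))))) (.node 312 (.node 308 (.node 306 (.node 305 (.leaf 0x8c00010000000000000000000000d00000000000000008c00010000000000000000000000d)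 (.leaf 0)) (.node 307 (.leaf 0x8c00010000000000000000230000400000000000000008c000100000000000000002300004) (.leaf 0x8c000100000000000000002300004))) (.node 310 (.node 309 (.leaf 0) (.leaf 0x8c00010000000000000000230000400000000000000008c000100000000000000002300004)) (.node 311 (.leaf 0x8c00010000000000000000230000400000000000000008c000100000000000000002300004) (.leaf 0x8c00010000000000000000230000400000000000000008c000100000000000000002300004)))) (.node 316 (.node 314 (.node 313 (.leaf 0x4000000000000000000000100000000000000008c000100000000000000002300004) (.leaf 0x8c00010000000000000000230000400000000000000008c000100000000000000002300004)) (.node 315 (.leaf 0x8c00010000000000000000230000400000000000000008c000100000000000000002300004) (.leaf 0x8c00010000000000000000230000400000000000000008c000100000000000000002300004))) (.node 318 (.node 317 (.leaf 0x8c00010000000000000000230000400000000000000008c000100000000000000002300004) (.leaf 0x8c00010000000000000000230000400000000000000008c000100000000000000002300004))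 (.node 319 (.leaf 0x8c00010000000000000000230000400000000000000008c000100000000000000002300004) (.leaf 0))))))

def uTB10 : Bst := (.node 336 (.node 328 (.node 324 (.node 322 (.node 321 (.leaf 0) (.leaf 0x8c00010000000000000000000000000000000b779eee77b000380000000000000002300004)) (.node 323 (.leaf 0x1dee7779eec000e000000000000000000000000000000000000000000000) (.leaf 0x8c00010000000000000000230000400000000000000008c000100000000000000002300004))) (.node 326 (.node 325 (.leaf 0x8c000100000000000000002300004000000000000000000000040000000000000000000001) (.leaf 0x8c00010000000000000000230000400000000000000008c000100000000000000002300004)) (.node 327 (.leaf 0x8c000100000000000000002300004) (.leaf 0)))) (.node 332 (.node 330 (.node 329 (.leaf 0x8c000100000000000000002300004000000000000000000000000000000000000000000000) (.leaf 0x8c00010000000000000000230000400000000000000008c000100000000000000002300004)) (.node 331 (.leaf 0x8c00010000000000000000230000400000000000000008c000100000000000000002300004)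 (.leaf 0x2300004000000000000000000000000000000000000002300004))) (.node 334 (.node 333 (.leaf 0) (.leaf 0x8c00010000000000000000230000400000000000000008c000100000000000000002300004)) (.node 335 (.leaf 0x8c00010000000000000000230000400000000000000008c000100000000000000002300004) (.leaf 0x8c00010000000000000000230000400000000000000008c000100000000000000002300004))))) (.node 344 (.node 340 (.node 338 (.node 337 (.leaf 0x8c000100000000000000002300004) (.leaf 0x8c000100000000000000002300004000000000000000000000000000000000000000000000)) (.node 339 (.leaf 0x8c00010000000000000000230000400000000000000008c000100000000000000002300004) (.leaf 0))) (.node 342 (.node 341 (.leaf 0x8c000100000000000000000000000000000000000000000000000000000000000000000000) (.leaf 0x2300004000000000000000000000000000000000000000000000)) (.node 343 (.leaf 0x230000400000000000000008c000100000000000000002300004) (.leaf 0x8c00010000000000000000230000400000000000000008c000100000000000000000000000)))) (.node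 348 (.node 346 (.node 345 (.leaf 0x8c00010000000000000000000000000000000000000008c000100000000000000000000000) (.leaf 0x8c000100000000000000002300004)) (.node 347 (.leaf 0x8c000100000000000000002300004000000000000000000000000000000000000000000000) (.leaf 0x8c000100000000000000002300004))) (.node 350 (.node 349 (.leaf 0) (.leaf 0)) (.node 351 (.leaf 0x2300004000000000000000000000000000000000000000000000) (.leaf 0x2300004))))))

def uTB11 : Bst := (.node 368 (.node 360 (.node 356 (.node 354 (.node 353 (.leaf 0x8c000100000000000000002300004000000000000000000000000000000000000000000000) (.leaf 0x8c00010000000000000000230000400000000000000008c000100000000000000002300004)) (.node 355 (.leaf 0x8c00010000000000000000230000400000000000000008c000100000000000000002300004) (.leaf 0x8c00010000000000000000230000400000000000000008c000100000000000000002300004))) (.node 358 (.node 357 (.leaf 0x8c00010000000000000000230000400000000000000008c000100000000000000002300004) (.leaf 0x8c000100000000000000002300004))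 (.node 359 (.leaf 0x8c000100000000000000002300004000000000000000000000000000000000000002300004) (.leaf 0x2300004000000000000000000000000000000000000000000000)))) (.node 364 (.node 362 (.node 361 (.leaf 0x8c00010000000000000000230000400000000000000008c000100000000000000002300004) (.leaf 0x8c00010000000000000000230000400000000000000008c000100000000000000002300004)) (.node 363 (.leaf 0x8c00010000000000000000230000400000000000000008c000100000000000000002300004) (.leaf 0x8c000100000000000000002300004))) (.node 366 (.node 365 (.leaf 0) (.leaf 0x8c00010000000000000000230000400000000000000008c000100000000000000002300004)) (.node 367 (.leaf 0x8c00010000000000000000230000400000000000000008c000100000000000000002300004) (.leaf 0x8c000100000000000000002300004))))) (.node 376 (.node 372 (.node 370 (.node 369 (.leaf 0x230000400000000000000008c000100000000000000000000000) (.leaf 0x8c00010000000000000000230000400000000000000008c000100000000000000002300004)) (.node 371 (.leaf 0x8c000100000000000000002300004000000000000000000000000000000000000000000000)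 (.leaf 0x8c00010000000000000000230000400000000000000008c000100000000000000002300004))) (.node 374 (.node 373 (.leaf 0x8c00010000000000000000230000400000000000000008c000100000000000000002300004) (.leaf 0x8c00010000000000000000230000400000000000000008c000100000000000000002300004)) (.node 375 (.leaf 0x2300004) (.leaf 0x8c000100000000000000000000000000000000000000000000000000000000000000000000)))) (.node 380 (.node 378 (.node 377 (.leaf 0x8c00010000000000000000230000400000000000000008c000100000000000000002300004) (.leaf 0x8c00010000000000000000230000400000000000000008c000100000000000000002300004)) (.node 379 (.leaf 0x8c00010000000000000000230000400000000b779eee77b0002800000001dee7779eec000a) (.leaf 0x8c00010000000000000000230000400000000000000008c000100000000000000002300004))) (.node 382 (.node 381 (.leaf 0x8c000100000000000000002300004) (.leaf 0)) (.node 383 (.leaf 0x8c000100000000000000002300004000000000000000000000000000000000000000000000) (.leaf 0x8c00010000000000000000230000400000000000000008c000100000000000000002300004))))))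

def uTB12 : Bst := (.node 400 (.node 392 (.node 388 (.node 386 (.node 385 (.leaf 0) (.leaf 0x8c00010000000000000000230000400000000000000008c000200000000000000002300008)) (.node 387 (.leaf 0x8c00010000000000000000230000400000000000000008c000100000000000000002300004) (.leaf 0x2300004000000000000000000000000000000000000000000000))) (.node 390 (.node 389 (.leaf 0x2300004) (.leaf 0x8c00010000000000000000230000400000000000000008c000100000000000000002300004)) (.node 391 (.leaf 0x8c00010000000000000000230000400000000000000008c000100000000000000002300004) (.leaf 0x8c00010000000000000000230000400000000000000008c000100000000000000002300004)))) (.node 396 (.node 394 (.node 393 (.leaf 0x8c000100000000000000002300004) (.leaf 0)) (.node 395 (.leaf 0) (.leaf 0x8c000100000000000000002300004000000000000000000000000000000000000000000000))) (.node 398 (.node 397 (.leaf 0x8c00010000000000000000230000400000000000000008c000100000000000000002300004) (.leaf 0x8c000100000000000000002300004000000000000000000000000000000000000000000000))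 (.node 399 (.leaf 0x8c00010000000000000000000000000000000000000008c000100000000000000002300004) (.leaf 0x8c000100000000000000000000000000000000000000000000000000000000000000000000))))) (.node 408 (.node 404 (.node 402 (.node 401 (.leaf 0x8c00010000000000000000230000400000000000000008c000100000000000000002300004) (.leaf 0x8c000100000000000000002300004000000000000000000000000000000000000000000000)) (.node 403 (.leaf 0x8c000100000000000000000000000000000000000000000000000000000000000002300004) (.leaf 0x8c000100000000000000000000000000000000000000000000000000000000000002300004))) (.node 406 (.node 405 (.leaf 0x8c00010000000000000000230000400000000000000008c000100000000000000002300004) (.leaf 0x8c000100000000000000002300004)) (.node 407 (.leaf 0x8c00010000000000000000230000400000000000000008c000100000000000000002300004) (.leaf 0x2300004000000000000000000000000000000000000000000000)))) (.node 412 (.node 410 (.node 409 (.leaf 0x8c00010000000000000000230000400000000000000008c000100000000000000000000000)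 (.leaf 0x8c00010000000000000000230000400000000000000008c000100000000000000002300004)) (.node 411 (.leaf 0x8c000100000000000000002300004000000000000000000000000000000000000000000000) (.leaf 0))) (.node 414 (.node 413 (.leaf 0x8c00010000000000000000230000400000000000000008c000100000000000000002300004) (.leaf 0x8c00010000000000000000230000400000000000000008c000100000000000000002300004)) (.node 415 (.leaf 0x8c00010000000000000000230000400000000000000008c000100000000000000002300004) (.leaf 0x8c00010000000000000000230000400000000000000008c000100000000000000002300004))))))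

def uTB13 : Bst := (.node 432 (.node 424 (.node 420 (.node 418 (.node 417 (.leaf 0x8c00010000000000000000230000400000000000000008c000100000000000000002300004) (.leaf 0x8c00010000000000000000230000400000000000000008c000100000000000000002300004)) (.node 419 (.leaf 0) (.leaf 0x8c00010000000000000000230000400000000000000008c000100000000000000002300004))) (.node 422 (.node 421 (.leaf 0x230000400000000000000008c000100000000000000000000000) (.leaf 0x8c00010000000000000000230000400000000000000008c000100000000000000002300004)) (.node 423 (.leaf 0x8c00010000000000000000230000400000000000000008c000100000000000000002300004) (.leaf 0x8c00010000000000000000230000400000000000000008c000100000000000000002300004)))) (.node 428 (.node 426 (.node 425 (.leaf 0x8c00010000000000000000230000400000000000000008c000100000000000000002300004) (.leaf 0x8c000100000000000000000000000000000000000000000000000000000000000000000000)) (.node 427 (.leaf 0x8c000100000000000000000000000) (.leaf 0x8c00010000000000000000230000400000000000000008c000100000000000000002300004)))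 (.node 430 (.node 429 (.leaf 0) (.leaf 0x8c00010000000000000000230000400000000000000008c000100000000000000000000000)) (.node 431 (.leaf 0x8c000100000000000000002300004000000000000000000000000000000000000002300004) (.leaf 0x8c00010000000000000000230000400000000000000008c000100000000000000002300004))))) (.node 440 (.node 436 (.node 434 (.node 433 (.leaf 0x8c00010000000000000000230000400000000000000008c000100000000000000002300004) (.leaf 0)) (.node 435 (.leaf 0x230000400000000000000008c000100000000000000002300004) (.leaf 0x230000400000000000000008c000100000000000000002300004))) (.node 438 (.node 437 (.leaf 0x8c00010000000000000000230000400000000000000008c000100000000000000002300004) (.leaf 0x8c00010000000000000000230000400000000000000008c000100000000000000002300004)) (.node 439 (.leaf 0x230000000000000000000008c000100000000000000002300004) (.leaf 0x2300004000000000000000000000000000000000000002300000)))) (.node 444 (.node 442 (.node 441 (.leaf 0x8c00010000000000000000000000000000000000000008c000100000000000000002300004)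 (.leaf 0x8c000100000000000000002300000000000000000000000000000000000000000000000000)) (.node 443 (.leaf 0x8c00010000000000000000230000400000000000000008c000100000000000000002300000) (.leaf 0))) (.node 446 (.node 445 (.leaf 0) (.leaf 0)) (.node 447 (.leaf 0x8c00010000000000000000230000400000000000000008c000100000000000000002300004) (.leaf 0x8c00010000000000000000230000400000000000000008c000100000000000000002300004))))))

def uTB14 : Bst := (.node 464 (.node 456 (.node 452 (.node 450 (.node 449 (.leaf 0x8c00010000000000000000000000000000000000000008c000100000000000000002300004) (.leaf 0x2300004000000000000000000000000000000000000002300004)) (.node 451 (.leaf 0x8c00010000000000000000000000000000000000000008c000100000000000000002300004) (.leaf 0))) (.node 454 (.node 453 (.leaf 0x2300004000000000000000000000000000000000000000000000) (.leaf 0x8c000100000000000000000000000000000000000000000000000000000000000000000000)) (.node 455 (.leaf 0x8c000100000000000000000000000000000000000000000000000000000000000002300004)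 (.leaf 0x8c00010000000000000000230000400000000000000008c000100000000000000002300004)))) (.node 460 (.node 458 (.node 457 (.leaf 0x230000400000000000000008c000100000000000000002300004) (.leaf 0x8c00010000000000000000230000400000000000000008c000100000000000000002300004)) (.node 459 (.leaf 0x8c00010000000000000000230000400000000000000008c000100000000000000002300004) (.leaf 0x8c000100000000000000000000000000000000000000000000000000000000000002300004))) (.node 462 (.node 461 (.leaf 0x2300004000000000000000000000000000000000000002300004) (.leaf 0x8c00010000000000000000000000000000000000000008c000100000000000000000000000)) (.node 463 (.leaf 0x8c000100000000000000000000000) (.leaf 0x8c000100000000000000002300000))))) (.node 472 (.node 468 (.node 466 (.node 465 (.leaf 0x8c000100000000000000002300004000000000000000000000000000000000000002300004) (.leaf 0x230000400000000000000008c000100000000000000002300000)) (.node 467 (.leaf 0) (.leaf 0x8c00010000000000000000230000400000000000000008c000100000000000000000000000)))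 (.node 470 (.node 469 (.leaf 0x8c000100000000000000000000000) (.leaf 0x8c000100000000000000002300004000000000000000000000000000000000000002300004)) (.node 471 (.leaf 0x8c00010000000000000000000001100000000000000008c000100000000000000000000000) (.leaf 0x8c00010000000000000000000001100000000000000008c000100000000000000002300004)))) (.node 476 (.node 474 (.node 473 (.leaf 0) (.leaf 0x8c000100000000000000000000000000000000000000000000000000000000000000000000)) (.node 475 (.leaf 0x8c00010000000000000000000000000000000000000008c000100000000000000002300004) (.leaf 0x8c00010000000000000000230000400000000000000008c000100000000000000002300004))) (.node 478 (.node 477 (.leaf 0x8c00010000000000000000230000400000000000000008c000100000000000000002300004) (.leaf 0x2300004000000000000000000000000000000000000000000000)) (.node 479 (.leaf 0x8c000100000000000000000000000000000000000000000000000000000000000000000000) (.leaf 0x8c00010000000000000000230000400000000000000008c000100000000000000002300004))))))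

def uTB15 : Bst := (.node 496 (.node 488 (.node 484 (.node 482 (.node 481 (.leaf 0x8c000100000000000000002300004000000000000000000000040000000000000000000001) (.leaf 0)) (.node 483 (.leaf 0) (.leaf 0))) (.node 486 (.node 485 (.leaf 0x8c00020000000000000000230000000000000000000008c000000000000000000002300008) (.leaf 0x8c00010000000000000000230000400000000000000008c000100000000000000002300004)) (.node 487 (.leaf 0x8c000100000000000000002300004) (.leaf 0)))) (.node 492 (.node 490 (.node 489 (.leaf 0) (.leaf 0)) (.node 491 (.leaf 0) (.leaf 0))) (.node 494 (.node 493 (.leaf 0x8c000100000000000000002300004000000000000000000000000000000000000000000000) (.leaf 0x8c00010000000000000000230000400000000000000008c000100000000000000002300004)) (.node 495 (.leaf 0x8c00010000000000000000230000400000000000000008c000100000000000000002300004) (.leaf 0x8c00010000000000000000230000400000000000000008c000100000000000000002300004))))) (.node 504 (.node 500 (.node 498 (.node 497 (.leaf 0x8c00010000000000000000230000400000000000000008c000100000000000000002300004)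 (.leaf 0x8c00010000000000000000230000400000000000000008c000100000000000000002300004)) (.node 499 (.leaf 0x8c00010000000000000000230000400000000000000008c000100000000000000002300004) (.leaf 0x8c00010000000000000000230000000000000000000008c000100000000000000002300004))) (.node 502 (.node 501 (.leaf 0x8c00010000000000000000230000000000000000000008c000100000000000000002300004) (.leaf 0x8c00010000000000000000230000400000000000000008c000100000000000000002300004)) (.node 503 (.leaf 0x8c00010000000000000000230000400000000000000008c000100000000000000002300004) (.leaf 0x8c00010000000000000000230000400000000000000008c000100000000000000002300004)))) (.node 508 (.node 506 (.node 505 (.leaf 0x44000000000000000230000400000000000000008c000100000000000000000000011) (.leaf 0x8c00010000000000000000230000400000000000000008c000100000000000000002300004)) (.node 507 (.leaf 0x8c000100000000000000002300004) (.leaf 0))) (.node 510 (.node 509 (.leaf 0x2300004000000000000000000000000000000000000000000000)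 (.leaf 0x2300004000000000000000000000000000000000000002300004)) (.node 511 (.leaf 0x8c00010000000000000000000000000000000000000008c000100000000000000002300004) (.leaf 0x8c000100000000000000002300004000000000000000000000000000000000000000000000))))))

def uTB16 : Bst := (.node 528 (.node 520 (.node 516 (.node 514 (.node 513 (.leaf 0x8c00010000000000000000230000400000000000000008c000100000000000000002300004) (.leaf 0x8c00010000000000000000230000400000000000000008c000100000000000000002300004)) (.node 515 (.leaf 0x8c00010000000000000000230000400000000000000008c000100000000000000002300004) (.leaf 0x8c00010000000000000000230000400000000000000008c000100000000000000002300004))) (.node 518 (.node 517 (.leaf 0x8c00010000000000000000230000400000000000000008c000100000000000000002300004) (.leaf 0x8c00010000000000000000230000400000000000000008c000100000000000000002300004)) (.node 519 (.leaf 0x8c00010000000000000000230000400000000000000008c000100000000000000002300004) (.leaf 0x8c00010000000000000000230000400000000000000008c000100000000000000002300004))))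 (.node 524 (.node 522 (.node 521 (.leaf 0x8c00010000000000000000230000400000000000000008c000100000000000000002300004) (.leaf 0x8c00010000000000000000230000400000000000000008c000100000000000000002300004)) (.node 523 (.leaf 0) (.leaf 0x8c00010000000000000000230000400000000000000008c000100000000000000002300004))) (.node 526 (.node 525 (.leaf 0x8c00010000000000000000230000400000000000000008c000100000000000000002300004) (.leaf 0x8c00010000000000000000230000400000000000000008c000100000000000000002300004)) (.node 527 (.leaf 0x8c000100000000000000002300004) (.leaf 0))))) (.node 536 (.node 532 (.node 530 (.node 529 (.leaf 0x8c00010000000000000000230000400000000000000008c000100000000000000002300004) (.leaf 0x8c000200000000000000002300008)) (.node 531 (.leaf 0) (.leaf 0))) (.node 534 (.node 533 (.leaf 0x8c00010000000000000000230000400000000000000008c000100000000000000002300004) (.leaf 0x8c000100000000000000000000000000000000000000000000000000000000000002300004)) (.node 535 (.leaf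 0x8c000100000000000000002300004000000000000000000000000000000000000000000000) (.leaf 0x8c00010000000000000000230000400000000000000008c000100000000000000002300004)))) (.node 540 (.node 538 (.node 537 (.leaf 0x8c00010000000000000000230000400000000000000008c000100000000000000002300004) (.leaf 0x8c00020000000000000000230000400000000000000008c000200000000000000002300004)) (.node 539 (.leaf 0) (.leaf 0x8c000100000000000000002300004))) (.node 542 (.node 541 (.leaf 0x8c000100000000000000002300004000000000000000000000000000000000000000000000) (.leaf 0x8c000100000000000000002300004000000000000000000000000000000000000000000000)) (.node 543 (.leaf 0x8c00010000000000000000230000400000000000000008c000100000000000000002300004) (.leaf 0x44000000000000000000001100000000000000008c000100000000000000002300004))))))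

def uTB17 : Bst := (.node 560 (.node 552 (.node 548 (.node 546 (.node 545 (.leaf 0x8c000100000000000000002300004000000000000000000000040000000000000000000001) (.leaf 0x8c00010000000000000000230000400000000000000008c000100000000000000002300004)) (.node 547 (.leaf 0x8c00010000000000000000230000400000000000000008c000100000000000000002300004) (.leaf 0x8c00010000000000000000230000400000000000000008c000100000000000000002300004))) (.node 550 (.node 549 (.leaf 0x8c000100000000000000000000000000000000000000000000000000000000000000000000) (.leaf 0x100000000000000008c000100000000000000000000001)) (.node 551 (.leaf 0) (.leaf 0)))) (.node 556 (.node 554 (.node 553 (.leaf 0) (.leaf 0x8c000000000000000000002300008000000000000000000000000000000000000000000000)) (.node 555 (.leaf 0x8c000200000000000000002300000) (.leaf 0x8c00010000000000000000230000400000000000000008c000100000000000000002300004))) (.node 558 (.node 557 (.leaf 0) (.leaf 0x8c000100000000000000002300004)) (.node 559 (.leaf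 0) (.leaf 0x8c00010000000000000000230000400000000000000008c000100000000000000000000000))))) (.node 568 (.node 564 (.node 562 (.node 561 (.leaf 0x2300004000000000000000000000000000000000000000000000) (.leaf 0x8c00010000000000000000230000400000000000000008c000100000000000000002300004)) (.node 563 (.leaf 0x8c00010000000000000000230000400000000000000008c000100000000000000002300004) (.leaf 0x8c00010000000000000000230000400000000000000008c000100000000000000002300004))) (.node 566 (.node 565 (.leaf 0) (.leaf 0)) (.node 567 (.leaf 0) (.leaf 0x8c00010000000000000000230000400000000000000008c000100000000000000002300004)))) (.node 572 (.node 570 (.node 569 (.leaf 0x8c00010000000000000000230000400000000000000008c000100000000000000002300004) (.leaf 0x8c000100000000000000002300004)) (.node 571 (.leaf 0x8c000100000000000000002300004) (.leaf 0x440000000000000000000011000000000000000000000000000000000000000000000))) (.node 574 (.node 573 (.leaf 0x8c000000000000000000002300000000000000000000000000040000000000000000000001)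 (.leaf 0x8c00010000000000000000230000400000000000000008c000100000000000000002300004)) (.node 575 (.leaf 0) (.leaf 0x8c000000000000000000002300000000000000000000000000000000000000000000000000))))))

def uTB18 : Bst := (.node 592 (.node 584 (.node 580 (.node 578 (.node 577 (.leaf 0x8c00010000000000000000230000400000000000000008c000100000000000000002300004) (.leaf 0)) (.node 579 (.leaf 0) (.leaf 0))) (.node 582 (.node 581 (.leaf 0x8c00010000000000000000230000400000000000000008c000100000000000000000000000) (.leaf 0x8c000100000000000000002300004000000000000000000000000000000000000002300004)) (.node 583 (.leaf 0x8c00010000000000000000230000400000000000000008c000100000000000000002300004) (.leaf 0x8c000100000000000000002300004)))) (.node 588 (.node 586 (.node 585 (.leaf 0x8c000100000000000000000000000000000000000000000000000000000000000002300004) (.leaf 0x8c000100000000000000002300004)) (.node 587 (.leaf 0x8c000100000000000000002300004) (.leaf 0))) (.node 590 (.node 589 (.leaf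 0x8c000100000000000000002300004000000000000000000000000000000000000000000000) (.leaf 0x8c00010000000000000000230000400000000000000008c000100000000000000002300004)) (.node 591 (.leaf 0x8c00010000000000000000230000400000000000000008c000100000000000000002300004) (.leaf 0x8c00010000000000000000230000400000000000000008c000100000000000000002300004))))) (.node 600 (.node 596 (.node 594 (.node 593 (.leaf 0x8c000100000000000000000000000000000000000000000000000000000000000000000000) (.leaf 0x8c00010000000000000000230000400000000000000008c000100000000000000000000000)) (.node 595 (.leaf 0x8c000100000000000000002300004000000000000000000000000000000000000000000000) (.leaf 0))) (.node 598 (.node 597 (.leaf 0) (.leaf 0x8c00010000000000000000230000400000000000000008c000100000000000000002300004)) (.node 599 (.leaf 0x8c00010000000000000000230000400000000000000008c000100000000000000002300004) (.leaf 0x2300004000000000000000000000000000000000000002300004)))) (.node 604 (.node 602 (.node 601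 (.leaf 0x8c000000000000000000002300000000000000000000000000000000000000000000000000) (.leaf 0x8c000100000000000000002300004000000000000000000000000000000000000000000000)) (.node 603 (.leaf 0x8c00010000000000000000230000400000000000000008c000100000000000000002300004) (.leaf 0x8c00010000000000000000230000400000000000000008c000100000000000000002300004))) (.node 606 (.node 605 (.leaf 0x8c00010000000000000000230000400000000000000008c000100000000000000002300004) (.leaf 0x8c00010000000000000000230000400000000000000008c000100000000000000002300004)) (.node 607 (.leaf 0x8c00000000000000000000230000400000000000000008c000100000000000000002300000) (.leaf 0x8c00010000000000000000230000400000000000000008c000100000000000000002300004))))))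

def uTB19 : Bst := (.node 624 (.node 616 (.node 612 (.node 610 (.node 609 (.leaf 0x8c00010000000000000000230000400000000000000008c000100000000000000002300004) (.leaf 0x8c00010000000000000000230000400000000000000008c000100000000000000002300004)) (.node 611 (.leaf 0) (.leaf 0))) (.node 614 (.node 613 (.leaf 0) (.leaf 0)) (.node 615 (.leaf 0x8c00010000000000000000230000400000000000000008c000100000000000000002300004) (.leaf 0x1c0004000000000000000000000000000000000000000000000)))) (.node 620 (.node 618 (.node 617 (.leaf 0x8c0001000000000000000023000040000000000000000000000000000000000000001c0004) (.leaf 0x2300004000000000000000000000000000000000000002300004)) (.node 619 (.leaf 0) (.leaf 0x230000400000000000000008c000100000000000000002300004))) (.node 622 (.node 621 (.leaf 0x8c000100000000000000000000000000000000000000000000000000000000000000000000) (.leaf 0x8c00010000000000000000230000400000000000000008c000100000000000000000000000)) (.node 623 (.leaf 0x8c000100000000000000002300004000000000000000000000000000000000000002300004)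 (.leaf 0x8c00010000000000000000230000400000000000000008c000100000000000000002300004))))) (.node 632 (.node 628 (.node 626 (.node 625 (.leaf 0x8c00010000000000000000230000400000000000000008c000100000000000000002300004) (.leaf 0x8c00010000000000000000230000400000000000000008c000100000000000000002300004)) (.node 627 (.leaf 0x8c00010000000000000000230000400000000000000008c000100000000000000002300004) (.leaf 0))) (.node 630 (.node 629 (.leaf 0x8c00010000000000000000230000400000000000000008c000100000000000000002300004) (.leaf 0x230000400000000000000008c000000000000000000002300000)) (.node 631 (.leaf 0x8c00010000000000000000000000000000000000000008c000100000000000000000000000) (.leaf 0x230000400000000000000008c000100000000000000000000000)))) (.node 636 (.node 634 (.node 633 (.leaf 0x2300004) (.leaf 0)) (.node 635 (.leaf 0x8c00010000000000000000230000400000000000000008c000100000000000000002300004) (.leaf 0x2300004))) (.node 638 (.node 637 (.leaf 0x8c000100000000000000002300004000000000000000000000000000000000000002300004)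 (.leaf 0x8c00010000000000000000230000400000000000000008c000100000000000000002300004)) (.node 639 (.leaf 0) (.leaf 0))))))

def uTB20 : Bst := (.node 656 (.node 648 (.node 644 (.node 642 (.node 641 (.leaf 0x8c00010000000000000000000000000000000000000008c000100000000000000002300004) (.leaf 0x8c000100000000000000000000000)) (.node 643 (.leaf 0x8c000000000000000000002300000) (.leaf 0))) (.node 646 (.node 645 (.leaf 0x8c0001000000000000000001c000400000000000000008c000100000000000000002300004) (.leaf 0x2300004000000000000000007000100000000000000002300004)) (.node 647 (.leaf 0x44000000000000000000001100000000000000008c000100000000000000002300004) (.leaf 0x8c000100000000000000000000000000000000000000000000000000000000000000000000)))) (.node 652 (.node 650 (.node 649 (.leaf 0x8c000100000000000000002300004000000000000000000000000000000000000000000000) (.leaf 0x8c00010000000000000000230000400000000000000008c000100000000000000002300004)) (.node 651 (.leaf 0x8c00010000000000000000230000400000000000000008c000100000000000000002300004)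 (.leaf 0))) (.node 654 (.node 653 (.leaf 0x8c000100000000000000002300004000000000000000000000000000000000000000000000) (.leaf 0x8c00010000000000000000230000400000000000000008c000100000000000000002300004)) (.node 655 (.leaf 0x4000000000000000230000400000000000000008c000100000000000000002300004) (.leaf 0x8c00010000000000000000230000400000000000000008c000100000000000000000000001))))) (.node 664 (.node 660 (.node 658 (.node 657 (.leaf 0x8c00010000000000000000230000400000000000000008c000100000000000000002300004) (.leaf 0)) (.node 659 (.leaf 0) (.leaf 0x8c00010000000000000000230000400000000000000008c000100000000000000002300004))) (.node 662 (.node 661 (.leaf 0x8c00010000000000000000230000400000000000000008c000100000000000000002300004) (.leaf 0x8c000100000000000000002300004)) (.node 663 (.leaf 0x230000400000000000000008c000100000000000000000000000) (.leaf 0x4000000000000000000000000000000000000008c000100000000000000000000000)))) (.node 668 (.node 666 (.node 665 (.leaf 0x8c00010000000000000000230000400000000000000008c000100000000000000000000001)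 (.leaf 0x8c000100000000000000002300004000000000000000000000440000000000000000000011)) (.node 667 (.leaf 0x8c00010000000000000000230000400000000000000008c000100000000000000002300004) (.leaf 0x8c00010000000000000000230000400000000000000008c000100000000000000002300004))) (.node 670 (.node 669 (.leaf 0x8c00010000000000000000230000400000000000000008c000100000000000000002300004) (.leaf 0)) (.node 671 (.leaf 0x8c00010000000000000000230000400000000000000008c000100000000000000002300004) (.leaf 0))))))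

def uTB21 : Bst := (.node 688 (.node 680 (.node 676 (.node 674 (.node 673 (.leaf 0x230000400000000000000008c000100000000000000002300004) (.leaf 0x8c00010000000000000000230000400000000000000008c000100000000000000000000000)) (.node 675 (.leaf 0x8c00010000000000000000230000400000000000000008c000100000000000000002300004) (.leaf 0x8c00010000000000000000000000000000000000000008c000100000000000000002300004))) (.node 678 (.node 677 (.leaf 0x230000400000000000000008c000100000000000000000000000) (.leaf 0x8c000100000000000000000000000000000000000000000000000000000000000000000000)) (.node 679 (.leaf 0x8c000100000000000000002300004) (.leaf 0)))) (.node 684 (.node 682 (.node 681 (.leaf 0x8c000100000000000000002300004000000000000000000000000000000000000000000000) (.leaf 0x4000000000000000000000100000000000000008c000100000000000000002300004)) (.node 683 (.leaf 0x70001000000000000000001c000400000000000000008c000100000000000000002300004) (.leaf 0x8c00010000000000000000230000400000000000000008c000100000000000000002300004)))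 (.node 686 (.node 685 (.leaf 0x8c00010000000000000000230000400000000000000008c000100000000000000002300004) (.leaf 0x8c00010000000000000000230000400000000000000008c000100000000000000002300004)) (.node 687 (.leaf 0x8c00010000000000000000230000400000000000000008c000100000000000000002300004) (.leaf 0x8c00010000000000000000230000400000000000000008c000100000000000000002300004))))) (.node 696 (.node 692 (.node 690 (.node 689 (.leaf 0x8c00010000000000000000230000400000000000000008c000100000000000000002300004) (.leaf 0x8c00000000000000000000230000000000000000000008c000100000000000000002300004)) (.node 691 (.leaf 0x8c000100000000000000002300004) (.leaf 0))) (.node 694 (.node 693 (.leaf 0) (.leaf 0x8c000100000000000000002300004000000000000000000000000000000000000000000000)) (.node 695 (.leaf 0x8c00010000000000000000230000400000000000000008c000100000000000000002300004) (.leaf 0x8c000100000000000000002300004)))) (.node 700 (.node 698 (.node 697 (.leaf 0) (.leaf 0x8c000000000000000000002300000000000000000000000000000000000000000000000000))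 (.node 699 (.leaf 0x8c00010000000000000000230000400000000000000008c000100000000000000002300004) (.leaf 0x8c000100000000000000002300004))) (.node 702 (.node 701 (.leaf 0x2300004000000000000000000000000000000000000000000000) (.leaf 0x8c00010000000000000000230000400000000000000008c000100000000000000000000000)) (.node 703 (.leaf 0x8c000100000000000000002300004) (.leaf 0x8c000100000000000000002300004000000000000000000000000000000000000000000000))))))

def uTB22 : Bst := (.node 720 (.node 712 (.node 708 (.node 706 (.node 705 (.leaf 0x4000000000000000000000100000000000000008c000100000000000000002300004) (.leaf 0x8c00010000000000000000230000400000000000000008c000100000000000000002300004)) (.node 707 (.leaf 0x8c00010000000000000000230000400000000000000008c000100000000000000002300004) (.leaf 0x8c000100000000000000002300004000000000000000000000000000000000000000000000))) (.node 710 (.node 709 (.leaf 0) (.leaf 0x8c00010000000000000000230000400000000000000008c000100000000000000002300004))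 (.node 711 (.leaf 0x8c00010000000000000000230000400000000000000008c000100000000000000002300004) (.leaf 0x340000000000000002300004000000000000000000000000000000000000000000000)))) (.node 716 (.node 714 (.node 713 (.leaf 0x230000400000000000000008c00010000000000000000000000d) (.leaf 0x8c000100000000000000000000000)) (.node 715 (.leaf 0x8c00010000000000000000230000400000000000000008c000100000000000000002300004) (.leaf 0x8c000100000000000000002300004))) (.node 718 (.node 717 (.leaf 0x8c000100000000000000002300004000000000000000000000000000000000000000000000) (.leaf 0x8c00010000000000000000230000400000000000000008c000100000000000000002300004)) (.node 719 (.leaf 0x8c00010000000000000000230000400000000000000008c000100000000000000002300004) (.leaf 0x8c00010000000000000000230000400000000000000008c000100000000000000002300004))))) (.node 728 (.node 724 (.node 722 (.node 721 (.leaf 0x8c00010000000000000000230000400000000000000008c000100000000000000002300004) (.leaf 0x8c000100000000000000002300004000000000000000000000040000000000000000000001))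 (.node 723 (.leaf 0x8c00010000000000000000230000400000000000000000000034000000000000000000000d) (.leaf 0x8c000100000000000000002300004))) (.node 726 (.node 725 (.leaf 0) (.leaf 0x8c00010000000000000000230000400000000000000008c000100000000000000002300004)) (.node 727 (.leaf 0x8c00010000000000000000230000400000000000000008c000100000000000000002300004) (.leaf 0x2300004)))) (.node 732 (.node 730 (.node 729 (.leaf 0x2300004) (.leaf 0x8c00010000000000000000230000400000000000000008c000100000000000000002300004)) (.node 731 (.leaf 0x8c00010000000000000000230000400000000000000008c000000000000000000002300000) (.leaf 0x8c000100000000000000000000000000000000000000000000000000000000000000000000))) (.node 734 (.node 733 (.leaf 0x230000400000000000000008c000100000000000000000000000) (.leaf 0x8c00010000000000000000230000400000000000000008c000100000000000000000000000)) (.node 735 (.leaf 0x8c00010000000000000000230000400000000000000008c000100000000000000002300004) (.leaf 0x8c00010000000000000000230000400000000000000008c000100000000000000002300004))))))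

def uTB23 : Bst := (.node 752 (.node 744 (.node 740 (.node 738 (.node 737 (.leaf 0x230000400000000000000008c000100000000000000002300004) (.leaf 0x8c000100000000000000000000000000000000000000000000000000000000000000000000)) (.node 739 (.leaf 0x8c000100000000000000002300004000000000000000000000000000000000000000000000) (.leaf 0x8c00010000000000000000230000400000000000000008c000100000000000000002300004))) (.node 742 (.node 741 (.leaf 0x8c00010000000000000000230000400000000000000008c000100000000000000002300004) (.leaf 0x8c00010000000000000000230000400000000000000008c000100000000000000002300004)) (.node 743 (.leaf 0x8c000100000000000000002300004) (.leaf 0x8c000100000000000000002300004000000000000000000000000000000000000000000000)))) (.node 748 (.node 746 (.node 745 (.leaf 0x8c00010000000000000000230000400000000000000008c000100000000000000002300004) (.leaf 0)) (.node 747 (.leaf 0x8c000100000000000000002300004000000000000000000000000000000000000000000000) (.leaf 0x8c00010000000000000000230000400000000000000008c000100000000000000002300004)))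 (.node 750 (.node 749 (.leaf 0x8c00010000000000000000230000400000000000000008c000100000000000000002300004) (.leaf 0x8c00010000000000000000230000400000000000000008c000100000000000000002300004)) (.node 751 (.leaf 0x8c00010000000000000000230000400000000000000008c000100000000000000002300004) (.leaf 0x8c00010000000000000000230000400000000000000008c000100000000000000002300004))))) (.node 760 (.node 756 (.node 754 (.node 753 (.leaf 0x8c00010000000000000000230000400000000000000008c000100000000000000002300004) (.leaf 0x8c00010000000000000000230000400000000000000008c000100000000000000002300004)) (.node 755 (.leaf 0x8c00000000000000000000230000000000000000000008c000100000000000000002300004) (.leaf 0x8c00010000000000000000230000400000000000000008c000100000000000000002300004))) (.node 758 (.node 757 (.leaf 0x8c000100000000000000002300004) (.leaf 0)) (.node 759 (.leaf 0x8c000100000000000000000000001000000000000000000000000000000000000000000000) (.leaf 0x8c000100000000000000000000000))))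 (.node 764 (.node 762 (.node 761 (.leaf 0x40000000000000002300004000000000000000000000000000000000000002300004) (.leaf 0x8c00010000000000000000230000400000000000000008c000100000000000000002300004)) (.node 763 (.leaf 0x8c00010000000000000000230000400000000000000008c000100000000000000002300004) (.leaf 0x8c00010000000000000000230000400000000000000008c000100000000000000002300004))) (.node 766 (.node 765 (.leaf 0) (.leaf 0)) (.node 767 (.leaf 0x4000000000000000000000100000000000000008c000100000000000000002300004) (.leaf 0x8c00010000000000000000230000400000000000000008c000100000000000000002300004))))))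

def uTB24 : Bst := (.node 784 (.node 776 (.node 772 (.node 770 (.node 769 (.leaf 0x230000400000000000000008c000100000000000000002300004) (.leaf 0x2300004)) (.node 771 (.leaf 0x8c000100000000000000002300004000000000000000000000000000000000000000000000) (.leaf 0x8c00000000000000000000230000400000000000000008c000100000000000000002300004))) (.node 774 (.node 773 (.leaf 0x8c00010000000000000000230000400000000000000008c000000000000000000002300004) (.leaf 0x8c00010000000000000000230000400000000000000008c000100000000000000002300004)) (.node 775 (.leaf 0) (.leaf 0x8c00000000000000000000230000400000000000000008c000100000000000000002300004)))) (.node 780 (.node 778 (.node 777 (.leaf 0x8c000100000000000000002300000) (.leaf 0)) (.node 779 (.leaf 0x440000000000000000000000) (.leaf 0x8c000100000000000000002300004000000000000000000000000000000000000000000011))) (.node 782 (.node 781 (.leaf 0x8c000100000000000000000000000000000000000000000000000000000000000002300004) (.leaf 0x8c00010000000000000000000000000000000000000008c000100000000000000002300004))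 (.node 783 (.leaf 0x8c00010000000000000000230000400000000000000008c000100000000000000000000000) (.leaf 0))))) (.node 792 (.node 788 (.node 786 (.node 785 (.leaf 0x8c00010000000000000000230000800000000000000008c000200000000000000002300004) (.leaf 0)) (.node 787 (.leaf 0) (.leaf 0))) (.node 790 (.node 789 (.leaf 0x2300004000000000000000000000000000000000000002300004) (.leaf 0)) (.node 791 (.leaf 0x8c000100000000000000002300004000000000000000000000040000000000000000000001) (.leaf 0x8c00010000000000000000230000400000000000000008c000100000000000000002300004)))) (.node 796 (.node 794 (.node 793 (.leaf 0x8c000100000000000000002300004000000000000000000000040000000000000000000001) (.leaf 0x8c00010000000000000000230000400000000000000008c000100000000000000002300004)) (.node 795 (.leaf 0x8c00010000000000000000230000400000000000000008c000100000000000000002300004) (.leaf 0x2300004000000000000000000000000000000000000000000000))) (.node 798 (.node 797 (.leaf 0x8c000100000000000000002300004)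 (.leaf 0x8c000100000000000000002300004000000000000000000000000000000000000002300004)) (.node 799 (.leaf 0x8c00010000000000000000230000400000000000000008c000100000000000000002300004) (.leaf 0x8c00010000000000000000230000400000000000000008c000100000000000000002300004))))))

def uTB25 : Bst := (.node 816 (.node 808 (.node 804 (.node 802 (.node 801 (.leaf 0x8c00010000000000000000230000400000000000000008c000100000000000000002300004) (.leaf 0)) (.node 803 (.leaf 0x8c000200000000000000002300008000000000000000000000000000000000000000000000) (.leaf 0x8c00010000000000000000230000400000000000000008c000100000000000000002300004))) (.node 806 (.node 805 (.leaf 0x8c00010000000000000000230000400000000000000008c000100000000000000002300004) (.leaf 0x8c000000000000000000000000000000000000000000000000000000000000000000000000)) (.node 807 (.leaf 0x8c000100000000000000002300004000000000000000000000000000000000000002300000) (.leaf 0x8c000100000000000000002300004)))) (.node 812 (.node 810 (.node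 809 (.leaf 0x8c00010000000000000000230000400000000000000008c000100000000000000002300004) (.leaf 0x8c000100000000000000002300004000000000000000000000440000000000000000000011)) (.node 811 (.leaf 0x8c00010000000000000000230000400000000000000008c000100000000000000002300004) (.leaf 0x230000400000000000000008c000100000000000000002300004))) (.node 814 (.node 813 (.leaf 0) (.leaf 0x8c00010000000000000000230000400000000000000008c000100000000000000000000000)) (.node 815 (.leaf 0x8c00010000000000000000230000400000000000000008c000100000000000000002300004) (.leaf 0x8c00010000000000000000230000400000000000000008c000100000000000000002300004))))) (.node 824 (.node 820 (.node 818 (.node 817 (.leaf 0x8c00010000000000000000230000400000000000000008c000100000000000000002300004) (.leaf 0x8c00010000000000000000230000400000000000000008c000100000000000000002300004)) (.node 819 (.leaf 0) (.leaf 0))) (.node 822 (.node 821 (.leaf 0x8c00010000000000000000230000400000000000000008c000100000000000000002300004)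 (.leaf 0x8c000100000000000000002300004)) (.node 823 (.leaf 0x8c000100000000000000002300004000000000000000000000000000000000000000000000) (.leaf 0x4000000000000000000000100000000000000008c000100000000000000002300004)))) (.node 828 (.node 826 (.node 825 (.leaf 0x8c000100000000000000002300004) (.leaf 0x1c00040000000000000000000000000000000000000001c0004)) (.node 827 (.leaf 0x8c000100000000000000002300004000000000000000000000000000000000000000000000) (.leaf 0x8c00010000000000000000230000400000000000000008c000100000000000000002300004))) (.node 830 (.node 829 (.leaf 0x8c00010000000000000000230000400000000000000008c000100000000000000002300004) (.leaf 0x8c00020000000000000000230000400000000000000008c000200000000000000002300004)) (.node 831 (.leaf 0) (.leaf 0))))))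

def uTB26 : Bst := (.node 848 (.node 840 (.node 836 (.node 834 (.node 833 (.leaf 0) (.leaf 0x4000000000000000000000100000000000000008c000100000000000000002300004)) (.node 835 (.leaf 0x8c000100000000000000002300004) (.leaf 0x8c00010000000000000000230000400000000000000008c000100000000000000002300004))) (.node 838 (.node 837 (.leaf 0x40000000000000000000000) (.leaf 0x8c000100000000000000002300004000000000000000000000040000000000000000000000)) (.node 839 (.leaf 0x8c000100000000000000002300004) (.leaf 0x230000400000000000000008c000100000000000000002300004)))) (.node 844 (.node 842 (.node 841 (.leaf 0x230000400000000000000008c000100000000000000000000000) (.leaf 0x8c00010000000000000000230000400000000000000008c000100000000000000000000000)) (.node 843 (.leaf 0x8c00010000000000000000230000400000000000000008c000100000000000000002300004) (.leaf 0x8c000100000000000000002300004000000000000000000000000000000000000000000000))) (.node 846 (.node 845 (.leaf 0x8c000100000000000000002300004)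 (.leaf 0x8c000100000000000000000000000000000000000000000000000000000000000002300004)) (.node 847 (.leaf 0x8c00010000000000000000230000400000000000000008c000100000000000000002300004) (.leaf 0x8c000100000000000000002300004))))) (.node 856 (.node 852 (.node 850 (.node 849 (.leaf 0x8c000200000000000000002300008) (.leaf 0x8c000100000000000000002300004000000000000000000000000000000000000000000000)) (.node 851 (.leaf 0x8c00010000000000000000230000400000000000000008c000100000000000000002300004) (.leaf 0x8c00010000000000000000230000400000000000000008c000100000000000000002300004))) (.node 854 (.node 853 (.leaf 0x8c00000000000000000000230000000000000000000008c000100000000000000002300004) (.leaf 0x8c00010000000000000000230000400000000000000008c000100000000000000002300004)) (.node 855 (.leaf 0x8c00010000000000000000230000400000000000000008c000100000000000000002300004) (.leaf 0x8c000100000000000000002300004)))) (.node 860 (.node 858 (.node 857 (.leaf 0x8c000100000000000000002300004000000000000000000000000000000000000000000000)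 (.leaf 0x8c00010000000000000000000000000000000000000008c000100000000000000002300004)) (.node 859 (.leaf 0x8c000100000000000000002300004000000000000000000000000000000000000002300004) (.leaf 0x8c00010000000000000000230000400000000000000008c000100000000000000002300004))) (.node 862 (.node 861 (.leaf 0x8c00010000000000000000230000400000000000000008c000100000000000000002300004) (.leaf 0x8c00010000000000000000230000400000000000000008c000100000000000000002300004)) (.node 863 (.leaf 0x8c000100000000000000002300004) (.leaf 0x8c00010000000000000000000000000000000000000008c000100000000000000000000000))))))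

def uTB27 : Bst := (.node 880 (.node 872 (.node 868 (.node 866 (.node 865 (.leaf 0x8c000100000000000000002300004000000000000000000000000000000000000000000000) (.leaf 0x8c000100000000000000002300004)) (.node 867 (.leaf 0x8c000100000000000000000000000000000000000000000000000000000000000000000000) (.leaf 0x230000400000000000000008c000100000000000000002300004))) (.node 870 (.node 869 (.leaf 0x8c00010000000000000000230000400000000000000008c000100000000000000002300004) (.leaf 0x8c00010000000000000000230000400000000000000008c000100000000000000002300004)) (.node 871 (.leaf 0x8c000100000000000000002300004) (.leaf 0x8c000100000000000000002300004000000000000000000000000000000000000000000000)))) (.node 876 (.node 874 (.node 873 (.leaf 0x8c000100000000000000002300004000000000000000000000000000000000000002300004) (.leaf 0x8c000100000000000000002300004000000000000000000000000000000000000002300004)) (.node 875 (.leaf 0x8c00010000000000000000230000400000000000000008c000100000000000000002300004)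 (.leaf 0x40000000000000000000001000000000000000000000040000000000000000000001))) (.node 878 (.node 877 (.leaf 0x2300000000000000000000000000000000000000000002300000) (.leaf 0x40000000000000000000011000000000000000000000000000000000000000000011)) (.node 879 (.leaf 0x40000000000000000000000) (.leaf 0x440000000000000002300000000000000000000000000440000000000000002300000))))) (.node 888 (.node 884 (.node 882 (.node 881 (.leaf 0x40000000000000000000001) (.leaf 0)) (.node 883 (.leaf 0) (.leaf 0x440000000000000002300000000000000000000000000000000000000000000000000))) (.node 886 (.node 885 (.leaf 0x40000000000000000000001000000000000000000000440000000000000002300000) (.leaf 0x8c000000000000000000000000011000000000000000000000040000000000000000000001)) (.node 887 (.leaf 0x2300000000000000000000000000440000000000000000000000) (.leaf 0x440000000000000000000001000000000000000000000000000000000000000000001)))) (.node 892 (.node 890 (.node 889 (.leaf 0x440000000000000000000000) (.leaf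 0)) (.node 891 (.leaf 0x1) (.leaf 0x2300000000000000000000000000040000000000000000000000))) (.node 894 (.node 893 (.leaf 0x8c000000000000000000000000011000000000000000000000440000000000000000000000) (.leaf 0x4000000000000000000000100000000000000008c000000000000000000000000011)) (.node 895 (.leaf 0x440000000000000002300000000000000000000000000000000000000000002300000) (.leaf 0x40000000000000000000001000000000000000000000040000000000000000000011))))))

def uTB28 : Bst := (.node 912 (.node 904 (.node 900 (.node 898 (.node 897 (.leaf 0x230000000000000000000008c000000000000000000002300000) (.leaf 0x11000000000000000000000040000000000000000000000)) (.node 899 (.leaf 0x40000000000000000000000000000000000000000000000000000000000000000011) (.leaf 0x40000000000000000000000000000000000000000000040000000000000000000000))) (.node 902 (.node 901 (.leaf 0x40000000000000002300000000000000000000000000000000000000000000000000) (.leaf 0x1000000000000000000000000000000000000000000000)) (.node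 903 (.leaf 0x440000000000000002300000000000000000000000000040000000000000000000001) (.leaf 0x1)))) (.node 908 (.node 906 (.node 905 (.leaf 0x440000000000000000000000000000000000000000000000000000000000000000000) (.leaf 0x8c000000000000000000000000000000000000000000000000040000000000000000000011)) (.node 907 (.leaf 0x1000000000000000000000000000000000000000000000) (.leaf 0x40000000000000000000000000000000000000000000440000000000000000000011))) (.node 910 (.node 909 (.leaf 0x8c000000000000000000000000001000000000000000000000040000000000000000000011) (.leaf 0x40000000000000000000011)) (.node 911 (.leaf 0) (.leaf 0x8c000000000000000000002300000000000000000000000000440000000000000000000000))))) (.node 920 (.node 916 (.node 914 (.node 913 (.leaf 0x8c000000000000000000002300000000000000000000000000440000000000000000000000) (.leaf 0x4000000000000000000000100000000000000008c000000000000000000002300000)) (.node 915 (.leaf 0x440000000000000000000011) (.leaf 0x1))) (.node 918 (.node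 917 (.leaf 0x8c00000000000000000000000000100000000000000008c000000000000000000000000000) (.leaf 0x40000000000000000000001000000000000000000000440000000000000000000011)) (.node 919 (.leaf 0x8c000000000000000000002300000) (.leaf 0)))) (.node 924 (.node 922 (.node 921 (.leaf 0) (.leaf 0x8c000000000000000000000000011000000000000000000000000000000000000000000000)) (.node 923 (.leaf 0x440000000000000000000011000000000000000000000440000000000000002300000) (.leaf 0x40000000000000000000001000000000000000000000440000000000000000000011))) (.node 926 (.node 925 (.leaf 0) (.leaf 0)) (.node 927 (.leaf 0) (.leaf 0))))))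

def uTB29 : Bst := (.node 944 (.node 936 (.node 932 (.node 930 (.node 929 (.leaf 0) (.leaf 0)) (.node 931 (.leaf 0x44000000000000000000000100000000000000008c000000000000000000000000011) (.leaf 0x440000000000000000000011000000000000000000000040000000000000002300000))) (.node 934 (.node 933 (.leaf 0x8c000000000000000000002300000000000000000000000000440000000000000000000011) (.leaf 0x40000000000000000000001000000000000000000000040000000000000000000011)) (.node 935 (.leaf 0x8c00000000000000000000000001100000000000000008c000000000000000000000000001) (.leaf 0x440000000000000000000001000000000000000000000040000000000000000000001)))) (.node 940 (.node 938 (.node 937 (.leaf 0x40000000000000000000001000000000000000000000040000000000000000000001) (.leaf 0x40000000000000000000001000000000000000000000440000000000000002300000)) (.node 939 (.leaf 0x440000000000000000000011000000000000000000000040000000000000002300000) (.leaf 0x8c000000000000000000002300000000000000000000000000040000000000000000000011)))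 (.node 942 (.node 941 (.leaf 0x40000000000000000000001000000000000000000000440000000000000000000011) (.leaf 0x8c000000000000000000000000011000000000000000000000040000000000000000000001)) (.node 943 (.leaf 0x8c000000000000000000002300000000000000000000000000440000000000000000000001) (.leaf 0x440000000000000000000001000000000000000000000040000000000000002300000))))) (.node 952 (.node 948 (.node 946 (.node 945 (.leaf 0) (.leaf 0)) (.node 947 (.leaf 0x11000000000000000000000000000000000000000000011) (.leaf 0x40000000000000000000001000000000000000000000000000000000000000000001))) (.node 950 (.node 949 (.leaf 0x40000000000000000000000) (.leaf 0x40000000000000000000001000000000000000000000040000000000000000000001)) (.node 951 (.leaf 0x40000000000000000000001000000000000000000000040000000000000000000001) (.leaf 0x8c000000000000000000002300000000000000000000000000440000000000000000000011)))) (.node 956 (.node 954 (.node 953 (.leaf 0x4000000000000000000001100000000000000008c000000000000000000002300000)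 (.leaf 0x40000000000000000000001000000000000000000000040000000000000000000011)) (.node 955 (.leaf 0x440000000000000002300000000000000000000000000440000000000000002300000) (.leaf 0x40000000000000000000001000000000000000000000440000000000000000000011))) (.node 958 (.node 957 (.leaf 0x8c00000000000000000000230000000000000000000008c000000000000000000002300000) (.leaf 0x40000000000000000000001000000000000000000000040000000000000000000001)) (.node 959 (.leaf 0x40000000000000000000001000000000000000000000040000000000000000000001) (.leaf 0x40000000000000000000001))))))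

def uTB30 : Bst := (.node 976 (.node 968 (.node 964 (.node 962 (.node 961 (.leaf 0x440000000000000000000011000000000000000000000000000000000000000000000) (.leaf 0x40000000000000000000011000000000000000000000440000000000000000000001)) (.node 963 (.leaf 0x40000000000000000000001000000000000000000000440000000000000000000011) (.leaf 0x40000000000000000000001000000000000000000000440000000000000000000011))) (.node 966 (.node 965 (.leaf 0) (.leaf 0x40000000000000000000011000000000000000000000000000000000000000000000)) (.node 967 (.leaf 0x440000000000000000000011000000000000000000000440000000000000000000001) (.leaf 0)))) (.node 972 (.node 970 (.node 969 (.leaf 0) (.leaf 0x440000000000000000000011000000000000000000000000000000000000000000000)) (.node 971 (.leaf 0x1000000000000000000000040000000000000000000011) (.leaf 0x440000000000000000000000))) (.node 974 (.node 973 (.leaf 0x40000000000000000000001000000000000000000000440000000000000000000011) (.leaf 0x40000000000000000000001000000000000000000000440000000000000000000011))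 (.node 975 (.leaf 0x440000000000000000000001000000000000000000000440000000000000000000011) (.leaf 0x440000000000000000000001))))) (.node 984 (.node 980 (.node 978 (.node 977 (.leaf 0x440000000000000000000011000000000000000000000000000000000000000000000) (.leaf 0)) (.node 979 (.leaf 0x40000000000000000000001) (.leaf 0x440000000000000000000011000000000000000000000440000000000000000000011))) (.node 982 (.node 981 (.leaf 0x40000000000000000000001000000000000000000000440000000000000000000011) (.leaf 0x40000000000000000000001000000000000000000000440000000000000000000011)) (.node 983 (.leaf 0x40000000000000000000001000000000000000000000040000000000000000000001) (.leaf 0x40000000000000000000001000000000000000000000040000000000000000000001)))) (.node 988 (.node 986 (.node 985 (.leaf 0x8c00000000000000000000000001100000000000000008c000000000000000000000000011) (.leaf 0x440000000000000000000011)) (.node 987 (.leaf 0x8c00000000000000000000000000100000000000000008c000000000000000000000000000)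 (.leaf 0x1))) (.node 990 (.node 989 (.leaf 0) (.leaf 0)) (.node 991 (.leaf 0) (.leaf 0x44000000000000000230000000000000000000008c000000000000000000000000011))))))

def uTB31 : Bst := (.node 1008 (.node 1000 (.node 996 (.node 994 (.node 993 (.leaf 0x440000000000000000000011000000000000000000000000000000000000000000000) (.leaf 0x440000000000000000000011)) (.node 995 (.leaf 0x40000000000000000000001000000000000000000000000000000000000000000000) (.leaf 0))) (.node 998 (.node 997 (.leaf 0x440000000000000000000000000000000000000000000000000000000000000000000) (.leaf 0x40000000000000000000011)) (.node 999 (.leaf 0x40000000000000000000001000000000000000000000000000000000000000000001) (.leaf 0x40000000000000000000001000000000000000000000440000000000000000000011)))) (.node 1004 (.node 1002 (.node 1001 (.leaf 0x440000000000000002300000000000000000000000000040000000000000000000001) (.leaf 0x440000000000000002300000)) (.node 1003 (.leaf 0) (.leaf 0))) (.node 1006 (.node 1005 (.leaf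 0x440000000000000000000011000000000000000000000000000000000000000000000) (.leaf 0x440000000000000000000011000000000000000000000040000000000000000000001)) (.node 1007 (.leaf 0x40000000000000000000001000000000000000000000440000000000000000000011) (.leaf 0x440000000000000000000011000000000000000000000000000000000000000000000))))) (.node 1016 (.node 1012 (.node 1010 (.node 1009 (.leaf 0) (.leaf 0x40000000000000000000001000000000000000000000440000000000000000000011)) (.node 1011 (.leaf 0x44000000000000000230000000000000000000008c000000000000000000002300000) (.leaf 0x440000000000000002300000))) (.node 1014 (.node 1013 (.leaf 0) (.leaf 0x8c00000000000000000000230000000000000000000008c000000000000000000002300000)) (.node 1015 (.leaf 0x440000000000000000000011) (.leaf 0)))) (.node 1020 (.node 1018 (.node 1017 (.leaf 0) (.leaf 0x40000000000000000000000000000000000000000000000000000000000000000000)) (.node 1019 (.leaf 0x1000000000000000000000040000000000000000000001) (.leaf 0x8c000000000000000000002300000000000000000000000000040000000000000000000001)))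 (.node 1022 (.node 1021 (.leaf 0x4000000000000000230000000000000000000008c000000000000000000000000001) (.leaf 0x2300000000000000000000000000000000000000000000000000)) (.node 1023 (.leaf 0x8c00000000000000000000230000000000000000000008c000000000000000000000000000) (.leaf 0x8c000000000000000000002300000000000000000000000000000000000000000000000000))))))

def uTB32 : Bst := (.node 1040 (.node 1032 (.node 1028 (.node 1026 (.node 1025 (.leaf 0) (.leaf 0)) (.node 1027 (.leaf 0x40000000000000000000001000000000000000000000040000000000000000000001) (.leaf 0x8c000000000000000000002300000000000000000000000000040000000000000000000001))) (.node 1030 (.node 1029 (.leaf 0x40000000000000002300000000000000000000000000040000000000000002300000) (.leaf 0x440000000000000000000011)) (.node 1031 (.leaf 0x40000000000000000000000000000000000000000000440000000000000000000000) (.leaf 0x440000000000000000000001)))) (.node 1036 (.node 1034 (.node 1033 (.leaf 0x40000000000000000000001) (.leaf 0)) (.node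 1035 (.leaf 0x40000000000000000000001000000000000000000000000000000000000000000000) (.leaf 0x40000000000000000000001000000000000000000000040000000000000000000001))) (.node 1038 (.node 1037 (.leaf 0x1000000000000000000000040000000000000002300000) (.leaf 0x2300000)) (.node 1039 (.leaf 0x8c000000000000000000002300000) (.leaf 0x440000000000000000000001000000000000000000000040000000000000000000001))))) (.node 1048 (.node 1044 (.node 1042 (.node 1041 (.leaf 0x8c000000000000000000000000001000000000000000000000440000000000000000000001) (.leaf 0x40000000000000000000001000000000000000000000040000000000000002300000)) (.node 1043 (.leaf 0x440000000000000000000011000000000000000000000040000000000000000000001) (.leaf 0x44000000000000000230000000000000000000008c000000000000000000002300000))) (.node 1046 (.node 1045 (.leaf 0x4000000000000000000000100000000000000008c000000000000000000000000011) (.leaf 0x440000000000000000000011000000000000000000000040000000000000000000001)) (.node 1047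 (.leaf 0x440000000000000000000001000000000000000000000040000000000000000000011) (.leaf 0x40000000000000000000001)))) (.node 1052 (.node 1050 (.node 1049 (.leaf 0) (.leaf 0)) (.node 1051 (.leaf 0) (.leaf 0x8c000000000000000000002300000000000000000000000000000000000000000000000000))) (.node 1054 (.node 1053 (.leaf 0x8c000000000000000000002300000) (.leaf 0x11000000000000000000000000000000000000000000011)) (.node 1055 (.leaf 0x230000000000000000000008c000000000000000000000000011) (.leaf 0x11))))))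

def uTB33 : Bst := (.node 1072 (.node 1064 (.node 1060 (.node 1058 (.node 1057 (.leaf 0x8c000000000000000000002300000000000000000000000000000000000000000000000000) (.leaf 0x2300000)) (.node 1059 (.leaf 0x8c00000000000000000000000000000000000000000008c000000000000000000000000000) (.leaf 0x11000000000000000000000440000000000000002300000))) (.node 1062 (.node 1061 (.leaf 0x8c000000000000000000000000001000000000000000000000440000000000000000000011) (.leaf 0x8c00000000000000000000000000100000000000000008c000000000000000000000000001)) (.node 1063 (.leaf 0x8c000000000000000000000000011000000000000000000000040000000000000002300000) (.leaf 0x8c00000000000000000000000001100000000000000008c000000000000000000000000011)))) (.node 1068 (.node 1066 (.node 1065 (.leaf 0x8c000000000000000000000000011) (.leaf 0x440000000000000000000011000000000000000000000000000000000000000000000)) (.node 1067 (.leaf 0x8c000000000000000000002300000000000000000000000000040000000000000000000001) (.leaf 0x40000000000000000000000000000000000000000000000000000000000000000001)))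 (.node 1070 (.node 1069 (.leaf 0x40000000000000000000000000000000000000000000440000000000000000000000) (.leaf 0x11000000000000000000000000000000000000000000001)) (.node 1071 (.leaf 0) (.leaf 0x8c000000000000000000002300000000000000000000000000000000000000000000000000))))) (.node 1080 (.node 1076 (.node 1074 (.node 1073 (.leaf 0x100000000000000008c000000000000000000002300000) (.leaf 0x1000000000000000000000000000000000000000000000)) (.node 1075 (.leaf 0x40000000000000000000001000000000000000000000040000000000000000000001) (.leaf 0x40000000000000000000001))) (.node 1078 (.node 1077 (.leaf 0) (.leaf 0x40000000000000000000011000000000000000000000000000000000000000000000)) (.node 1079 (.leaf 0x440000000000000000000000000000000000000000000040000000000000000000000) (.leaf 0x8c000000000000000000002300000000000000000000000000000000000000000000000000)))) (.node 1084 (.node 1082 (.node 1081 (.leaf 0) (.leaf 0x8c000000000000000000002300000000000000000000000000000000000000000000000000))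 (.node 1083 (.leaf 0x44000000000000000230000000000000000000008c000000000000000000000000011) (.leaf 0x40000000000000000000001000000000000000000000000000000000000000000011))) (.node 1086 (.node 1085 (.leaf 0x440000000000000000000011) (.leaf 0x440000000000000000000000)) (.node 1087 (.leaf 0x440000000000000000000001000000000000000000000040000000000000000000011) (.leaf 0x8c00000000000000000000230000000000000000000008c000000000000000000002300000))))))

def uTB34 : Bst := (.node 1104 (.node 1096 (.node 1092 (.node 1090 (.node 1089 (.leaf 0x40000000000000000000001) (.leaf 0)) (.node 1091 (.leaf 0x40000000000000000000001000000000000000000000040000000000000000000001) (.leaf 0x440000000000000000000011000000000000000000000040000000000000000000001))) (.node 1094 (.node 1093 (.leaf 0x40000000000000000000001000000000000000000000040000000000000000000001) (.leaf 0x40000000000000000000011000000000000000000000040000000000000000000001)) (.node 1095 (.leaf 0x40000000000000000000011) (.leaf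 0)))) (.node 1100 (.node 1098 (.node 1097 (.leaf 0x40000000000000000000001000000000000000000000000000000000000000000000) (.leaf 0x440000000000000000000011000000000000000000000440000000000000000000011)) (.node 1099 (.leaf 0x8c000000000000000000002300000000000000000000000000040000000000000000000001) (.leaf 0x40000000000000000000000000000000000000000000000000000000000000000000))) (.node 1102 (.node 1101 (.leaf 0x440000000000000000000000000000000000000000000000000000000000000000001) (.leaf 0x440000000000000000000001000000000000000000000040000000000000000000000)) (.node 1103 (.leaf 0x440000000000000000000011000000000000000000000040000000000000000000001) (.leaf 0x40000000000000000000001000000000000000000000440000000000000000000011))))) (.node 1112 (.node 1108 (.node 1106 (.node 1105 (.leaf 0x40000000000000000000011000000000000000000000440000000000000000000011) (.leaf 0x40000000000000000000001000000000000000000000040000000000000000000011)) (.node 1107 (.leaf 0x440000000000000000000011)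 (.leaf 0x440000000000000000000011000000000000000000000000000000000000000000000))) (.node 1110 (.node 1109 (.leaf 0x40000000000000000000001) (.leaf 0x440000000000000000000011000000000000000000000000000000000000000000000)) (.node 1111 (.leaf 0x440000000000000000000000000000000000000000000000000000000000000000011) (.leaf 0x8c000000000000000000002300000000000000000000000000040000000000000000000001)))) (.node 1116 (.node 1114 (.node 1113 (.leaf 0x8c00000000000000000000230000000000000000000008c000000000000000000002300000) (.leaf 0x8c00000000000000000000000000000000000000000008c000000000000000000000000000)) (.node 1115 (.leaf 0x2300000) (.leaf 0x8c00000000000000000000230000000000000000000008c000000000000000000000000000))) (.node 1118 (.node 1117 (.leaf 0) (.leaf 0)) (.node 1119 (.leaf 0x44000000000000000000001100000000000000008c000000000000000000002300000) (.leaf 0x8c000000000000000000002300000000000000000000000000040000000000000000000001))))))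

def uTB35 : Bst := (.node 1136 (.node 1128 (.node 1124 (.node 1122 (.node 1121 (.leaf 0x8c000000000000000000002300000000000000000000000000440000000000000000000011) (.leaf 0x440000000000000000000001000000000000000000000040000000000000000000001)) (.node 1123 (.leaf 0x40000000000000000000011000000000000000000000040000000000000000000011) (.leaf 0x40000000000000000000011000000000000000000000440000000000000000000011))) (.node 1126 (.node 1125 (.leaf 0x44000000000000000230000000000000000000008c000000000000000000002300000) (.leaf 0x440000000000000000000011000000000000000000000440000000000000002300000)) (.node 1127 (.leaf 0x8c000000000000000000002300000000000000000000000000040000000000000000000001) (.leaf 0x8c00000000000000000000230000000000000000000008c000000000000000000002300000)))) (.node 1132 (.node 1130 (.node 1129 (.leaf 0) (.leaf 0)) (.node 1131 (.leaf 0) (.leaf 0x8c000000000000000000000000011000000000000000000000440000000000000002300000))) (.node 1134 (.node 1133 (.leaf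 0x40000000000000000000001000000000000000000000040000000000000000000001) (.leaf 0)) (.node 1135 (.leaf 0) (.leaf 0x44000000000000000000001100000000000000008c000000000000000000002300000))))) (.node 1144 (.node 1140 (.node 1138 (.node 1137 (.leaf 0x8c000000000000000000002300000000000000000000000000440000000000000000000011) (.leaf 0)) (.node 1139 (.leaf 0x440000000000000000000000000000000000000000000000000000000000002300000) (.leaf 0x40000000000000000000001000000000000000000000440000000000000002300000))) (.node 1142 (.node 1141 (.leaf 0) (.leaf 0x40000000000000000000001000000000000000000000040000000000000000000001)) (.node 1143 (.leaf 0x40000000000000000000001000000000000000000000040000000000000000000001) (.leaf 0x40000000000000000000001000000000000000000000040000000000000000000001)))) (.node 1148 (.node 1146 (.node 1145 (.leaf 0x40000000000000000000001) (.leaf 0x40000000000000000000001)) (.node 1147 (.leaf 0x440000000000000000000011000000000000000000000000000000000000000000000)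 (.leaf 0x40000000000000000000011000000000000000000000440000000000000000000001))) (.node 1150 (.node 1149 (.leaf 0x40000000000000000000001) (.leaf 0x40000000000000000000011000000000000000000000440000000000000000000001)) (.node 1151 (.leaf 0x40000000000000000000000000000000000000000000000000000000000000000001) (.leaf 0x40000000000000000000011000000000000000000000000000000000000000000000))))))

def uTB36 : Bst := (.node 1168 (.node 1160 (.node 1156 (.node 1154 (.node 1153 (.leaf 0x8c000000000000000000002300000000000000000000000000040000000000000000000011) (.leaf 0)) (.node 1155 (.leaf 0x440000000000000000000001000000000000000000000040000000000000000000011) (.leaf 0x40000000000000000000001000000000000000000000040000000000000000000001))) (.node 1158 (.node 1157 (.leaf 0x4000000000000000000000100000000000000008c000000000000000000002300000) (.leaf 0x40000000000000000000001000000000000000000000040000000000000000000001)) (.node 1159 (.leaf 0x40000000000000000000001000000000000000000000040000000000000000000001)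 (.leaf 0x440000000000000000000011000000000000000000000040000000000000000000001)))) (.node 1164 (.node 1162 (.node 1161 (.leaf 0x40000000000000000000001000000000000000000000040000000000000000000001) (.leaf 0)) (.node 1163 (.leaf 0x440000000000000000000011000000000000000000000000000000000000000000000) (.leaf 0x8c000000000000000000002300000000000000000000000000040000000000000000000001))) (.node 1166 (.node 1165 (.leaf 0x1000000000000000000000040000000000000000000001) (.leaf 0x1000000000000000000000000000000000000000000000)) (.node 1167 (.leaf 0x40000000000000000000001000000000000000000000000000000000000000000000) (.leaf 0x8c000000000000000000002300000000000000000000000000040000000000000000000001))))) (.node 1176 (.node 1172 (.node 1170 (.node 1169 (.leaf 0x8c000000000000000000002300000) (.leaf 0x40000000000000000000000000000000000000000000040000000000000000000000)) (.node 1171 (.leaf 0x40000000000000000000000000000000000000000000000000000000000000000011) (.leaf 0x40000000000000002300000000000000000000000000040000000000000000000011)))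 (.node 1174 (.node 1173 (.leaf 0x8c000000000000000000000000011000000000000000000000040000000000000002300000) (.leaf 0x8c000000000000000000002300000000000000000000000000440000000000000002300000)) (.node 1175 (.leaf 0x11) (.leaf 0x440000000000000000000000)))) (.node 1180 (.node 1178 (.node 1177 (.leaf 0x4000000000000000000000100000000000000008c000000000000000000002300000) (.leaf 0x4000000000000000000000100000000000000008c000000000000000000002300000)) (.node 1179 (.leaf 0x44000000000000000000001100000000000000008c000000000000000000002300000) (.leaf 0x8c00000000000000000000000001100000000000000008c000000000000000000000000011))) (.node 1182 (.node 1181 (.leaf 0) (.leaf 0x440000000000000000000011000000000000000000000040000000000000000000001)) (.node 1183 (.leaf 0x440000000000000000000011) (.leaf 0))))))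

def uTB37 : Bst := (.node 1200 (.node 1192 (.node 1188 (.node 1186 (.node 1185 (.leaf 0x8c000000000000000000002300000000000000000000000000040000000000000000000001) (.leaf 0x40000000000000000000001000000000000000000000040000000000000000000001)) (.node 1187 (.leaf 0x40000000000000000000001000000000000000000000040000000000000000000001) (.leaf 0x40000000000000000000001000000000000000000000440000000000000000000011))) (.node 1190 (.node 1189 (.leaf 0x40000000000000000000001000000000000000000000040000000000000000000001) (.leaf 0x40000000000000000000001000000000000000000000040000000000000000000001)) (.node 1191 (.leaf 0x440000000000000000000011000000000000000000000440000000000000000000011) (.leaf 0x40000000000000000000001000000000000000000000440000000000000000000011)))) (.node 1196 (.node 1194 (.node 1193 (.leaf 0x44000000000000000000001100000000000000008c000000000000000000002300000) (.leaf 0x40000000000000000000001000000000000000000000040000000000000000000001)) (.node 1195 (.leaf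 0) (.leaf 0))) (.node 1198 (.node 1197 (.leaf 0x40000000000000000000000000000000000000000000440000000000000000000001) (.leaf 0x11000000000000000000000000000000000000000000000)) (.node 1199 (.leaf 0x440000000000000000000011000000000000000000000040000000000000000000001) (.leaf 0x440000000000000000000011000000000000000000000040000000000000000000001))))) (.node 1208 (.node 1204 (.node 1202 (.node 1201 (.leaf 0x440000000000000000000011000000000000000000000040000000000000000000001) (.leaf 0x8c000000000000000000002300000)) (.node 1203 (.leaf 0) (.leaf 0x40000000000000000000001000000000000000000000000000000000000000000000))) (.node 1206 (.node 1205 (.leaf 0x440000000000000000000011000000000000000000000040000000000000000000001) (.leaf 0x40000000000000000000011000000000000000000000040000000000000000000001)) (.node 1207 (.leaf 0x1000000000000000000000000000000000000000000011) (.leaf 0)))) (.node 1212 (.node 1210 (.node 1209 (.leaf 0x440000000000000000000011000000000000000000000440000000000000000000011)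 (.leaf 0x8c00000000000000000000000000100000000000000008c000000000000000000000000001)) (.node 1211 (.leaf 0x40000000000000000000001000000000000000000000440000000000000000000011) (.leaf 0x40000000000000000000001))) (.node 1214 (.node 1213 (.leaf 0x8c000000000000000000002300000000000000000000000000000000000000000000000000) (.leaf 0x8c00000000000000000000230000000000000000000008c000000000000000000002300000)) (.node 1215 (.leaf 0) (.leaf 0x440000000000000000000000000000000000000000000000000000000000000000000))))))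

def uTB38 : Bst := (.node 1232 (.node 1224 (.node 1220 (.node 1218 (.node 1217 (.leaf 0x11000000000000000000000000000000000000000000000) (.leaf 0x11000000000000000000000040000000000000000000001)) (.node 1219 (.leaf 0x40000000000000000000001000000000000000000000440000000000000000000000) (.leaf 0x8c000000000000000000000000000000000000000000000000040000000000000000000000))) (.node 1222 (.node 1221 (.leaf 0x8c000000000000000000000000001) (.leaf 0x440000000000000002300000000000000000000000000000000000000000000000000)) (.node 1223 (.leaf 0x8c000000000000000000000000011) (.leaf 0)))) (.node 1228 (.node 1226 (.node 1225 (.leaf 0) (.leaf 0x11000000000000000000000000000000000000000000000)) (.node 1227 (.leaf 0x11) (.leaf 0x40000000000000000000001000000000000000000000000000000000000000000000))) (.node 1230 (.node 1229 (.leaf 0x40000000000000000000011000000000000000000000440000000000000000000011) (.leaf 0x40000000000000000000001000000000000000000000440000000000000000000001)) (.node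 1231 (.leaf 0x440000000000000000000011000000000000000000000440000000000000000000011) (.leaf 0x40000000000000000000001000000000000000000000040000000000000000000001))))) (.node 1240 (.node 1236 (.node 1234 (.node 1233 (.leaf 0x40000000000000000000001) (.leaf 0x40000000000000000000001000000000000000000000000000000000000002300000)) (.node 1235 (.leaf 0x2300000000000000000000000000000000000000000000000000) (.leaf 0x44000000000000000000001100000000000000008c000000000000000000002300000))) (.node 1238 (.node 1237 (.leaf 0x40000000000000000000001000000000000000000000040000000000000000000001) (.leaf 0x40000000000000000000001000000000000000000000440000000000000000000011)) (.node 1239 (.leaf 0x40000000000000000000001) (.leaf 0)))) (.node 1244 (.node 1242 (.node 1241 (.leaf 0x440000000000000000000011000000000000000000000440000000000000000000011) (.leaf 0x440000000000000000000001000000000000000000000040000000000000000000001)) (.node 1243 (.leaf 0x40000000000000000000011) (.leaf 0x230000000000000000000008c000000000000000000000000000)))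 (.node 1246 (.node 1245 (.leaf 0x40000000000000000000001000000000000000000000040000000000000000000001) (.leaf 0x40000000000000000000011000000000000000000000000000000000000000000000)) (.node 1247 (.leaf 0x440000000000000000000011000000000000000000000440000000000000000000001) (.leaf 0x440000000000000000000001000000000000000000000040000000000000000000011))))))

def uTB39 : Bst := (.node 1264 (.node 1256 (.node 1252 (.node 1250 (.node 1249 (.leaf 0x8c00000000000000000000000000100000000000000008c000000000000000000002300000) (.leaf 0x2300000)) (.node 1251 (.leaf 0x40000000000000000000000000000000000000000000000000000000000000000000) (.leaf 0x40000000000000000000001000000000000000000000040000000000000000000001))) (.node 1254 (.node 1253 (.leaf 0x40000000000000000000001000000000000000000000040000000000000000000001) (.leaf 0x440000000000000000000011000000000000000000000440000000000000000000011)) (.node 1255 (.leaf 0x40000000000000000000001000000000000000000000040000000000000000000001)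 (.leaf 0x440000000000000000000011)))) (.node 1260 (.node 1258 (.node 1257 (.leaf 0) (.leaf 0x8c000000000000000000002300000000000000000000000000000000000000000000000000)) (.node 1259 (.leaf 0x8c00000000000000000000230000000000000000000008c000000000000000000002300000) (.leaf 0))) (.node 1262 (.node 1261 (.leaf 0x8c000000000000000000002300000000000000000000000000440000000000000000000011) (.leaf 0x8c000000000000000000002300000000000000000000000000040000000000000000000001)) (.node 1263 (.leaf 0x11000000000000000000000000000000000000000000000) (.leaf 0x11))))) (.node 1272 (.node 1268 (.node 1266 (.node 1265 (.leaf 0x4000000000000000000000100000000000000008c000000000000000000002300000) (.leaf 0x40000000000000002300000000000000000000000000040000000000000000000001)) (.node 1267 (.leaf 0x44000000000000000230000000000000000000008c000000000000000000000000001) (.leaf 0x440000000000000002300000))) (.node 1270 (.node 1269 (.leaf 0) (.leaf 0)) (.node 1271 (.leaf 0x440000000000000000000011000000000000000000000000000000000000000000000)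 (.leaf 0x440000000000000000000011000000000000000000000040000000000000000000001)))) (.node 1276 (.node 1274 (.node 1273 (.leaf 0x440000000000000000000001000000000000000000000000000000000000000000000) (.leaf 0x40000000000000000000000000000000000000000000440000000000000000000001)) (.node 1275 (.leaf 0x40000000000000000000000000000000000000000000000000000000000000000000) (.leaf 0x440000000000000000000011000000000000000000000440000000000000000000011))) (.node 1278 (.node 1277 (.leaf 0x40000000000000000000001000000000000000000000000000000000000000000000) (.leaf 0x40000000000000000000000000000000000000000000000000000000000000000001)) (.node 1279 (.leaf 0x40000000000000000000000000000000000000000000000000000000000000000001) (.leaf 0x8c000000000000000000002300000000000000000000000000040000000000000000000001))))))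

def uTB40 : Bst := (.node 1296 (.node 1288 (.node 1284 (.node 1282 (.node 1281 (.leaf 0x8c000000000000000000002300000) (.leaf 0x40000000000000000000011000000000000000000000440000000000000000000001)) (.node 1283 (.leaf 0x1000000000000000000000000000000000000000000000) (.leaf 0x440000000000000000000011000000000000000000000040000000000000000000000))) (.node 1286 (.node 1285 (.leaf 0x40000000000000000000001000000000000000000000040000000000000000000001) (.leaf 0x440000000000000000000011000000000000000000000000000000000000000000000)) (.node 1287 (.leaf 0) (.leaf 0x40000000000000000000001000000000000000000000440000000000000000000011)))) (.node 1292 (.node 1290 (.node 1289 (.leaf 0x40000000000000000000001000000000000000000000440000000000000000000011) (.leaf 0x40000000000000000000001000000000000000000000040000000000000000000001)) (.node 1291 (.leaf 0x4000000000000000000000100000000000000008c000000000000000000002300000) (.leaf 0x40000000000000000000001000000000000000000000440000000000000000000011)))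 (.node 1294 (.node 1293 (.leaf 0x440000000000000000000001000000000000000000000040000000000000000000011) (.leaf 0)) (.node 1295 (.leaf 0x8c000000000000000000002300000000000000000000000000040000000000000000000001) (.leaf 0x1000000000000000000000040000000000000000000000))))) (.node 1304 (.node 1300 (.node 1298 (.node 1297 (.leaf 0x440000000000000000000011000000000000000000000040000000000000000000011) (.leaf 0x440000000000000000000001000000000000000000000040000000000000000000011)) (.node 1299 (.leaf 0x40000000000000002300000000000000000000000000040000000000000000000011) (.leaf 0x40000000000000000000001000000000000000000000040000000000000002300000))) (.node 1302 (.node 1301 (.leaf 0x40000000000000000000000000000000000000000000000000000000000000000000) (.leaf 0x40000000000000000000000)) (.node 1303 (.leaf 0x4000000000000000000000100000000000000008c000000000000000000002300000) (.leaf 0)))) (.node 1308 (.node 1306 (.node 1305 (.leaf 0x40000000000000000000011000000000000000000000440000000000000000000000)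 (.leaf 0x8c000000000000000000000000001000000000000000000000000000000000000000000001)) (.node 1307 (.leaf 0x4000000000000000000000100000000000000008c000000000000000000000000001) (.leaf 0x4000000000000000000000100000000000000008c000000000000000000002300000))) (.node 1310 (.node 1309 (.leaf 0) (.leaf 0x11000000000000000000000040000000000000000000011)) (.node 1311 (.leaf 0x1000000000000000000000440000000000000000000011) (.leaf 0x40000000000000000000001000000000000000000000040000000000000000000001))))))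

def uTB41 : Bst := (.leaf 0x8c000000000000000000002300000)

/-- The verdicts on the third generator. -/
def uT : Tab := ⟨(.node 672 (.node 320 (.node 160 (.node 64 (.node 32 uTB0 uTB1) (.node 96 uTB2 (.node 128 uTB3 uTB4))) (.node 224 (.node 192 uTB5 uTB6) (.node 256 uTB7 (.node 288 uTB8 uTB9)))) (.node 480 (.node 384 (.node 352 uTB10 uTB11) (.node 416 uTB12 (.node 448 uTB13 uTB14))) (.node 576 (.node 512 uTB15 (.node 544 uTB16 uTB17)) (.node 608 uTB18 (.node 640 uTB19 uTB20))))) (.node 992 (.node 832 (.node 736 (.node 704 uTB21 uTB22) (.node 768 uTB23 (.node 800 uTB24 uTB25))) (.node 896 (.node 864 uTB26 uTB27) (.node 928 uTB28 (.node 960 uTB29 uTB30)))) (.node 1152 (.node 1056 (.node 1024 uTB31 uTB32) (.node 1088 uTB33 (.node 1120 uTB34 uTB35))) (.node 1248 (.node 1184 uTB36 (.node 1216 uTB37 uTB38)) (.node 1280 uTB39 (.node 1312 uTB40 uTB41)))))), 90, 2⟩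

def bTB0 : Bst := (.node 16 (.node 8 (.node 4 (.node 2 (.node 1 (.leaf 0x23000230002300023000230002300023000230) (.leaf 0x23000230002300023000230002300023000230)) (.node 3 (.leaf 0x2100230002300023000230002300023000230) (.leaf 0x1d0001d0001d0001d00230002300001d00230))) (.node 6 (.node 5 (.leaf 0x23000230002300023000230002300023000230) (.leaf 0x23000230002300023000230002300023000230)) (.node 7 (.leaf 0x23000230002300023000230002300023000230) (.leaf 0x2300023000230002300001d002300001d00230)))) (.node 12 (.node 10 (.node 9 (.leaf 0x2300023000230002300001d002300023000230) (.leaf 0x23000230002300023000230002300023000230)) (.node 11 (.leaf 0x1d00230002300023000230002300023000230) (.leaf 0x230002300001d0023000230002300023000230))) (.node 14 (.node 13 (.leaf 0x23000230000150001d00230002300023000230) (.leaf 0x23000230002300023000230002300001d00230)) (.node 15 (.leaf 0x23000230002300023000230002300023000230) (.leaf 0x1d002300023000230002300001d0023000230))))) (.node 24 (.node 20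 (.node 18 (.node 17 (.leaf 0x23000230002300023000230002300023000230) (.leaf 0x23000230002300023000230002300023000230)) (.node 19 (.leaf 0x23000230002300023000230002300023000230) (.leaf 0x23000230002300023000230002300023000230))) (.node 22 (.node 21 (.leaf 0x23000230002300023000230002300023000230) (.leaf 0x1d0001d002300023000230002300023000230)) (.node 23 (.leaf 0x1d00015002300023000230002300023000230) (.leaf 0x23000230002300023000230002300001d0001d)))) (.node 28 (.node 26 (.node 25 (.leaf 0x230002300001c0001c00230002300023000230) (.leaf 0x23000230002300023000230002300023000230)) (.node 27 (.leaf 0x23000230002300023000230002300001d0001d) (.leaf 0x23000230002300023000230002300023000230))) (.node 30 (.node 29 (.leaf 0x23000230002300023000230002300023000230) (.leaf 0x23000230002300023000230002300023000230)) (.node 31 (.leaf 0x23000230002300023000230002300023000230) (.leaf 0x23000230002300023000230002300023000230))))))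

def bTB1 : Bst := (.node 48 (.node 40 (.node 36 (.node 34 (.node 33 (.leaf 0x23000230002300023000230002300023000230) (.leaf 0x23000230002300023000230002300023000230)) (.node 35 (.leaf 0x23000230002300023000230002300023000230) (.leaf 0x23000230002300023000230002300023000230))) (.node 38 (.node 37 (.leaf 0x23000230002300023000230002300023000230) (.leaf 0x23000230002300023000230002300023000230)) (.node 39 (.leaf 0x23000230002300023000230002300023000230) (.leaf 0x23000230002300023000230002300023000230)))) (.node 44 (.node 42 (.node 41 (.leaf 0x23000230002300023000230002300023000230) (.leaf 0x23000230002300023000230002300023000230)) (.node 43 (.leaf 0x230002300001d002300001d002300023000230) (.leaf 0x23000230002300023000230002300023000230))) (.node 46 (.node 45 (.leaf 0x1d00021002300023000230002300023000230) (.leaf 0x23000230002300023000230002300001d0001d)) (.node 47 (.leaf 0x23000230002300023000230002300023000230) (.leaf 0x23000230002300023000230002300023000230))))) (.node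 56 (.node 52 (.node 50 (.node 49 (.leaf 0x23000230002300023000230002300023000230) (.leaf 0x23000230002300023000230002300023000230)) (.node 51 (.leaf 0x23000230002300023000230002300023000230) (.leaf 0x230002300023000230002300001c002300001c))) (.node 54 (.node 53 (.leaf 0x23000230002300023000230002300023000230) (.leaf 0x23000230002300023000230002300023000230)) (.node 55 (.leaf 0x23000230002300023000230002300023000230) (.leaf 0x23000230002300023000230002300023000230)))) (.node 60 (.node 58 (.node 57 (.leaf 0x23000230002300023000230002300023000230) (.leaf 0x23000230002300023000230002300023000230)) (.node 59 (.leaf 0x23000230000150001d00230002300023000230) (.leaf 0x230002300001d0001d0001d0001d0023000230))) (.node 62 (.node 61 (.leaf 0x2300001d002300023000230002300023000230) (.leaf 0x230002300001d002300001d000210023000230)) (.node 63 (.leaf 0x23000230002300023000230002300023000230) (.leaf 0x1d0001d00230002300001d0001d0023000230))))))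

def bTB2 : Bst := (.node 80 (.node 72 (.node 68 (.node 66 (.node 65 (.leaf 0x2300023000015002300001d002300001c0001c) (.leaf 0x23000230002300023000230002300023000230)) (.node 67 (.leaf 0x23000230002300023000230002300023000230) (.leaf 0x23000230002300023000230002300023000230))) (.node 70 (.node 69 (.leaf 0x23000230002300023000230002300023000230) (.leaf 0x23000230002300023000230002300023000230)) (.node 71 (.leaf 0x1c00230002300023000230002300023000230) (.leaf 0x2300023000230002300023000230002300001c)))) (.node 76 (.node 74 (.node 73 (.leaf 0x23000230002300023000230002300023000230) (.leaf 0x23000230002300001d0001d002300023000230)) (.node 75 (.leaf 0x1d00021002300023000230002300023000230) (.leaf 0x23000230002300023000230002300023000230))) (.node 78 (.node 77 (.leaf 0x23000230002300023000230002300023000230) (.leaf 0x23000230002300023000230002300023000230)) (.node 79 (.leaf 0x1d0023000230002300001d0001d0023000230) (.leaf 0x23000230002300023000006002300023000230))))) (.node 88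 (.node 84 (.node 82 (.node 81 (.leaf 0x23000230002300023000230002300023000230) (.leaf 0x2300023000230002300001c0001c0023000230)) (.node 83 (.leaf 0x23000230002300023000230002300023000230) (.leaf 0x23000230002300023000230002300023000230))) (.node 86 (.node 85 (.leaf 0x23000230002300023000230002300023000230) (.leaf 0x23000230002300023000230002300023000230)) (.node 87 (.leaf 0x1d00230002300001d00230002300023000230) (.leaf 0x2300001d002300001d00230002300001d0001d)))) (.node 92 (.node 90 (.node 89 (.leaf 0x23000230002300023000230002300023000230) (.leaf 0x23000230002300023000230002300023000230)) (.node 91 (.leaf 0x23000230002300023000230002300023000230) (.leaf 0x23000230002300023000230002300023000230))) (.node 94 (.node 93 (.leaf 0x23000230002300023000230002300023000230) (.leaf 0x23000230002300023000230002300023000230)) (.node 95 (.leaf 0x23000230002300023000230002300023000230) (.leaf 0x23000230002300023000230002300023000230))))))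

def bTB3 : Bst := (.node 112 (.node 104 (.node 100 (.node 98 (.node 97 (.leaf 0x23000230002300023000230002300023000230) (.leaf 0x23000230002300023000230002300023000230)) (.node 99 (.leaf 0x23000230002300023000230002300001c0001c) (.leaf 0x23000230002300023000230002300023000230))) (.node 102 (.node 101 (.leaf 0x23000230002300023000230002300023000230) (.leaf 0x23000230002300023000230002300023000230)) (.node 103 (.leaf 0x230002300001d0001d00230002300023000230) (.leaf 0x23000230002300023000230002300023000230)))) (.node 108 (.node 106 (.node 105 (.leaf 0x23000230002300023000230002300023000230) (.leaf 0x23000230002300023000230002300023000230)) (.node 107 (.leaf 0x1c00230002300023000230002300023000230) (.leaf 0x23000230002300023000230002300001c00230))) (.node 110 (.node 109 (.leaf 0x23000230002300023000230002300023000230) (.leaf 0x23000230002300023000230002300023000230)) (.node 111 (.leaf 0x2300023000230002300001c0001c0001d0001d) (.leaf 0x23000230002300023000230002300023000230)))))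 (.node 120 (.node 116 (.node 114 (.node 113 (.leaf 0x23000230002300023000230002300023000230) (.leaf 0x23000230002300023000230002300023000230)) (.node 115 (.leaf 0x23000230002300023000230002300023000230) (.leaf 0x23000230002300023000230002300023000230))) (.node 118 (.node 117 (.leaf 0x23000230002300023000230002300001d0001d) (.leaf 0x23000230002300023000230002300023000230)) (.node 119 (.leaf 0x23000230002300023000230002300023000230) (.leaf 0x230002300001d0023000230002300023000230)))) (.node 124 (.node 122 (.node 121 (.leaf 0x23000230002300023000230002300023000015) (.leaf 0x2300023000230002300001d0001d0023000230)) (.node 123 (.leaf 0x23000230002300023000230002300023000230) (.leaf 0x23000230002300023000230002300023000230))) (.node 126 (.node 125 (.leaf 0x23000230002300023000230002300023000230) (.leaf 0x23000230002300023000230002300023000230)) (.node 127 (.leaf 0x1d0001d0001d0001d00230002300023000230) (.leaf 0x23000230002300023000230002300023000230))))))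

def bTB4 : Bst := (.node 144 (.node 136 (.node 132 (.node 130 (.node 129 (.leaf 0x23000230002300023000230002300023000230) (.leaf 0x230002300001d0002100230002300023000230)) (.node 131 (.leaf 0x23000230002300023000230002300023000230) (.leaf 0x2300023000230002300001d00230002300001d))) (.node 134 (.node 133 (.leaf 0x23000230002300023000230002300023000230) (.leaf 0x23000230002300023000230002300023000230)) (.node 135 (.leaf 0x23000230002300023000230002300023000230) (.leaf 0x230002300001d0001d00230002300023000230)))) (.node 140 (.node 138 (.node 137 (.leaf 0x23000230002300023000230002300023000230) (.leaf 0x23000230002300023000230002300023000230)) (.node 139 (.leaf 0x23000230002300023000230002300001d0001d) (.leaf 0x23000230002300023000230002300001d0001d))) (.node 142 (.node 141 (.leaf 0x23000230002300023000230002300023000230) (.leaf 0x23000230002300023000230002300023000230)) (.node 143 (.leaf 0x23000230002300023000230002300023000230) (.leaf 0x23000230002300023000230002300023000230)))))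 (.node 152 (.node 148 (.node 146 (.node 145 (.leaf 0x23000230002300023000230002300023000230) (.leaf 0x23000230002300001c0001c002300023000230)) (.node 147 (.leaf 0x23000230002300023000230002300023000230) (.leaf 0x23000230002300023000230002300023000230))) (.node 150 (.node 149 (.leaf 0x23000230002300023000230002300023000230) (.leaf 0x210001d0001d0023000230002300023000230)) (.node 151 (.leaf 0x2300023000230002300023000230002300001d) (.leaf 0x23000230002300023000230002300023000230)))) (.node 156 (.node 154 (.node 153 (.leaf 0x1d00230002300001d00230002300023000230) (.leaf 0x1d00230002300023000230002300023000230)) (.node 155 (.leaf 0x2300023000230002300001c0001c002300001d) (.leaf 0x23000230002300023000230002300023000230))) (.node 158 (.node 157 (.leaf 0x23000230002300023000230002300023000230) (.leaf 0x23000230002300023000230002300023000230)) (.node 159 (.leaf 0x23000230002300023000230002300023000230) (.leaf 0x23000230002300023000230002300023000230))))))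

def bTB5 : Bst := (.node 176 (.node 168 (.node 164 (.node 162 (.node 161 (.leaf 0x2300001d002300023000230002300001d00015) (.leaf 0x2300023000230002300001d002300023000230)) (.node 163 (.leaf 0x23000230002300023000230002300023000230) (.leaf 0x23000230002300023000230002300023000230))) (.node 166 (.node 165 (.leaf 0x23000230002300023000230002300023000230) (.leaf 0x1d002300001d0023000230002300023000230)) (.node 167 (.leaf 0x23000230002300023000230002300023000230) (.leaf 0x23000230002300023000230002300023000230)))) (.node 172 (.node 170 (.node 169 (.leaf 0x23000230002300023000230002300023000230) (.leaf 0x230002300001d0001d00230002300023000230)) (.node 171 (.leaf 0x1d002300023000230002300001d0001d00021) (.leaf 0x23000230002300023000230002300023000230))) (.node 174 (.node 173 (.leaf 0x230002300023000230002300001d002300001d) (.leaf 0x1d0001d002300023000230002300023000230)) (.node 175 (.leaf 0x23000230002300023000230002300001d0001d) (.leaf 0x2300001c0001c0023000230002300023000230)))))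 (.node 184 (.node 180 (.node 178 (.node 177 (.leaf 0x23000230002300023000230002300023000230) (.leaf 0x23000230002300023000230002300023000230)) (.node 179 (.leaf 0x1d0001d002300023000230002300023000230) (.leaf 0x1d002300001c0001c00230002300002100230))) (.node 182 (.node 181 (.leaf 0x23000230002300023000230002300023000230) (.leaf 0x23000230002300023000230002300023000230)) (.node 183 (.leaf 0x23000230002300023000230002300023000230) (.leaf 0x23000230002300023000230002300023000230)))) (.node 188 (.node 186 (.node 185 (.leaf 0x23000230002300023000230002300023000230) (.leaf 0x23000230002300023000230002300023000230)) (.node 187 (.leaf 0x23000230002300023000230002300023000230) (.leaf 0x2300001c0001c0023000230002300023000230))) (.node 190 (.node 189 (.leaf 0x23000230002300023000230002300023000230) (.leaf 0x23000230002300023000230002300023000230)) (.node 191 (.leaf 0x2300001d002300023000230002300023000230) (.leaf 0x23000230002300023000230002300023000002))))))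

def bTB6 : Bst := (.node 208 (.node 200 (.node 196 (.node 194 (.node 193 (.leaf 0x23000230002300023000230002300001d0001d) (.leaf 0x230002300001d0001500230002300023000230)) (.node 195 (.leaf 0x23000230002300023000230002300023000230) (.leaf 0x23000230002300023000230002300023000230))) (.node 198 (.node 197 (.leaf 0x23000230002300023000230002300023000230) (.leaf 0x230002300001c0001c00230002300023000230)) (.node 199 (.leaf 0x23000230002300023000230002300023000230) (.leaf 0x23000230002300023000230002300023000230)))) (.node 204 (.node 202 (.node 201 (.leaf 0x23000230002300023000230002300023000230) (.leaf 0x230002300023000230002300001c0001c00230)) (.node 203 (.leaf 0x23000230002300023000230002300023000230) (.leaf 0x23000230002300023000230002300023000230))) (.node 206 (.node 205 (.leaf 0x23000230002300023000230002300023000230) (.leaf 0x1d00230002300001d00230002300023000230)) (.node 207 (.leaf 0x23000230002300023000230002300023000230) (.leaf 0x23000230002300023000230002300023000230)))))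 (.node 216 (.node 212 (.node 210 (.node 209 (.leaf 0x23000230002300023000230002300023000230) (.leaf 0x230002300023000230002300001d002300001d)) (.node 211 (.leaf 0x23000230002300023000230002300023000230) (.leaf 0x23000230002300023000230002300023000230))) (.node 214 (.node 213 (.leaf 0x2300001d0001d0001d00230002300023000230) (.leaf 0x2300023000230002300001d0001d002300001d)) (.node 215 (.leaf 0x23000230002300023000230002300023000230) (.leaf 0x23000230002300023000230002300023000230)))) (.node 220 (.node 218 (.node 217 (.leaf 0x23000230002300023000230002300023000230) (.leaf 0x23000230002300023000230002300023000230)) (.node 219 (.leaf 0x23000230002300023000230002300023000230) (.leaf 0x23000230002300023000230002300023000230))) (.node 222 (.node 221 (.leaf 0x23000230002300023000230002300023000230) (.leaf 0x1d00230000210023000230002300023000230)) (.node 223 (.leaf 0x230002300001d0001d0001d0001d0023000230) (.leaf 0x23000230002300023000230002300023000230))))))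

def bTB7 : Bst := (.node 240 (.node 232 (.node 228 (.node 226 (.node 225 (.leaf 0x23000230002300023000230002300023000230) (.leaf 0x1d00230002300023000230002300023000230)) (.node 227 (.leaf 0x23000230002300023000230002300001d00230) (.leaf 0x23000230002300023000230002300001d00230))) (.node 230 (.node 229 (.leaf 0x23000230002300023000230002300023000230) (.leaf 0x230002300001d0023000230002300023000230)) (.node 231 (.leaf 0x2300023000230002300001d002300023000230) (.leaf 0x1d002300023000230000510001d0023000230)))) (.node 236 (.node 234 (.node 233 (.leaf 0x23000230002300023000230002300023000230) (.leaf 0x23000230002300023000230002300023000230)) (.node 235 (.leaf 0x230002300001d002300023000230002300001d) (.leaf 0x23000230002300023000230002300023000230))) (.node 238 (.node 237 (.leaf 0x23000230002300023000230002300023000230) (.leaf 0x23000230002300023000230002300023000230)) (.node 239 (.leaf 0x23000230002300023000230002300023000230) (.leaf 0x23000230002300023000230002300023000230)))))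 (.node 248 (.node 244 (.node 242 (.node 241 (.leaf 0x230002300001d0001d00230002300023000230) (.leaf 0x1d0001d0001d0001500230002300023000230)) (.node 243 (.leaf 0x23000230002300023000230002300023000230) (.leaf 0x2300023000230002300001c0001c0023000230))) (.node 246 (.node 245 (.leaf 0x1d0001d002300023000230002300023000230) (.leaf 0x23000230002300023000230002300023000230)) (.node 247 (.leaf 0x23000230002300023000230002300023000230) (.leaf 0x23000230002300023000230002300023000230)))) (.node 252 (.node 250 (.node 249 (.leaf 0x23000230002300023000230002300023000230) (.leaf 0x23000230002300023000230002300023000230)) (.node 251 (.leaf 0x23000230002300023000230002300023000230) (.leaf 0x23000230002300023000230002300023000230))) (.node 254 (.node 253 (.leaf 0x23000230002300023000230002300023000230) (.leaf 0x23000230002300023000230002300023000230)) (.node 255 (.leaf 0x23000230002300023000230002300023000230) (.leaf 0x23000230002300023000230002300023000230))))))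

def bTB8 : Bst := (.node 272 (.node 264 (.node 260 (.node 258 (.node 257 (.leaf 0x23000230002300023000230002300023000230) (.leaf 0x23000230002300023000230002300023000230)) (.node 259 (.leaf 0x23000230002300023000230002300023000230) (.leaf 0x23000230002300023000230002300023000230))) (.node 262 (.node 261 (.leaf 0x23000230002300023000230002300023000230) (.leaf 0x2300023000230002300001d002300001d00230)) (.node 263 (.leaf 0x23000230002300023000230002300023000230) (.leaf 0x1d0001d0001d0002100230002300023000230)))) (.node 268 (.node 266 (.node 265 (.leaf 0x23000230002300023000230002300023000230) (.leaf 0x23000230002300023000230002300023000230)) (.node 267 (.leaf 0x23000230002300023000230002300023000230) (.leaf 0x23000230002300023000230002300023000230))) (.node 270 (.node 269 (.leaf 0x23000230002300023000230002300023000230) (.leaf 0x2300001c002300023000230002300023000230)) (.node 271 (.leaf 0x2300023000230002300023000230002300001c) (.leaf 0x23000230002300023000230002300023000230)))))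 (.node 280 (.node 276 (.node 274 (.node 273 (.leaf 0x23000230002300023000230002300023000230) (.leaf 0x23000230002300023000230002300023000230)) (.node 275 (.leaf 0x23000230002300023000230002300023000230) (.leaf 0x23000230002300023000230002300023000230))) (.node 278 (.node 277 (.leaf 0x23000230002300023000230002300023000230) (.leaf 0x230002300023000230000150001d0023000230)) (.node 279 (.leaf 0x2300023000230002300001d0001d0001d0001d) (.leaf 0x23000230002300001d00230002300023000230)))) (.node 284 (.node 282 (.node 281 (.leaf 0x2300023000230002300001d002300001d00021) (.leaf 0x23000230002300023000230002300023000230)) (.node 283 (.leaf 0x1c0001c0001d0001d00230002300001d0001d) (.leaf 0x23000230002300023000015002300001d00230))) (.node 286 (.node 285 (.leaf 0x23000230002300023000230002300023000230) (.leaf 0x23000230002300023000230002300023000230)) (.node 287 (.leaf 0x23000230002300023000230002300023000230) (.leaf 0x23000230002300023000230002300023000230))))))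

def bTB9 : Bst := (.node 304 (.node 296 (.node 292 (.node 290 (.node 289 (.leaf 0x23000230002300023000230002300023000230) (.leaf 0x2300001c0001c0023000230002300023000230)) (.node 291 (.leaf 0x23000230002300023000230002300023000230) (.leaf 0x23000230002300023000230002300023000230))) (.node 294 (.node 293 (.leaf 0x230002300023000230002300001d0001d00230) (.leaf 0x230002300001d0002100230002300023000230)) (.node 295 (.leaf 0x23000230002300023000230002300023000230) (.leaf 0x23000230002300023000230002300023000230)))) (.node 300 (.node 298 (.node 297 (.leaf 0x23000230002300023000230002300023000230) (.leaf 0x230002300001d0023000230002300001d0001d)) (.node 299 (.leaf 0x23000230002300023000230002300001500230) (.leaf 0x23000230002300023000230002300023000230))) (.node 302 (.node 301 (.leaf 0x23000230002300023000230002300001c0001c) (.leaf 0x23000230002300023000230002300023000230)) (.node 303 (.leaf 0x23000230002300023000230002300023000230) (.leaf 0x23000230002300023000230002300023000230)))))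 (.node 312 (.node 308 (.node 306 (.node 305 (.leaf 0x23000230002300023000230002300023000230) (.leaf 0x1d0001d0001d00230002300001d0023000230)) (.node 307 (.leaf 0x23000230002300001d002300001d0023000230) (.leaf 0x23000230002300023000230002300023000230))) (.node 310 (.node 309 (.leaf 0x23000230002300023000230002300023000230) (.leaf 0x23000230002300023000230002300023000230)) (.node 311 (.leaf 0x23000230002300023000230002300023000230) (.leaf 0x23000230002300023000230002300023000230)))) (.node 316 (.node 314 (.node 313 (.leaf 0x23000230002300023000230002300023000230) (.leaf 0x23000230002300023000230002300023000230)) (.node 315 (.leaf 0x23000230002300023000230002300023000230) (.leaf 0x23000230002300023000230002300023000230))) (.node 318 (.node 317 (.leaf 0x1c0001c002300023000230002300023000230) (.leaf 0x23000230002300023000230002300023000230)) (.node 319 (.leaf 0x23000230002300023000230002300023000230) (.leaf 0x23000230002300023000230002300023000230))))))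

def bTB10 : Bst := (.node 336 (.node 328 (.node 324 (.node 322 (.node 321 (.leaf 0x23000230002300023000230002300023000230) (.leaf 0x2300023000230002300001d0001d0023000230)) (.node 323 (.leaf 0x23000230002300023000230002300023000230) (.leaf 0x23000230002300023000230002300023000230))) (.node 326 (.node 325 (.leaf 0x23000230002300023000230002300023000230) (.leaf 0x1c002300001c0023000230002300023000230)) (.node 327 (.leaf 0x23000230002300023000230002300023000230) (.leaf 0x23000230002300023000230002300023000230)))) (.node 332 (.node 330 (.node 329 (.leaf 0x1d0001d002300023000230002300023000230) (.leaf 0x23000230002300023000230002300001c0001c)) (.node 331 (.leaf 0x23000230002300023000230002300023000230) (.leaf 0x23000230002300023000230002300023000230))) (.node 334 (.node 333 (.leaf 0x23000230002300023000230002300023000230) (.leaf 0x23000230002300023000230002300023000230)) (.node 335 (.leaf 0x1d0001d002300023000230002300023000230) (.leaf 0x23000230002300023000230002300023000230)))))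 (.node 344 (.node 340 (.node 338 (.node 337 (.leaf 0x23000230002300023000230002300023000230) (.leaf 0x23000230002300023000230002300023000230)) (.node 339 (.leaf 0x2300001500230002300001d002300023000230) (.leaf 0x23000230002300023000230002300023000230))) (.node 342 (.node 341 (.leaf 0x23000230002300023000230002300001d0001d) (.leaf 0x23000230002300023000230002300023000230)) (.node 343 (.leaf 0x23000230002300023000230002300023000230) (.leaf 0x23000230002300023000230002300023000230)))) (.node 348 (.node 346 (.node 345 (.leaf 0x23000230002300023000230002300023000230) (.leaf 0x230002300001d0001d0001d0001d0023000230)) (.node 347 (.leaf 0x23000230002300023000230002300023000230) (.leaf 0x23000230002300023000230002300023000230))) (.node 350 (.node 349 (.leaf 0x2300023000230002300001d000210023000230) (.leaf 0x2300001d002300023000230002300023000230)) (.node 351 (.leaf 0x23000230002300023000230002300001d00230) (.leaf 0x23000230002300023000230002300023000230))))))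

def bTB11 : Bst := (.node 368 (.node 360 (.node 356 (.node 354 (.node 353 (.leaf 0x23000230002300023000230002300023000230) (.leaf 0x23000230002300023000230002300023000230)) (.node 355 (.leaf 0x2300023000230002300001d0001d0023000230) (.leaf 0x23000230002300023000230002300023000230))) (.node 358 (.node 357 (.leaf 0x1d0001d002300023000230002300023000230) (.leaf 0x1d0001d002300023000230002300023000230)) (.node 359 (.leaf 0x23000230002300023000230002300023000230) (.leaf 0x23000230002300023000230002300023000230)))) (.node 364 (.node 362 (.node 361 (.leaf 0x23000230002300023000230002300023000230) (.leaf 0x23000230002300023000230002300023000230)) (.node 363 (.leaf 0x23000230002300023000230002300023000230) (.leaf 0x23000230002300023000230002300023000230))) (.node 366 (.node 365 (.leaf 0x230002300023000230002300001c0001c00230) (.leaf 0x23000230002300023000230002300023000230)) (.node 367 (.leaf 0x23000230002300023000230002300023000230) (.leaf 0x23000230002300023000230002300023000230)))))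 (.node 376 (.node 372 (.node 370 (.node 369 (.leaf 0x2300001d000210001d0001d002300023000230) (.leaf 0x23000230002300023000230002300023000230)) (.node 371 (.leaf 0x23000230002300023000230002300023000230) (.leaf 0x230002300001d00230002300001d0023000230))) (.node 374 (.node 373 (.leaf 0x2300001d0001d0023000230002300023000230) (.leaf 0x23000230002300023000230002300001c0001c)) (.node 375 (.leaf 0x23000230002300023000230002300023000230) (.leaf 0x23000230002300023000230002300023000230)))) (.node 380 (.node 378 (.node 377 (.leaf 0x23000230002300023000230002300023000230) (.leaf 0x23000230002300023000230002300023000230)) (.node 379 (.leaf 0x1d00051002300023000230002300023000230) (.leaf 0x23000230002300001d00230002300023000230))) (.node 382 (.node 381 (.leaf 0x23000230002300023000230002300001d00230) (.leaf 0x23000230002300023000230002300023000230)) (.node 383 (.leaf 0x23000230002300023000230002300023000230) (.leaf 0x23000230002300023000230002300023000230))))))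

def bTB12 : Bst := (.node 400 (.node 392 (.node 388 (.node 386 (.node 385 (.leaf 0x230002300001d002300001d002300023000230) (.leaf 0x23000230002300023000230002300023000230)) (.node 387 (.leaf 0x23000230002300023000230002300023000230) (.leaf 0x23000230002300023000230002300023000230))) (.node 390 (.node 389 (.leaf 0x1d0002100230002300001d0001d0023000230) (.leaf 0x230002300001d002300023000230002300001d)) (.node 391 (.leaf 0x2300001d002300023000230002300023000230) (.leaf 0x2300023000230002300023000230002300001d)))) (.node 396 (.node 394 (.node 393 (.leaf 0x1d0001d0001d0001d00230002300023000230) (.leaf 0x23000230002300023000230002300023000230)) (.node 395 (.leaf 0x23000230002300001c0001c002300023000230) (.leaf 0x23000230002300023000230002300023000230))) (.node 398 (.node 397 (.leaf 0x23000230002300023000230002300023000230) (.leaf 0x21002300001d0001d00230002300023000230)) (.node 399 (.leaf 0x230002300001d002300001c0001c0023000230) (.leaf 0x23000230002300023000230002300023000230)))))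 (.node 408 (.node 404 (.node 402 (.node 401 (.leaf 0x23000230002300023000230002300023000230) (.leaf 0x23000230002300023000230002300023000230)) (.node 403 (.leaf 0x23000230002300023000230002300023000230) (.leaf 0x23000230002300023000230002300023000230))) (.node 406 (.node 405 (.leaf 0x23000230002300023000230002300023000230) (.leaf 0x23000230002300023000230002300023000230)) (.node 407 (.leaf 0x23000230002300001c0001c002300023000230) (.leaf 0x23000230002300023000230002300023000230)))) (.node 412 (.node 410 (.node 409 (.leaf 0x23000230002300023000230002300023000230) (.leaf 0x23000015002300001d00230002300023000230)) (.node 411 (.leaf 0x1d0001d002300023000230002300023000230) (.leaf 0x23000230002300023000230002300023000230))) (.node 414 (.node 413 (.leaf 0x2300023000230002300001d000150023000230) (.leaf 0x23000230002300023000230002300023000230)) (.node 415 (.leaf 0x23000230002300023000230002300023000230) (.leaf 0x23000230002300023000230002300023000230))))))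

def bTB13 : Bst := (.node 432 (.node 424 (.node 420 (.node 418 (.node 417 (.leaf 0x2300023000230002300001c0001c0023000230) (.leaf 0x23000230002300023000230002300023000230)) (.node 419 (.leaf 0x23000230002300023000230002300023000230) (.leaf 0x1c00230002300023000230002300023000230))) (.node 422 (.node 421 (.leaf 0x2300023000230002300023000230002300001c) (.leaf 0x23000230002300023000230002300023000230)) (.node 423 (.leaf 0x23000230002300023000230002300023000230) (.leaf 0x23000230002300023000230002300023000230)))) (.node 428 (.node 426 (.node 425 (.leaf 0x230002300001d00230002300001d0023000230) (.leaf 0x23000230002300023000230002300023000230)) (.node 427 (.leaf 0x23000230002300023000230002300023000230) (.leaf 0x2300001d002300023000230002300023000230))) (.node 430 (.node 429 (.leaf 0x2300023000230002300023000230002300001d) (.leaf 0x23000230002300023000230002300023000230)) (.node 431 (.leaf 0x23000230002300023000230002300023000230) (.leaf 0x2300001d002300001d0001d0001d0023000230)))))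 (.node 440 (.node 436 (.node 434 (.node 433 (.leaf 0x23000230002300023000230002300001d0001d) (.leaf 0x23000230002300023000230002300023000230)) (.node 435 (.leaf 0x23000230002300023000230002300023000230) (.leaf 0x23000230002300023000230002300023000230))) (.node 438 (.node 437 (.leaf 0x23000230002300023000230002300023000230) (.leaf 0x23000230002300023000230002300023000230)) (.node 439 (.leaf 0x23000230002300023000230002300023000230) (.leaf 0x23000230002300023000230002300023000230)))) (.node 444 (.node 442 (.node 441 (.leaf 0x230002300001d0023000021002300023000230) (.leaf 0x2300023000230002300001d0001d0001d0001d)) (.node 443 (.leaf 0x23000230002300023000230002300023000230) (.leaf 0x23000230002300023000230002300023000230))) (.node 446 (.node 445 (.leaf 0x1d002300001d0023000230002300023000230) (.leaf 0x1d00230002300023000230002300023000230)) (.node 447 (.leaf 0x23000230002300023000230002300023000230) (.leaf 0x23000230002300023000230002300023000230))))))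

def bTB14 : Bst := (.node 464 (.node 456 (.node 452 (.node 450 (.node 449 (.leaf 0x2300023000230002300001d002300023000230) (.leaf 0x23000230002300023000230002300001d00230)) (.node 451 (.leaf 0x230002300001d002300023000230000150001d) (.leaf 0x23000230002300023000230002300023000230))) (.node 454 (.node 453 (.leaf 0x2300001d002300023000230002300023000230) (.leaf 0x2300023000230002300001d002300023000230)) (.node 455 (.leaf 0x23000230002300023000230002300023000230) (.leaf 0x23000230002300023000230002300023000230)))) (.node 460 (.node 458 (.node 457 (.leaf 0x23000230002300023000230002300023000230) (.leaf 0x23000230002300023000230002300023000230)) (.node 459 (.leaf 0x23000230002300023000230002300023000230) (.leaf 0x2300023000230002300001d0001d0023000230))) (.node 462 (.node 461 (.leaf 0x230002300001d0001d0001d0000a0023000230) (.leaf 0x23000230002300023000230002300023000230)) (.node 463 (.leaf 0x23000230002300023000230002300001c0001c) (.leaf 0x230002300001d0001d00230002300023000230)))))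 (.node 472 (.node 468 (.node 466 (.node 465 (.leaf 0x23000230002300023000230002300023000230) (.leaf 0x23000230002300023000230002300023000230)) (.node 467 (.leaf 0x23000230002300023000230002300023000230) (.leaf 0x23000230002300023000230002300023000230))) (.node 470 (.node 469 (.leaf 0x23000230002300023000230002300023000230) (.leaf 0x23000230002300023000230002300023000230)) (.node 471 (.leaf 0x23000230002300023000230002300023000230) (.leaf 0x23000230002300023000230002300023000230)))) (.node 476 (.node 474 (.node 473 (.leaf 0x23000230002300023000230002300023000230) (.leaf 0x23000230002300023000230002300023000230)) (.node 475 (.leaf 0x23000230002300023000230002300023000230) (.leaf 0x23000230002300023000230002300023000230))) (.node 478 (.node 477 (.leaf 0x23000230002300023000230002300023000230) (.leaf 0x23000230002300023000230002300023000230)) (.node 479 (.leaf 0x23000230002300023000230002300023000230) (.leaf 0x1d00230002300023000230002300023000230))))))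

def bTB15 : Bst := (.node 496 (.node 488 (.node 484 (.node 482 (.node 481 (.leaf 0x23000230002300023000230002300001d00230) (.leaf 0x23000230002300023000230002300023000230)) (.node 483 (.leaf 0x230002300001d0001d0001d000210023000230) (.leaf 0x23000230002300023000230002300023000230))) (.node 486 (.node 485 (.leaf 0x23000230002300023000230002300023000230) (.leaf 0x23000230002300023000230002300023000230)) (.node 487 (.leaf 0x23000230002300023000230002300023000230) (.leaf 0x23000230002300023000230002300023000230)))) (.node 492 (.node 490 (.node 489 (.leaf 0x2300001c002300001c00230002300023000230) (.leaf 0x23000230002300023000230002300023000230)) (.node 491 (.leaf 0x23000230002300023000230002300023000230) (.leaf 0x23000230002300023000230002300023000230))) (.node 494 (.node 493 (.leaf 0x23000230002300023000230002300023000230) (.leaf 0x23000230002300023000230002300023000230)) (.node 495 (.leaf 0x23000230002300023000230002300023000230) (.leaf 0x23000230002300023000230002300023000230)))))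 (.node 504 (.node 500 (.node 498 (.node 497 (.leaf 0x1d0001d00230002300023000230000150001d) (.leaf 0x23000230002300023000230002300001d0001d)) (.node 499 (.leaf 0x1d000210023000230002300001d0023000230) (.leaf 0x23000230002300023000230002300001d00230))) (.node 502 (.node 501 (.leaf 0x1d0001d002300023000230002300023000230) (.leaf 0x1d002300001c0001c0001d0001d0023000230)) (.node 503 (.leaf 0x23000230002300023000230002300001500230) (.leaf 0x23000230002300023000230002300023000230)))) (.node 508 (.node 506 (.node 505 (.leaf 0x23000230002300023000230002300023000230) (.leaf 0x23000230002300023000230002300023000230)) (.node 507 (.leaf 0x23000230002300023000230002300023000230) (.leaf 0x23000230002300023000230002300023000230))) (.node 510 (.node 509 (.leaf 0x23000230002300001c0001c002300023000230) (.leaf 0x23000230002300023000230002300023000230)) (.node 511 (.leaf 0x1d00230002300023000230002300023000230) (.leaf 0x2300023000230002300023000230002300001d))))))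

def bTB16 : Bst := (.node 528 (.node 520 (.node 516 (.node 514 (.node 513 (.leaf 0x2300023000230002300001d000210023000230) (.leaf 0x23000230002300023000230002300023000230)) (.node 515 (.leaf 0x23000230002300023000230002300023000230) (.leaf 0x1d0001d002300023000230002300023000230))) (.node 518 (.node 517 (.leaf 0x150023000230002300001d002300023000230) (.leaf 0x23000230002300023000230002300023000230)) (.node 519 (.leaf 0x1c0001c002300023000230002300023000230) (.leaf 0x23000230002300023000230002300023000230)))) (.node 524 (.node 522 (.node 521 (.leaf 0x23000230002300023000230002300023000230) (.leaf 0x23000230002300023000230002300023000230)) (.node 523 (.leaf 0x23000230002300023000230002300023000230) (.leaf 0x23000230002300023000230002300023000230))) (.node 526 (.node 525 (.leaf 0x230002300001d0001d0001d00230002300001d) (.leaf 0x230002300023000230002300001d002300001d)) (.node 527 (.leaf 0x23000230002300023000230002300023000230) (.leaf 0x23000230002300023000230002300023000230)))))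 (.node 536 (.node 532 (.node 530 (.node 529 (.leaf 0x23000230002300023000230002300023000230) (.leaf 0x23000230002300023000230002300023000230)) (.node 531 (.leaf 0x23000230002300023000230002300023000230) (.leaf 0x23000230002300023000230002300023000230))) (.node 534 (.node 533 (.leaf 0x23000230002300023000230002300023000230) (.leaf 0x23000230002300023000230002300023000230)) (.node 535 (.leaf 0x23000230002300023000230002300023000230) (.leaf 0x230002300001c0001c00230002300023000230)))) (.node 540 (.node 538 (.node 537 (.leaf 0x23000230002300023000230002300023000230) (.leaf 0x23000230002300023000230002300023000230)) (.node 539 (.leaf 0x23000230002300023000230002300023000230) (.leaf 0x23000230002300023000230002300023000230))) (.node 542 (.node 541 (.leaf 0x23000230002300023000230002300001d0001d) (.leaf 0x23000230002300023000230002300023000230)) (.node 543 (.leaf 0x23000230002300023000230002300023000230) (.leaf 0x23000230002300023000230002300023000230))))))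

def bTB17 : Bst := (.node 560 (.node 552 (.node 548 (.node 546 (.node 545 (.leaf 0x230002300001c002300001c002300023000230) (.leaf 0x23000230002300023000230002300023000230)) (.node 547 (.leaf 0x23000230002300023000230002300023000230) (.leaf 0x1c0001c0001d0001d00230002300023000230))) (.node 550 (.node 549 (.leaf 0x23000230002300023000230002300023000230) (.leaf 0x23000230002300023000230002300023000230)) (.node 551 (.leaf 0x23000230002300023000230002300023000230) (.leaf 0x23000230002300023000230002300023000230)))) (.node 556 (.node 554 (.node 553 (.leaf 0x23000230002300023000230002300023000230) (.leaf 0x230002300001d0001d00230002300023000230)) (.node 555 (.leaf 0x23000230002300023000230002300023000230) (.leaf 0x23000230002300023000230002300023000230))) (.node 558 (.node 557 (.leaf 0x23000230002300023000230002300023000230) (.leaf 0x23000230002300000e00230002300001d00230)) (.node 559 (.leaf 0x1d0001d002300023000230002300023000230) (.leaf 0x23000230002300023000230002300023000230)))))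 (.node 568 (.node 564 (.node 562 (.node 561 (.leaf 0x23000230002300023000230002300023000230) (.leaf 0x23000230002300023000230002300023000230)) (.node 563 (.leaf 0x23000230002300023000230002300023000230) (.leaf 0x23000230002300023000230002300023000230))) (.node 566 (.node 565 (.leaf 0x2300023000230002300001d0001d0001d0001d) (.leaf 0x23000230002300023000230002300023000230)) (.node 567 (.leaf 0x23000230002300023000230002300023000230) (.leaf 0x23000230002300023000230002300001d00021)))) (.node 572 (.node 570 (.node 569 (.leaf 0x1d00230002300001d00230002300023000230) (.leaf 0x23000230002300023000230002300023000230)) (.node 571 (.leaf 0x23000230002300023000230002300023000230) (.leaf 0x23000230002300023000230002300023000230))) (.node 574 (.node 573 (.leaf 0x23000230002300023000230002300023000230) (.leaf 0x23000230002300023000230002300001d0001d)) (.node 575 (.leaf 0x23000230002300023000230002300023000230) (.leaf 0x230002300001d0001d00230002300023000230))))))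

def bTB18 : Bst := (.node 592 (.node 584 (.node 580 (.node 578 (.node 577 (.leaf 0x230002300001d0001d00230002300023000230) (.leaf 0x23000230002300023000230002300023000230)) (.node 579 (.leaf 0x23000230002300023000230002300023000230) (.leaf 0x23000230002300023000230002300023000230))) (.node 582 (.node 581 (.leaf 0x23000230002300023000230002300023000230) (.leaf 0x23000230002300023000230002300023000230)) (.node 583 (.leaf 0x1c00230002300023000230002300023000230) (.leaf 0x2300023000230002300023000230002300001c)))) (.node 588 (.node 586 (.node 585 (.leaf 0x23000230002300023000230002300023000230) (.leaf 0x23000230002300023000230002300023000230)) (.node 587 (.leaf 0x23000230002300023000230002300023000230) (.leaf 0x23000230002300001d000210001d0001d00230))) (.node 590 (.node 589 (.leaf 0x23000230002300023000230002300023000230) (.leaf 0x23000230002300023000230002300023000230)) (.node 591 (.leaf 0x2300023000230002300001d00230002300001d) (.leaf 0x1c0001c002300001d0001d002300023000230)))))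 (.node 600 (.node 596 (.node 594 (.node 593 (.leaf 0x23000230002300023000230002300023000230) (.leaf 0x23000230002300023000230002300023000230)) (.node 595 (.leaf 0x23000230002300023000230002300023000230) (.leaf 0x23000230002300023000230002300023000230))) (.node 598 (.node 597 (.leaf 0x23000230002300023000230002300023000230) (.leaf 0x230002300001d0001500230002300023000230)) (.node 599 (.leaf 0x1d002300023000230002300001d0023000230) (.leaf 0x23000230002300023000230002300023000230)))) (.node 604 (.node 602 (.node 601 (.leaf 0x23000230002300023000230002300023000230) (.leaf 0x23000230002300023000230002300023000230)) (.node 603 (.leaf 0x23000230002300023000230002300023000230) (.leaf 0x2300023000230002300001d002300001d00230))) (.node 606 (.node 605 (.leaf 0x23000230002300023000230002300023000230) (.leaf 0x23000230002300023000230002300023000230)) (.node 607 (.leaf 0x23000230002300023000230002300023000230) (.leaf 0x2300001d0001d0002100230002300001d0001d))))))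

def bTB19 : Bst := (.node 624 (.node 616 (.node 612 (.node 610 (.node 609 (.leaf 0x2300023000230002300001d002300023000230) (.leaf 0x2300001d002300001d00230002300023000230)) (.node 611 (.leaf 0x23000230002300023000230002300023000230) (.leaf 0x230002300001d0001d0001d0001d0023000230))) (.node 614 (.node 613 (.leaf 0x23000230002300023000230002300023000230) (.leaf 0x230002300023000230002300001c0001c00230)) (.node 615 (.leaf 0x23000230002300023000230002300023000230) (.leaf 0x23000230002300023000230002300023000230)))) (.node 620 (.node 618 (.node 617 (.leaf 0x2300023000021002300001d0001d0023000230) (.leaf 0x2300023000230002300001d002300001c0001c)) (.node 619 (.leaf 0x23000230002300023000230002300023000230) (.leaf 0x23000230002300023000230002300023000230))) (.node 622 (.node 621 (.leaf 0x23000230002300023000230002300023000230) (.leaf 0x23000230002300023000230002300023000230)) (.node 623 (.leaf 0x23000230002300023000230002300023000230) (.leaf 0x23000230002300023000230002300023000230)))))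 (.node 632 (.node 628 (.node 626 (.node 625 (.leaf 0x23000230002300023000230002300023000230) (.leaf 0x230002300023000230002300001c0001c00230)) (.node 627 (.leaf 0x23000230002300023000230002300023000230) (.leaf 0x23000230002300023000230002300023000230))) (.node 630 (.node 629 (.leaf 0x230002300023000015002300001d0023000230) (.leaf 0x230002300001d0001d00230002300023000230)) (.node 631 (.leaf 0x23000230002300023000230002300023000230) (.leaf 0x23000230002300023000230002300001d00015)))) (.node 636 (.node 634 (.node 633 (.leaf 0x23000230002300023000230002300023000230) (.leaf 0x23000230002300023000230002300023000230)) (.node 635 (.leaf 0x23000230002300023000230002300023000230) (.leaf 0x23000230002300023000230002300001c0001c))) (.node 638 (.node 637 (.leaf 0x23000230002300023000230002300023000230) (.leaf 0x23000230002300023000230002300023000230)) (.node 639 (.leaf 0x2300001c0001c0023000230002300023000230) (.leaf 0x23000230002300023000230002300023000230))))))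

def bTB20 : Bst := (.node 656 (.node 648 (.node 644 (.node 642 (.node 641 (.leaf 0x23000230002300023000230002300023000230) (.leaf 0x23000230002300023000230002300023000230)) (.node 643 (.leaf 0x23000230002300023000230002300023000230) (.leaf 0x2300023000230002300001d00230002300001d))) (.node 646 (.node 645 (.leaf 0x23000230002300023000230002300023000230) (.leaf 0x23000230002300023000230002300023000230)) (.node 647 (.leaf 0x2300001d002300001d00230002300023000230) (.leaf 0x23000230002300023000230002300023000230)))) (.node 652 (.node 650 (.node 649 (.leaf 0x23000230002300023000230002300023000230) (.leaf 0x23000230002300023000230002300023000230)) (.node 651 (.leaf 0x1d0001d002300001d002300001d0001d0001d) (.leaf 0x23000230002300023000230002300023000230))) (.node 654 (.node 653 (.leaf 0x23000230002300023000230002300023000230) (.leaf 0x23000230002300023000230002300023000230)) (.node 655 (.leaf 0x23000230002300023000230002300023000230) (.leaf 0x23000230002300023000230002300023000230)))))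 (.node 664 (.node 660 (.node 658 (.node 657 (.leaf 0x23000230002300023000230002300023000230) (.leaf 0x23000230002300023000230002300023000230)) (.node 659 (.leaf 0x23000230002300023000230002300023000230) (.leaf 0x1d0001d00230002300001d002300002100230))) (.node 662 (.node 661 (.leaf 0x23000230002300023000230002300001d0001d) (.leaf 0x23000230002300023000230002300023000230)) (.node 663 (.leaf 0x23000230002300023000230002300023000230) (.leaf 0x230002300001d002300001d002300023000230)))) (.node 668 (.node 666 (.node 665 (.leaf 0x230002300001d0023000230002300023000230) (.leaf 0x23000230002300023000230002300023000230)) (.node 667 (.leaf 0x23000230002300023000230002300023000230) (.leaf 0x1d00230002300023000230002300001d00230))) (.node 670 (.node 669 (.leaf 0x150001d002300023000230002300023000230) (.leaf 0x2300023000230002300001d002300023000230)) (.node 671 (.leaf 0x23000230002300023000230002300023000230) (.leaf 0x23000230002300001d00230002300023000230))))))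

def bTB21 : Bst := (.node 688 (.node 680 (.node 676 (.node 674 (.node 673 (.leaf 0x23000230002300023000230002300001d00230) (.leaf 0x23000230002300023000230002300023000230)) (.node 675 (.leaf 0x23000230002300023000230002300023000230) (.leaf 0x23000230002300023000230002300023000230))) (.node 678 (.node 677 (.leaf 0x23000230002300023000230002300023000230) (.leaf 0x23000230002300023000230002300023000230)) (.node 679 (.leaf 0x23000230002300023000230002300001d0001d) (.leaf 0x2300023000230002300001d0001d0001d00015)))) (.node 684 (.node 682 (.node 681 (.leaf 0x1c0001c002300023000230002300023000230) (.leaf 0x23000230002300023000230002300023000230)) (.node 683 (.leaf 0x2300023000230002300001d0001d0023000230) (.leaf 0x23000230002300023000230002300023000230))) (.node 686 (.node 685 (.leaf 0x23000230002300023000230002300023000230) (.leaf 0x23000230002300023000230002300023000230)) (.node 687 (.leaf 0x23000230002300023000230002300023000230) (.leaf 0x23000230002300023000230002300023000230)))))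 (.node 696 (.node 692 (.node 690 (.node 689 (.leaf 0x23000230002300023000230002300023000230) (.leaf 0x23000230002300023000230002300023000230)) (.node 691 (.leaf 0x23000230002300023000230002300023000230) (.leaf 0x23000230002300023000230002300023000230))) (.node 694 (.node 693 (.leaf 0x23000230002300023000230002300023000230) (.leaf 0x23000230002300023000230002300023000230)) (.node 695 (.leaf 0x23000230002300023000230002300023000230) (.leaf 0x23000230002300023000230002300023000230)))) (.node 700 (.node 698 (.node 697 (.leaf 0x23000230002300023000230002300023000230) (.leaf 0x23000230002300023000230002300023000230)) (.node 699 (.leaf 0x1d002300001d0023000230002300023000230) (.leaf 0x23000230002300023000230002300023000230))) (.node 702 (.node 701 (.leaf 0x23000230002300023000230002300023000230) (.leaf 0x2300023000230002300001d0001d0001d00021)) (.node 703 (.leaf 0x23000230002300023000230002300023000230) (.leaf 0x23000230002300023000230002300023000230))))))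

def bTB22 : Bst := (.node 720 (.node 712 (.node 708 (.node 706 (.node 705 (.leaf 0x23000230002300023000230002300023000230) (.leaf 0x23000230002300023000230002300023000230)) (.node 707 (.leaf 0x23000230002300023000230002300023000230) (.leaf 0x23000230002300001c002300001c0023000230))) (.node 710 (.node 709 (.leaf 0x23000230002300023000230002300023000230) (.leaf 0x23000230002300023000230002300023000230)) (.node 711 (.leaf 0x23000230002300023000230002300023000230) (.leaf 0x23000230002300023000230002300023000230)))) (.node 716 (.node 714 (.node 713 (.leaf 0x23000230002300023000230002300023000230) (.leaf 0x23000230002300023000230002300023000230)) (.node 715 (.leaf 0x150001d002300023000230002300023000230) (.leaf 0x1d0001d0001d0001d00230002300023000230))) (.node 718 (.node 717 (.leaf 0x23000230002300023000230002300023000230) (.leaf 0x1d002300001d000210023000230002300001d)) (.node 719 (.leaf 0x23000230002300023000230002300023000230) (.leaf 0x230002300001d0001d00230002300023000230)))))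 (.node 728 (.node 724 (.node 722 (.node 721 (.leaf 0x51002300001d002300001c0001c0001d0001d) (.leaf 0x23000230002300023000230002300023000230)) (.node 723 (.leaf 0x23000230002300023000230002300023000230) (.leaf 0x23000230002300023000230002300023000230))) (.node 726 (.node 725 (.leaf 0x23000230002300023000230002300023000230) (.leaf 0x23000230002300023000230002300023000230)) (.node 727 (.leaf 0x23000230002300023000230002300023000230) (.leaf 0x230002300023000230002300001c0001c00230)))) (.node 732 (.node 730 (.node 729 (.leaf 0x23000230002300023000230002300023000230) (.leaf 0x2300001d0001d0023000230002300023000230)) (.node 731 (.leaf 0x23000230002300023000230002300023000230) (.leaf 0x23000230002300023000230002300001d00021))) (.node 734 (.node 733 (.leaf 0x23000230002300023000230002300023000230) (.leaf 0x23000230002300023000230002300023000230)) (.node 735 (.leaf 0x230002300001d0001d00230002300023000230) (.leaf 0x23000230000150023000230002300001d00230))))))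

def bTB23 : Bst := (.node 752 (.node 744 (.node 740 (.node 738 (.node 737 (.leaf 0x23000230002300023000230002300023000230) (.leaf 0x230002300001c0001c00230002300023000230)) (.node 739 (.leaf 0x23000230002300023000230002300023000230) (.leaf 0x23000230002300023000230002300023000230))) (.node 742 (.node 741 (.leaf 0x23000230002300023000230002300023000230) (.leaf 0x23000230002300023000230002300023000230)) (.node 743 (.leaf 0x2300001d002300023000230002300023000230) (.leaf 0x2300001d00230002300001d0001d0001d00230)))) (.node 748 (.node 746 (.node 745 (.leaf 0x2300023000230002300023000230002300001d) (.leaf 0x23000230002300023000230002300023000230)) (.node 747 (.leaf 0x23000230002300023000230002300023000230) (.leaf 0x23000230002300023000230002300023000230))) (.node 750 (.node 749 (.leaf 0x23000230002300023000230002300023000230) (.leaf 0x23000230002300023000230002300023000230)) (.node 751 (.leaf 0x23000230002300023000230002300023000230) (.leaf 0x23000230002300023000230002300023000230)))))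 (.node 760 (.node 756 (.node 754 (.node 753 (.leaf 0x23000230002300023000230002300023000230) (.leaf 0x23000230002300023000230002300023000230)) (.node 755 (.leaf 0x2300023000230002300001c0001c0023000230) (.leaf 0x23000230002300023000230002300023000230))) (.node 758 (.node 757 (.leaf 0x23000230002300023000230002300023000230) (.leaf 0x23000230002300023000230002300023000230)) (.node 759 (.leaf 0x1d0001d002300023000230002300023000230) (.leaf 0x23000230002300023000230002300023000230)))) (.node 764 (.node 762 (.node 761 (.leaf 0x23000230002300023000230002300023000230) (.leaf 0x23000230002300023000230002300023000230)) (.node 763 (.leaf 0x23000230002300023000230002300023000230) (.leaf 0x2300023000230002300001c002300001c00230))) (.node 766 (.node 765 (.leaf 0x23000230002300023000230002300023000230) (.leaf 0x23000230002300023000230002300023000230)) (.node 767 (.leaf 0x230002300001c0001c0001d0001d0023000230) (.leaf 0x23000230002300023000230002300023000230))))))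

def bTB24 : Bst := (.node 784 (.node 776 (.node 772 (.node 770 (.node 769 (.leaf 0x23000230002300023000230002300023000230) (.leaf 0x23000230002300023000230002300023000230)) (.node 771 (.leaf 0x23000230002300023000230002300023000230) (.leaf 0x23000230002300023000230002300023000230))) (.node 774 (.node 773 (.leaf 0x2300023000230002300001d0001d0023000230) (.leaf 0x23000230002300023000230002300023000230)) (.node 775 (.leaf 0x23000230002300023000230002300023000230) (.leaf 0x1d00230002300023000230002300023000230)))) (.node 780 (.node 778 (.node 777 (.leaf 0x23000230002300023000230000150023000230) (.leaf 0x230002300001d0001d00230002300023000230)) (.node 779 (.leaf 0x23000230002300023000230002300023000230) (.leaf 0x23000230002300023000230002300023000230))) (.node 782 (.node 781 (.leaf 0x23000230002300023000230002300023000230) (.leaf 0x23000230002300023000230002300023000230)) (.node 783 (.leaf 0x1d0001d002300023000230002300023000230) (.leaf 0x23000230002300023000230002300001d0001d)))))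 (.node 792 (.node 788 (.node 786 (.node 785 (.leaf 0x23000230002300023000230002300023000230) (.leaf 0x1d00021002300023000230002300023000230)) (.node 787 (.leaf 0x23000230002300023000230002300023000230) (.leaf 0x230002300001d00230002300001d0023000230))) (.node 790 (.node 789 (.leaf 0x23000230002300023000230002300023000230) (.leaf 0x23000230002300023000230002300023000230)) (.node 791 (.leaf 0x23000230002300023000230002300023000230) (.leaf 0x1d0001d002300023000230002300023000230)))) (.node 796 (.node 794 (.node 793 (.leaf 0x23000230002300023000230002300023000230) (.leaf 0x23000230002300023000230002300023000230)) (.node 795 (.leaf 0x2300023000230002300001d0001d0023000230) (.leaf 0x2300023000230002300001d0001d0023000230))) (.node 798 (.node 797 (.leaf 0x23000230002300023000230002300023000230) (.leaf 0x23000230002300023000230002300023000230)) (.node 799 (.leaf 0x23000230002300023000230002300023000230) (.leaf 0x23000230002300023000230002300023000230))))))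

def bTB25 : Bst := (.node 816 (.node 808 (.node 804 (.node 802 (.node 801 (.leaf 0x23000230002300023000230002300023000230) (.leaf 0x2300001c0001c0023000230002300023000230)) (.node 803 (.leaf 0x23000230002300023000230002300023000230) (.leaf 0x23000230002300023000230002300023000230))) (.node 806 (.node 805 (.leaf 0x23000230002300023000230002300023000230) (.leaf 0x1d00230002300023000230002300023000230)) (.node 807 (.leaf 0x230002300023000230002300001d000210001d) (.leaf 0x23000230002300023000230002300023000230)))) (.node 812 (.node 810 (.node 809 (.leaf 0x2300001d002300023000230002300023000230) (.leaf 0x23000230002300023000230002300001d00230)) (.node 811 (.leaf 0x230002300001c0001c002300001d0001d00230) (.leaf 0x23000230002300023000230002300023000230))) (.node 814 (.node 813 (.leaf 0x23000230002300023000230002300023000230) (.leaf 0x23000230002300023000230002300023000230)) (.node 815 (.leaf 0x23000230002300023000230002300023000230) (.leaf 0x23000230002300023000230002300023000230)))))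 (.node 824 (.node 820 (.node 818 (.node 817 (.leaf 0x2300023000230002300001d000150023000230) (.leaf 0x230002300001d002300023000230002300001d)) (.node 819 (.leaf 0x23000230002300023000230002300023000230) (.leaf 0x23000230002300023000230002300023000230))) (.node 822 (.node 821 (.leaf 0x23000230002300023000230002300023000230) (.leaf 0x1d00230002300023000230002300023000230)) (.node 823 (.leaf 0x23000230002300023000230002300001d00230) (.leaf 0x23000230002300023000230002300023000230)))) (.node 828 (.node 826 (.node 825 (.leaf 0x23000230002300023000230002300023000230) (.leaf 0x1d0001d002300023000230002300023000230)) (.node 827 (.leaf 0x23000230002300001d0001d000210023000230) (.leaf 0x23000230002300023000230002300001d00230))) (.node 830 (.node 829 (.leaf 0x23000230002300001d002300001d0023000230) (.leaf 0x23000230002300023000230002300023000230)) (.node 831 (.leaf 0x2300023000230002300001d0001d0001d0001d) (.leaf 0x1c00230002300023000230002300023000230))))))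

def bTB26 : Bst := (.node 848 (.node 840 (.node 836 (.node 834 (.node 833 (.leaf 0x2300023000230002300023000230002300001c) (.leaf 0x23000230002300023000230002300023000230)) (.node 835 (.leaf 0x23000230002300023000230002300023000230) (.leaf 0x1c0001c002300023000021002300001d0001d))) (.node 838 (.node 837 (.leaf 0x23000230002300023000230002300001d00230) (.leaf 0x23000230002300023000230002300023000230)) (.node 839 (.leaf 0x23000230002300023000230002300023000230) (.leaf 0x23000230002300023000230002300023000230)))) (.node 844 (.node 842 (.node 841 (.leaf 0x23000230002300023000230002300023000230) (.leaf 0x23000230002300023000230002300023000230)) (.node 843 (.leaf 0x23000230002300023000230002300023000230) (.leaf 0x1c00230002300023000230002300023000230))) (.node 846 (.node 845 (.leaf 0x2300023000230002300023000230002300001c) (.leaf 0x23000230002300023000230002300023000230)) (.node 847 (.leaf 0x23000230002300023000230002300023000230) (.leaf 0x2300023000230002300023000015002300001d)))))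 (.node 856 (.node 852 (.node 850 (.node 849 (.leaf 0x2300023000230002300001d0001d0023000230) (.leaf 0x1d00051002300023000230002300023000230)) (.node 851 (.leaf 0x23000230002300023000230002300023000230) (.leaf 0x23000230002300023000230002300023000230))) (.node 854 (.node 853 (.leaf 0x23000230002300023000230002300023000230) (.leaf 0x1c0001c002300023000230002300023000230)) (.node 855 (.leaf 0x23000230002300023000230002300023000230) (.leaf 0x23000230002300023000230002300023000230)))) (.node 860 (.node 858 (.node 857 (.leaf 0x23000230002300023000230002300023000230) (.leaf 0x23000230002300001c0001c002300023000230)) (.node 859 (.leaf 0x23000230002300023000230002300023000230) (.leaf 0x23000230002300023000230002300023000230))) (.node 862 (.node 861 (.leaf 0x23000230002300023000230002300023000230) (.leaf 0x2300001d002300023000230002300023000230)) (.node 863 (.leaf 0x23000230002300023000230002300001d00230) (.leaf 0x23000230002300023000230002300023000230))))))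

def bTB27 : Bst := (.node 869 (.node 866 (.node 865 (.leaf 0x23000230002300023000230002300023000230) (.leaf 0x23000230002300001d002300001d0023000230)) (.node 867 (.leaf 0x23000230002300023000230002300023000230) (.node 868 (.leaf 0x23000230002300023000230002300023000230) (.leaf 0x1d0001d002300023000230002300023000230)))) (.node 872 (.node 870 (.leaf 0x230002300001d0001d002300001d002300001d) (.node 871 (.leaf 0x23000230002300023000230002300023000230) (.leaf 0x23000230002300023000230002300023000230))) (.node 873 (.leaf 0x23000230002300023000230002300023000230) (.node 874 (.leaf 0x23000230002300023000230002300023000230) (.leaf 0x23000230002300023000230002300023000230)))))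

/-- The verdicts on the last generator. -/
def bT : Tab := ⟨(.node 448 (.node 224 (.node 96 (.node 32 bTB0 (.node 64 bTB1 bTB2)) (.node 160 (.node 128 bTB3 bTB4) (.node 192 bTB5 bTB6))) (.node 320 (.node 256 bTB7 (.node 288 bTB8 bTB9)) (.node 384 (.node 352 bTB10 bTB11) (.node 416 bTB12 bTB13)))) (.node 672 (.node 544 (.node 480 bTB14 (.node 512 bTB15 bTB16)) (.node 608 (.node 576 bTB17 bTB18) (.node 640 bTB19 bTB20))) (.node 768 (.node 704 bTB21 (.node 736 bTB22 bTB23)) (.node 832 (.node 800 bTB24 bTB25) (.node 864 bTB26 bTB27))))), 20, 3⟩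

def sylTB0 : Bst := (.node 16 (.node 8 (.node 4 (.node 2 (.node 1 (.leaf 0x277600000001eededeed00000000bbbbbbbb0000000000000000) (.leaf 0x2e77bb9ddb0000000002edddee000000001e7b779e0000000003b9ddbb)) (.node 3 (.leaf 0x9d9edeeede00000bb6eeedbbb700000bb7bbb67bb700000036ddbbbb9e) (.leaf 0x79eee7bb9e000000b6eedbb79e000000db77bbb7bb000000036ddeeede))) (.node 6 (.node 5 (.leaf 0xed9eddd9d00000eeeddeeddee000002ee77bb776700000019eddd9edb) (.leaf 0x3b7b9eedee0000003bbb6eddee0000000077b9dded000000076776eeed)) (.node 7 (.leaf 0x7b9deddbb7b00001bb76edddb7b0019eeedbbbb7bbb0019eeedeeee7bbb) (.leaf 0xdb76edddbb700001e777b9dee7b00000d9ddeeedde700000edee77b76ed)))) (.node 12 (.node 10 (.node 9 (.leaf 0x1b700000002dbb6779e000000006ee7b9db000000000009de77) (.leaf 0x6dedeeede000000077b7b6ede0000000bb777b67700000001dededede)) (.node 11 (.leaf 0x37b9eedbb76d0000009eddbb7b6e000000b9eedbb76e000000b9dee7bb6e) (.leaf 0x777b79ded900000039ddb7bb6e000000b9eeedbb7900003776dee7776e))) (.node 14 (.node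 13 (.leaf 0x6eedbbb76e00000deed9eeedee0000776dee7bb9dd0000776dee7776ee) (.leaf 0xd9ddeeede000000d9ddbbbb9e00000deee7bbb9ee0000037b9deedbb7)) (.node 15 (.leaf 0xdedbb77b9d000000b76767b6ee00000000bbbb76de00000000eede76ee) (.leaf 0x3bbb7bb6ed0000003bbb77b9ee000000b767bb9ed9000000e7776ddeee))))) (.node 24 (.node 20 (.node 18 (.node 17 (.leaf 0x2eddee7b7b9000002de7bb9edee000002eddee7b76700002edeedbb6767) (.leaf 0x7779eddeed0000000b79dbb7b900000001d9ededdd00000001dbb7b79d)) (.node 19 (.leaf 0x76777bb67000000007b9eedee000000076777bb760000002eddeeddee) (.leaf 0x19eddd9d0000007b9eedede700000000bb6eddee00000076ddeee77b))) (.node 22 (.node 21 (.leaf 0x2ddededd9d000000001e7bb76d00000000000009e70000000676edbb6e) (.leaf 0xb776dedd9d00000002edddede700000000379ee7b90000000000002767)) (.node 23 (.leaf 0x7b9dddb9eee00000076edede7b7000000bb77b9ede7000001db79deeedd) (.leaf 0x767b7b77b700000002de76ede7000000067bb79ded000006e77b6eddee)))) (.node 28 (.node 26 (.node 25 (.leaf 0x1b7bbbb76de0000001b6ede76ee0000003bb79dbbbb0000002eeeddb7bb)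 (.leaf 0x1eddd9edede000002deeddbb677000002ded9ee77b70000001edddbb7b7)) (.node 27 (.leaf 0x37bb6767bb700000ddb9ede76ee000006dddb7bb79d0000037bb76deed9) (.leaf 0xdb779dbbb6760000db779deeede7000000db779deeee000000db779dbbbb))) (.node 30 (.node 29 (.leaf 0x9eddbbb76e000000036dedddee0000009d9eedddee0000002ddbb7b9de) (.leaf 0xb76edee77bb00000b777bb7b9de000000b9ede7bb6e0000007677b79dde)) (.node 31 (.leaf 0x2deedd9ddee0000007b77bb9eee000000076777b67b00000039ed9dded9) (.leaf 0x67b6eed9de00000076ddeee7b700000001db9eeedd00000019e77bbb9d))))))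

def sylTB1 : Bst := (.node 48 (.node 40 (.node 36 (.node 34 (.node 33 (.leaf 0xede7bb76d000000019dbb7b6e0000009dedbb7b6e000000676ededbbb) (.leaf 0xd9dbb00000000006de7b90000000000003676000000001b79ee7b)) (.node 35 (.leaf 0x79dd9edeedd000006767bb6767b0000027b7bb79ded00000076deede77b) (.leaf 0x76dedee77b000000777b7b677b00000067776ded9d0000001b9dde76ee))) (.node 38 (.node 37 (.leaf 0xeded9d9ed000001eddb7bb7b60000019e7767b79d0000077bb7b6776d) (.leaf 0x77bb7bb79e000000dde7bb7b9d000000dbb79eedde0000001eddb7bb77)) (.node 39 (.leaf 0xb6edddbb7000000b6eeee77670000002dbbbb9de700000002deeedde7) (.leaf 0x1bb9db000000000376ee7b000000000006ee7700000000000ddbb9)))) (.node 44 (.node 42 (.node 41 (.leaf 0x6de776000000000db9edbb00000001bb9ddbb60000000000000379) (.leaf 0x19dbbb76e0000000bb777bb790000009dedbbb76e0000001b6eedddee)) (.node 43 (.leaf 0x1ee7bb7b76700000001d9ddeddb00000001d9ddeee700000001db77bb9d) (.leaf 0x2edbb77bbb0000001ee7bb7bbb00000bb77bb77bbb000001d9ddeeddbb))) (.node 46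 (.node 45 (.leaf 0x1bb7b777bbb0000000ede777b9e00000076eedbb79d00000076dee7bb9d) (.leaf 0xeee7b6776e000000d9edbbb76e000007b67bbb7bbb000007b6eeedeeed)) (.node 47 (.leaf 0x6ddb7000002deee7777bb000000001bb9edbb000000009ee776e7) (.leaf 0xb7bbb7bb00000000eedeeede000000000376de770000027777bbb7bb))))) (.node 56 (.node 52 (.node 50 (.node 49 (.leaf 0xbbb6eedded000000039deddd9d0000000776ed9ede00000000bb9deede) (.leaf 0x67b7767bb6000001b77b9eedee000002eddd9deede000003677b7bb6ed)) (.node 51 (.leaf 0xb79dbb779db0000000d9eeddd9d000000eddbbb779d0000000b676eddde) (.leaf 0x2deeddbbbb0000002deeddeeee00000006779eedde00000001dbb77b9d))) (.node 54 (.node 53 (.leaf 0x3b6edbb00000000000027b90000000bb777b7b9000000bb76deded9) (.leaf 0x2e77bb9ee70000000000006e7600000002e7767b6e0000000076de7b9d)) (.node 55 (.leaf 0xb7bbb7b790000000009d9dbb600000006deedddee000000b9deee7b76) (.leaf 0xde7b000000000036e7b6000000001b79ddbb0000000b7b9ededd)))) (.node 60 (.node 58 (.node 57 (.leaf 0x7b76deeddb00000e7b79eded9e00007b76deededbb0000db7bb779dee7)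 (.leaf 0x7b6767bb700001bb779dbb67700001de7b7b676770000007b76deeee7)) (.node 59 (.leaf 0xb76eddd9e00001eddeee7bbbb000000001d9dded9000000db7b7bb6ed) (.leaf 0x2eeeddeede000001db77bb9edb000001eddeed9eee0000003bbb9deede))) (.node 62 (.node 61 (.leaf 0x779dddb7b9de000007bbb7bbb9ed0000000b9edee77700000077b9edeed9) (.leaf 0x776edee77b70000776dde7bb6ee000000079deedbb7000000079ddee7bb)) (.node 63 (.leaf 0x9ddde76ee00000000bb7bb6ed000002777b7bb6ed00000000bb77b9ee) (.leaf 0x2de76ee00000001ddbb9ede0000000b6777b9de0000000b77b79ed9))))))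

def sylTB2 : Bst := (.node 80 (.node 72 (.node 68 (.node 66 (.node 65 (.leaf 0x6eddeeede00000067b7b79dee00001db7b9eee77b00001dbb79dddb77) (.leaf 0x1ed9eeedee00000006ededddee0000001ee7bbb9ee0000006eddbbbb9e)) (.node 67 (.leaf 0x6ddbb600000000009ee7790000037b9eeddbb7000000b9deee7bb9) (.leaf 0xb7bbb7b6760000000003b6ee77000000000039dbb9000000eedeeedde7))) (.node 70 (.node 69 (.leaf 0x6edde76ee0000007bb7779edd000000001ed9d9ed00000076deede7b7) (.leaf 0x76deeedbb7600000076dedee7b70000000779eded9e000006767bb67b76)) (.node 71 (.leaf 0x76eedde7bb6000003677b9deede0000077bb79dbbb60000076eeeddb7b6) (.leaf 0x36ed9eed9d9000000767b79ddd90000002de76eddb90000036ee7bbb79d)))) (.node 76 (.node 74 (.node 73 (.leaf 0x79eee7776d00000079dddbb79e00001e77b9eedbb700001e77b9dee7bb) (.leaf 0x79ddee776700000079dd9ddbb700000036ddbb776d0000000b9eede777)) (.node 75 (.leaf 0xb6767776dd00000037779eedde00000076eddee7b7000000bbb779dddb) (.leaf 0xb7bb76ee00000007bbb9dd9d000000007b776edd0000000b7b67b9dd)))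 (.node 78 (.node 77 (.leaf 0xb6eddbb76d0000000dddb7bb6e00000067b76deddd0000001e777b9de7) (.leaf 0x79dee77b9e00000ddee7bbb9ed000007b9deddbbb70000002e7bb79ddb)) (.node 79 (.leaf 0x1ee77b76ed00000076dde7b79d000067bbb6eeedee000067bbb7bbb9ee) (.leaf 0x36ddeeedde7000006d9ddb7bb6e0000006eddbb776d00000079ddee77b9))))) (.node 88 (.node 84 (.node 82 (.node 81 (.leaf 0xb7bbb77b90000007b67bb9dee00000000000d9e770000000006d9dbb9) (.leaf 0x2dbb776d00000039ee7bb76d0000000000001bb60000000003b9ee7b)) (.node 83 (.leaf 0x7676eed9ede700001de7b7b677670000019d9eed9ee7000001db7bbb6ee7) (.leaf 0x1bb779deeee000001bb779dbbbb00000007b6767b7b000001db7b67679d))) (.node 86 (.node 85 (.leaf 0x27b67b9deede00000d9ddb9deedd000027bb76ed9ede000001edddbb7bb6) (.leaf 0xe77bb79ded00000b79dbb76e7b0000019eede77bb700001b6ede76ede7)) (.node 87 (.leaf 0x79eedbb76d00000079dee7b79e000000bb7b6ed9ee000000bb67b9edee) (.leaf 0x2e7bbb6e00000002d9eeed9e00000001e776776d0000002ed9d9d9ee)))) (.node 92 (.node 90 (.node 89 (.leaf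 0x767bb7b9dd9e00002ed9d9edeede0000009d9ede76ee000000db7bbb76de) (.leaf 0x36dde76ee00000007b76deed9000007b6767bb679000000eddb7bb79d)) (.node 91 (.leaf 0x1b7b79deeee0000002de76ed9db00000076eedde77b0000003b7b776edd) (.leaf 0x76eedde7b700000776dddb9dde0000003bb7bb76ee000000b77b79eddb))) (.node 94 (.node 93 (.leaf 0x1bb7b9deede0000001dbbb67b9d000001dbbb7b6ee7000000db7b6eddee) (.leaf 0xb79dbb67b6000000eddbb7b79d000002d9edde7bb7000003bb79dbb7b9)) (.node 95 (.leaf 0x3bbb777b7b90000000b6edddb7b00000000000376e7000000001bb9ddb7) (.leaf 0x6edbb00000000000ee7b90000000dddbb7b6e00000067bb7b6edd))))))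

def sylTB3 : Bst := (.node 112 (.node 104 (.node 100 (.node 98 (.node 97 (.leaf 0x2ededbb79ee000000bb67b676ed000000bb676779ee000001bb7b6eddee) (.leaf 0xb67b779ed000000b6ededeedd000006eddb9deedd000000b7bb76ede7)) (.node 99 (.leaf 0x2eddee7bbb0000002edeedbb7b00000000b79deeee00000000b79dbbbb) (.leaf 0x1b77b776edd0000009eed9dded90000000b79dbbb79000000777bbb9edd))) (.node 102 (.node 101 (.leaf 0xeeedddee0000002dd9d9d9de0000000002eeeeee000000000000003b) (.leaf 0x79edde7bb00000000000ee776000000000009ddbb00000000bb777bbb)) (.node 103 (.leaf 0x776edee777b00000bb9deddeeee00000002e7b7676e00000079ede7b79e) (.leaf 0x1d9dededde000000001e77b79e0000001ddbb7b9dd000000079dede7bb)))) (.node 108 (.node 106 (.node 105 (.leaf 0x37b7b9dded000001d9ddedee7700000677bbb6eedd000000bb9deedde7) (.leaf 0xedd9ddeddb000000dde77bbb9d0000001dee777b7b000000067b7767b7)) (.node 107 (.leaf 0x2dbbbb9e0000000002deeede00000009dddeeede0000000b7bb9ddde) (.leaf 0x9edbb9000000027676ee77000000000001b67900000000006ee7b6)))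 (.node 110 (.node 109 (.leaf 0x1e77bb6edb000000001e777b9e00000002e7b6776e0000002e7b7b9ddb) (.leaf 0x3779dddb7b9d00003776dde7bb6e00000079ede77b9e0000019edbbbb6ee)) (.node 111 (.leaf 0x6dede76ee0000001dbbbb679d000000036eeddd9d00000001dbbb779d) (.leaf 0x779ddd9d9e0000002ddede7b7700000001deeddb9e00000077b6eeeddd))))) (.node 120 (.node 116 (.node 114 (.node 113 (.leaf 0x2de76eeddbb900000b67b779eedb000000eede76ede7000000bbb779dee7) (.leaf 0x27bb7b9dded000001ede7b79eed0000076eed9ee7b70000076eed9ee77b)) (.node 115 (.leaf 0x2ee77bb7bb000000dde7b7bb9d0000000ded9dded90000037b76ed9ede) (.leaf 0x3767b9deede00002eededdedeee00001deee7bbb777000000e77b77677b))) (.node 118 (.node 117 (.leaf 0xb79ed9d9ee00000019d9eed9d900000001db7bb79d00000001db7b7b9d) (.leaf 0x7676eed9ee000007b6767b6776000009dee7bbb79d00000001ddeded9d)) (.node 119 (.leaf 0xb9eeedbbb0000001edbb7b9ed0000001dddb79ddd0000001dee7b6eed) (.leaf 0x7bb6eeedeed000007bb7bbb9eed0000000eee7bbb6e00000076ede7bb9d)))) (.node 124 (.node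 122 (.node 121 (.leaf 0xb9dd9edbbb0000000eedbb776d000000079eeddbb700000000000edbb6) (.leaf 0x379ddbb9000000b9deee7b67000000000009ee7b0000000000036e77)) (.node 123 (.leaf 0x79eeedeedd000001dbb9eeeedd000000b79dbbb676000000b79deeede7) (.leaf 0x9ede7b7bb9d000002deeddbb767000000377bb79ded0000001dbb67bb9d))) (.node 126 (.node 125 (.leaf 0x79ee7b9e00000002e77b676e00000000000006db0000002eddded9db) (.leaf 0x1bb9ee7700000001e7b67b9e0000000dd9edddee00000000002779db)) (.node 127 (.leaf 0x79deedbbb6000000d9ddbb776d00001eed9eeedeee00001eee7bbb9eee) (.leaf 0x6eedbb7b6e0000006dee7bbb6e000007b6edee7bb7000007b6eeedbb77))))))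

/-- A Sylow 2-subgroup. -/
def sylT : Tab := ⟨(.node 64 (.node 32 sylTB0 sylTB1) (.node 96 sylTB2 sylTB3)), 64, 2⟩

def stepTB0 : Bst := (.node 16 (.node 8 (.node 4 (.node 2 (.node 1 (.leaf 0x12d00d201f4012900d001f6012c00d401f3012f00d601f1) (.leaf 0x12a00d701f2012b00d501f0012800d101f5012e00d301f7)) (.node 3 (.leaf 0x16101270104016401210100016501200101016601240106) (.leaf 0x16201220105016301230107016001260103016701250102))) (.node 6 (.node 5 (.leaf 0xdc004a004e00d8004c004800d9004b004900db004d004f) (.leaf 0xdd004f004d00de004e004a00df0049004b00da0048004c)) (.node 7 (.leaf 0x11e00f201fd011900f101ff011f00f601f9011c00f301f8) (.leaf 0x11a00f501fb011800f001fe011b00f401fa011d00f701fc)))) (.node 12 (.node 10 (.node 9 (.leaf 0x1ba009f01ad01be009801aa01b8009d01ac01b9009c01af) (.leaf 0x1bb009b01a801bc009a01a901bf009901ab01bd009e01ae)) (.node 11 (.leaf 0x1ed007701de01ee007301dd01e9007501dc01e8007001da) (.leaf 0x1ec007401d901ea007201d801ef007101db01eb007601df))) (.node 14 (.node 13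 (.leaf 0x1d701ff00f101d501fd00f201d101f800f301d201f900f6) (.leaf 0x1d001fa00f401d401fb00f501d601fc00f701d301fe00f0)) (.node 15 (.leaf 0x700187012a00720184012f007701820128007601810129) (.leaf 0x730183012e00710180012d00740185012c00750186012b))))) (.node 24 (.node 20 (.node 18 (.node 17 (.leaf 0x1e500ca004101e000c9004001e400cf004301e700ce0042) (.leaf 0x1e200cd004501e100c8004401e600cc004701e300cb0046)) (.node 19 (.leaf 0x2300110015002100130016002600150011002700140012) (.leaf 0x2200170010002500160013002000100017002400120014))) (.node 22 (.node 21 (.leaf 0x1a501f600d001a601f500d101a001f100d601a101f300d4) (.leaf 0x1a201f200d701a301f000d501a701f700d301a401f400d2)) (.node 23 (.leaf 0x9c016d011a009a016e011f009e01680119009f01690118) (.leaf 0x9b016c011c0098016a011d0099016b011e009d016f011b)))) (.node 28 (.node 26 (.node 25 (.leaf 0x1b40155006001b50156006101b70154006201b601570063) (.leaf 0x1b20151006501b10150006401b00152006701b301530066)) (.node 27 (.leaf 0x2f008c008a002b008a008c002e008d0088002c0088008d)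 (.leaf 0x2a008e008b002d008f008900280089008f0029008b008e))) (.node 30 (.node 29 (.leaf 0x148002a00b7014e002e00b30149002d00b6014a002800b1) (.leaf 0x14d002b00b4014c002c00b5014b002900b0014f002f00b2)) (.node 31 (.leaf 0x1f501cf01ce01f601c801cd01f001cb01c901f201ca01cc) (.leaf 0x1f301cd01c801f101ce01cf01f701cc01ca01f401c901cb))))))

def stepTB1 : Bst := (.node 48 (.node 40 (.node 36 (.node 34 (.node 33 (.leaf 0xa800a4017b00a900a7017a00af00a5017c00ae00a6017d) (.leaf 0xab00a2017e00aa00a3017f00ac00a0017900ad00a10178)) (.node 35 (.leaf 0x131006c006f0130006a006b0134006d006e013200680069) (.leaf 0x135006e006d0136006f006c0133006900680137006b006a))) (.node 38 (.node 37 (.leaf 0x1ff0113011101fa0116011401fe0112011001fb01150117) (.leaf 0x1fd0117011501f90111011301f80110011201fc01140116)) (.node 39 (.leaf 0xc70027014300c60026014200c00025014600c100220147) (.leaf 0xc50023014500c30024014400c20021014000c400200141)))) (.node 44 (.node 42 (.node 41 (.leaf 0x18f00860195018e00870196018a00840191018b00850190)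 (.leaf 0x18d00820192018800800194018900810193018c00830197)) (.node 43 (.leaf 0xba00a800e800bc00a900e900bd00aa00eb00b900ab00ee) (.leaf 0xbb00ac00ec00b800ad00ef00be00ae00ea00bf00af00ed))) (.node 46 (.node 45 (.leaf 0x6801d80072006a01d90074006e01da0070006f01dc0075) (.leaf 0x6c01dd0073006d01db0071006901df0076006b01de0077)) (.node 47 (.leaf 0x3f01e000df003b01e600d8003a01e400de003e01e500da) (.leaf 0x3901e100db003801e200dc003d01e700dd003c01e300d9))))) (.node 56 (.node 52 (.node 50 (.node 49 (.leaf 0x700c101a1000200c601a7000100c301a2000000c501a3) (.leaf 0x300c401a6000400c201a5000600c001a0000500c701a4)) (.node 51 (.leaf 0xf7004400c800f4004300cf00f5004200ce00f6004600cb) (.leaf 0xf1004100ca00f0004000c900f3004700cc00f2004500cd))) (.node 54 (.node 53 (.leaf 0x7800040055007900030054007e00050052007f00020053) (.leaf 0x7d00070057007b00000051007c00060056007a00010050)) (.node 55 (.leaf 0xcb010f00bf00cf010a00b800c8010900bc00cd010800ba) (.leaf 0xce010b00bb00ca010d00b900c9010e00bd00cc010c00be))))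 (.node 60 (.node 58 (.node 57 (.leaf 0x13800e40166013a00e10161013c00e20162013d00e60163) (.leaf 0x13f00e50165013b00e00160013900e70167013e00e30164)) (.node 59 (.leaf 0x19500e900a9019400ef00ad019200eb00aa019700ee00ab) (.leaf 0x19100ea00ae019600e800a8019300ec00ac019000ed00af))) (.node 62 (.node 61 (.leaf 0x91001800310090001b00320096001a00330095001e0034) (.leaf 0x92001c00350093001900300097001f00360094001d0037)) (.node 63 (.leaf 0x19b011f016e019c01180169019e011a016d019901190168) (.leaf 0x19d011d016a0198011e016b019f011b016f019a011c016c))))))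

def stepTB2 : Bst := (.node 80 (.node 72 (.node 68 (.node 66 (.node 65 (.leaf 0x113013d000d0115013f000c01110139000901100138000a) (.leaf 0x117013b000e0116013e00080114013a000f0112013c000b)) (.node 67 (.leaf 0xed00df01e000ea00da01e500eb00d901e300ee00d801e6) (.leaf 0xec00db01e100e900dd01e700e800de01e400ef00dc01e2))) (.node 70 (.node 69 (.leaf 0x12000930096012100910095012600960093012700950091) (.leaf 0x12500970090012200920094012300900097012400940092)) (.node 71 (.leaf 0x8400fd005c008500f9005b008700f80059008600fa0058) (.leaf 0x8100fb005a008300fe005d008200ff005e008000fc005f)))) (.node 76 (.node 74 (.node 73 (.leaf 0x174000e013b0175000f013a0177000a0138017600090139) (.leaf 0x173000b013c0172000d013d0170000c013f01710008013e)) (.node 75 (.leaf 0x901c3003c000a01c2003b000e01c10038000f01c00039) (.leaf 0x801c7003a000b01c6003f000d01c5003e000c01c4003d))) (.node 78 (.node 77 (.leaf 0x154019d015a0150019e015d01510199015e0152019f015c) (.leaf 0x1570198015b0155019a01580156019b01590153019c015f))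 (.node 79 (.leaf 0x18101070123018201050122018601010120018701000121) (.leaf 0x18501020125018401060124018001030126018301040127))))) (.node 88 (.node 84 (.node 82 (.node 81 (.leaf 0x4c01a8009b004b01a9009a004f01af009c004e01ac009d) (.leaf 0x4d01aa0098004a01ab0099004901ad009f004801ae009e)) (.node 83 (.leaf 0x1a014e01d6001e014f01d50019014d01d00018014c01d4) (.leaf 0x1b014a01d3001c014b01d7001d014901d2001f014801d1))) (.node 86 (.node 85 (.leaf 0xd20064015000d40065015100d30067015200d600660153) (.leaf 0xd10060015500d70062015400d50063015700d000610156)) (.node 87 (.leaf 0x5d01b40137005e01b50133005a01b70135005f01b60136) (.leaf 0x5801b10134005901b00131005b01b30132005c01b20130)))) (.node 92 (.node 90 (.node 89 (.leaf 0x15d016000e0015c016100e10158016200e20159016300e6) (.leaf 0x15b016500e5015a016400e3015e016700e7015f016600e4)) (.node 91 (.leaf 0x32005d00fe0035005e00ff0034005800fa0033005900f8) (.leaf 0x37005c00fd0030005a00fb0036005b00f90031005f00fc))) (.node 94 (.node 93 (.leaf 0x14501b80171014401b90170014001ba0173014101bd0172)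 (.leaf 0x14301be0175014201bf0174014701bb0177014601bc0176)) (.node 95 (.leaf 0x1cf0197008301c80192008201ce0190008501cd01910084) (.leaf 0x1c90195008601cc0196008701cb0194008001ca01930081))))))

def stepTB3 : Bst := (.node 112 (.node 104 (.node 100 (.node 98 (.node 97 (.leaf 0x55003f01c60052003901c00053003801c10054003e01c5) (.leaf 0x57003b01c20056003c01c30050003d01c40051003a01c7)) (.node 99 (.leaf 0xb301ee018e00b201ef018f00b101ed018c00b001eb018d) (.leaf 0xb601ec018a00b701ea018b00b501e9018800b401e80189))) (.node 102 (.node 101 (.leaf 0x16e017c00a5016a017a00a7016f017800a1016d017900a0) (.leaf 0x16b017b00a40168017e00a20169017f00a3016c017d00a6)) (.node 103 (.leaf 0xe0013501b700e1013601b600e5013101b000e7013701b4) (.leaf 0xe2013001b200e6013201b300e4013301b500e3013401b1)))) (.node 108 (.node 106 (.node 105 (.leaf 0x1ad01a000c001ae01a100c101aa01a200c301ab01a300c5) (.leaf 0x1a901a500c201af01a400c701ac01a700c601a801a600c4)) (.node 107 (.leaf 0xfe0146002500ff0147002200fb0142002600fc01430027)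 (.leaf 0xf90141002000f80144002400fa0145002300fd01400021))) (.node 110 (.node 109 (.leaf 0x8d015d019e008c015c019f008f015f019c008e015e0199) (.leaf 0x890159019b008b0158019a0088015a019d008a015b0198)) (.node 111 (.leaf 0x100017501be0104017101b80102017201bd0106017301ba) (.leaf 0x107017601bc0105017701bb0103017001b90101017401bf))))) (.node 120 (.node 116 (.node 114 (.node 113 (.leaf 0x109012b01860108012a0187010c01290181010f01280182) (.leaf 0x10d012f0184010b012e0183010a012d0180010e012c0185)) (.node 115 (.leaf 0xa30079007c00a20078007d00a6007c007900a1007a007f) (.leaf 0xa0007b007e00a4007e007b00a7007f007a00a5007d0078))) (.node 118 (.node 117 (.leaf 0x1da01d5014f01db01d0014d01dd01d4014c01de01d20149) (.leaf 0x1dc01d6014e01d801d7014b01d901d3014a01df01d10148)) (.node 119 (.leaf 0x1c500b6002d01c200b1002801c400b2002f01c700b3002e) (.leaf 0x1c100b5002c01c000b4002b01c600b7002a01c300b00029)))) (.node 124 (.node 122 (.node 121 (.leaf 0x1500bc0109001600be010c001700bf010f001100bb010b) (.leaf 0x1000bd010e001400ba0108001200b8010a001300b9010d))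 (.node 123 (.leaf 0x17a018801e90179018e01ee017d018d01eb017c018c01ed) (.leaf 0x17f018a01ec017e018b01ea017b018901e80178018f01ef))) (.node 126 (.node 125 (.leaf 0x6700500001006100570007006400510000006000560006) (.leaf 0x6500550004006200530002006300520005006600540003)) (.node 127 (.leaf 0x400036001f00410037001d004400300019004500310018) (.leaf 0x430033001a00420034001e00470032001b00460035001c))))))

/-- Products with its generators. -/
def stepT : Tab := ⟨(.node 64 (.node 32 stepTB0 stepTB1) (.node 96 stepTB2 stepTB3)), 48, 2⟩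

def sylPathTB0 : Bst := (.node 16 (.node 8 (.node 4 (.node 2 (.node 1 (.leaf 0x1ee0000000000007ffe000000000000ffff0000000000000000) (.leaf 0x1dffe00000000000001b700000000000000bd000000000003ef7b)) (.node 3 (.leaf 0x3eed0000000000003f760000000000001b7f000000000000000f) (.leaf 0xbdf0000000000006f7d0000000000001eef000000000006f7fe))) (.node 6 (.node 5 (.leaf 0x3b7000000000000eeef0000000000006eed000000000001fbdd) (.leaf 0x1fbde0000000000001bed0000000000006eee000000000000ef7b)) (.node 7 (.leaf 0x1bf760000000000000dfb0000000000077eef000000000007eef7) (.leaf 0x1fbb6000000000006ef760000000000003bbe000000000000037f)))) (.node 12 (.node 10 (.node 9 (.leaf 0x6ed0000000000003ffe0000000000001bef0000000000001fbe) (.leaf 0x7b7d0000000000006eef00000000000001bd000000000007b7ef)) (.node 11 (.leaf 0xb7f6000000000002ef7600000000000037dd0000000000001df7) (.leaf 0xb7ff00000000000000de0000000000001dfb00000000000007f7))) (.node 14 (.node 13 (.leaf 0xdfb60000000000001bf7000000000007b7f70000000000077f7b)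 (.leaf 0x3bbd0000000000001fbb00000000000037f60000000000006ef7)) (.node 15 (.leaf 0x3bdf000000000000000d0000000000000bdd0000000000007dfe) (.leaf 0x2eeef0000000000001eed000000000006fffe0000000000001b7d))))) (.node 24 (.node 20 (.node 18 (.node 17 (.leaf 0xeee000000000006ef7b0000000000003bb6000000000001fbbb) (.leaf 0x1bf7b00000000000037f7000000000000edfe000000000000dfdd)) (.node 19 (.leaf 0x1bbb600000000000006fb0000000000001bbb000000000003bbbd) (.leaf 0x7ef70000000000000edd000000000000f7ff000000000001edfb))) (.node 22 (.node 21 (.leaf 0x7dff00000000000000be0000000000000006000000000006ffff) (.leaf 0x3f7f0000000000001b76000000000003eeef00000000000001ed)) (.node 23 (.leaf 0x1fb00000000000077f7000000000000dfbd000000000000077b) (.leaf 0xbf7b00000000000003ff0000000000001bf6000000000002f7ff)))) (.node 28 (.node 26 (.node 25 (.leaf 0xbf00000000000077fe0000000000001ffe00000000000002fd) (.leaf 0x7ffff000000000000001d000000000002fffe0000000000000007)) (.node 27 (.leaf 0x2dff0000000000002ffe00000000000001fe00000000000001fd)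 (.leaf 0xbf7d000000000000077e000000000000077d000000000000bbdf))) (.node 30 (.node 29 (.leaf 0xbbdd000000000000003700000000000077ee00000000000077de) (.leaf 0x2dfd0000000000001fde0000000000006df7000000000002dffe)) (.node 31 (.leaf 0xb000000000007f7fe00000000000001ef000000000002dfbe) (.leaf 0x7fff00000000000000b6000000000001dfff0000000000001b7b))))))

def sylPathTB1 : Bst := (.node 48 (.node 40 (.node 36 (.node 34 (.node 33 (.leaf 0x2de00000000000037ff000000000000b7ed0000000000007bde) (.leaf 0xbbed0000000000006efb00000000000002ee000000000003bbef)) (.node 35 (.leaf 0x2fdf0000000000000bff0000000000001df600000000000007f6) (.leaf 0x1df000000000002ef7d000000000000007f000000000000b7fe))) (.node 38 (.node 37 (.leaf 0x6dfdd00000000000003de000000000000fbbe000000000001bdfd) (.leaf 0x1bdfe000000000000dfbb000000000000fbbd00000000000003dd)) (.node 39 (.leaf 0x1edf6000000000001bbbe00000000000006f60000000000000fff) (.leaf 0x1bb60000000000037ef70000000000000fbd00000000000007ef)))) (.node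 44 (.node 42 (.node 41 (.leaf 0x1efb0000000000003bed000000000007f7ff00000000000000bb) (.leaf 0xdffe0000000000001ef7000000000002dfb600000000000000b7)) (.node 43 (.leaf 0x3bd000000000001bbef000000000000dfff0000000000000b7b) (.leaf 0x2eee000000000001ef7b000000000007bbbd0000000000000bbb))) (.node 46 (.node 45 (.leaf 0xdd000000000006fdfe0000000000002df700000000000037de) (.leaf 0x2ef7000000000001dfb60000000000007f760000000000000b7f)) (.node 47 (.leaf 0xbbbb0000000000000ef700000000000003b6000000000000eeee) (.leaf 0x2eef0000000000003b7d0000000000037fff000000000006dfb6))))) (.node 56 (.node 52 (.node 50 (.node 49 (.leaf 0xfffe0000000000003ef70000000000003fff00000000000001b6) (.leaf 0xbed000000000000fbde000000000000006d0000000000001edd)) (.node 51 (.leaf 0x2eef700000000000003bb00000000001bbbbd000000000000dfde) (.leaf 0xeed000000000006eeef000000000000edfd0000000000003b7f))) (.node 54 (.node 53 (.leaf 0xbf7ff000000000000007b00000000000002f60000000000001fff) (.leaf 0x77ff000000000000000200000000000006de000000000002ffff))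 (.node 55 (.leaf 0xbbbd000000000001eeee000000000001b7ee0000000000003bdd) (.leaf 0x1bbbb00000000000000ee000000000007ef7b0000000000000edf)))) (.node 60 (.node 58 (.node 57 (.leaf 0xfd000000000002f7f6000000000000bdfd00000000000007de) (.leaf 0x1bff00000000000001f70000000000006ffe00000000000003f6)) (.node 59 (.leaf 0x1b7ef000000000001eeef000000000006dfbe00000000000000ef) (.leaf 0xedfb00000000000003be0000000000002eed000000000000bbb6))) (.node 62 (.node 61 (.leaf 0x3b7f70000000000006fdd00000000000037ee000000000001bbdd) (.leaf 0xdfe0000000000037f7b0000000000007eed0000000000000eef)) (.node 63 (.leaf 0x6eef700000000000006ef0000000000001fb6000000000000dfbe) (.leaf 0x37fe00000000000001bf0000000000003efb0000000000007b7f))))))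

def sylPathTB2 : Bst := (.node 80 (.node 72 (.node 68 (.node 66 (.node 65 (.leaf 0x7bbd000000000001bffe0000000000006dfd0000000000000fde) (.leaf 0x1bdf000000000000003d0000000000002f7d0000000000000fbb)) (.node 67 (.leaf 0x6eeee0000000000007bbb0000000000006dfb000000000000ef76) (.leaf 0x2f7b00000000001bf7ff000000000000003b0000000000003b7e))) (.node 70 (.node 69 (.leaf 0x1eef70000000000003eef000000000001b7f70000000000003f7b) (.leaf 0x6f7f00000000000000f7000000000006f7f60000000000000f76)) (.node 71 (.leaf 0xeefb00000000000007ed00000000000037ef0000000000001bbe) (.leaf 0x1dfdd00000000000006fe0000000000000dff000000000001edfe)))) (.node 76 (.node 74 (.node 73 (.leaf 0x1f7d00000000000003df0000000000000fdd0000000000006dfe) (.leaf 0xfbb60000000000007bbe000000000001bdff000000000000003e)) (.node 75 (.leaf 0x6df000000000000ef7d000000000001f7f600000000000002f7) (.leaf 0x300000000000bbbbd00000000000007bb000000000003ffff))) (.node 78 (.node 77 (.leaf 0x1ff00000000000001f6000000000000bf7f0000000000002fff)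 (.leaf 0x1bfe000000000000bf76000000000000077f0000000000000776)) (.node 79 (.leaf 0x7df0000000000000f7d000000000001b7f600000000000003f7) (.leaf 0x6fff00000000000000f60000000000001f7b0000000000003eee))))) (.node 88 (.node 84 (.node 82 (.node 81 (.leaf 0x7b7e0000000000006f7b0000000000001fbd00000000000003ef) (.leaf 0x3dff00000000000001be00000000000006ee000000000007bbef)) (.node 83 (.leaf 0x37e000000000001bf7d000000000001dfbb000000000001fbbd) (.leaf 0x6ef7d00000000000000df000000000000b7f70000000000007f7b))) (.node 86 (.node 85 (.leaf 0x1e000000000000bfff000000000002fdff0000000000000076) (.leaf 0xbf60000000000001dff00000000000002fe00000000000007ff)) (.node 87 (.leaf 0xbfe00000000000000ff0000000000001dfd0000000000002fde) (.leaf 0x1de000000000001b7ff000000000000007e000000000000bdff)))) (.node 92 (.node 90 (.node 89 (.leaf 0x1f760000000000002f7f000000000000bdfe00000000000007dd) (.leaf 0x1b7fe000000000000003f0000000000006dff00000000000000fe)) (.node 91 (.leaf 0x6fd0000000000000ffe0000000000001bbd0000000000003bef)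 (.leaf 0xfbed000000000001dfde00000000000007ee000000000001edfd))) (.node 94 (.node 93 (.leaf 0x3ed000000000001eefb00000000000000fb000000000006f7ff) (.leaf 0x3dfd0000000000001bde0000000000000f7f0000000000006f76)) (.node 95 (.leaf 0xb760000000000007f7f0000000000000bb60000000000077ef7) (.leaf 0x1bbed0000000000002efb000000000001ef760000000000002dfb))))))

def sylPathTB3 : Bst := (.node 112 (.node 104 (.node 100 (.node 98 (.node 97 (.leaf 0xfbbb0000000000002f760000000000001f7f0000000000007bb6) (.leaf 0xfdf0000000000006df6000000000001bfff0000000000000036)) (.node 99 (.leaf 0x2ef000000000001dfbe0000000000000b7d0000000000007bdf) (.leaf 0x7bef0000000000000bbd000000000001ef7d00000000000002df))) (.node 102 (.node 101 (.leaf 0xb7ee000000000001fdfe000000000003b7ef00000000000002ed) (.leaf 0x2dd0000000000000efb0000000000007bed0000000000007bdd)) (.node 103 (.leaf 0x1dfe0000000000002fdd000000000002fdfe00000000000006ff) (.leaf 0xbffe000000000000007d00000000000007fe00000000000001dd)))) (.node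 108 (.node 106 (.node 105 (.leaf 0x6e000000000000fdff000000000003f7fe000000000000001b) (.leaf 0xfbdd00000000000002fb000000000001f7ff00000000000007b7)) (.node 107 (.leaf 0x6f000000000000f7fe000000000001bbbd0000000000001edf) (.leaf 0xbef000000000003f7ff00000000000001bb0000000000000fbe))) (.node 110 (.node 109 (.leaf 0x1f000000000002f7fe0000000000000077000000000006dffe) (.leaf 0x77f60000000000000bf700000000000003fe00000000000002ff)) (.node 111 (.leaf 0x3dfe00000000000003ee0000000000007efb0000000000000fb6) (.leaf 0x6f7000000000000f7f6000000000001fbed0000000000001bdd))))) (.node 120 (.node 116 (.node 114 (.node 113 (.leaf 0x1b7e0000000000003f7d0000000000007dfd0000000000000bde) (.leaf 0xe000000000002ef7b0000000000001eee000000000006fdff)) (.node 115 (.leaf 0x7be000000000000b7ef00000000000007bd000000000001fdff) (.leaf 0x2e000000000000002d000000000001fffe000000000000bbef))) (.node 118 (.node 117 (.leaf 0x1bbdf000000000002dfdd000000000001fbbe000000000000eef7) (.leaf 0x37d0000000000000df60000000000006fdf0000000000007eef))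 (.node 119 (.leaf 0x77ed00000000000077dd000000000001bf7f0000000000000376) (.leaf 0x1fdd0000000000002dfe000000000000bbde0000000000000df7)))) (.node 124 (.node 122 (.node 121 (.leaf 0x1b7ed000000000000edf6000000000000bbbe000000000002eeee) (.leaf 0x7eeef0000000000003bde0000000000003bbb00000000000000ed)) (.node 123 (.leaf 0x1fdf000000000000037b0000000000007f7d0000000000000b7e) (.leaf 0x77ef0000000000000bbe0000000000002df6000000000001dfbd))) (.node 126 (.node 125 (.leaf 0x1ffff000000000000fdfe000000000000000100000000000006dd) (.leaf 0x77fff000000000001f7fe000000000000002f00000000000007b6)) (.node 127 (.leaf 0x7eee0000000000000f7b0000000000037eef000000000003eef7) (.leaf 0x37ed000000000001bbde0000000000006fde0000000000000dfd))))))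

/-- The elements as products of the generators. -/
def sylPathT : Tab := ⟨(.node 64 (.node 32 sylPathTB0 sylPathTB1) (.node 96 sylPathTB2 sylPathTB3)), 64, 2⟩

def kindTB0 : Bst := (.node 16 (.node 8 (.node 4 (.node 2 (.node 1 (.leaf 0x622005e20000100000) (.leaf 0x8b200732006b200682)) (.node 3 (.leaf 0x3000030000300003) (.leaf 0x3000030000300003))) (.node 6 (.node 5 (.leaf 0x3000030000300003) (.leaf 0x3000030000300003)) (.node 7 (.leaf 0x3000030000b0000b) (.leaf 0x3000030000300003)))) (.node 12 (.node 10 (.node 9 (.leaf 0x30000301242011f2) (.leaf 0x3000030000300003)) (.node 11 (.leaf 0x3000030000300003) (.leaf 0x3000030000300003))) (.node 14 (.node 13 (.leaf 0x3000030000b0000b) (.leaf 0x3000030000300003)) (.node 15 (.leaf 0x3000030000300003) (.leaf 0x3000030000300003))))) (.node 24 (.node 20 (.node 18 (.node 17 (.leaf 0x3000030161201602) (.leaf 0x3000030000300003)) (.node 19 (.leaf 0x300003016c2016b2) (.leaf 0x3000030000300003))) (.node 22 (.node 21 (.leaf 0x3000030180a017fa)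 (.leaf 0x3000030000300003)) (.node 23 (.leaf 0x3000030000300003) (.leaf 0x3000030000300003)))) (.node 28 (.node 26 (.node 25 (.leaf 0x3000030189201882) (.leaf 0x3000030000300003)) (.node 27 (.leaf 0x190200003018e200003) (.leaf 0x3000030000300003))) (.node 30 (.node 29 (.leaf 0x3000030000301992) (.leaf 0x300003019b200003)) (.node 31 (.leaf 0x3000030000300003) (.leaf 0x3000030000300003))))))

def kindTB1 : Bst := (.node 48 (.node 40 (.node 36 (.node 34 (.node 33 (.leaf 0x3000030000300003) (.leaf 0x1c3201c220000300003)) (.node 35 (.leaf 0x3000030000300003) (.leaf 0x3000030000300003))) (.node 38 (.node 37 (.leaf 0x3000030000300003) (.leaf 0x3000030000300003)) (.node 39 (.leaf 0x3000030000300003) (.leaf 0x3000030000300003)))) (.node 44 (.node 42 (.node 41 (.leaf 0x2512025020000300003) (.leaf 0x3000030000300003)) (.node 43 (.leaf 0x3000030000300003) (.leaf 0x3000030000300003))) (.node 46 (.node 45 (.leaf 0x3000030000300003) (.leaf 0x3000030000300003)) (.node 47 (.leaf 0x2796000030277202766)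 (.leaf 0x300003027b200003))))) (.node 56 (.node 52 (.node 50 (.node 49 (.leaf 0x3000030000300003) (.leaf 0x3000030000300003)) (.node 51 (.leaf 0x2ad2000030000300003) (.leaf 0x3000030000302ae2))) (.node 54 (.node 53 (.leaf 0x3000030000300003) (.leaf 0x302cba0000302c9a)) (.node 55 (.leaf 0x302de60000300003) (.leaf 0x2e36000030000300003)))) (.node 60 (.node 58 (.node 57 (.leaf 0x3000030000300003) (.leaf 0x2ff2000030000302fe2)) (.node 59 (.leaf 0x3033220000300003) (.leaf 0x3000030333200003))) (.node 62 (.node 61 (.leaf 0xb000030000300003) (.leaf 0x30000b0000300003)) (.node 63 (.leaf 0x3000030000300003) (.leaf 0x3612035f20000300003))))))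

def kindTB2 : Bst := (.node 80 (.node 72 (.node 68 (.node 66 (.node 65 (.leaf 0x3000030000300003) (.leaf 0x3852000030382200003)) (.node 67 (.leaf 0x7000070000300003) (.leaf 0x3000030000300003))) (.node 70 (.node 69 (.leaf 0x300003039b2039a2) (.leaf 0x3000030000300003)) (.node 71 (.leaf 0x3000030000300003) (.leaf 0x3000030000300003)))) (.node 76 (.node 74 (.node 73 (.leaf 0x3000030000300003) (.leaf 0x3000030000300003)) (.node 75 (.leaf 0x3000030000300003) (.leaf 0x3000030000300003))) (.node 78 (.node 77 (.leaf 0x7000030000300003) (.leaf 0x7000030000300003)) (.node 79 (.leaf 0x3f7203f620000300003) (.leaf 0x3f9203f820000300003))))) (.node 88 (.node 84 (.node 82 (.node 81 (.leaf 0x300003041b204182) (.leaf 0x3000030000300003)) (.node 83 (.leaf 0x3000030000300003) (.leaf 0x3000030000300003))) (.node 86 (.node 85 (.leaf 0x4432000030440200003) (.leaf 0x3000030000300003)) (.node 87 (.leaf 0x7000070000300003) (.leaf 0x45b2045a20459204582)))) (.node 92 (.node 90 (.node 89 (.leaf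 0x3000030000300003) (.leaf 0x3000030000300003)) (.node 91 (.leaf 0x3000030000300003) (.leaf 0x304f120000304f02))) (.node 94 (.node 93 (.leaf 0x3000030000300003) (.leaf 0x3000030000300003)) (.node 95 (.leaf 0x3000030000300003) (.leaf 0x3000030000300003))))))

def kindTB3 : Bst := (.node 112 (.node 104 (.node 100 (.node 98 (.node 97 (.leaf 0x3000030000300003) (.leaf 0x3000030537205362)) (.node 99 (.leaf 0x3000030000300003) (.leaf 0x3000030000300003))) (.node 102 (.node 101 (.leaf 0x305502054f2054e2) (.leaf 0x5512000030000300003)) (.node 103 (.leaf 0x3000030000305526) (.leaf 0x3000030557600003)))) (.node 108 (.node 106 (.node 105 (.leaf 0x300003056c2056b2) (.leaf 0x3000030000300003)) (.node 107 (.leaf 0x5772057620000300003) (.leaf 0x3057920578200003))) (.node 110 (.node 109 (.leaf 0x3000030000300003) (.leaf 0x30000305816057f6)) (.node 111 (.leaf 0x3000030000300003) (.leaf 0x3000030000300003))))) (.node 120 (.node 116 (.node 114 (.node 113 (.leaf 0x3000030000300003) (.leaf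 0x305e3205e2200003)) (.node 115 (.leaf 0x3000030000300003) (.leaf 0x305ef205ee200003))) (.node 118 (.node 117 (.leaf 0x306212061f200003) (.leaf 0x3000030000300003)) (.node 119 (.leaf 0x3062a20629206262) (.leaf 0x30000300003062b2)))) (.node 124 (.node 122 (.node 121 (.leaf 0x3000030000300007) (.leaf 0x3000030000700003)) (.node 123 (.leaf 0x3000030000300003) (.leaf 0x3000030000300003))) (.node 126 (.node 125 (.leaf 0x6aaa0000306a5a00003) (.leaf 0x3000030000300003)) (.node 127 (.leaf 0x3000030000b0000b) (.leaf 0x3000030000300003))))))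

/-- The kinds of its elements. -/
def kindT : Tab := ⟨(.node 64 (.node 32 kindTB0 kindTB1) (.node 96 kindTB2 kindTB3)), 20, 2⟩

def fix240EB0 : Bst := (.node 16 (.node 8 (.node 4 (.node 2 (.node 1 (.leaf 0x10000100022000000000100004000020000000001000000000000000) (.leaf 0x2000030007400000000030002300002000020000500001000020002e)) (.node 3 (.leaf 0x2000060002400001000050003b000020000400025000000000400033) (.leaf 0x1000090029600002000080007200001000070038b000000000700075))) (.node 6 (.node 5 (.leaf 0x20000c00251000010000c00349000020000a00270000000000a0003a) (.leaf 0x10000e00290000000000e00073000020000d00726000000000d0038a)) (.node 7 (.leaf 0x100011002e700000000110026f00002000100006e000020000f00369) (.leaf 0x1000130027400000000130006900002000120034800000000120034a)))) (.node 12 (.node 10 (.node 9 (.leaf 0x1000160038c0000100015007270000000015007250000200014006b1) (.leaf 0x18003680000200017003b200000000170028f000020001600034)) (.node 11 (.leaf 0x20001a00252000010001a0035100001000190034700000000190006f)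 (.leaf 0x10001d006ec000020001c003b1000020001b00768000000001b002e8))) (.node 14 (.node 13 (.leaf 0x100020007520000000020006b2000020001f0034c000020001e00026) (.leaf 0x200022003d40000000022007ea00002000210070a000010002103822)) (.node 15 (.leaf 0x1000260008500000000240024800002000230383b0000000023006a2) (.leaf 0x2000290034d0000200028000770000100028002f100002000270036a))))) (.node 24 (.node 20 (.node 18 (.node 17 (.leaf 0x20002c002e9000010002b00291000000002b00078000000002a00350) (.leaf 0x20002f0075e000010002e003b4000010002d00723000000002d00769)) (.node 19 (.leaf 0x1000310328700000000310034b0000100030002c3000000003000027) (.leaf 0x340382300002000330384e000020003200724000010003202cba))) (.node 22 (.node 21 (.leaf 0x200036003520000100035004a9000000003500709000020003403aa6) (.leaf 0x3b00086000010003a00275000010003902cb90000000037003d5)) (.node 23 (.leaf 0x20003d002ed000010003c0031d000000003c0036b000020003b00055) (.leaf 0x2000400034f000010003f02cae000000003f0034e000000003e00076))))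 (.node 28 (.node 26 (.node 25 (.leaf 0x43002ea0000200042002c4000000004200449000020004100065) (.leaf 0x2000450384f000020004402cbc00001000440076a0000100043002ee)) (.node 27 (.leaf 0x1000470075d00000000470076500002000460028a0000000046003d7) (.leaf 0x10004a003890000200049004ab0000000049002f4000010004800289))) (.node 30 (.node 29 (.leaf 0x20004f0037d000010004d03821000020004c0059d000020004a0044b) (.leaf 0x200052003b60000000052004a800001000510075b000010005000388)) (.node 31 (.leaf 0x2000560028e000020005502caf0000100054003d6000010005300250) (.leaf 0x20005a0075c000000005a0031c00001000590031a000020005700249))))))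

def fix240EB1 : Bst := (.node 46 (.node 39 (.node 35 (.node 33 (.leaf 0x20005e002ef000020005d003d2000020005c0002b000010005b0059e) (.node 34 (.leaf 0x100062002c5000010006000317000000006000066000000005f00367) (.leaf 0x10006602cbd000000006602cbb00002000650031b000020006402cb1))) (.node 37 (.node 36 (.leaf 0x10006e0024c000000006e004aa000020006d0070d000020006a02cb8) (.leaf 0x100073002eb00000000730059c00000000700028c000020006f0070b)) (.node 38 (.leaf 0x2000780024f0000200075005a000000000750075a000020007400387) (.leaf 0x82003d300000000810002a000000007c0003f000000007b0028d)))) (.node 42 (.node 40 (.leaf 0x200085000280000100083000890000000083002f00000100082003d1) (.node 41 (.leaf 0x8802cb00000200087007ec00000000870044a000000008600316) (.leaf 0x8b03aa5000020008a00318000010008a006b30000100088006a1))) (.node 44 (.node 43 (.leaf 0x8d0068c000010008c0325b000000008c02cb4000020008b007d5) (.leaf 0x8f0024d000020008e0036d000010008e006a0000010008d0070c)) (.node 45 (.leaf 0x2000920031900001000910028b00001000900024e000020008f0002c)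 (.leaf 0x20009a0002900000000960059f0000200093007670000000093002ec))))) (.node 53 (.node 49 (.node 47 (.leaf 0x20009e00088000000009e0008a000010009d00070000020009c003d0) (.node 48 (.leaf 0xa2007eb00002000a1007ef00002000a000758000010009f00288) (.leaf 0x1000a6002f500002000a50383a00000000a5006b400001000a2007ed))) (.node 51 (.node 50 (.leaf 0x2000a90031e00001000a8007d600000000a8007d400002000a702cb3) (.leaf 0xad0069f00002000ac0072100002000ab0067e00002000aa02cac)) (.node 52 (.leaf 0x1000b00003e00000000b00002d00001000ae002f600000000ae0036c) (.leaf 0x2000b60031f00001000b50072200000000b50076600002000b100032)))) (.node 56 (.node 54 (.leaf 0x2000b90024a00000000b90007100001000b80024b00000000b8003cf) (.node 55 (.leaf 0x2000bf0067c00000000bd0075900000000bb0008700002000ba003b7) (.leaf 0xc6007d700001000c5007f300002000c30005200001000c202cb2))) (.node 58 (.node 57 (.leaf 0x2000cf0005000002000ce0004f00001000ce0000300000000c803af7) (.leaf 0x1000d9003d800001000d7003f200001000d30006400001000d000002))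 (.node 59 (.leaf 0xde007f200001000dd0004000000000dd0005100001000db00063) (.leaf 0x2000ec007f100002000eb007f000002000e40000600001000e2003b3))))))

/-- An orbit of fixed points (entries) -/
def fix240E : Tab := ⟨(.node 32 fix240EB0 fix240EB1), 60, 2⟩

def fix240PB0 : Bst := (.node 16 (.node 8 (.node 4 (.node 2 (.node 1 (.leaf 0xe1000e40000100000) (.leaf 0xed0000500002)) (.node 3 (.leaf 0) (.leaf 0))) (.node 6 (.node 5 (.leaf 0) (.leaf 0)) (.node 7 (.leaf 0) (.leaf 0)))) (.node 12 (.node 10 (.node 9 (.leaf 0x6000030000000000) (.leaf 0x4800030000090000b)) (.node 11 (.leaf 0x810009a000b70009f) (.leaf 0x4000ce000b0))) (.node 14 (.node 13 (.leaf 0x8000d00000000000) (.leaf 0x24)) (.node 15 (.leaf 0xa000100000000000) (.leaf 0x99000cf0000000000))))) (.node 24 (.node 20 (.node 18 (.node 17 (.leaf 0xea) (.leaf 0)) (.node 19 (.leaf 0) (.leaf 0xe2000000000000000))) (.node 22 (.node 21 (.leaf 0xdd000e9000e3) (.leaf 0x5800000)) (.node 23 (.leaf 0) (.leaf 0)))) (.node 28 (.node 26 (.node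 25 (.leaf 0xe8000000000000000) (.leaf 0x8500060000e5)) (.node 27 (.leaf 0x1e00000) (.leaf 0x28000190000000000))) (.node 30 (.node 29 (.leaf 0x160000e000d6000b9) (.leaf 0x3e0005c0000c00007)) (.node 31 (.leaf 0x41) (.leaf 0))))))

def fix240PB1 : Bst := (.node 48 (.node 40 (.node 36 (.node 34 (.node 33 (.leaf 0) (.leaf 0xd9000570003b00000)) (.node 35 (.leaf 0xba0009e000bb) (.leaf 0))) (.node 38 (.node 37 (.leaf 0) (.leaf 0)) (.node 39 (.leaf 0) (.leaf 0)))) (.node 44 (.node 42 (.node 41 (.leaf 0) (.leaf 0)) (.node 43 (.leaf 0) (.leaf 0))) (.node 46 (.node 45 (.leaf 0) (.leaf 0)) (.node 47 (.leaf 0) (.leaf 0))))) (.node 56 (.node 52 (.node 50 (.node 49 (.leaf 0) (.leaf 0)) (.node 51 (.leaf 0) (.leaf 0))) (.node 54 (.node 53 (.leaf 0) (.leaf 0)) (.node 55 (.leaf 0) (.leaf 0)))) (.node 60 (.node 58 (.node 57 (.leaf 0) (.leaf 0)) (.node 59 (.leaf 0) (.leaf 0))) (.node 62 (.node 61 (.leaf 0) (.leaf 0)) (.node 63 (.leaf 0) (.leaf 0))))))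

def fix240PB2 : Bst := (.node 80 (.node 72 (.node 68 (.node 66 (.node 65 (.leaf 0) (.leaf 0)) (.node 67 (.leaf 0) (.leaf 0))) (.node 70 (.node 69 (.leaf 0) (.leaf 0)) (.node 71 (.leaf 0) (.leaf 0)))) (.node 76 (.node 74 (.node 73 (.leaf 0) (.leaf 0)) (.node 75 (.leaf 0) (.leaf 0))) (.node 78 (.node 77 (.leaf 0) (.leaf 0)) (.node 79 (.leaf 0) (.leaf 0))))) (.node 88 (.node 84 (.node 82 (.node 81 (.leaf 0) (.leaf 0)) (.node 83 (.leaf 0) (.leaf 0))) (.node 86 (.node 85 (.leaf 0) (.leaf 0)) (.node 87 (.leaf 0) (.leaf 0)))) (.node 92 (.node 90 (.node 89 (.leaf 0) (.leaf 0)) (.node 91 (.leaf 0) (.leaf 0))) (.node 94 (.node 93 (.leaf 0) (.leaf 0)) (.node 95 (.leaf 0) (.leaf 0))))))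

def fix240PB3 : Bst := (.node 112 (.node 104 (.node 100 (.node 98 (.node 97 (.leaf 0) (.leaf 0)) (.node 99 (.leaf 0) (.leaf 0))) (.node 102 (.node 101 (.leaf 0) (.leaf 0)) (.node 103 (.leaf 0) (.leaf 0)))) (.node 108 (.node 106 (.node 105 (.leaf 0) (.leaf 0)) (.node 107 (.leaf 0) (.leaf 0))) (.node 110 (.node 109 (.leaf 0) (.leaf 0)) (.node 111 (.leaf 0) (.leaf 0))))) (.node 120 (.node 116 (.node 114 (.node 113 (.leaf 0) (.leaf 0)) (.node 115 (.leaf 0) (.leaf 0))) (.node 118 (.node 117 (.leaf 0) (.leaf 0)) (.node 119 (.leaf 0) (.leaf 0)))) (.node 124 (.node 122 (.node 121 (.leaf 0) (.leaf 0)) (.node 123 (.leaf 0) (.leaf 0))) (.node 126 (.node 125 (.leaf 0) (.leaf 0)) (.node 127 (.leaf 0) (.leaf 0))))))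

def fix240PB4 : Bst := (.node 144 (.node 136 (.node 132 (.node 130 (.node 129 (.leaf 0) (.leaf 0)) (.node 131 (.leaf 0) (.leaf 0))) (.node 134 (.node 133 (.leaf 0) (.leaf 0)) (.node 135 (.leaf 0) (.leaf 0)))) (.node 140 (.node 138 (.node 137 (.leaf 0) (.leaf 0)) (.node 139 (.leaf 0) (.leaf 0))) (.node 142 (.node 141 (.leaf 0) (.leaf 0)) (.node 143 (.leaf 0) (.leaf 0))))) (.node 152 (.node 148 (.node 146 (.node 145 (.leaf 0) (.leaf 0)) (.node 147 (.leaf 0xd5000d70007c0003a) (.leaf 0x97000b1000af0008f))) (.node 150 (.node 149 (.leaf 0x2b0001300078) (.leaf 0)) (.node 151 (.leaf 0) (.leaf 0)))) (.node 156 (.node 154 (.node 153 (.leaf 0) (.leaf 0)) (.node 155 (.leaf 0) (.leaf 0x1a000000000000000))) (.node 158 (.node 157 (.leaf 0x11) (.leaf 0x560001f)) (.node 159 (.leaf 0) (.leaf 0))))))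

def fix240PB5 : Bst := (.node 176 (.node 168 (.node 164 (.node 162 (.node 161 (.leaf 0) (.leaf 0)) (.node 163 (.leaf 0xb2000690006c000bc) (.leaf 0x250007b0009800091))) (.node 166 (.node 165 (.leaf 0x4200017) (.leaf 0xf0000000000)) (.node 167 (.leaf 0) (.leaf 0)))) (.node 172 (.node 170 (.node 169 (.leaf 0) (.leaf 0)) (.node 171 (.leaf 0) (.leaf 0))) (.node 174 (.node 173 (.leaf 0) (.leaf 0)) (.node 175 (.leaf 0) (.leaf 0))))) (.node 184 (.node 180 (.node 178 (.node 177 (.leaf 0x49000000000000000) (.leaf 0x8700062)) (.node 179 (.leaf 0) (.leaf 0))) (.node 182 (.node 181 (.leaf 0) (.leaf 0)) (.node 183 (.leaf 0) (.leaf 0)))) (.node 188 (.node 186 (.node 185 (.leaf 0) (.leaf 0x1b000000000000000)) (.node 187 (.leaf 0x9300063000430002c) (.leaf 0x83000640005b000b4))) (.node 190 (.node 189 (.leaf 0x3d0009d) (.leaf 0xcd000c30006d)) (.node 191 (.leaf 0) (.leaf 0))))))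

def fix240PB6 : Bst := (.node 208 (.node 200 (.node 196 (.node 194 (.node 193 (.leaf 0) (.leaf 0)) (.node 195 (.leaf 0) (.leaf 0))) (.node 198 (.node 197 (.leaf 0) (.leaf 0x86000a00000000000)) (.node 199 (.leaf 0x890007d000b3000a6) (.leaf 0xd3000c70005a0007e)))) (.node 204 (.node 202 (.node 201 (.leaf 0) (.leaf 0)) (.node 203 (.leaf 0) (.leaf 0))) (.node 206 (.node 205 (.leaf 0) (.leaf 0)) (.node 207 (.leaf 0) (.leaf 0))))) (.node 216 (.node 212 (.node 210 (.node 209 (.leaf 0) (.leaf 0x29000000000000000)) (.node 211 (.leaf 0x4a0001c000120001d) (.leaf 0x5f0005d0003f00031))) (.node 214 (.node 213 (.leaf 0x530002a00040) (.leaf 0)) (.node 215 (.leaf 0) (.leaf 0)))) (.node 220 (.node 218 (.node 217 (.leaf 0) (.leaf 0x84000000000000000)) (.node 219 (.leaf 0x590003c0001800027) (.leaf 0xae000cc))) (.node 222 (.node 221 (.leaf 0) (.leaf 0)) (.node 223 (.leaf 0) (.leaf 0x7300000))))))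

def fix240PB7 : Bst := (.node 240 (.node 232 (.node 228 (.node 226 (.node 225 (.leaf 0) (.leaf 0x94000000000000000)) (.node 227 (.leaf 0xd000140006f00074) (.leaf 0x23))) (.node 230 (.node 229 (.leaf 0) (.leaf 0)) (.node 231 (.leaf 0) (.leaf 0)))) (.node 236 (.node 234 (.node 233 (.leaf 0) (.leaf 0)) (.node 235 (.leaf 0) (.leaf 0))) (.node 238 (.node 237 (.leaf 0xec000260002e00000) (.leaf 0xd8000770000000046)) (.node 239 (.leaf 0) (.leaf 0))))) (.node 248 (.node 244 (.node 242 (.node 241 (.leaf 0) (.leaf 0)) (.node 243 (.leaf 0) (.leaf 0xd4000000000000000))) (.node 246 (.node 245 (.leaf 0x9b000820009c000b8) (.leaf 0x68000790005400037)) (.node 247 (.leaf 0xe7) (.leaf 0)))) (.node 252 (.node 250 (.node 249 (.leaf 0) (.leaf 0)) (.node 251 (.leaf 0) (.leaf 0))) (.node 254 (.node 253 (.leaf 0xe60000000000) (.leaf 0)) (.node 255 (.leaf 0) (.leaf 0))))))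

def fix240PB8 : Bst := (.node 272 (.node 264 (.node 260 (.node 258 (.node 257 (.leaf 0) (.leaf 0)) (.node 259 (.leaf 0) (.leaf 0))) (.node 262 (.node 261 (.leaf 0) (.leaf 0)) (.node 263 (.leaf 0) (.leaf 0)))) (.node 268 (.node 266 (.node 265 (.leaf 0) (.leaf 0)) (.node 267 (.leaf 0) (.leaf 0))) (.node 270 (.node 269 (.leaf 0) (.leaf 0)) (.node 271 (.leaf 0) (.leaf 0))))) (.node 280 (.node 276 (.node 274 (.node 273 (.leaf 0) (.leaf 0)) (.node 275 (.leaf 0x70000a10006100000) (.leaf 0))) (.node 278 (.node 277 (.leaf 0) (.leaf 0)) (.node 279 (.leaf 0) (.leaf 0)))) (.node 284 (.node 282 (.node 281 (.leaf 0) (.leaf 0)) (.node 283 (.leaf 0) (.leaf 0))) (.node 286 (.node 285 (.leaf 0) (.leaf 0)) (.node 287 (.leaf 0) (.leaf 0))))))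

def fix240PB9 : Bst := (.node 304 (.node 296 (.node 292 (.node 290 (.node 289 (.leaf 0) (.leaf 0)) (.node 291 (.leaf 0) (.leaf 0))) (.node 294 (.node 293 (.leaf 0) (.leaf 0)) (.node 295 (.leaf 0) (.leaf 0)))) (.node 300 (.node 298 (.node 297 (.leaf 0) (.leaf 0)) (.node 299 (.leaf 0x6e0008e0005200076) (.leaf 0))) (.node 302 (.node 301 (.leaf 0) (.leaf 0)) (.node 303 (.leaf 0) (.leaf 0))))) (.node 312 (.node 308 (.node 306 (.node 305 (.leaf 0) (.leaf 0)) (.node 307 (.leaf 0) (.leaf 0))) (.node 310 (.node 309 (.leaf 0) (.leaf 0)) (.node 311 (.leaf 0) (.leaf 0)))) (.node 316 (.node 314 (.node 313 (.leaf 0) (.leaf 0)) (.node 315 (.leaf 0) (.leaf 0))) (.node 318 (.node 317 (.leaf 0) (.leaf 0)) (.node 319 (.leaf 0) (.leaf 0))))))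

def fix240PB10 : Bst := (.node 336 (.node 328 (.node 324 (.node 322 (.node 321 (.leaf 0) (.leaf 0)) (.node 323 (.leaf 0) (.leaf 0))) (.node 326 (.node 325 (.leaf 0) (.leaf 0)) (.node 327 (.leaf 0) (.leaf 0)))) (.node 332 (.node 330 (.node 329 (.leaf 0) (.leaf 0)) (.node 331 (.leaf 0) (.leaf 0))) (.node 334 (.node 333 (.leaf 0) (.leaf 0)) (.node 335 (.leaf 0) (.leaf 0))))) (.node 344 (.node 340 (.node 338 (.node 337 (.leaf 0) (.leaf 0)) (.node 339 (.leaf 0) (.leaf 0))) (.node 342 (.node 341 (.leaf 0) (.leaf 0)) (.node 343 (.leaf 0) (.leaf 0)))) (.node 348 (.node 346 (.node 345 (.leaf 0) (.leaf 0)) (.node 347 (.leaf 0) (.leaf 0))) (.node 350 (.node 349 (.leaf 0) (.leaf 0)) (.node 351 (.leaf 0) (.leaf 0))))))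

def fix240PB11 : Bst := (.node 368 (.node 360 (.node 356 (.node 354 (.node 353 (.leaf 0) (.leaf 0)) (.node 355 (.leaf 0) (.leaf 0))) (.node 358 (.node 357 (.leaf 0) (.leaf 0)) (.node 359 (.leaf 0) (.leaf 0xb6000800007100092)))) (.node 364 (.node 362 (.node 361 (.leaf 0x96) (.leaf 0)) (.node 363 (.leaf 0) (.leaf 0))) (.node 366 (.node 365 (.leaf 0) (.leaf 0)) (.node 367 (.leaf 0) (.leaf 0))))) (.node 376 (.node 372 (.node 370 (.node 369 (.leaf 0) (.leaf 0)) (.node 371 (.leaf 0) (.leaf 0))) (.node 374 (.node 373 (.leaf 0) (.leaf 0)) (.node 375 (.leaf 0) (.leaf 0)))) (.node 380 (.node 378 (.node 377 (.leaf 0) (.leaf 0)) (.node 379 (.leaf 0) (.leaf 0))) (.node 382 (.node 381 (.leaf 0) (.leaf 0)) (.node 383 (.leaf 0) (.leaf 0))))))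

def fix240PB12 : Bst := (.node 400 (.node 392 (.node 388 (.node 386 (.node 385 (.leaf 0) (.leaf 0)) (.node 387 (.leaf 0) (.leaf 0))) (.node 390 (.node 389 (.leaf 0) (.leaf 0)) (.node 391 (.leaf 0) (.leaf 0)))) (.node 396 (.node 394 (.node 393 (.leaf 0) (.leaf 0)) (.node 395 (.leaf 0) (.leaf 0))) (.node 398 (.node 397 (.leaf 0) (.leaf 0)) (.node 399 (.leaf 0) (.leaf 0))))) (.node 408 (.node 404 (.node 402 (.node 401 (.leaf 0) (.leaf 0)) (.node 403 (.leaf 0) (.leaf 0))) (.node 406 (.node 405 (.leaf 0) (.leaf 0)) (.node 407 (.leaf 0) (.leaf 0)))) (.node 412 (.node 410 (.node 409 (.leaf 0) (.leaf 0)) (.node 411 (.leaf 0) (.leaf 0))) (.node 414 (.node 413 (.leaf 0) (.leaf 0)) (.node 415 (.leaf 0) (.leaf 0xc900000000db))))))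

def fix240PB13 : Bst := (.node 432 (.node 424 (.node 420 (.node 418 (.node 417 (.leaf 0) (.leaf 0)) (.node 419 (.leaf 0) (.leaf 0xab))) (.node 422 (.node 421 (.leaf 0) (.leaf 0)) (.node 423 (.leaf 0) (.leaf 0xcb000000000000000)))) (.node 428 (.node 426 (.node 425 (.leaf 0x38000a4000ad) (.leaf 0)) (.node 427 (.leaf 0) (.leaf 0))) (.node 430 (.node 429 (.leaf 0xa5000320002000000) (.leaf 0xc1)) (.node 431 (.leaf 0) (.leaf 0))))) (.node 440 (.node 436 (.node 434 (.node 433 (.leaf 0) (.leaf 0)) (.node 435 (.leaf 0) (.leaf 0))) (.node 438 (.node 437 (.leaf 0) (.leaf 0)) (.node 439 (.leaf 0) (.leaf 0)))) (.node 444 (.node 442 (.node 441 (.leaf 0) (.leaf 0)) (.node 443 (.leaf 0) (.leaf 0x2f))) (.node 446 (.node 445 (.leaf 0) (.leaf 0)) (.node 447 (.leaf 0) (.leaf 0))))))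

def fix240PB14 : Bst := (.node 464 (.node 456 (.node 452 (.node 450 (.node 449 (.leaf 0) (.leaf 0)) (.node 451 (.leaf 0x90000350005100000) (.leaf 0x8d000ac))) (.node 454 (.node 453 (.leaf 0) (.leaf 0)) (.node 455 (.leaf 0) (.leaf 0)))) (.node 460 (.node 458 (.node 457 (.leaf 0x45000d2000ca00000) (.leaf 0x2200015000210004d)) (.node 459 (.leaf 0) (.leaf 0))) (.node 462 (.node 461 (.leaf 0) (.leaf 0)) (.node 463 (.leaf 0) (.leaf 0))))) (.node 472 (.node 468 (.node 466 (.node 465 (.leaf 0) (.leaf 0)) (.node 467 (.leaf 0) (.leaf 0))) (.node 470 (.node 469 (.leaf 0x330000000000) (.leaf 0)) (.node 471 (.leaf 0x7500095000da000bd) (.leaf 0x470006b0007f)))) (.node 476 (.node 474 (.node 473 (.leaf 0) (.leaf 0xb5000d10006a00000)) (.node 475 (.leaf 0x65000440002d) (.leaf 0))) (.node 478 (.node 477 (.leaf 0) (.leaf 0)) (.node 479 (.leaf 0) (.leaf 0))))))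

def fix240PB15 : Bst := (.node 496 (.node 488 (.node 484 (.node 482 (.node 481 (.leaf 0) (.leaf 0)) (.node 483 (.leaf 0) (.leaf 0))) (.node 486 (.node 485 (.leaf 0) (.leaf 0)) (.node 487 (.leaf 0) (.leaf 0)))) (.node 492 (.node 490 (.node 489 (.leaf 0) (.leaf 0)) (.node 491 (.leaf 0) (.leaf 0))) (.node 494 (.node 493 (.leaf 0) (.leaf 0)) (.node 495 (.leaf 0) (.leaf 0))))) (.node 504 (.node 500 (.node 498 (.node 497 (.leaf 0) (.leaf 0)) (.node 499 (.leaf 0) (.leaf 0))) (.node 502 (.node 501 (.leaf 0) (.leaf 0xdf000c6000a8000c5)) (.node 503 (.leaf 0) (.leaf 0)))) (.node 508 (.node 506 (.node 505 (.leaf 0) (.leaf 0)) (.node 507 (.leaf 0xbf000360000000000) (.leaf 0xbe00000000c0000a2))) (.node 510 (.node 509 (.leaf 0xde000eb000ef000ee) (.leaf 0)) (.node 511 (.leaf 0) (.leaf 0))))))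

def fix240PB16 : Bst := (.node 528 (.node 520 (.node 516 (.node 514 (.node 513 (.leaf 0) (.leaf 0)) (.node 515 (.leaf 0) (.leaf 0))) (.node 518 (.node 517 (.leaf 0) (.leaf 0)) (.node 519 (.leaf 0) (.leaf 0)))) (.node 524 (.node 522 (.node 521 (.leaf 0) (.leaf 0)) (.node 523 (.leaf 0) (.leaf 0))) (.node 526 (.node 525 (.leaf 0) (.leaf 0)) (.node 527 (.leaf 0) (.leaf 0))))) (.node 536 (.node 532 (.node 530 (.node 529 (.leaf 0) (.leaf 0)) (.node 531 (.leaf 0) (.leaf 0))) (.node 534 (.node 533 (.leaf 0) (.leaf 0)) (.node 535 (.leaf 0) (.leaf 0)))) (.node 540 (.node 538 (.node 537 (.leaf 0) (.leaf 0)) (.node 539 (.leaf 0) (.leaf 0))) (.node 542 (.node 541 (.leaf 0) (.leaf 0)) (.node 543 (.leaf 0) (.leaf 0))))))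

def fix240PB17 : Bst := (.node 560 (.node 552 (.node 548 (.node 546 (.node 545 (.leaf 0) (.leaf 0)) (.node 547 (.leaf 0) (.leaf 0))) (.node 550 (.node 549 (.leaf 0) (.leaf 0)) (.node 551 (.leaf 0) (.leaf 0)))) (.node 556 (.node 554 (.node 553 (.leaf 0) (.leaf 0)) (.node 555 (.leaf 0) (.leaf 0))) (.node 558 (.node 557 (.leaf 0) (.leaf 0)) (.node 559 (.leaf 0) (.leaf 0))))) (.node 568 (.node 564 (.node 562 (.node 561 (.leaf 0) (.leaf 0)) (.node 563 (.leaf 0) (.leaf 0))) (.node 566 (.node 565 (.leaf 0) (.leaf 0)) (.node 567 (.leaf 0) (.leaf 0)))) (.node 572 (.node 570 (.node 569 (.leaf 0) (.leaf 0)) (.node 571 (.leaf 0) (.leaf 0))) (.node 574 (.node 573 (.leaf 0) (.leaf 0)) (.node 575 (.leaf 0) (.leaf 0))))))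

def fix240PB18 : Bst := (.node 592 (.node 584 (.node 580 (.node 578 (.node 577 (.leaf 0) (.leaf 0)) (.node 579 (.leaf 0) (.leaf 0))) (.node 582 (.node 581 (.leaf 0) (.leaf 0)) (.node 583 (.leaf 0) (.leaf 0)))) (.node 588 (.node 586 (.node 585 (.leaf 0) (.leaf 0)) (.node 587 (.leaf 0) (.leaf 0))) (.node 590 (.node 589 (.leaf 0) (.leaf 0)) (.node 591 (.leaf 0) (.leaf 0))))) (.node 600 (.node 596 (.node 594 (.node 593 (.leaf 0) (.leaf 0)) (.node 595 (.leaf 0) (.leaf 0))) (.node 598 (.node 597 (.leaf 0) (.leaf 0)) (.node 599 (.leaf 0) (.leaf 0)))) (.node 604 (.node 602 (.node 601 (.leaf 0) (.leaf 0)) (.node 603 (.leaf 0) (.leaf 0))) (.node 606 (.node 605 (.leaf 0) (.leaf 0)) (.node 607 (.leaf 0) (.leaf 0))))))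

def fix240PB19 : Bst := (.node 624 (.node 616 (.node 612 (.node 610 (.node 609 (.leaf 0) (.leaf 0)) (.node 611 (.leaf 0) (.leaf 0))) (.node 614 (.node 613 (.leaf 0) (.leaf 0)) (.node 615 (.leaf 0) (.leaf 0)))) (.node 620 (.node 618 (.node 617 (.leaf 0) (.leaf 0)) (.node 619 (.leaf 0) (.leaf 0))) (.node 622 (.node 621 (.leaf 0) (.leaf 0)) (.node 623 (.leaf 0) (.leaf 0))))) (.node 632 (.node 628 (.node 626 (.node 625 (.leaf 0) (.leaf 0)) (.node 627 (.leaf 0) (.leaf 0))) (.node 630 (.node 629 (.leaf 0) (.leaf 0)) (.node 631 (.leaf 0) (.leaf 0)))) (.node 636 (.node 634 (.node 633 (.leaf 0) (.leaf 0)) (.node 635 (.leaf 0) (.leaf 0))) (.node 638 (.node 637 (.leaf 0) (.leaf 0)) (.node 639 (.leaf 0) (.leaf 0))))))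

def fix240PB20 : Bst := (.node 656 (.node 648 (.node 644 (.node 642 (.node 641 (.leaf 0) (.leaf 0)) (.node 643 (.leaf 0) (.leaf 0))) (.node 646 (.node 645 (.leaf 0) (.leaf 0)) (.node 647 (.leaf 0) (.leaf 0)))) (.node 652 (.node 650 (.node 649 (.leaf 0) (.leaf 0)) (.node 651 (.leaf 0) (.leaf 0))) (.node 654 (.node 653 (.leaf 0) (.leaf 0)) (.node 655 (.leaf 0) (.leaf 0))))) (.node 664 (.node 660 (.node 658 (.node 657 (.leaf 0) (.leaf 0)) (.node 659 (.leaf 0) (.leaf 0))) (.node 662 (.node 661 (.leaf 0) (.leaf 0)) (.node 663 (.leaf 0) (.leaf 0)))) (.node 668 (.node 666 (.node 665 (.leaf 0) (.leaf 0)) (.node 667 (.leaf 0) (.leaf 0))) (.node 670 (.node 669 (.leaf 0) (.leaf 0)) (.node 671 (.leaf 0) (.leaf 0))))))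

def fix240PB21 : Bst := (.node 688 (.node 680 (.node 676 (.node 674 (.node 673 (.leaf 0) (.leaf 0)) (.node 675 (.leaf 0) (.leaf 0))) (.node 678 (.node 677 (.leaf 0) (.leaf 0)) (.node 679 (.leaf 0) (.leaf 0)))) (.node 684 (.node 682 (.node 681 (.leaf 0) (.leaf 0)) (.node 683 (.leaf 0) (.leaf 0))) (.node 686 (.node 685 (.leaf 0) (.leaf 0)) (.node 687 (.leaf 0) (.leaf 0))))) (.node 696 (.node 692 (.node 690 (.node 689 (.leaf 0) (.leaf 0)) (.node 691 (.leaf 0) (.leaf 0))) (.node 694 (.node 693 (.leaf 0) (.leaf 0)) (.node 695 (.leaf 0) (.leaf 0)))) (.node 700 (.node 698 (.node 697 (.leaf 0) (.leaf 0)) (.node 699 (.leaf 0) (.leaf 0))) (.node 702 (.node 701 (.leaf 0) (.leaf 0)) (.node 703 (.leaf 0) (.leaf 0))))))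

def fix240PB22 : Bst := (.node 720 (.node 712 (.node 708 (.node 706 (.node 705 (.leaf 0) (.leaf 0)) (.node 707 (.leaf 0) (.leaf 0))) (.node 710 (.node 709 (.leaf 0) (.leaf 0)) (.node 711 (.leaf 0) (.leaf 0)))) (.node 716 (.node 714 (.node 713 (.leaf 0) (.leaf 0)) (.node 715 (.leaf 0) (.leaf 0))) (.node 718 (.node 717 (.leaf 0) (.leaf 0)) (.node 719 (.leaf 0) (.leaf 0))))) (.node 728 (.node 724 (.node 722 (.node 721 (.leaf 0) (.leaf 0)) (.node 723 (.leaf 0) (.leaf 0))) (.node 726 (.node 725 (.leaf 0) (.leaf 0)) (.node 727 (.leaf 0) (.leaf 0)))) (.node 732 (.node 730 (.node 729 (.leaf 0) (.leaf 0)) (.node 731 (.leaf 0) (.leaf 0))) (.node 734 (.node 733 (.leaf 0) (.leaf 0)) (.node 735 (.leaf 0) (.leaf 0))))))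

def fix240PB23 : Bst := (.node 752 (.node 744 (.node 740 (.node 738 (.node 737 (.leaf 0) (.leaf 0)) (.node 739 (.leaf 0) (.leaf 0))) (.node 742 (.node 741 (.leaf 0) (.leaf 0)) (.node 743 (.leaf 0) (.leaf 0)))) (.node 748 (.node 746 (.node 745 (.leaf 0) (.leaf 0)) (.node 747 (.leaf 0) (.leaf 0))) (.node 750 (.node 749 (.leaf 0) (.leaf 0)) (.node 751 (.leaf 0) (.leaf 0))))) (.node 760 (.node 756 (.node 754 (.node 753 (.leaf 0) (.leaf 0)) (.node 755 (.leaf 0) (.leaf 0))) (.node 758 (.node 757 (.leaf 0) (.leaf 0)) (.node 759 (.leaf 0) (.leaf 0)))) (.node 764 (.node 762 (.node 761 (.leaf 0) (.leaf 0)) (.node 763 (.leaf 0) (.leaf 0))) (.node 766 (.node 765 (.leaf 0) (.leaf 0)) (.node 767 (.leaf 0) (.leaf 0))))))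

def fix240PB24 : Bst := (.node 784 (.node 776 (.node 772 (.node 770 (.node 769 (.leaf 0) (.leaf 0)) (.node 771 (.leaf 0) (.leaf 0))) (.node 774 (.node 773 (.leaf 0) (.leaf 0)) (.node 775 (.leaf 0) (.leaf 0)))) (.node 780 (.node 778 (.node 777 (.leaf 0) (.leaf 0)) (.node 779 (.leaf 0) (.leaf 0))) (.node 782 (.node 781 (.leaf 0) (.leaf 0)) (.node 783 (.leaf 0) (.leaf 0))))) (.node 792 (.node 788 (.node 786 (.node 785 (.leaf 0) (.leaf 0)) (.node 787 (.leaf 0) (.leaf 0))) (.node 790 (.node 789 (.leaf 0) (.leaf 0)) (.node 791 (.leaf 0) (.leaf 0)))) (.node 796 (.node 794 (.node 793 (.leaf 0) (.leaf 0)) (.node 795 (.leaf 0) (.leaf 0))) (.node 798 (.node 797 (.leaf 0) (.leaf 0)) (.node 799 (.leaf 0) (.leaf 0))))))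

def fix240PB25 : Bst := (.node 816 (.node 808 (.node 804 (.node 802 (.node 801 (.leaf 0) (.leaf 0)) (.node 803 (.leaf 0) (.leaf 0))) (.node 806 (.node 805 (.leaf 0) (.leaf 0)) (.node 807 (.leaf 0) (.leaf 0)))) (.node 812 (.node 810 (.node 809 (.leaf 0) (.leaf 0)) (.node 811 (.leaf 0) (.leaf 0))) (.node 814 (.node 813 (.leaf 0) (.leaf 0)) (.node 815 (.leaf 0) (.leaf 0))))) (.node 824 (.node 820 (.node 818 (.node 817 (.leaf 0) (.leaf 0)) (.node 819 (.leaf 0) (.leaf 0))) (.node 822 (.node 821 (.leaf 0) (.leaf 0)) (.node 823 (.leaf 0) (.leaf 0)))) (.node 828 (.node 826 (.node 825 (.leaf 0) (.leaf 0)) (.node 827 (.leaf 0) (.leaf 0))) (.node 830 (.node 829 (.leaf 0) (.leaf 0)) (.node 831 (.leaf 0) (.leaf 0))))))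

def fix240PB26 : Bst := (.node 848 (.node 840 (.node 836 (.node 834 (.node 833 (.leaf 0) (.leaf 0)) (.node 835 (.leaf 0) (.leaf 0))) (.node 838 (.node 837 (.leaf 0) (.leaf 0)) (.node 839 (.leaf 0) (.leaf 0)))) (.node 844 (.node 842 (.node 841 (.leaf 0) (.leaf 0)) (.node 843 (.leaf 0) (.leaf 0))) (.node 846 (.node 845 (.leaf 0) (.leaf 0)) (.node 847 (.leaf 0) (.leaf 0))))) (.node 856 (.node 852 (.node 850 (.node 849 (.leaf 0) (.leaf 0)) (.node 851 (.leaf 0) (.leaf 0))) (.node 854 (.node 853 (.leaf 0) (.leaf 0)) (.node 855 (.leaf 0) (.leaf 0)))) (.node 860 (.node 858 (.node 857 (.leaf 0) (.leaf 0)) (.node 859 (.leaf 0) (.leaf 0))) (.node 862 (.node 861 (.leaf 0) (.leaf 0)) (.node 863 (.leaf 0) (.leaf 0))))))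

def fix240PB27 : Bst := (.node 880 (.node 872 (.node 868 (.node 866 (.node 865 (.leaf 0) (.leaf 0)) (.node 867 (.leaf 0) (.leaf 0))) (.node 870 (.node 869 (.leaf 0) (.leaf 0)) (.node 871 (.leaf 0) (.leaf 0)))) (.node 876 (.node 874 (.node 873 (.leaf 0) (.leaf 0)) (.node 875 (.leaf 0) (.leaf 0))) (.node 878 (.node 877 (.leaf 0) (.leaf 0)) (.node 879 (.leaf 0) (.leaf 0))))) (.node 888 (.node 884 (.node 882 (.node 881 (.leaf 0) (.leaf 0)) (.node 883 (.leaf 0) (.leaf 0))) (.node 886 (.node 885 (.leaf 0) (.leaf 0)) (.node 887 (.leaf 0) (.leaf 0)))) (.node 892 (.node 890 (.node 889 (.leaf 0) (.leaf 0)) (.node 891 (.leaf 0) (.leaf 0))) (.node 894 (.node 893 (.leaf 0) (.leaf 0)) (.node 895 (.leaf 0) (.leaf 0))))))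

def fix240PB28 : Bst := (.node 912 (.node 904 (.node 900 (.node 898 (.node 897 (.leaf 0) (.leaf 0)) (.node 899 (.leaf 0) (.leaf 0))) (.node 902 (.node 901 (.leaf 0) (.leaf 0)) (.node 903 (.leaf 0) (.leaf 0)))) (.node 908 (.node 906 (.node 905 (.leaf 0) (.leaf 0)) (.node 907 (.leaf 0) (.leaf 0))) (.node 910 (.node 909 (.leaf 0) (.leaf 0)) (.node 911 (.leaf 0) (.leaf 0))))) (.node 920 (.node 916 (.node 914 (.node 913 (.leaf 0) (.leaf 0)) (.node 915 (.leaf 0) (.leaf 0))) (.node 918 (.node 917 (.leaf 0) (.leaf 0)) (.node 919 (.leaf 0) (.leaf 0)))) (.node 924 (.node 922 (.node 921 (.leaf 0) (.leaf 0)) (.node 923 (.leaf 0) (.leaf 0))) (.node 926 (.node 925 (.leaf 0) (.leaf 0)) (.node 927 (.leaf 0) (.leaf 0))))))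

def fix240PB29 : Bst := (.node 944 (.node 936 (.node 932 (.node 930 (.node 929 (.leaf 0) (.leaf 0)) (.node 931 (.leaf 0) (.leaf 0))) (.node 934 (.node 933 (.leaf 0) (.leaf 0)) (.node 935 (.leaf 0) (.leaf 0)))) (.node 940 (.node 938 (.node 937 (.leaf 0) (.leaf 0)) (.node 939 (.leaf 0) (.leaf 0))) (.node 942 (.node 941 (.leaf 0) (.leaf 0)) (.node 943 (.leaf 0) (.leaf 0))))) (.node 952 (.node 948 (.node 946 (.node 945 (.leaf 0) (.leaf 0)) (.node 947 (.leaf 0) (.leaf 0))) (.node 950 (.node 949 (.leaf 0) (.leaf 0)) (.node 951 (.leaf 0) (.leaf 0)))) (.node 956 (.node 954 (.node 953 (.leaf 0) (.leaf 0)) (.node 955 (.leaf 0) (.leaf 0))) (.node 958 (.node 957 (.leaf 0) (.leaf 0)) (.node 959 (.leaf 0) (.leaf 0))))))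

def fix240PB30 : Bst := (.node 976 (.node 968 (.node 964 (.node 962 (.node 961 (.leaf 0) (.leaf 0)) (.node 963 (.leaf 0) (.leaf 0))) (.node 966 (.node 965 (.leaf 0) (.leaf 0)) (.node 967 (.leaf 0) (.leaf 0)))) (.node 972 (.node 970 (.node 969 (.leaf 0) (.leaf 0)) (.node 971 (.leaf 0) (.leaf 0))) (.node 974 (.node 973 (.leaf 0) (.leaf 0)) (.node 975 (.leaf 0) (.leaf 0))))) (.node 984 (.node 980 (.node 978 (.node 977 (.leaf 0) (.leaf 0)) (.node 979 (.leaf 0) (.leaf 0))) (.node 982 (.node 981 (.leaf 0) (.leaf 0)) (.node 983 (.leaf 0) (.leaf 0)))) (.node 988 (.node 986 (.node 985 (.leaf 0) (.leaf 0)) (.node 987 (.leaf 0) (.leaf 0))) (.node 990 (.node 989 (.leaf 0) (.leaf 0)) (.node 991 (.leaf 0) (.leaf 0))))))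

def fix240PB31 : Bst := (.node 1008 (.node 1000 (.node 996 (.node 994 (.node 993 (.leaf 0) (.leaf 0)) (.node 995 (.leaf 0) (.leaf 0))) (.node 998 (.node 997 (.leaf 0) (.leaf 0)) (.node 999 (.leaf 0) (.leaf 0)))) (.node 1004 (.node 1002 (.node 1001 (.leaf 0) (.leaf 0)) (.node 1003 (.leaf 0) (.leaf 0))) (.node 1006 (.node 1005 (.leaf 0) (.leaf 0)) (.node 1007 (.leaf 0) (.leaf 0))))) (.node 1016 (.node 1012 (.node 1010 (.node 1009 (.leaf 0) (.leaf 0)) (.node 1011 (.leaf 0) (.leaf 0))) (.node 1014 (.node 1013 (.leaf 0) (.leaf 0)) (.node 1015 (.leaf 0) (.leaf 0)))) (.node 1020 (.node 1018 (.node 1017 (.leaf 0) (.leaf 0)) (.node 1019 (.leaf 0) (.leaf 0))) (.node 1022 (.node 1021 (.leaf 0) (.leaf 0)) (.node 1023 (.leaf 0) (.leaf 0))))))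

def fix240PB32 : Bst := (.node 1040 (.node 1032 (.node 1028 (.node 1026 (.node 1025 (.leaf 0) (.leaf 0)) (.node 1027 (.leaf 0) (.leaf 0))) (.node 1030 (.node 1029 (.leaf 0) (.leaf 0)) (.node 1031 (.leaf 0) (.leaf 0)))) (.node 1036 (.node 1034 (.node 1033 (.leaf 0) (.leaf 0)) (.node 1035 (.leaf 0) (.leaf 0))) (.node 1038 (.node 1037 (.leaf 0) (.leaf 0)) (.node 1039 (.leaf 0) (.leaf 0))))) (.node 1048 (.node 1044 (.node 1042 (.node 1041 (.leaf 0) (.leaf 0)) (.node 1043 (.leaf 0) (.leaf 0))) (.node 1046 (.node 1045 (.leaf 0) (.leaf 0)) (.node 1047 (.leaf 0) (.leaf 0)))) (.node 1052 (.node 1050 (.node 1049 (.leaf 0) (.leaf 0)) (.node 1051 (.leaf 0) (.leaf 0))) (.node 1054 (.node 1053 (.leaf 0) (.leaf 0)) (.node 1055 (.leaf 0) (.leaf 0))))))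

def fix240PB33 : Bst := (.node 1072 (.node 1064 (.node 1060 (.node 1058 (.node 1057 (.leaf 0) (.leaf 0)) (.node 1059 (.leaf 0) (.leaf 0))) (.node 1062 (.node 1061 (.leaf 0) (.leaf 0)) (.node 1063 (.leaf 0) (.leaf 0)))) (.node 1068 (.node 1066 (.node 1065 (.leaf 0) (.leaf 0)) (.node 1067 (.leaf 0) (.leaf 0))) (.node 1070 (.node 1069 (.leaf 0) (.leaf 0)) (.node 1071 (.leaf 0) (.leaf 0))))) (.node 1080 (.node 1076 (.node 1074 (.node 1073 (.leaf 0) (.leaf 0)) (.node 1075 (.leaf 0) (.leaf 0))) (.node 1078 (.node 1077 (.leaf 0) (.leaf 0)) (.node 1079 (.leaf 0) (.leaf 0)))) (.node 1084 (.node 1082 (.node 1081 (.leaf 0) (.leaf 0)) (.node 1083 (.leaf 0) (.leaf 0))) (.node 1086 (.node 1085 (.leaf 0) (.leaf 0)) (.node 1087 (.leaf 0) (.leaf 0))))))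

def fix240PB34 : Bst := (.node 1104 (.node 1096 (.node 1092 (.node 1090 (.node 1089 (.leaf 0) (.leaf 0)) (.node 1091 (.leaf 0) (.leaf 0))) (.node 1094 (.node 1093 (.leaf 0) (.leaf 0)) (.node 1095 (.leaf 0) (.leaf 0)))) (.node 1100 (.node 1098 (.node 1097 (.leaf 0) (.leaf 0)) (.node 1099 (.leaf 0) (.leaf 0))) (.node 1102 (.node 1101 (.leaf 0) (.leaf 0)) (.node 1103 (.leaf 0) (.leaf 0))))) (.node 1112 (.node 1108 (.node 1106 (.node 1105 (.leaf 0) (.leaf 0)) (.node 1107 (.leaf 0) (.leaf 0))) (.node 1110 (.node 1109 (.leaf 0) (.leaf 0)) (.node 1111 (.leaf 0) (.leaf 0)))) (.node 1116 (.node 1114 (.node 1113 (.leaf 0) (.leaf 0)) (.node 1115 (.leaf 0) (.leaf 0))) (.node 1118 (.node 1117 (.leaf 0) (.leaf 0)) (.node 1119 (.leaf 0) (.leaf 0))))))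

def fix240PB35 : Bst := (.node 1136 (.node 1128 (.node 1124 (.node 1122 (.node 1121 (.leaf 0) (.leaf 0)) (.node 1123 (.leaf 0) (.leaf 0))) (.node 1126 (.node 1125 (.leaf 0) (.leaf 0)) (.node 1127 (.leaf 0) (.leaf 0)))) (.node 1132 (.node 1130 (.node 1129 (.leaf 0) (.leaf 0)) (.node 1131 (.leaf 0) (.leaf 0))) (.node 1134 (.node 1133 (.leaf 0) (.leaf 0)) (.node 1135 (.leaf 0) (.leaf 0))))) (.node 1144 (.node 1140 (.node 1138 (.node 1137 (.leaf 0) (.leaf 0)) (.node 1139 (.leaf 0) (.leaf 0))) (.node 1142 (.node 1141 (.leaf 0) (.leaf 0)) (.node 1143 (.leaf 0) (.leaf 0)))) (.node 1148 (.node 1146 (.node 1145 (.leaf 0) (.leaf 0)) (.node 1147 (.leaf 0) (.leaf 0))) (.node 1150 (.node 1149 (.leaf 0) (.leaf 0)) (.node 1151 (.leaf 0) (.leaf 0))))))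

def fix240PB36 : Bst := (.node 1168 (.node 1160 (.node 1156 (.node 1154 (.node 1153 (.leaf 0) (.leaf 0)) (.node 1155 (.leaf 0) (.leaf 0))) (.node 1158 (.node 1157 (.leaf 0) (.leaf 0)) (.node 1159 (.leaf 0) (.leaf 0)))) (.node 1164 (.node 1162 (.node 1161 (.leaf 0) (.leaf 0)) (.node 1163 (.leaf 0) (.leaf 0))) (.node 1166 (.node 1165 (.leaf 0) (.leaf 0)) (.node 1167 (.leaf 0) (.leaf 0))))) (.node 1176 (.node 1172 (.node 1170 (.node 1169 (.leaf 0) (.leaf 0)) (.node 1171 (.leaf 0) (.leaf 0))) (.node 1174 (.node 1173 (.leaf 0) (.leaf 0)) (.node 1175 (.leaf 0) (.leaf 0)))) (.node 1180 (.node 1178 (.node 1177 (.leaf 0) (.leaf 0)) (.node 1179 (.leaf 0) (.leaf 0))) (.node 1182 (.node 1181 (.leaf 0) (.leaf 0)) (.node 1183 (.leaf 0) (.leaf 0))))))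

def fix240PB37 : Bst := (.node 1200 (.node 1192 (.node 1188 (.node 1186 (.node 1185 (.leaf 0) (.leaf 0)) (.node 1187 (.leaf 0) (.leaf 0))) (.node 1190 (.node 1189 (.leaf 0) (.leaf 0)) (.node 1191 (.leaf 0) (.leaf 0)))) (.node 1196 (.node 1194 (.node 1193 (.leaf 0) (.leaf 0)) (.node 1195 (.leaf 0) (.leaf 0))) (.node 1198 (.node 1197 (.leaf 0) (.leaf 0)) (.node 1199 (.leaf 0) (.leaf 0))))) (.node 1208 (.node 1204 (.node 1202 (.node 1201 (.leaf 0) (.leaf 0)) (.node 1203 (.leaf 0) (.leaf 0))) (.node 1206 (.node 1205 (.leaf 0) (.leaf 0)) (.node 1207 (.leaf 0) (.leaf 0)))) (.node 1212 (.node 1210 (.node 1209 (.leaf 0) (.leaf 0)) (.node 1211 (.leaf 0) (.leaf 0))) (.node 1214 (.node 1213 (.leaf 0) (.leaf 0)) (.node 1215 (.leaf 0) (.leaf 0))))))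

def fix240PB38 : Bst := (.node 1232 (.node 1224 (.node 1220 (.node 1218 (.node 1217 (.leaf 0) (.leaf 0)) (.node 1219 (.leaf 0) (.leaf 0))) (.node 1222 (.node 1221 (.leaf 0) (.leaf 0)) (.node 1223 (.leaf 0) (.leaf 0)))) (.node 1228 (.node 1226 (.node 1225 (.leaf 0) (.leaf 0)) (.node 1227 (.leaf 0) (.leaf 0))) (.node 1230 (.node 1229 (.leaf 0) (.leaf 0)) (.node 1231 (.leaf 0) (.leaf 0))))) (.node 1240 (.node 1236 (.node 1234 (.node 1233 (.leaf 0) (.leaf 0)) (.node 1235 (.leaf 0) (.leaf 0))) (.node 1238 (.node 1237 (.leaf 0) (.leaf 0)) (.node 1239 (.leaf 0) (.leaf 0)))) (.node 1244 (.node 1242 (.node 1241 (.leaf 0) (.leaf 0)) (.node 1243 (.leaf 0) (.leaf 0))) (.node 1246 (.node 1245 (.leaf 0) (.leaf 0)) (.node 1247 (.leaf 0) (.leaf 0))))))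

def fix240PB39 : Bst := (.node 1264 (.node 1256 (.node 1252 (.node 1250 (.node 1249 (.leaf 0) (.leaf 0)) (.node 1251 (.leaf 0) (.leaf 0))) (.node 1254 (.node 1253 (.leaf 0) (.leaf 0)) (.node 1255 (.leaf 0) (.leaf 0)))) (.node 1260 (.node 1258 (.node 1257 (.leaf 0) (.leaf 0)) (.node 1259 (.leaf 0) (.leaf 0))) (.node 1262 (.node 1261 (.leaf 0) (.leaf 0)) (.node 1263 (.leaf 0) (.leaf 0))))) (.node 1272 (.node 1268 (.node 1266 (.node 1265 (.leaf 0) (.leaf 0)) (.node 1267 (.leaf 0) (.leaf 0))) (.node 1270 (.node 1269 (.leaf 0) (.leaf 0)) (.node 1271 (.leaf 0) (.leaf 0)))) (.node 1276 (.node 1274 (.node 1273 (.leaf 0) (.leaf 0)) (.node 1275 (.leaf 0) (.leaf 0))) (.node 1278 (.node 1277 (.leaf 0) (.leaf 0)) (.node 1279 (.leaf 0) (.leaf 0))))))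

def fix240PB40 : Bst := (.node 1296 (.node 1288 (.node 1284 (.node 1282 (.node 1281 (.leaf 0) (.leaf 0)) (.node 1283 (.leaf 0) (.leaf 0))) (.node 1286 (.node 1285 (.leaf 0) (.leaf 0)) (.node 1287 (.leaf 0) (.leaf 0)))) (.node 1292 (.node 1290 (.node 1289 (.leaf 0) (.leaf 0)) (.node 1291 (.leaf 0) (.leaf 0))) (.node 1294 (.node 1293 (.leaf 0) (.leaf 0)) (.node 1295 (.leaf 0) (.leaf 0))))) (.node 1304 (.node 1300 (.node 1298 (.node 1297 (.leaf 0) (.leaf 0)) (.node 1299 (.leaf 0) (.leaf 0))) (.node 1302 (.node 1301 (.leaf 0) (.leaf 0)) (.node 1303 (.leaf 0) (.leaf 0)))) (.node 1308 (.node 1306 (.node 1305 (.leaf 0) (.leaf 0)) (.node 1307 (.leaf 0) (.leaf 0))) (.node 1310 (.node 1309 (.leaf 0) (.leaf 0)) (.node 1311 (.leaf 0) (.leaf 0))))))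

def fix240PB41 : Bst := (.node 1328 (.node 1320 (.node 1316 (.node 1314 (.node 1313 (.leaf 0) (.leaf 0)) (.node 1315 (.leaf 0) (.leaf 0))) (.node 1318 (.node 1317 (.leaf 0) (.leaf 0)) (.node 1319 (.leaf 0) (.leaf 0)))) (.node 1324 (.node 1322 (.node 1321 (.leaf 0) (.leaf 0)) (.node 1323 (.leaf 0) (.leaf 0))) (.node 1326 (.node 1325 (.leaf 0) (.leaf 0)) (.node 1327 (.leaf 0) (.leaf 0))))) (.node 1336 (.node 1332 (.node 1330 (.node 1329 (.leaf 0) (.leaf 0)) (.node 1331 (.leaf 0) (.leaf 0))) (.node 1334 (.node 1333 (.leaf 0) (.leaf 0)) (.node 1335 (.leaf 0) (.leaf 0)))) (.node 1340 (.node 1338 (.node 1337 (.leaf 0) (.leaf 0)) (.node 1339 (.leaf 0) (.leaf 0))) (.node 1342 (.node 1341 (.leaf 0) (.leaf 0)) (.node 1343 (.leaf 0) (.leaf 0))))))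

def fix240PB42 : Bst := (.node 1360 (.node 1352 (.node 1348 (.node 1346 (.node 1345 (.leaf 0) (.leaf 0)) (.node 1347 (.leaf 0) (.leaf 0))) (.node 1350 (.node 1349 (.leaf 0) (.leaf 0)) (.node 1351 (.leaf 0) (.leaf 0)))) (.node 1356 (.node 1354 (.node 1353 (.leaf 0) (.leaf 0)) (.node 1355 (.leaf 0) (.leaf 0))) (.node 1358 (.node 1357 (.leaf 0) (.leaf 0)) (.node 1359 (.leaf 0) (.leaf 0))))) (.node 1368 (.node 1364 (.node 1362 (.node 1361 (.leaf 0) (.leaf 0)) (.node 1363 (.leaf 0) (.leaf 0))) (.node 1366 (.node 1365 (.leaf 0) (.leaf 0)) (.node 1367 (.leaf 0) (.leaf 0)))) (.node 1372 (.node 1370 (.node 1369 (.leaf 0) (.leaf 0)) (.node 1371 (.leaf 0) (.leaf 0))) (.node 1374 (.node 1373 (.leaf 0) (.leaf 0)) (.node 1375 (.leaf 0) (.leaf 0))))))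

def fix240PB43 : Bst := (.node 1392 (.node 1384 (.node 1380 (.node 1378 (.node 1377 (.leaf 0) (.leaf 0)) (.node 1379 (.leaf 0) (.leaf 0))) (.node 1382 (.node 1381 (.leaf 0) (.leaf 0)) (.node 1383 (.leaf 0) (.leaf 0)))) (.node 1388 (.node 1386 (.node 1385 (.leaf 0) (.leaf 0)) (.node 1387 (.leaf 0) (.leaf 0))) (.node 1390 (.node 1389 (.leaf 0) (.leaf 0)) (.node 1391 (.leaf 0) (.leaf 0))))) (.node 1400 (.node 1396 (.node 1394 (.node 1393 (.leaf 0) (.leaf 0)) (.node 1395 (.leaf 0) (.leaf 0))) (.node 1398 (.node 1397 (.leaf 0) (.leaf 0)) (.node 1399 (.leaf 0) (.leaf 0)))) (.node 1404 (.node 1402 (.node 1401 (.leaf 0) (.leaf 0)) (.node 1403 (.leaf 0) (.leaf 0))) (.node 1406 (.node 1405 (.leaf 0) (.leaf 0)) (.node 1407 (.leaf 0) (.leaf 0))))))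

def fix240PB44 : Bst := (.node 1424 (.node 1416 (.node 1412 (.node 1410 (.node 1409 (.leaf 0) (.leaf 0)) (.node 1411 (.leaf 0) (.leaf 0))) (.node 1414 (.node 1413 (.leaf 0) (.leaf 0)) (.node 1415 (.leaf 0) (.leaf 0)))) (.node 1420 (.node 1418 (.node 1417 (.leaf 0) (.leaf 0)) (.node 1419 (.leaf 0) (.leaf 0))) (.node 1422 (.node 1421 (.leaf 0) (.leaf 0)) (.node 1423 (.leaf 0) (.leaf 0))))) (.node 1432 (.node 1428 (.node 1426 (.node 1425 (.leaf 0) (.leaf 0)) (.node 1427 (.leaf 0) (.leaf 0))) (.node 1430 (.node 1429 (.leaf 0) (.leaf 0)) (.node 1431 (.leaf 0) (.leaf 0)))) (.node 1436 (.node 1434 (.node 1433 (.leaf 0) (.leaf 0)) (.node 1435 (.leaf 0) (.leaf 0))) (.node 1438 (.node 1437 (.leaf 0) (.leaf 0)) (.node 1439 (.leaf 0) (.leaf 0))))))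

def fix240PB45 : Bst := (.node 1456 (.node 1448 (.node 1444 (.node 1442 (.node 1441 (.leaf 0) (.leaf 0)) (.node 1443 (.leaf 0) (.leaf 0))) (.node 1446 (.node 1445 (.leaf 0) (.leaf 0)) (.node 1447 (.leaf 0) (.leaf 0)))) (.node 1452 (.node 1450 (.node 1449 (.leaf 0) (.leaf 0)) (.node 1451 (.leaf 0) (.leaf 0))) (.node 1454 (.node 1453 (.leaf 0) (.leaf 0)) (.node 1455 (.leaf 0) (.leaf 0))))) (.node 1464 (.node 1460 (.node 1458 (.node 1457 (.leaf 0) (.leaf 0)) (.node 1459 (.leaf 0) (.leaf 0))) (.node 1462 (.node 1461 (.leaf 0) (.leaf 0)) (.node 1463 (.leaf 0) (.leaf 0)))) (.node 1468 (.node 1466 (.node 1465 (.leaf 0) (.leaf 0)) (.node 1467 (.leaf 0) (.leaf 0))) (.node 1470 (.node 1469 (.leaf 0) (.leaf 0)) (.node 1471 (.leaf 0) (.leaf 0))))))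

def fix240PB46 : Bst := (.node 1488 (.node 1480 (.node 1476 (.node 1474 (.node 1473 (.leaf 0) (.leaf 0)) (.node 1475 (.leaf 0) (.leaf 0))) (.node 1478 (.node 1477 (.leaf 0) (.leaf 0)) (.node 1479 (.leaf 0) (.leaf 0)))) (.node 1484 (.node 1482 (.node 1481 (.leaf 0) (.leaf 0)) (.node 1483 (.leaf 0) (.leaf 0))) (.node 1486 (.node 1485 (.leaf 0) (.leaf 0)) (.node 1487 (.leaf 0) (.leaf 0))))) (.node 1496 (.node 1492 (.node 1490 (.node 1489 (.leaf 0) (.leaf 0)) (.node 1491 (.leaf 0) (.leaf 0))) (.node 1494 (.node 1493 (.leaf 0) (.leaf 0)) (.node 1495 (.leaf 0) (.leaf 0)))) (.node 1500 (.node 1498 (.node 1497 (.leaf 0) (.leaf 0)) (.node 1499 (.leaf 0) (.leaf 0))) (.node 1502 (.node 1501 (.leaf 0) (.leaf 0)) (.node 1503 (.leaf 0) (.leaf 0))))))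

def fix240PB47 : Bst := (.node 1520 (.node 1512 (.node 1508 (.node 1506 (.node 1505 (.leaf 0) (.leaf 0)) (.node 1507 (.leaf 0) (.leaf 0))) (.node 1510 (.node 1509 (.leaf 0) (.leaf 0)) (.node 1511 (.leaf 0) (.leaf 0)))) (.node 1516 (.node 1514 (.node 1513 (.leaf 0) (.leaf 0)) (.node 1515 (.leaf 0) (.leaf 0))) (.node 1518 (.node 1517 (.leaf 0) (.leaf 0)) (.node 1519 (.leaf 0) (.leaf 0))))) (.node 1528 (.node 1524 (.node 1522 (.node 1521 (.leaf 0) (.leaf 0)) (.node 1523 (.leaf 0) (.leaf 0))) (.node 1526 (.node 1525 (.leaf 0) (.leaf 0)) (.node 1527 (.leaf 0) (.leaf 0)))) (.node 1532 (.node 1530 (.node 1529 (.leaf 0) (.leaf 0)) (.node 1531 (.leaf 0) (.leaf 0))) (.node 1534 (.node 1533 (.leaf 0) (.leaf 0)) (.node 1535 (.leaf 0) (.leaf 0))))))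

def fix240PB48 : Bst := (.node 1552 (.node 1544 (.node 1540 (.node 1538 (.node 1537 (.leaf 0) (.leaf 0)) (.node 1539 (.leaf 0) (.leaf 0))) (.node 1542 (.node 1541 (.leaf 0) (.leaf 0)) (.node 1543 (.leaf 0) (.leaf 0)))) (.node 1548 (.node 1546 (.node 1545 (.leaf 0) (.leaf 0)) (.node 1547 (.leaf 0) (.leaf 0))) (.node 1550 (.node 1549 (.leaf 0) (.leaf 0)) (.node 1551 (.leaf 0) (.leaf 0))))) (.node 1560 (.node 1556 (.node 1554 (.node 1553 (.leaf 0) (.leaf 0)) (.node 1555 (.leaf 0) (.leaf 0))) (.node 1558 (.node 1557 (.leaf 0) (.leaf 0)) (.node 1559 (.leaf 0) (.leaf 0)))) (.node 1564 (.node 1562 (.node 1561 (.leaf 0) (.leaf 0)) (.node 1563 (.leaf 0) (.leaf 0))) (.node 1566 (.node 1565 (.leaf 0) (.leaf 0)) (.node 1567 (.leaf 0) (.leaf 0))))))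

def fix240PB49 : Bst := (.node 1584 (.node 1576 (.node 1572 (.node 1570 (.node 1569 (.leaf 0) (.leaf 0)) (.node 1571 (.leaf 0) (.leaf 0))) (.node 1574 (.node 1573 (.leaf 0) (.leaf 0)) (.node 1575 (.leaf 0) (.leaf 0)))) (.node 1580 (.node 1578 (.node 1577 (.leaf 0) (.leaf 0)) (.node 1579 (.leaf 0) (.leaf 0))) (.node 1582 (.node 1581 (.leaf 0) (.leaf 0)) (.node 1583 (.leaf 0) (.leaf 0))))) (.node 1592 (.node 1588 (.node 1586 (.node 1585 (.leaf 0) (.leaf 0)) (.node 1587 (.leaf 0) (.leaf 0))) (.node 1590 (.node 1589 (.leaf 0) (.leaf 0)) (.node 1591 (.leaf 0) (.leaf 0)))) (.node 1596 (.node 1594 (.node 1593 (.leaf 0) (.leaf 0)) (.node 1595 (.leaf 0) (.leaf 0))) (.node 1598 (.node 1597 (.leaf 0) (.leaf 0)) (.node 1599 (.leaf 0) (.leaf 0))))))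

def fix240PB50 : Bst := (.node 1616 (.node 1608 (.node 1604 (.node 1602 (.node 1601 (.leaf 0) (.leaf 0)) (.node 1603 (.leaf 0) (.leaf 0))) (.node 1606 (.node 1605 (.leaf 0) (.leaf 0)) (.node 1607 (.leaf 0) (.leaf 0)))) (.node 1612 (.node 1610 (.node 1609 (.leaf 0) (.leaf 0)) (.node 1611 (.leaf 0) (.leaf 0))) (.node 1614 (.node 1613 (.leaf 0) (.leaf 0)) (.node 1615 (.leaf 0) (.leaf 0))))) (.node 1624 (.node 1620 (.node 1618 (.node 1617 (.leaf 0) (.leaf 0)) (.node 1619 (.leaf 0) (.leaf 0))) (.node 1622 (.node 1621 (.leaf 0) (.leaf 0)) (.node 1623 (.leaf 0) (.leaf 0)))) (.node 1628 (.node 1626 (.node 1625 (.leaf 0) (.leaf 0)) (.node 1627 (.leaf 0) (.leaf 0))) (.node 1630 (.node 1629 (.leaf 0) (.leaf 0)) (.node 1631 (.leaf 0) (.leaf 0))))))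

def fix240PB51 : Bst := (.node 1648 (.node 1640 (.node 1636 (.node 1634 (.node 1633 (.leaf 0) (.leaf 0)) (.node 1635 (.leaf 0) (.leaf 0))) (.node 1638 (.node 1637 (.leaf 0) (.leaf 0)) (.node 1639 (.leaf 0) (.leaf 0)))) (.node 1644 (.node 1642 (.node 1641 (.leaf 0) (.leaf 0)) (.node 1643 (.leaf 0) (.leaf 0))) (.node 1646 (.node 1645 (.leaf 0) (.leaf 0)) (.node 1647 (.leaf 0) (.leaf 0))))) (.node 1656 (.node 1652 (.node 1650 (.node 1649 (.leaf 0) (.leaf 0)) (.node 1651 (.leaf 0) (.leaf 0))) (.node 1654 (.node 1653 (.leaf 0) (.leaf 0)) (.node 1655 (.leaf 0) (.leaf 0)))) (.node 1660 (.node 1658 (.node 1657 (.leaf 0) (.leaf 0)) (.node 1659 (.leaf 0) (.leaf 0))) (.node 1662 (.node 1661 (.leaf 0) (.leaf 0)) (.node 1663 (.leaf 0) (.leaf 0))))))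

def fix240PB52 : Bst := (.node 1680 (.node 1672 (.node 1668 (.node 1666 (.node 1665 (.leaf 0) (.leaf 0)) (.node 1667 (.leaf 0) (.leaf 0))) (.node 1670 (.node 1669 (.leaf 0) (.leaf 0)) (.node 1671 (.leaf 0) (.leaf 0)))) (.node 1676 (.node 1674 (.node 1673 (.leaf 0) (.leaf 0)) (.node 1675 (.leaf 0) (.leaf 0))) (.node 1678 (.node 1677 (.leaf 0) (.leaf 0)) (.node 1679 (.leaf 0) (.leaf 0))))) (.node 1688 (.node 1684 (.node 1682 (.node 1681 (.leaf 0) (.leaf 0)) (.node 1683 (.leaf 0) (.leaf 0))) (.node 1686 (.node 1685 (.leaf 0) (.leaf 0)) (.node 1687 (.leaf 0) (.leaf 0)))) (.node 1692 (.node 1690 (.node 1689 (.leaf 0) (.leaf 0)) (.node 1691 (.leaf 0) (.leaf 0))) (.node 1694 (.node 1693 (.leaf 0) (.leaf 0)) (.node 1695 (.leaf 0) (.leaf 0))))))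

def fix240PB53 : Bst := (.node 1712 (.node 1704 (.node 1700 (.node 1698 (.node 1697 (.leaf 0) (.leaf 0)) (.node 1699 (.leaf 0) (.leaf 0))) (.node 1702 (.node 1701 (.leaf 0) (.leaf 0)) (.node 1703 (.leaf 0) (.leaf 0)))) (.node 1708 (.node 1706 (.node 1705 (.leaf 0) (.leaf 0)) (.node 1707 (.leaf 0) (.leaf 0))) (.node 1710 (.node 1709 (.leaf 0) (.leaf 0)) (.node 1711 (.leaf 0) (.leaf 0))))) (.node 1720 (.node 1716 (.node 1714 (.node 1713 (.leaf 0) (.leaf 0)) (.node 1715 (.leaf 0) (.leaf 0))) (.node 1718 (.node 1717 (.leaf 0) (.leaf 0)) (.node 1719 (.leaf 0) (.leaf 0)))) (.node 1724 (.node 1722 (.node 1721 (.leaf 0) (.leaf 0)) (.node 1723 (.leaf 0) (.leaf 0))) (.node 1726 (.node 1725 (.leaf 0) (.leaf 0)) (.node 1727 (.leaf 0) (.leaf 0))))))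

def fix240PB54 : Bst := (.node 1744 (.node 1736 (.node 1732 (.node 1730 (.node 1729 (.leaf 0) (.leaf 0)) (.node 1731 (.leaf 0) (.leaf 0))) (.node 1734 (.node 1733 (.leaf 0) (.leaf 0)) (.node 1735 (.leaf 0) (.leaf 0)))) (.node 1740 (.node 1738 (.node 1737 (.leaf 0) (.leaf 0)) (.node 1739 (.leaf 0) (.leaf 0))) (.node 1742 (.node 1741 (.leaf 0) (.leaf 0)) (.node 1743 (.leaf 0) (.leaf 0))))) (.node 1752 (.node 1748 (.node 1746 (.node 1745 (.leaf 0) (.leaf 0)) (.node 1747 (.leaf 0) (.leaf 0))) (.node 1750 (.node 1749 (.leaf 0) (.leaf 0)) (.node 1751 (.leaf 0) (.leaf 0)))) (.node 1756 (.node 1754 (.node 1753 (.leaf 0) (.leaf 0)) (.node 1755 (.leaf 0) (.leaf 0))) (.node 1758 (.node 1757 (.leaf 0) (.leaf 0)) (.node 1759 (.leaf 0) (.leaf 0))))))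

def fix240PB55 : Bst := (.node 1776 (.node 1768 (.node 1764 (.node 1762 (.node 1761 (.leaf 0) (.leaf 0)) (.node 1763 (.leaf 0) (.leaf 0))) (.node 1766 (.node 1765 (.leaf 0) (.leaf 0)) (.node 1767 (.leaf 0) (.leaf 0)))) (.node 1772 (.node 1770 (.node 1769 (.leaf 0) (.leaf 0)) (.node 1771 (.leaf 0) (.leaf 0))) (.node 1774 (.node 1773 (.leaf 0) (.leaf 0)) (.node 1775 (.leaf 0) (.leaf 0))))) (.node 1784 (.node 1780 (.node 1778 (.node 1777 (.leaf 0) (.leaf 0)) (.node 1779 (.leaf 0) (.leaf 0))) (.node 1782 (.node 1781 (.leaf 0) (.leaf 0)) (.node 1783 (.leaf 0) (.leaf 0)))) (.node 1788 (.node 1786 (.node 1785 (.leaf 0) (.leaf 0)) (.node 1787 (.leaf 0) (.leaf 0))) (.node 1790 (.node 1789 (.leaf 0) (.leaf 0)) (.node 1791 (.leaf 0) (.leaf 0))))))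

def fix240PB56 : Bst := (.node 1808 (.node 1800 (.node 1796 (.node 1794 (.node 1793 (.leaf 0) (.leaf 0)) (.node 1795 (.leaf 0) (.leaf 0))) (.node 1798 (.node 1797 (.leaf 0) (.leaf 0)) (.node 1799 (.leaf 0) (.leaf 0)))) (.node 1804 (.node 1802 (.node 1801 (.leaf 0) (.leaf 0)) (.node 1803 (.leaf 0) (.leaf 0))) (.node 1806 (.node 1805 (.leaf 0) (.leaf 0)) (.node 1807 (.leaf 0) (.leaf 0))))) (.node 1816 (.node 1812 (.node 1810 (.node 1809 (.leaf 0) (.leaf 0)) (.node 1811 (.leaf 0) (.leaf 0))) (.node 1814 (.node 1813 (.leaf 0) (.leaf 0)) (.node 1815 (.leaf 0) (.leaf 0)))) (.node 1820 (.node 1818 (.node 1817 (.leaf 0) (.leaf 0)) (.node 1819 (.leaf 0) (.leaf 0))) (.node 1822 (.node 1821 (.leaf 0) (.leaf 0)) (.node 1823 (.leaf 0) (.leaf 0))))))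

def fix240PB57 : Bst := (.node 1840 (.node 1832 (.node 1828 (.node 1826 (.node 1825 (.leaf 0) (.leaf 0)) (.node 1827 (.leaf 0) (.leaf 0))) (.node 1830 (.node 1829 (.leaf 0) (.leaf 0)) (.node 1831 (.leaf 0) (.leaf 0)))) (.node 1836 (.node 1834 (.node 1833 (.leaf 0) (.leaf 0)) (.node 1835 (.leaf 0) (.leaf 0))) (.node 1838 (.node 1837 (.leaf 0) (.leaf 0)) (.node 1839 (.leaf 0) (.leaf 0))))) (.node 1848 (.node 1844 (.node 1842 (.node 1841 (.leaf 0) (.leaf 0)) (.node 1843 (.leaf 0) (.leaf 0))) (.node 1846 (.node 1845 (.leaf 0) (.leaf 0)) (.node 1847 (.leaf 0) (.leaf 0)))) (.node 1852 (.node 1850 (.node 1849 (.leaf 0) (.leaf 0)) (.node 1851 (.leaf 0) (.leaf 0))) (.node 1854 (.node 1853 (.leaf 0) (.leaf 0)) (.node 1855 (.leaf 0) (.leaf 0))))))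

def fix240PB58 : Bst := (.node 1872 (.node 1864 (.node 1860 (.node 1858 (.node 1857 (.leaf 0) (.leaf 0)) (.node 1859 (.leaf 0) (.leaf 0))) (.node 1862 (.node 1861 (.leaf 0) (.leaf 0)) (.node 1863 (.leaf 0) (.leaf 0)))) (.node 1868 (.node 1866 (.node 1865 (.leaf 0) (.leaf 0)) (.node 1867 (.leaf 0) (.leaf 0))) (.node 1870 (.node 1869 (.leaf 0) (.leaf 0)) (.node 1871 (.leaf 0) (.leaf 0))))) (.node 1880 (.node 1876 (.node 1874 (.node 1873 (.leaf 0) (.leaf 0)) (.node 1875 (.leaf 0) (.leaf 0))) (.node 1878 (.node 1877 (.leaf 0) (.leaf 0)) (.node 1879 (.leaf 0) (.leaf 0)))) (.node 1884 (.node 1882 (.node 1881 (.leaf 0) (.leaf 0)) (.node 1883 (.leaf 0) (.leaf 0))) (.node 1886 (.node 1885 (.leaf 0) (.leaf 0)) (.node 1887 (.leaf 0) (.leaf 0))))))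

def fix240PB59 : Bst := (.node 1904 (.node 1896 (.node 1892 (.node 1890 (.node 1889 (.leaf 0) (.leaf 0)) (.node 1891 (.leaf 0) (.leaf 0))) (.node 1894 (.node 1893 (.leaf 0) (.leaf 0)) (.node 1895 (.leaf 0) (.leaf 0)))) (.node 1900 (.node 1898 (.node 1897 (.leaf 0) (.leaf 0)) (.node 1899 (.leaf 0) (.leaf 0))) (.node 1902 (.node 1901 (.leaf 0) (.leaf 0)) (.node 1903 (.leaf 0) (.leaf 0))))) (.node 1912 (.node 1908 (.node 1906 (.node 1905 (.leaf 0) (.leaf 0)) (.node 1907 (.leaf 0) (.leaf 0))) (.node 1910 (.node 1909 (.leaf 0) (.leaf 0)) (.node 1911 (.leaf 0) (.leaf 0)))) (.node 1916 (.node 1914 (.node 1913 (.leaf 0) (.leaf 0)) (.node 1915 (.leaf 0) (.leaf 0))) (.node 1918 (.node 1917 (.leaf 0) (.leaf 0)) (.node 1919 (.leaf 0) (.leaf 0))))))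

def fix240PB60 : Bst := (.node 1936 (.node 1928 (.node 1924 (.node 1922 (.node 1921 (.leaf 0) (.leaf 0)) (.node 1923 (.leaf 0) (.leaf 0))) (.node 1926 (.node 1925 (.leaf 0) (.leaf 0)) (.node 1927 (.leaf 0) (.leaf 0)))) (.node 1932 (.node 1930 (.node 1929 (.leaf 0) (.leaf 0)) (.node 1931 (.leaf 0) (.leaf 0))) (.node 1934 (.node 1933 (.leaf 0) (.leaf 0)) (.node 1935 (.leaf 0) (.leaf 0))))) (.node 1944 (.node 1940 (.node 1938 (.node 1937 (.leaf 0) (.leaf 0)) (.node 1939 (.leaf 0) (.leaf 0))) (.node 1942 (.node 1941 (.leaf 0) (.leaf 0)) (.node 1943 (.leaf 0) (.leaf 0)))) (.node 1948 (.node 1946 (.node 1945 (.leaf 0) (.leaf 0)) (.node 1947 (.leaf 0) (.leaf 0))) (.node 1950 (.node 1949 (.leaf 0) (.leaf 0)) (.node 1951 (.leaf 0) (.leaf 0))))))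

def fix240PB61 : Bst := (.node 1968 (.node 1960 (.node 1956 (.node 1954 (.node 1953 (.leaf 0) (.leaf 0)) (.node 1955 (.leaf 0) (.leaf 0))) (.node 1958 (.node 1957 (.leaf 0) (.leaf 0)) (.node 1959 (.leaf 0) (.leaf 0)))) (.node 1964 (.node 1962 (.node 1961 (.leaf 0) (.leaf 0)) (.node 1963 (.leaf 0) (.leaf 0))) (.node 1966 (.node 1965 (.leaf 0) (.leaf 0)) (.node 1967 (.leaf 0) (.leaf 0))))) (.node 1976 (.node 1972 (.node 1970 (.node 1969 (.leaf 0) (.leaf 0)) (.node 1971 (.leaf 0) (.leaf 0))) (.node 1974 (.node 1973 (.leaf 0) (.leaf 0)) (.node 1975 (.leaf 0) (.leaf 0)))) (.node 1980 (.node 1978 (.node 1977 (.leaf 0) (.leaf 0)) (.node 1979 (.leaf 0) (.leaf 0))) (.node 1982 (.node 1981 (.leaf 0) (.leaf 0)) (.node 1983 (.leaf 0) (.leaf 0))))))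

def fix240PB62 : Bst := (.node 2000 (.node 1992 (.node 1988 (.node 1986 (.node 1985 (.leaf 0) (.leaf 0)) (.node 1987 (.leaf 0) (.leaf 0))) (.node 1990 (.node 1989 (.leaf 0) (.leaf 0)) (.node 1991 (.leaf 0) (.leaf 0)))) (.node 1996 (.node 1994 (.node 1993 (.leaf 0) (.leaf 0)) (.node 1995 (.leaf 0) (.leaf 0))) (.node 1998 (.node 1997 (.leaf 0) (.leaf 0)) (.node 1999 (.leaf 0) (.leaf 0))))) (.node 2008 (.node 2004 (.node 2002 (.node 2001 (.leaf 0) (.leaf 0)) (.node 2003 (.leaf 0) (.leaf 0))) (.node 2006 (.node 2005 (.leaf 0) (.leaf 0)) (.node 2007 (.leaf 0) (.leaf 0)))) (.node 2012 (.node 2010 (.node 2009 (.leaf 0) (.leaf 0)) (.node 2011 (.leaf 0) (.leaf 0))) (.node 2014 (.node 2013 (.leaf 0) (.leaf 0)) (.node 2015 (.leaf 0) (.leaf 0))))))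

def fix240PB63 : Bst := (.node 2032 (.node 2024 (.node 2020 (.node 2018 (.node 2017 (.leaf 0) (.leaf 0)) (.node 2019 (.leaf 0) (.leaf 0))) (.node 2022 (.node 2021 (.leaf 0) (.leaf 0)) (.node 2023 (.leaf 0) (.leaf 0)))) (.node 2028 (.node 2026 (.node 2025 (.leaf 0) (.leaf 0)) (.node 2027 (.leaf 0) (.leaf 0))) (.node 2030 (.node 2029 (.leaf 0) (.leaf 0)) (.node 2031 (.leaf 0) (.leaf 0))))) (.node 2040 (.node 2036 (.node 2034 (.node 2033 (.leaf 0) (.leaf 0)) (.node 2035 (.leaf 0) (.leaf 0))) (.node 2038 (.node 2037 (.leaf 0) (.leaf 0)) (.node 2039 (.leaf 0) (.leaf 0)))) (.node 2044 (.node 2042 (.node 2041 (.leaf 0) (.leaf 0)) (.node 2043 (.leaf 0) (.leaf 0))) (.node 2046 (.node 2045 (.leaf 0) (.leaf 0)) (.node 2047 (.leaf 0) (.leaf 0))))))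

def fix240PB64 : Bst := (.node 2064 (.node 2056 (.node 2052 (.node 2050 (.node 2049 (.leaf 0) (.leaf 0)) (.node 2051 (.leaf 0) (.leaf 0))) (.node 2054 (.node 2053 (.leaf 0) (.leaf 0)) (.node 2055 (.leaf 0) (.leaf 0)))) (.node 2060 (.node 2058 (.node 2057 (.leaf 0) (.leaf 0)) (.node 2059 (.leaf 0) (.leaf 0))) (.node 2062 (.node 2061 (.leaf 0) (.leaf 0)) (.node 2063 (.leaf 0) (.leaf 0))))) (.node 2072 (.node 2068 (.node 2066 (.node 2065 (.leaf 0) (.leaf 0)) (.node 2067 (.leaf 0) (.leaf 0))) (.node 2070 (.node 2069 (.leaf 0) (.leaf 0)) (.node 2071 (.leaf 0) (.leaf 0)))) (.node 2076 (.node 2074 (.node 2073 (.leaf 0) (.leaf 0)) (.node 2075 (.leaf 0) (.leaf 0))) (.node 2078 (.node 2077 (.leaf 0) (.leaf 0)) (.node 2079 (.leaf 0) (.leaf 0))))))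

def fix240PB65 : Bst := (.node 2096 (.node 2088 (.node 2084 (.node 2082 (.node 2081 (.leaf 0) (.leaf 0)) (.node 2083 (.leaf 0) (.leaf 0))) (.node 2086 (.node 2085 (.leaf 0) (.leaf 0)) (.node 2087 (.leaf 0) (.leaf 0)))) (.node 2092 (.node 2090 (.node 2089 (.leaf 0) (.leaf 0)) (.node 2091 (.leaf 0) (.leaf 0))) (.node 2094 (.node 2093 (.leaf 0) (.leaf 0)) (.node 2095 (.leaf 0) (.leaf 0))))) (.node 2104 (.node 2100 (.node 2098 (.node 2097 (.leaf 0) (.leaf 0)) (.node 2099 (.leaf 0) (.leaf 0))) (.node 2102 (.node 2101 (.leaf 0) (.leaf 0)) (.node 2103 (.leaf 0) (.leaf 0)))) (.node 2108 (.node 2106 (.node 2105 (.leaf 0) (.leaf 0)) (.node 2107 (.leaf 0) (.leaf 0))) (.node 2110 (.node 2109 (.leaf 0) (.leaf 0)) (.node 2111 (.leaf 0) (.leaf 0))))))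

def fix240PB66 : Bst := (.node 2128 (.node 2120 (.node 2116 (.node 2114 (.node 2113 (.leaf 0) (.leaf 0)) (.node 2115 (.leaf 0) (.leaf 0))) (.node 2118 (.node 2117 (.leaf 0) (.leaf 0)) (.node 2119 (.leaf 0) (.leaf 0)))) (.node 2124 (.node 2122 (.node 2121 (.leaf 0) (.leaf 0)) (.node 2123 (.leaf 0) (.leaf 0))) (.node 2126 (.node 2125 (.leaf 0) (.leaf 0)) (.node 2127 (.leaf 0) (.leaf 0))))) (.node 2136 (.node 2132 (.node 2130 (.node 2129 (.leaf 0) (.leaf 0)) (.node 2131 (.leaf 0) (.leaf 0))) (.node 2134 (.node 2133 (.leaf 0) (.leaf 0)) (.node 2135 (.leaf 0) (.leaf 0)))) (.node 2140 (.node 2138 (.node 2137 (.leaf 0) (.leaf 0)) (.node 2139 (.leaf 0) (.leaf 0))) (.node 2142 (.node 2141 (.leaf 0) (.leaf 0)) (.node 2143 (.leaf 0) (.leaf 0))))))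

def fix240PB67 : Bst := (.node 2160 (.node 2152 (.node 2148 (.node 2146 (.node 2145 (.leaf 0) (.leaf 0)) (.node 2147 (.leaf 0) (.leaf 0))) (.node 2150 (.node 2149 (.leaf 0) (.leaf 0)) (.node 2151 (.leaf 0) (.leaf 0)))) (.node 2156 (.node 2154 (.node 2153 (.leaf 0) (.leaf 0)) (.node 2155 (.leaf 0) (.leaf 0))) (.node 2158 (.node 2157 (.leaf 0) (.leaf 0)) (.node 2159 (.leaf 0) (.leaf 0))))) (.node 2168 (.node 2164 (.node 2162 (.node 2161 (.leaf 0) (.leaf 0)) (.node 2163 (.leaf 0) (.leaf 0))) (.node 2166 (.node 2165 (.leaf 0) (.leaf 0)) (.node 2167 (.leaf 0) (.leaf 0)))) (.node 2172 (.node 2170 (.node 2169 (.leaf 0) (.leaf 0)) (.node 2171 (.leaf 0) (.leaf 0))) (.node 2174 (.node 2173 (.leaf 0) (.leaf 0)) (.node 2175 (.leaf 0) (.leaf 0))))))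

def fix240PB68 : Bst := (.node 2192 (.node 2184 (.node 2180 (.node 2178 (.node 2177 (.leaf 0) (.leaf 0)) (.node 2179 (.leaf 0) (.leaf 0))) (.node 2182 (.node 2181 (.leaf 0) (.leaf 0)) (.node 2183 (.leaf 0) (.leaf 0)))) (.node 2188 (.node 2186 (.node 2185 (.leaf 0) (.leaf 0)) (.node 2187 (.leaf 0) (.leaf 0))) (.node 2190 (.node 2189 (.leaf 0) (.leaf 0)) (.node 2191 (.leaf 0) (.leaf 0))))) (.node 2200 (.node 2196 (.node 2194 (.node 2193 (.leaf 0) (.leaf 0)) (.node 2195 (.leaf 0) (.leaf 0))) (.node 2198 (.node 2197 (.leaf 0) (.leaf 0)) (.node 2199 (.leaf 0) (.leaf 0)))) (.node 2204 (.node 2202 (.node 2201 (.leaf 0) (.leaf 0)) (.node 2203 (.leaf 0) (.leaf 0))) (.node 2206 (.node 2205 (.leaf 0) (.leaf 0)) (.node 2207 (.leaf 0) (.leaf 0))))))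

def fix240PB69 : Bst := (.node 2224 (.node 2216 (.node 2212 (.node 2210 (.node 2209 (.leaf 0) (.leaf 0)) (.node 2211 (.leaf 0) (.leaf 0))) (.node 2214 (.node 2213 (.leaf 0) (.leaf 0)) (.node 2215 (.leaf 0) (.leaf 0)))) (.node 2220 (.node 2218 (.node 2217 (.leaf 0) (.leaf 0)) (.node 2219 (.leaf 0) (.leaf 0))) (.node 2222 (.node 2221 (.leaf 0) (.leaf 0)) (.node 2223 (.leaf 0) (.leaf 0))))) (.node 2232 (.node 2228 (.node 2226 (.node 2225 (.leaf 0) (.leaf 0)) (.node 2227 (.leaf 0) (.leaf 0))) (.node 2230 (.node 2229 (.leaf 0) (.leaf 0)) (.node 2231 (.leaf 0) (.leaf 0)))) (.node 2236 (.node 2234 (.node 2233 (.leaf 0) (.leaf 0)) (.node 2235 (.leaf 0) (.leaf 0))) (.node 2238 (.node 2237 (.leaf 0) (.leaf 0)) (.node 2239 (.leaf 0) (.leaf 0))))))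

def fix240PB70 : Bst := (.node 2256 (.node 2248 (.node 2244 (.node 2242 (.node 2241 (.leaf 0) (.leaf 0)) (.node 2243 (.leaf 0) (.leaf 0))) (.node 2246 (.node 2245 (.leaf 0) (.leaf 0)) (.node 2247 (.leaf 0) (.leaf 0)))) (.node 2252 (.node 2250 (.node 2249 (.leaf 0) (.leaf 0)) (.node 2251 (.leaf 0) (.leaf 0))) (.node 2254 (.node 2253 (.leaf 0) (.leaf 0)) (.node 2255 (.leaf 0) (.leaf 0))))) (.node 2264 (.node 2260 (.node 2258 (.node 2257 (.leaf 0) (.leaf 0)) (.node 2259 (.leaf 0) (.leaf 0))) (.node 2262 (.node 2261 (.leaf 0) (.leaf 0)) (.node 2263 (.leaf 0) (.leaf 0)))) (.node 2268 (.node 2266 (.node 2265 (.leaf 0) (.leaf 0)) (.node 2267 (.leaf 0) (.leaf 0))) (.node 2270 (.node 2269 (.leaf 0) (.leaf 0)) (.node 2271 (.leaf 0) (.leaf 0))))))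

def fix240PB71 : Bst := (.node 2288 (.node 2280 (.node 2276 (.node 2274 (.node 2273 (.leaf 0) (.leaf 0)) (.node 2275 (.leaf 0) (.leaf 0))) (.node 2278 (.node 2277 (.leaf 0) (.leaf 0)) (.node 2279 (.leaf 0) (.leaf 0)))) (.node 2284 (.node 2282 (.node 2281 (.leaf 0) (.leaf 0)) (.node 2283 (.leaf 0) (.leaf 0))) (.node 2286 (.node 2285 (.leaf 0) (.leaf 0)) (.node 2287 (.leaf 0) (.leaf 0))))) (.node 2296 (.node 2292 (.node 2290 (.node 2289 (.leaf 0) (.leaf 0)) (.node 2291 (.leaf 0) (.leaf 0))) (.node 2294 (.node 2293 (.leaf 0) (.leaf 0)) (.node 2295 (.leaf 0) (.leaf 0)))) (.node 2300 (.node 2298 (.node 2297 (.leaf 0) (.leaf 0)) (.node 2299 (.leaf 0) (.leaf 0))) (.node 2302 (.node 2301 (.leaf 0) (.leaf 0)) (.node 2303 (.leaf 0) (.leaf 0))))))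

def fix240PB72 : Bst := (.node 2320 (.node 2312 (.node 2308 (.node 2306 (.node 2305 (.leaf 0) (.leaf 0)) (.node 2307 (.leaf 0) (.leaf 0))) (.node 2310 (.node 2309 (.leaf 0) (.leaf 0)) (.node 2311 (.leaf 0) (.leaf 0)))) (.node 2316 (.node 2314 (.node 2313 (.leaf 0) (.leaf 0)) (.node 2315 (.leaf 0) (.leaf 0))) (.node 2318 (.node 2317 (.leaf 0) (.leaf 0)) (.node 2319 (.leaf 0) (.leaf 0))))) (.node 2328 (.node 2324 (.node 2322 (.node 2321 (.leaf 0) (.leaf 0)) (.node 2323 (.leaf 0) (.leaf 0))) (.node 2326 (.node 2325 (.leaf 0) (.leaf 0)) (.node 2327 (.leaf 0) (.leaf 0)))) (.node 2332 (.node 2330 (.node 2329 (.leaf 0) (.leaf 0)) (.node 2331 (.leaf 0) (.leaf 0))) (.node 2334 (.node 2333 (.leaf 0) (.leaf 0)) (.node 2335 (.leaf 0) (.leaf 0))))))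

def fix240PB73 : Bst := (.node 2352 (.node 2344 (.node 2340 (.node 2338 (.node 2337 (.leaf 0) (.leaf 0)) (.node 2339 (.leaf 0) (.leaf 0))) (.node 2342 (.node 2341 (.leaf 0) (.leaf 0)) (.node 2343 (.leaf 0) (.leaf 0)))) (.node 2348 (.node 2346 (.node 2345 (.leaf 0) (.leaf 0)) (.node 2347 (.leaf 0) (.leaf 0))) (.node 2350 (.node 2349 (.leaf 0) (.leaf 0)) (.node 2351 (.leaf 0) (.leaf 0))))) (.node 2360 (.node 2356 (.node 2354 (.node 2353 (.leaf 0) (.leaf 0)) (.node 2355 (.leaf 0) (.leaf 0))) (.node 2358 (.node 2357 (.leaf 0) (.leaf 0)) (.node 2359 (.leaf 0) (.leaf 0)))) (.node 2364 (.node 2362 (.node 2361 (.leaf 0) (.leaf 0)) (.node 2363 (.leaf 0) (.leaf 0))) (.node 2366 (.node 2365 (.leaf 0) (.leaf 0)) (.node 2367 (.leaf 0) (.leaf 0))))))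

def fix240PB74 : Bst := (.node 2384 (.node 2376 (.node 2372 (.node 2370 (.node 2369 (.leaf 0) (.leaf 0)) (.node 2371 (.leaf 0) (.leaf 0))) (.node 2374 (.node 2373 (.leaf 0) (.leaf 0)) (.node 2375 (.leaf 0) (.leaf 0)))) (.node 2380 (.node 2378 (.node 2377 (.leaf 0) (.leaf 0)) (.node 2379 (.leaf 0) (.leaf 0))) (.node 2382 (.node 2381 (.leaf 0) (.leaf 0)) (.node 2383 (.leaf 0) (.leaf 0))))) (.node 2392 (.node 2388 (.node 2386 (.node 2385 (.leaf 0) (.leaf 0)) (.node 2387 (.leaf 0) (.leaf 0))) (.node 2390 (.node 2389 (.leaf 0) (.leaf 0)) (.node 2391 (.leaf 0) (.leaf 0)))) (.node 2396 (.node 2394 (.node 2393 (.leaf 0) (.leaf 0)) (.node 2395 (.leaf 0) (.leaf 0))) (.node 2398 (.node 2397 (.leaf 0) (.leaf 0)) (.node 2399 (.leaf 0) (.leaf 0))))))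

def fix240PB75 : Bst := (.node 2416 (.node 2408 (.node 2404 (.node 2402 (.node 2401 (.leaf 0) (.leaf 0)) (.node 2403 (.leaf 0) (.leaf 0))) (.node 2406 (.node 2405 (.leaf 0) (.leaf 0)) (.node 2407 (.leaf 0) (.leaf 0)))) (.node 2412 (.node 2410 (.node 2409 (.leaf 0) (.leaf 0)) (.node 2411 (.leaf 0) (.leaf 0))) (.node 2414 (.node 2413 (.leaf 0) (.leaf 0)) (.node 2415 (.leaf 0) (.leaf 0))))) (.node 2424 (.node 2420 (.node 2418 (.node 2417 (.leaf 0) (.leaf 0)) (.node 2419 (.leaf 0) (.leaf 0))) (.node 2422 (.node 2421 (.leaf 0) (.leaf 0)) (.node 2423 (.leaf 0) (.leaf 0)))) (.node 2428 (.node 2426 (.node 2425 (.leaf 0) (.leaf 0)) (.node 2427 (.leaf 0) (.leaf 0))) (.node 2430 (.node 2429 (.leaf 0) (.leaf 0)) (.node 2431 (.leaf 0) (.leaf 0))))))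

def fix240PB76 : Bst := (.node 2448 (.node 2440 (.node 2436 (.node 2434 (.node 2433 (.leaf 0) (.leaf 0)) (.node 2435 (.leaf 0) (.leaf 0))) (.node 2438 (.node 2437 (.leaf 0) (.leaf 0)) (.node 2439 (.leaf 0) (.leaf 0)))) (.node 2444 (.node 2442 (.node 2441 (.leaf 0) (.leaf 0)) (.node 2443 (.leaf 0) (.leaf 0))) (.node 2446 (.node 2445 (.leaf 0) (.leaf 0)) (.node 2447 (.leaf 0) (.leaf 0))))) (.node 2456 (.node 2452 (.node 2450 (.node 2449 (.leaf 0) (.leaf 0)) (.node 2451 (.leaf 0) (.leaf 0))) (.node 2454 (.node 2453 (.leaf 0) (.leaf 0)) (.node 2455 (.leaf 0) (.leaf 0)))) (.node 2460 (.node 2458 (.node 2457 (.leaf 0) (.leaf 0)) (.node 2459 (.leaf 0) (.leaf 0))) (.node 2462 (.node 2461 (.leaf 0) (.leaf 0)) (.node 2463 (.leaf 0) (.leaf 0))))))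

def fix240PB77 : Bst := (.node 2480 (.node 2472 (.node 2468 (.node 2466 (.node 2465 (.leaf 0) (.leaf 0)) (.node 2467 (.leaf 0) (.leaf 0))) (.node 2470 (.node 2469 (.leaf 0) (.leaf 0)) (.node 2471 (.leaf 0) (.leaf 0)))) (.node 2476 (.node 2474 (.node 2473 (.leaf 0) (.leaf 0)) (.node 2475 (.leaf 0) (.leaf 0))) (.node 2478 (.node 2477 (.leaf 0) (.leaf 0)) (.node 2479 (.leaf 0) (.leaf 0))))) (.node 2488 (.node 2484 (.node 2482 (.node 2481 (.leaf 0) (.leaf 0)) (.node 2483 (.leaf 0) (.leaf 0))) (.node 2486 (.node 2485 (.leaf 0) (.leaf 0)) (.node 2487 (.leaf 0) (.leaf 0)))) (.node 2492 (.node 2490 (.node 2489 (.leaf 0) (.leaf 0)) (.node 2491 (.leaf 0) (.leaf 0))) (.node 2494 (.node 2493 (.leaf 0) (.leaf 0)) (.node 2495 (.leaf 0) (.leaf 0))))))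

def fix240PB78 : Bst := (.node 2512 (.node 2504 (.node 2500 (.node 2498 (.node 2497 (.leaf 0) (.leaf 0)) (.node 2499 (.leaf 0) (.leaf 0))) (.node 2502 (.node 2501 (.leaf 0) (.leaf 0)) (.node 2503 (.leaf 0) (.leaf 0)))) (.node 2508 (.node 2506 (.node 2505 (.leaf 0) (.leaf 0)) (.node 2507 (.leaf 0) (.leaf 0))) (.node 2510 (.node 2509 (.leaf 0) (.leaf 0)) (.node 2511 (.leaf 0) (.leaf 0))))) (.node 2520 (.node 2516 (.node 2514 (.node 2513 (.leaf 0) (.leaf 0)) (.node 2515 (.leaf 0) (.leaf 0))) (.node 2518 (.node 2517 (.leaf 0) (.leaf 0)) (.node 2519 (.leaf 0) (.leaf 0)))) (.node 2524 (.node 2522 (.node 2521 (.leaf 0) (.leaf 0)) (.node 2523 (.leaf 0) (.leaf 0))) (.node 2526 (.node 2525 (.leaf 0) (.leaf 0)) (.node 2527 (.leaf 0) (.leaf 0))))))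

def fix240PB79 : Bst := (.node 2544 (.node 2536 (.node 2532 (.node 2530 (.node 2529 (.leaf 0) (.leaf 0)) (.node 2531 (.leaf 0) (.leaf 0))) (.node 2534 (.node 2533 (.leaf 0) (.leaf 0)) (.node 2535 (.leaf 0) (.leaf 0)))) (.node 2540 (.node 2538 (.node 2537 (.leaf 0) (.leaf 0)) (.node 2539 (.leaf 0) (.leaf 0))) (.node 2542 (.node 2541 (.leaf 0) (.leaf 0)) (.node 2543 (.leaf 0) (.leaf 0))))) (.node 2552 (.node 2548 (.node 2546 (.node 2545 (.leaf 0) (.leaf 0)) (.node 2547 (.leaf 0) (.leaf 0))) (.node 2550 (.node 2549 (.leaf 0) (.leaf 0)) (.node 2551 (.leaf 0) (.leaf 0)))) (.node 2556 (.node 2554 (.node 2553 (.leaf 0) (.leaf 0)) (.node 2555 (.leaf 0) (.leaf 0))) (.node 2558 (.node 2557 (.leaf 0) (.leaf 0)) (.node 2559 (.leaf 0) (.leaf 0))))))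

def fix240PB80 : Bst := (.node 2576 (.node 2568 (.node 2564 (.node 2562 (.node 2561 (.leaf 0) (.leaf 0)) (.node 2563 (.leaf 0) (.leaf 0))) (.node 2566 (.node 2565 (.leaf 0) (.leaf 0)) (.node 2567 (.leaf 0) (.leaf 0)))) (.node 2572 (.node 2570 (.node 2569 (.leaf 0) (.leaf 0)) (.node 2571 (.leaf 0) (.leaf 0))) (.node 2574 (.node 2573 (.leaf 0) (.leaf 0)) (.node 2575 (.leaf 0) (.leaf 0))))) (.node 2584 (.node 2580 (.node 2578 (.node 2577 (.leaf 0) (.leaf 0)) (.node 2579 (.leaf 0) (.leaf 0))) (.node 2582 (.node 2581 (.leaf 0) (.leaf 0)) (.node 2583 (.leaf 0) (.leaf 0)))) (.node 2588 (.node 2586 (.node 2585 (.leaf 0) (.leaf 0)) (.node 2587 (.leaf 0) (.leaf 0))) (.node 2590 (.node 2589 (.leaf 0) (.leaf 0)) (.node 2591 (.leaf 0) (.leaf 0))))))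

def fix240PB81 : Bst := (.node 2608 (.node 2600 (.node 2596 (.node 2594 (.node 2593 (.leaf 0) (.leaf 0)) (.node 2595 (.leaf 0) (.leaf 0))) (.node 2598 (.node 2597 (.leaf 0) (.leaf 0)) (.node 2599 (.leaf 0) (.leaf 0)))) (.node 2604 (.node 2602 (.node 2601 (.leaf 0) (.leaf 0)) (.node 2603 (.leaf 0) (.leaf 0))) (.node 2606 (.node 2605 (.leaf 0) (.leaf 0)) (.node 2607 (.leaf 0) (.leaf 0))))) (.node 2616 (.node 2612 (.node 2610 (.node 2609 (.leaf 0) (.leaf 0)) (.node 2611 (.leaf 0) (.leaf 0))) (.node 2614 (.node 2613 (.leaf 0) (.leaf 0)) (.node 2615 (.leaf 0) (.leaf 0)))) (.node 2620 (.node 2618 (.node 2617 (.leaf 0) (.leaf 0)) (.node 2619 (.leaf 0) (.leaf 0))) (.node 2622 (.node 2621 (.leaf 0) (.leaf 0)) (.node 2623 (.leaf 0) (.leaf 0))))))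

def fix240PB82 : Bst := (.node 2640 (.node 2632 (.node 2628 (.node 2626 (.node 2625 (.leaf 0) (.leaf 0)) (.node 2627 (.leaf 0) (.leaf 0))) (.node 2630 (.node 2629 (.leaf 0) (.leaf 0)) (.node 2631 (.leaf 0) (.leaf 0)))) (.node 2636 (.node 2634 (.node 2633 (.leaf 0) (.leaf 0)) (.node 2635 (.leaf 0) (.leaf 0))) (.node 2638 (.node 2637 (.leaf 0) (.leaf 0)) (.node 2639 (.leaf 0) (.leaf 0))))) (.node 2648 (.node 2644 (.node 2642 (.node 2641 (.leaf 0) (.leaf 0)) (.node 2643 (.leaf 0) (.leaf 0))) (.node 2646 (.node 2645 (.leaf 0) (.leaf 0)) (.node 2647 (.leaf 0) (.leaf 0)))) (.node 2652 (.node 2650 (.node 2649 (.leaf 0) (.leaf 0)) (.node 2651 (.leaf 0) (.leaf 0))) (.node 2654 (.node 2653 (.leaf 0) (.leaf 0)) (.node 2655 (.leaf 0) (.leaf 0))))))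

def fix240PB83 : Bst := (.node 2672 (.node 2664 (.node 2660 (.node 2658 (.node 2657 (.leaf 0) (.leaf 0)) (.node 2659 (.leaf 0) (.leaf 0))) (.node 2662 (.node 2661 (.leaf 0) (.leaf 0)) (.node 2663 (.leaf 0) (.leaf 0)))) (.node 2668 (.node 2666 (.node 2665 (.leaf 0) (.leaf 0)) (.node 2667 (.leaf 0) (.leaf 0))) (.node 2670 (.node 2669 (.leaf 0) (.leaf 0)) (.node 2671 (.leaf 0) (.leaf 0))))) (.node 2680 (.node 2676 (.node 2674 (.node 2673 (.leaf 0) (.leaf 0)) (.node 2675 (.leaf 0) (.leaf 0))) (.node 2678 (.node 2677 (.leaf 0) (.leaf 0)) (.node 2679 (.leaf 0) (.leaf 0)))) (.node 2684 (.node 2682 (.node 2681 (.leaf 0) (.leaf 0)) (.node 2683 (.leaf 0) (.leaf 0))) (.node 2686 (.node 2685 (.leaf 0) (.leaf 0)) (.node 2687 (.leaf 0) (.leaf 0))))))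

def fix240PB84 : Bst := (.node 2704 (.node 2696 (.node 2692 (.node 2690 (.node 2689 (.leaf 0) (.leaf 0)) (.node 2691 (.leaf 0) (.leaf 0))) (.node 2694 (.node 2693 (.leaf 0) (.leaf 0)) (.node 2695 (.leaf 0) (.leaf 0)))) (.node 2700 (.node 2698 (.node 2697 (.leaf 0) (.leaf 0)) (.node 2699 (.leaf 0) (.leaf 0))) (.node 2702 (.node 2701 (.leaf 0) (.leaf 0)) (.node 2703 (.leaf 0) (.leaf 0))))) (.node 2712 (.node 2708 (.node 2706 (.node 2705 (.leaf 0) (.leaf 0)) (.node 2707 (.leaf 0) (.leaf 0))) (.node 2710 (.node 2709 (.leaf 0) (.leaf 0)) (.node 2711 (.leaf 0) (.leaf 0)))) (.node 2716 (.node 2714 (.node 2713 (.leaf 0) (.leaf 0)) (.node 2715 (.leaf 0) (.leaf 0))) (.node 2718 (.node 2717 (.leaf 0) (.leaf 0)) (.node 2719 (.leaf 0) (.leaf 0))))))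

def fix240PB85 : Bst := (.node 2736 (.node 2728 (.node 2724 (.node 2722 (.node 2721 (.leaf 0) (.leaf 0)) (.node 2723 (.leaf 0) (.leaf 0))) (.node 2726 (.node 2725 (.leaf 0) (.leaf 0)) (.node 2727 (.leaf 0) (.leaf 0)))) (.node 2732 (.node 2730 (.node 2729 (.leaf 0) (.leaf 0)) (.node 2731 (.leaf 0) (.leaf 0))) (.node 2734 (.node 2733 (.leaf 0) (.leaf 0)) (.node 2735 (.leaf 0) (.leaf 0))))) (.node 2744 (.node 2740 (.node 2738 (.node 2737 (.leaf 0) (.leaf 0)) (.node 2739 (.leaf 0) (.leaf 0))) (.node 2742 (.node 2741 (.leaf 0) (.leaf 0)) (.node 2743 (.leaf 0) (.leaf 0)))) (.node 2748 (.node 2746 (.node 2745 (.leaf 0) (.leaf 0)) (.node 2747 (.leaf 0) (.leaf 0))) (.node 2750 (.node 2749 (.leaf 0) (.leaf 0)) (.node 2751 (.leaf 0) (.leaf 0))))))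

def fix240PB86 : Bst := (.node 2768 (.node 2760 (.node 2756 (.node 2754 (.node 2753 (.leaf 0) (.leaf 0)) (.node 2755 (.leaf 0) (.leaf 0))) (.node 2758 (.node 2757 (.leaf 0) (.leaf 0)) (.node 2759 (.leaf 0) (.leaf 0)))) (.node 2764 (.node 2762 (.node 2761 (.leaf 0) (.leaf 0)) (.node 2763 (.leaf 0) (.leaf 0))) (.node 2766 (.node 2765 (.leaf 0) (.leaf 0)) (.node 2767 (.leaf 0) (.leaf 0))))) (.node 2776 (.node 2772 (.node 2770 (.node 2769 (.leaf 0) (.leaf 0)) (.node 2771 (.leaf 0) (.leaf 0))) (.node 2774 (.node 2773 (.leaf 0) (.leaf 0)) (.node 2775 (.leaf 0) (.leaf 0)))) (.node 2780 (.node 2778 (.node 2777 (.leaf 0) (.leaf 0)) (.node 2779 (.leaf 0) (.leaf 0))) (.node 2782 (.node 2781 (.leaf 0) (.leaf 0)) (.node 2783 (.leaf 0) (.leaf 0))))))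

def fix240PB87 : Bst := (.node 2800 (.node 2792 (.node 2788 (.node 2786 (.node 2785 (.leaf 0) (.leaf 0)) (.node 2787 (.leaf 0) (.leaf 0))) (.node 2790 (.node 2789 (.leaf 0) (.leaf 0)) (.node 2791 (.leaf 0) (.leaf 0)))) (.node 2796 (.node 2794 (.node 2793 (.leaf 0) (.leaf 0)) (.node 2795 (.leaf 0) (.leaf 0))) (.node 2798 (.node 2797 (.leaf 0) (.leaf 0)) (.node 2799 (.leaf 0) (.leaf 0))))) (.node 2808 (.node 2804 (.node 2802 (.node 2801 (.leaf 0) (.leaf 0)) (.node 2803 (.leaf 0) (.leaf 0))) (.node 2806 (.node 2805 (.leaf 0) (.leaf 0)) (.node 2807 (.leaf 0) (.leaf 0)))) (.node 2812 (.node 2810 (.node 2809 (.leaf 0) (.leaf 0)) (.node 2811 (.leaf 0) (.leaf 0))) (.node 2814 (.node 2813 (.leaf 0) (.leaf 0)) (.node 2815 (.leaf 0) (.leaf 0))))))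

def fix240PB88 : Bst := (.node 2832 (.node 2824 (.node 2820 (.node 2818 (.node 2817 (.leaf 0) (.leaf 0)) (.node 2819 (.leaf 0) (.leaf 0))) (.node 2822 (.node 2821 (.leaf 0) (.leaf 0)) (.node 2823 (.leaf 0) (.leaf 0)))) (.node 2828 (.node 2826 (.node 2825 (.leaf 0) (.leaf 0)) (.node 2827 (.leaf 0) (.leaf 0))) (.node 2830 (.node 2829 (.leaf 0) (.leaf 0)) (.node 2831 (.leaf 0) (.leaf 0))))) (.node 2840 (.node 2836 (.node 2834 (.node 2833 (.leaf 0) (.leaf 0)) (.node 2835 (.leaf 0) (.leaf 0))) (.node 2838 (.node 2837 (.leaf 0) (.leaf 0)) (.node 2839 (.leaf 0) (.leaf 0)))) (.node 2844 (.node 2842 (.node 2841 (.leaf 0) (.leaf 0)) (.node 2843 (.leaf 0) (.leaf 0))) (.node 2846 (.node 2845 (.leaf 0) (.leaf 0)) (.node 2847 (.leaf 0) (.leaf 0))))))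

def fix240PB89 : Bst := (.node 2864 (.node 2856 (.node 2852 (.node 2850 (.node 2849 (.leaf 0) (.leaf 0)) (.node 2851 (.leaf 0) (.leaf 0))) (.node 2854 (.node 2853 (.leaf 0) (.leaf 0)) (.node 2855 (.leaf 0) (.leaf 0)))) (.node 2860 (.node 2858 (.node 2857 (.leaf 0) (.leaf 0)) (.node 2859 (.leaf 0) (.leaf 0x7a0005e00000000c8))) (.node 2862 (.node 2861 (.leaf 0xc4000dc00088000a3) (.leaf 0xa9)) (.node 2863 (.leaf 0x8a0004c000550008c) (.leaf 0x8b00066))))) (.node 2872 (.node 2868 (.node 2866 (.node 2865 (.leaf 0) (.leaf 0)) (.node 2867 (.leaf 0) (.leaf 0))) (.node 2870 (.node 2869 (.leaf 0) (.leaf 0)) (.node 2871 (.leaf 0) (.leaf 0)))) (.node 2876 (.node 2874 (.node 2873 (.leaf 0) (.leaf 0)) (.node 2875 (.leaf 0) (.leaf 0))) (.node 2878 (.node 2877 (.leaf 0) (.leaf 0)) (.node 2879 (.leaf 0) (.leaf 0))))))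

def fix240PB90 : Bst := (.node 2896 (.node 2888 (.node 2884 (.node 2882 (.node 2881 (.leaf 0) (.leaf 0)) (.node 2883 (.leaf 0) (.leaf 0))) (.node 2886 (.node 2885 (.leaf 0) (.leaf 0)) (.node 2887 (.leaf 0) (.leaf 0)))) (.node 2892 (.node 2890 (.node 2889 (.leaf 0) (.leaf 0)) (.node 2891 (.leaf 0) (.leaf 0))) (.node 2894 (.node 2893 (.leaf 0) (.leaf 0)) (.node 2895 (.leaf 0) (.leaf 0))))) (.node 2904 (.node 2900 (.node 2898 (.node 2897 (.leaf 0) (.leaf 0)) (.node 2899 (.leaf 0) (.leaf 0))) (.node 2902 (.node 2901 (.leaf 0) (.leaf 0)) (.node 2903 (.leaf 0) (.leaf 0)))) (.node 2908 (.node 2906 (.node 2905 (.leaf 0) (.leaf 0)) (.node 2907 (.leaf 0) (.leaf 0))) (.node 2910 (.node 2909 (.leaf 0) (.leaf 0)) (.node 2911 (.leaf 0) (.leaf 0))))))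

def fix240PB91 : Bst := (.node 2928 (.node 2920 (.node 2916 (.node 2914 (.node 2913 (.leaf 0) (.leaf 0)) (.node 2915 (.leaf 0) (.leaf 0))) (.node 2918 (.node 2917 (.leaf 0) (.leaf 0)) (.node 2919 (.leaf 0) (.leaf 0)))) (.node 2924 (.node 2922 (.node 2921 (.leaf 0) (.leaf 0)) (.node 2923 (.leaf 0) (.leaf 0))) (.node 2926 (.node 2925 (.leaf 0) (.leaf 0)) (.node 2927 (.leaf 0) (.leaf 0))))) (.node 2936 (.node 2932 (.node 2930 (.node 2929 (.leaf 0) (.leaf 0)) (.node 2931 (.leaf 0) (.leaf 0))) (.node 2934 (.node 2933 (.leaf 0) (.leaf 0)) (.node 2935 (.leaf 0) (.leaf 0)))) (.node 2940 (.node 2938 (.node 2937 (.leaf 0) (.leaf 0)) (.node 2939 (.leaf 0) (.leaf 0))) (.node 2942 (.node 2941 (.leaf 0) (.leaf 0)) (.node 2943 (.leaf 0) (.leaf 0))))))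

def fix240PB92 : Bst := (.node 2960 (.node 2952 (.node 2948 (.node 2946 (.node 2945 (.leaf 0) (.leaf 0)) (.node 2947 (.leaf 0) (.leaf 0))) (.node 2950 (.node 2949 (.leaf 0) (.leaf 0)) (.node 2951 (.leaf 0) (.leaf 0)))) (.node 2956 (.node 2954 (.node 2953 (.leaf 0) (.leaf 0)) (.node 2955 (.leaf 0) (.leaf 0))) (.node 2958 (.node 2957 (.leaf 0) (.leaf 0)) (.node 2959 (.leaf 0) (.leaf 0))))) (.node 2968 (.node 2964 (.node 2962 (.node 2961 (.leaf 0) (.leaf 0)) (.node 2963 (.leaf 0) (.leaf 0))) (.node 2966 (.node 2965 (.leaf 0) (.leaf 0)) (.node 2967 (.leaf 0) (.leaf 0)))) (.node 2972 (.node 2970 (.node 2969 (.leaf 0) (.leaf 0)) (.node 2971 (.leaf 0) (.leaf 0))) (.node 2974 (.node 2973 (.leaf 0) (.leaf 0)) (.node 2975 (.leaf 0) (.leaf 0))))))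

def fix240PB93 : Bst := (.node 2992 (.node 2984 (.node 2980 (.node 2978 (.node 2977 (.leaf 0) (.leaf 0)) (.node 2979 (.leaf 0) (.leaf 0))) (.node 2982 (.node 2981 (.leaf 0) (.leaf 0)) (.node 2983 (.leaf 0) (.leaf 0)))) (.node 2988 (.node 2986 (.node 2985 (.leaf 0) (.leaf 0)) (.node 2987 (.leaf 0) (.leaf 0))) (.node 2990 (.node 2989 (.leaf 0) (.leaf 0)) (.node 2991 (.leaf 0) (.leaf 0))))) (.node 3000 (.node 2996 (.node 2994 (.node 2993 (.leaf 0) (.leaf 0)) (.node 2995 (.leaf 0) (.leaf 0))) (.node 2998 (.node 2997 (.leaf 0) (.leaf 0)) (.node 2999 (.leaf 0) (.leaf 0)))) (.node 3004 (.node 3002 (.node 3001 (.leaf 0) (.leaf 0)) (.node 3003 (.leaf 0) (.leaf 0))) (.node 3006 (.node 3005 (.leaf 0) (.leaf 0)) (.node 3007 (.leaf 0) (.leaf 0))))))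

def fix240PB94 : Bst := (.node 3024 (.node 3016 (.node 3012 (.node 3010 (.node 3009 (.leaf 0) (.leaf 0)) (.node 3011 (.leaf 0) (.leaf 0))) (.node 3014 (.node 3013 (.leaf 0) (.leaf 0)) (.node 3015 (.leaf 0) (.leaf 0)))) (.node 3020 (.node 3018 (.node 3017 (.leaf 0) (.leaf 0)) (.node 3019 (.leaf 0) (.leaf 0))) (.node 3022 (.node 3021 (.leaf 0) (.leaf 0)) (.node 3023 (.leaf 0) (.leaf 0))))) (.node 3032 (.node 3028 (.node 3026 (.node 3025 (.leaf 0) (.leaf 0)) (.node 3027 (.leaf 0) (.leaf 0))) (.node 3030 (.node 3029 (.leaf 0) (.leaf 0)) (.node 3031 (.leaf 0) (.leaf 0)))) (.node 3036 (.node 3034 (.node 3033 (.leaf 0) (.leaf 0)) (.node 3035 (.leaf 0) (.leaf 0))) (.node 3038 (.node 3037 (.leaf 0) (.leaf 0)) (.node 3039 (.leaf 0) (.leaf 0))))))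

def fix240PB95 : Bst := (.node 3056 (.node 3048 (.node 3044 (.node 3042 (.node 3041 (.leaf 0) (.leaf 0)) (.node 3043 (.leaf 0) (.leaf 0))) (.node 3046 (.node 3045 (.leaf 0) (.leaf 0)) (.node 3047 (.leaf 0) (.leaf 0)))) (.node 3052 (.node 3050 (.node 3049 (.leaf 0) (.leaf 0)) (.node 3051 (.leaf 0) (.leaf 0))) (.node 3054 (.node 3053 (.leaf 0) (.leaf 0)) (.node 3055 (.leaf 0) (.leaf 0))))) (.node 3064 (.node 3060 (.node 3058 (.node 3057 (.leaf 0) (.leaf 0)) (.node 3059 (.leaf 0) (.leaf 0))) (.node 3062 (.node 3061 (.leaf 0) (.leaf 0)) (.node 3063 (.leaf 0) (.leaf 0)))) (.node 3068 (.node 3066 (.node 3065 (.leaf 0) (.leaf 0)) (.node 3067 (.leaf 0) (.leaf 0))) (.node 3070 (.node 3069 (.leaf 0) (.leaf 0)) (.node 3071 (.leaf 0) (.leaf 0))))))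

def fix240PB96 : Bst := (.node 3088 (.node 3080 (.node 3076 (.node 3074 (.node 3073 (.leaf 0) (.leaf 0)) (.node 3075 (.leaf 0) (.leaf 0))) (.node 3078 (.node 3077 (.leaf 0) (.leaf 0)) (.node 3079 (.leaf 0) (.leaf 0)))) (.node 3084 (.node 3082 (.node 3081 (.leaf 0) (.leaf 0)) (.node 3083 (.leaf 0) (.leaf 0))) (.node 3086 (.node 3085 (.leaf 0) (.leaf 0)) (.node 3087 (.leaf 0) (.leaf 0))))) (.node 3096 (.node 3092 (.node 3090 (.node 3089 (.leaf 0) (.leaf 0)) (.node 3091 (.leaf 0) (.leaf 0))) (.node 3094 (.node 3093 (.leaf 0) (.leaf 0)) (.node 3095 (.leaf 0) (.leaf 0)))) (.node 3100 (.node 3098 (.node 3097 (.leaf 0) (.leaf 0)) (.node 3099 (.leaf 0) (.leaf 0))) (.node 3102 (.node 3101 (.leaf 0) (.leaf 0)) (.node 3103 (.leaf 0) (.leaf 0))))))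

def fix240PB97 : Bst := (.node 3120 (.node 3112 (.node 3108 (.node 3106 (.node 3105 (.leaf 0) (.leaf 0)) (.node 3107 (.leaf 0) (.leaf 0))) (.node 3110 (.node 3109 (.leaf 0) (.leaf 0)) (.node 3111 (.leaf 0) (.leaf 0)))) (.node 3116 (.node 3114 (.node 3113 (.leaf 0) (.leaf 0)) (.node 3115 (.leaf 0) (.leaf 0))) (.node 3118 (.node 3117 (.leaf 0) (.leaf 0)) (.node 3119 (.leaf 0) (.leaf 0))))) (.node 3128 (.node 3124 (.node 3122 (.node 3121 (.leaf 0) (.leaf 0)) (.node 3123 (.leaf 0) (.leaf 0))) (.node 3126 (.node 3125 (.leaf 0) (.leaf 0)) (.node 3127 (.leaf 0) (.leaf 0)))) (.node 3132 (.node 3130 (.node 3129 (.leaf 0) (.leaf 0)) (.node 3131 (.leaf 0) (.leaf 0))) (.node 3134 (.node 3133 (.leaf 0) (.leaf 0)) (.node 3135 (.leaf 0) (.leaf 0))))))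

def fix240PB98 : Bst := (.node 3152 (.node 3144 (.node 3140 (.node 3138 (.node 3137 (.leaf 0) (.leaf 0)) (.node 3139 (.leaf 0) (.leaf 0))) (.node 3142 (.node 3141 (.leaf 0) (.leaf 0)) (.node 3143 (.leaf 0) (.leaf 0)))) (.node 3148 (.node 3146 (.node 3145 (.leaf 0) (.leaf 0)) (.node 3147 (.leaf 0) (.leaf 0))) (.node 3150 (.node 3149 (.leaf 0) (.leaf 0)) (.node 3151 (.leaf 0) (.leaf 0))))) (.node 3160 (.node 3156 (.node 3154 (.node 3153 (.leaf 0) (.leaf 0)) (.node 3155 (.leaf 0) (.leaf 0))) (.node 3158 (.node 3157 (.leaf 0) (.leaf 0)) (.node 3159 (.leaf 0) (.leaf 0)))) (.node 3164 (.node 3162 (.node 3161 (.leaf 0) (.leaf 0)) (.node 3163 (.leaf 0) (.leaf 0))) (.node 3166 (.node 3165 (.leaf 0) (.leaf 0)) (.node 3167 (.leaf 0) (.leaf 0))))))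

def fix240PB99 : Bst := (.node 3184 (.node 3176 (.node 3172 (.node 3170 (.node 3169 (.leaf 0) (.leaf 0)) (.node 3171 (.leaf 0) (.leaf 0))) (.node 3174 (.node 3173 (.leaf 0) (.leaf 0)) (.node 3175 (.leaf 0) (.leaf 0)))) (.node 3180 (.node 3178 (.node 3177 (.leaf 0) (.leaf 0)) (.node 3179 (.leaf 0) (.leaf 0))) (.node 3182 (.node 3181 (.leaf 0) (.leaf 0)) (.node 3183 (.leaf 0) (.leaf 0))))) (.node 3192 (.node 3188 (.node 3186 (.node 3185 (.leaf 0) (.leaf 0)) (.node 3187 (.leaf 0) (.leaf 0))) (.node 3190 (.node 3189 (.leaf 0) (.leaf 0)) (.node 3191 (.leaf 0) (.leaf 0)))) (.node 3196 (.node 3194 (.node 3193 (.leaf 0) (.leaf 0)) (.node 3195 (.leaf 0) (.leaf 0))) (.node 3198 (.node 3197 (.leaf 0) (.leaf 0)) (.node 3199 (.leaf 0) (.leaf 0))))))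

def fix240PB100 : Bst := (.node 3216 (.node 3208 (.node 3204 (.node 3202 (.node 3201 (.leaf 0) (.leaf 0)) (.node 3203 (.leaf 0) (.leaf 0))) (.node 3206 (.node 3205 (.leaf 0) (.leaf 0)) (.node 3207 (.leaf 0) (.leaf 0)))) (.node 3212 (.node 3210 (.node 3209 (.leaf 0) (.leaf 0)) (.node 3211 (.leaf 0) (.leaf 0))) (.node 3214 (.node 3213 (.leaf 0) (.leaf 0)) (.node 3215 (.leaf 0) (.leaf 0))))) (.node 3224 (.node 3220 (.node 3218 (.node 3217 (.leaf 0) (.leaf 0)) (.node 3219 (.leaf 0) (.leaf 0))) (.node 3222 (.node 3221 (.leaf 0) (.leaf 0)) (.node 3223 (.leaf 0xaa000000000000000) (.leaf 0)))) (.node 3228 (.node 3226 (.node 3225 (.leaf 0) (.leaf 0)) (.node 3227 (.leaf 0) (.leaf 0))) (.node 3230 (.node 3229 (.leaf 0) (.leaf 0)) (.node 3231 (.leaf 0) (.leaf 0))))))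

def fix240PB101 : Bst := (.node 3248 (.node 3240 (.node 3236 (.node 3234 (.node 3233 (.leaf 0) (.leaf 0x4b000000000000000)) (.node 3235 (.leaf 0) (.leaf 0))) (.node 3238 (.node 3237 (.leaf 0) (.leaf 0)) (.node 3239 (.leaf 0) (.leaf 0)))) (.node 3244 (.node 3242 (.node 3241 (.leaf 0) (.leaf 0)) (.node 3243 (.leaf 0) (.leaf 0))) (.node 3246 (.node 3245 (.leaf 0) (.leaf 0)) (.node 3247 (.leaf 0) (.leaf 0))))) (.node 3256 (.node 3252 (.node 3250 (.node 3249 (.leaf 0) (.leaf 0)) (.node 3251 (.leaf 0) (.leaf 0))) (.node 3254 (.node 3253 (.leaf 0) (.leaf 0)) (.node 3255 (.leaf 0) (.leaf 0)))) (.node 3260 (.node 3258 (.node 3257 (.leaf 0) (.leaf 0)) (.node 3259 (.leaf 0) (.leaf 0))) (.node 3262 (.node 3261 (.leaf 0) (.leaf 0)) (.node 3263 (.leaf 0) (.leaf 0))))))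

def fix240PB102 : Bst := (.node 3280 (.node 3272 (.node 3268 (.node 3266 (.node 3265 (.leaf 0) (.leaf 0)) (.node 3267 (.leaf 0) (.leaf 0))) (.node 3270 (.node 3269 (.leaf 0) (.leaf 0)) (.node 3271 (.leaf 0) (.leaf 0)))) (.node 3276 (.node 3274 (.node 3273 (.leaf 0) (.leaf 0)) (.node 3275 (.leaf 0) (.leaf 0))) (.node 3278 (.node 3277 (.leaf 0) (.leaf 0)) (.node 3279 (.leaf 0) (.leaf 0))))) (.node 3288 (.node 3284 (.node 3282 (.node 3281 (.leaf 0) (.leaf 0)) (.node 3283 (.leaf 0) (.leaf 0))) (.node 3286 (.node 3285 (.leaf 0) (.leaf 0)) (.node 3287 (.leaf 0) (.leaf 0)))) (.node 3292 (.node 3290 (.node 3289 (.leaf 0) (.leaf 0)) (.node 3291 (.leaf 0) (.leaf 0))) (.node 3294 (.node 3293 (.leaf 0) (.leaf 0)) (.node 3295 (.leaf 0) (.leaf 0))))))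

def fix240PB103 : Bst := (.node 3312 (.node 3304 (.node 3300 (.node 3298 (.node 3297 (.leaf 0) (.leaf 0)) (.node 3299 (.leaf 0) (.leaf 0))) (.node 3302 (.node 3301 (.leaf 0) (.leaf 0)) (.node 3303 (.leaf 0) (.leaf 0)))) (.node 3308 (.node 3306 (.node 3305 (.leaf 0) (.leaf 0)) (.node 3307 (.leaf 0) (.leaf 0))) (.node 3310 (.node 3309 (.leaf 0) (.leaf 0)) (.node 3311 (.leaf 0) (.leaf 0))))) (.node 3320 (.node 3316 (.node 3314 (.node 3313 (.leaf 0) (.leaf 0)) (.node 3315 (.leaf 0) (.leaf 0))) (.node 3318 (.node 3317 (.leaf 0) (.leaf 0)) (.node 3319 (.leaf 0) (.leaf 0)))) (.node 3324 (.node 3322 (.node 3321 (.leaf 0) (.leaf 0)) (.node 3323 (.leaf 0) (.leaf 0))) (.node 3326 (.node 3325 (.leaf 0) (.leaf 0)) (.node 3327 (.leaf 0) (.leaf 0))))))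

def fix240PB104 : Bst := (.node 3344 (.node 3336 (.node 3332 (.node 3330 (.node 3329 (.leaf 0) (.leaf 0)) (.node 3331 (.leaf 0) (.leaf 0))) (.node 3334 (.node 3333 (.leaf 0) (.leaf 0)) (.node 3335 (.leaf 0) (.leaf 0)))) (.node 3340 (.node 3338 (.node 3337 (.leaf 0) (.leaf 0)) (.node 3339 (.leaf 0) (.leaf 0))) (.node 3342 (.node 3341 (.leaf 0) (.leaf 0)) (.node 3343 (.leaf 0) (.leaf 0))))) (.node 3352 (.node 3348 (.node 3346 (.node 3345 (.leaf 0) (.leaf 0)) (.node 3347 (.leaf 0) (.leaf 0))) (.node 3350 (.node 3349 (.leaf 0) (.leaf 0)) (.node 3351 (.leaf 0) (.leaf 0)))) (.node 3356 (.node 3354 (.node 3353 (.leaf 0) (.leaf 0)) (.node 3355 (.leaf 0) (.leaf 0))) (.node 3358 (.node 3357 (.leaf 0) (.leaf 0)) (.node 3359 (.leaf 0) (.leaf 0))))))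

def fix240PB105 : Bst := (.node 3376 (.node 3368 (.node 3364 (.node 3362 (.node 3361 (.leaf 0) (.leaf 0)) (.node 3363 (.leaf 0) (.leaf 0))) (.node 3366 (.node 3365 (.leaf 0) (.leaf 0)) (.node 3367 (.leaf 0) (.leaf 0)))) (.node 3372 (.node 3370 (.node 3369 (.leaf 0) (.leaf 0)) (.node 3371 (.leaf 0) (.leaf 0))) (.node 3374 (.node 3373 (.leaf 0) (.leaf 0)) (.node 3375 (.leaf 0) (.leaf 0))))) (.node 3384 (.node 3380 (.node 3378 (.node 3377 (.leaf 0) (.leaf 0)) (.node 3379 (.leaf 0) (.leaf 0))) (.node 3382 (.node 3381 (.leaf 0) (.leaf 0)) (.node 3383 (.leaf 0) (.leaf 0)))) (.node 3388 (.node 3386 (.node 3385 (.leaf 0) (.leaf 0)) (.node 3387 (.leaf 0) (.leaf 0))) (.node 3390 (.node 3389 (.leaf 0) (.leaf 0)) (.node 3391 (.leaf 0) (.leaf 0))))))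

def fix240PB106 : Bst := (.node 3408 (.node 3400 (.node 3396 (.node 3394 (.node 3393 (.leaf 0) (.leaf 0)) (.node 3395 (.leaf 0) (.leaf 0))) (.node 3398 (.node 3397 (.leaf 0) (.leaf 0)) (.node 3399 (.leaf 0) (.leaf 0)))) (.node 3404 (.node 3402 (.node 3401 (.leaf 0) (.leaf 0)) (.node 3403 (.leaf 0) (.leaf 0))) (.node 3406 (.node 3405 (.leaf 0) (.leaf 0)) (.node 3407 (.leaf 0) (.leaf 0))))) (.node 3416 (.node 3412 (.node 3410 (.node 3409 (.leaf 0) (.leaf 0)) (.node 3411 (.leaf 0) (.leaf 0))) (.node 3414 (.node 3413 (.leaf 0) (.leaf 0)) (.node 3415 (.leaf 0) (.leaf 0)))) (.node 3420 (.node 3418 (.node 3417 (.leaf 0) (.leaf 0)) (.node 3419 (.leaf 0) (.leaf 0))) (.node 3422 (.node 3421 (.leaf 0) (.leaf 0)) (.node 3423 (.leaf 0) (.leaf 0))))))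

def fix240PB107 : Bst := (.node 3440 (.node 3432 (.node 3428 (.node 3426 (.node 3425 (.leaf 0) (.leaf 0)) (.node 3427 (.leaf 0) (.leaf 0))) (.node 3430 (.node 3429 (.leaf 0) (.leaf 0)) (.node 3431 (.leaf 0) (.leaf 0)))) (.node 3436 (.node 3434 (.node 3433 (.leaf 0) (.leaf 0)) (.node 3435 (.leaf 0) (.leaf 0))) (.node 3438 (.node 3437 (.leaf 0) (.leaf 0)) (.node 3439 (.leaf 0) (.leaf 0))))) (.node 3448 (.node 3444 (.node 3442 (.node 3441 (.leaf 0) (.leaf 0)) (.node 3443 (.leaf 0) (.leaf 0))) (.node 3446 (.node 3445 (.leaf 0) (.leaf 0)) (.node 3447 (.leaf 0) (.leaf 0)))) (.node 3452 (.node 3450 (.node 3449 (.leaf 0) (.leaf 0)) (.node 3451 (.leaf 0) (.leaf 0))) (.node 3454 (.node 3453 (.leaf 0) (.leaf 0)) (.node 3455 (.leaf 0) (.leaf 0))))))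

def fix240PB108 : Bst := (.node 3472 (.node 3464 (.node 3460 (.node 3458 (.node 3457 (.leaf 0) (.leaf 0)) (.node 3459 (.leaf 0) (.leaf 0))) (.node 3462 (.node 3461 (.leaf 0) (.leaf 0)) (.node 3463 (.leaf 0) (.leaf 0)))) (.node 3468 (.node 3466 (.node 3465 (.leaf 0) (.leaf 0)) (.node 3467 (.leaf 0) (.leaf 0))) (.node 3470 (.node 3469 (.leaf 0) (.leaf 0)) (.node 3471 (.leaf 0) (.leaf 0))))) (.node 3480 (.node 3476 (.node 3474 (.node 3473 (.leaf 0) (.leaf 0)) (.node 3475 (.leaf 0) (.leaf 0))) (.node 3478 (.node 3477 (.leaf 0) (.leaf 0)) (.node 3479 (.leaf 0) (.leaf 0)))) (.node 3484 (.node 3482 (.node 3481 (.leaf 0) (.leaf 0)) (.node 3483 (.leaf 0) (.leaf 0))) (.node 3486 (.node 3485 (.leaf 0) (.leaf 0)) (.node 3487 (.leaf 0) (.leaf 0))))))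

def fix240PB109 : Bst := (.node 3504 (.node 3496 (.node 3492 (.node 3490 (.node 3489 (.leaf 0) (.leaf 0)) (.node 3491 (.leaf 0) (.leaf 0))) (.node 3494 (.node 3493 (.leaf 0) (.leaf 0)) (.node 3495 (.leaf 0) (.leaf 0)))) (.node 3500 (.node 3498 (.node 3497 (.leaf 0) (.leaf 0)) (.node 3499 (.leaf 0) (.leaf 0))) (.node 3502 (.node 3501 (.leaf 0) (.leaf 0)) (.node 3503 (.leaf 0) (.leaf 0))))) (.node 3512 (.node 3508 (.node 3506 (.node 3505 (.leaf 0) (.leaf 0)) (.node 3507 (.leaf 0) (.leaf 0))) (.node 3510 (.node 3509 (.leaf 0) (.leaf 0)) (.node 3511 (.leaf 0) (.leaf 0)))) (.node 3516 (.node 3514 (.node 3513 (.leaf 0) (.leaf 0)) (.node 3515 (.leaf 0) (.leaf 0))) (.node 3518 (.node 3517 (.leaf 0) (.leaf 0)) (.node 3519 (.leaf 0) (.leaf 0))))))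

def fix240PB110 : Bst := (.node 3536 (.node 3528 (.node 3524 (.node 3522 (.node 3521 (.leaf 0) (.leaf 0)) (.node 3523 (.leaf 0) (.leaf 0))) (.node 3526 (.node 3525 (.leaf 0) (.leaf 0)) (.node 3527 (.leaf 0) (.leaf 0)))) (.node 3532 (.node 3530 (.node 3529 (.leaf 0) (.leaf 0)) (.node 3531 (.leaf 0) (.leaf 0))) (.node 3534 (.node 3533 (.leaf 0) (.leaf 0)) (.node 3535 (.leaf 0) (.leaf 0))))) (.node 3544 (.node 3540 (.node 3538 (.node 3537 (.leaf 0) (.leaf 0)) (.node 3539 (.leaf 0) (.leaf 0))) (.node 3542 (.node 3541 (.leaf 0) (.leaf 0)) (.node 3543 (.leaf 0) (.leaf 0)))) (.node 3548 (.node 3546 (.node 3545 (.leaf 0) (.leaf 0)) (.node 3547 (.leaf 0) (.leaf 0))) (.node 3550 (.node 3549 (.leaf 0) (.leaf 0)) (.node 3551 (.leaf 0) (.leaf 0))))))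

def fix240PB111 : Bst := (.node 3568 (.node 3560 (.node 3556 (.node 3554 (.node 3553 (.leaf 0) (.leaf 0)) (.node 3555 (.leaf 0) (.leaf 0))) (.node 3558 (.node 3557 (.leaf 0) (.leaf 0)) (.node 3559 (.leaf 0) (.leaf 0)))) (.node 3564 (.node 3562 (.node 3561 (.leaf 0) (.leaf 0)) (.node 3563 (.leaf 0) (.leaf 0))) (.node 3566 (.node 3565 (.leaf 0) (.leaf 0)) (.node 3567 (.leaf 0) (.leaf 0))))) (.node 3576 (.node 3572 (.node 3570 (.node 3569 (.leaf 0) (.leaf 0)) (.node 3571 (.leaf 0) (.leaf 0))) (.node 3574 (.node 3573 (.leaf 0) (.leaf 0)) (.node 3575 (.leaf 0) (.leaf 0)))) (.node 3580 (.node 3578 (.node 3577 (.leaf 0) (.leaf 0)) (.node 3579 (.leaf 0) (.leaf 0))) (.node 3582 (.node 3581 (.leaf 0) (.leaf 0)) (.node 3583 (.leaf 0) (.leaf 0))))))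

def fix240PB112 : Bst := (.node 3600 (.node 3592 (.node 3588 (.node 3586 (.node 3585 (.leaf 0) (.leaf 0)) (.node 3587 (.leaf 0) (.leaf 0))) (.node 3590 (.node 3589 (.leaf 0) (.leaf 0)) (.node 3591 (.leaf 0) (.leaf 0)))) (.node 3596 (.node 3594 (.node 3593 (.leaf 0x4f000340007200000) (.leaf 0)) (.node 3595 (.leaf 0) (.leaf 0))) (.node 3598 (.node 3597 (.leaf 0) (.leaf 0)) (.node 3599 (.leaf 0x39000c20000000000) (.leaf 0))))) (.node 3608 (.node 3604 (.node 3602 (.node 3601 (.leaf 0) (.leaf 0)) (.node 3603 (.leaf 0) (.leaf 0x670004e0000000000))) (.node 3606 (.node 3605 (.leaf 0) (.leaf 0)) (.node 3607 (.leaf 0) (.leaf 0)))) (.node 3612 (.node 3610 (.node 3609 (.leaf 0) (.leaf 0)) (.node 3611 (.leaf 0) (.leaf 0))) (.node 3614 (.node 3613 (.leaf 0) (.leaf 0)) (.node 3615 (.leaf 0) (.leaf 0))))))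

def fix240PB113 : Bst := (.node 3632 (.node 3624 (.node 3620 (.node 3618 (.node 3617 (.leaf 0) (.leaf 0)) (.node 3619 (.leaf 0) (.leaf 0))) (.node 3622 (.node 3621 (.leaf 0) (.leaf 0)) (.node 3623 (.leaf 0) (.leaf 0)))) (.node 3628 (.node 3626 (.node 3625 (.leaf 0) (.leaf 0)) (.node 3627 (.leaf 0) (.leaf 0))) (.node 3630 (.node 3629 (.leaf 0) (.leaf 0)) (.node 3631 (.leaf 0) (.leaf 0))))) (.node 3640 (.node 3636 (.node 3634 (.node 3633 (.leaf 0) (.leaf 0)) (.node 3635 (.leaf 0) (.leaf 0))) (.node 3638 (.node 3637 (.leaf 0) (.leaf 0)) (.node 3639 (.leaf 0) (.leaf 0)))) (.node 3644 (.node 3642 (.node 3641 (.leaf 0) (.leaf 0)) (.node 3643 (.leaf 0) (.leaf 0))) (.node 3646 (.node 3645 (.leaf 0) (.leaf 0)) (.node 3647 (.leaf 0) (.leaf 0))))))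

def fix240PB114 : Bst := (.node 3664 (.node 3656 (.node 3652 (.node 3650 (.node 3649 (.leaf 0) (.leaf 0)) (.node 3651 (.leaf 0) (.leaf 0))) (.node 3654 (.node 3653 (.leaf 0) (.leaf 0)) (.node 3655 (.leaf 0) (.leaf 0)))) (.node 3660 (.node 3658 (.node 3657 (.leaf 0) (.leaf 0)) (.node 3659 (.leaf 0) (.leaf 0))) (.node 3662 (.node 3661 (.leaf 0) (.leaf 0)) (.node 3663 (.leaf 0) (.leaf 0))))) (.node 3672 (.node 3668 (.node 3666 (.node 3665 (.leaf 0) (.leaf 0)) (.node 3667 (.leaf 0) (.leaf 0))) (.node 3670 (.node 3669 (.leaf 0) (.leaf 0)) (.node 3671 (.leaf 0) (.leaf 0)))) (.node 3676 (.node 3674 (.node 3673 (.leaf 0) (.leaf 0)) (.node 3675 (.leaf 0) (.leaf 0))) (.node 3678 (.node 3677 (.leaf 0) (.leaf 0)) (.node 3679 (.leaf 0) (.leaf 0))))))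

def fix240PB115 : Bst := (.node 3696 (.node 3688 (.node 3684 (.node 3682 (.node 3681 (.leaf 0) (.leaf 0)) (.node 3683 (.leaf 0) (.leaf 0))) (.node 3686 (.node 3685 (.leaf 0) (.leaf 0)) (.node 3687 (.leaf 0) (.leaf 0)))) (.node 3692 (.node 3690 (.node 3689 (.leaf 0) (.leaf 0)) (.node 3691 (.leaf 0) (.leaf 0))) (.node 3694 (.node 3693 (.leaf 0) (.leaf 0)) (.node 3695 (.leaf 0) (.leaf 0))))) (.node 3704 (.node 3700 (.node 3698 (.node 3697 (.leaf 0) (.leaf 0)) (.node 3699 (.leaf 0) (.leaf 0))) (.node 3702 (.node 3701 (.leaf 0) (.leaf 0)) (.node 3703 (.leaf 0) (.leaf 0)))) (.node 3708 (.node 3706 (.node 3705 (.leaf 0) (.leaf 0)) (.node 3707 (.leaf 0) (.leaf 0))) (.node 3710 (.node 3709 (.leaf 0) (.leaf 0)) (.node 3711 (.leaf 0) (.leaf 0))))))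

def fix240PB116 : Bst := (.node 3728 (.node 3720 (.node 3716 (.node 3714 (.node 3713 (.leaf 0) (.leaf 0)) (.node 3715 (.leaf 0) (.leaf 0))) (.node 3718 (.node 3717 (.leaf 0) (.leaf 0)) (.node 3719 (.leaf 0) (.leaf 0)))) (.node 3724 (.node 3722 (.node 3721 (.leaf 0) (.leaf 0)) (.node 3723 (.leaf 0) (.leaf 0))) (.node 3726 (.node 3725 (.leaf 0) (.leaf 0)) (.node 3727 (.leaf 0) (.leaf 0))))) (.node 3736 (.node 3732 (.node 3730 (.node 3729 (.leaf 0) (.leaf 0)) (.node 3731 (.leaf 0) (.leaf 0))) (.node 3734 (.node 3733 (.leaf 0) (.leaf 0)) (.node 3735 (.leaf 0) (.leaf 0)))) (.node 3740 (.node 3738 (.node 3737 (.leaf 0) (.leaf 0)) (.node 3739 (.leaf 0) (.leaf 0))) (.node 3742 (.node 3741 (.leaf 0) (.leaf 0)) (.node 3743 (.leaf 0) (.leaf 0))))))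

def fix240PB117 : Bst := (.node 3759 (.node 3751 (.node 3747 (.node 3745 (.leaf 0) (.node 3746 (.leaf 0) (.leaf 0))) (.node 3749 (.node 3748 (.leaf 0) (.leaf 0)) (.node 3750 (.leaf 0) (.leaf 0)))) (.node 3755 (.node 3753 (.node 3752 (.leaf 0) (.leaf 0)) (.node 3754 (.leaf 0x50000a700000) (.leaf 0))) (.node 3757 (.node 3756 (.leaf 0) (.leaf 0)) (.node 3758 (.leaf 0) (.leaf 0))))) (.node 3767 (.node 3763 (.node 3761 (.node 3760 (.leaf 0) (.leaf 0)) (.node 3762 (.leaf 0) (.leaf 0))) (.node 3765 (.node 3764 (.leaf 0) (.leaf 0)) (.node 3766 (.leaf 0) (.leaf 0)))) (.node 3771 (.node 3769 (.node 3768 (.leaf 0) (.leaf 0)) (.node 3770 (.leaf 0) (.leaf 0))) (.node 3773 (.node 3772 (.leaf 0) (.leaf 0)) (.node 3774 (.leaf 0xe0000000000000000) (.leaf 0))))))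

/-- An orbit of fixed points (positions) -/
def fix240P : Tab := ⟨(.node 1888 (.node 928 (.node 448 (.node 224 (.node 96 (.node 32 fix240PB0 (.node 64 fix240PB1 fix240PB2)) (.node 160 (.node 128 fix240PB3 fix240PB4) (.node 192 fix240PB5 fix240PB6))) (.node 320 (.node 256 fix240PB7 (.node 288 fix240PB8 fix240PB9)) (.node 384 (.node 352 fix240PB10 fix240PB11) (.node 416 fix240PB12 fix240PB13)))) (.node 672 (.node 544 (.node 480 fix240PB14 (.node 512 fix240PB15 fix240PB16)) (.node 608 (.node 576 fix240PB17 fix240PB18) (.node 640 fix240PB19 fix240PB20))) (.node 800 (.node 736 (.node 704 fix240PB21 fix240PB22) (.node 768 fix240PB23 fix240PB24)) (.node 864 (.node 832 fix240PB25 fix240PB26) (.node 896 fix240PB27 fix240PB28))))) (.node 1408 (.node 1152 (.node 1024 (.node 960 fix240PB29 (.node 992 fix240PB30 fix240PB31)) (.node 1088 (.node 1056 fix240PB32 fix240PB33) (.node 1120 fix240PB34 fix240PB35))) (.node 1280 (.node 1216 (.node 1184 fix240PB36 fix240PB37) (.node 1248 fix240PB38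 fix240PB39)) (.node 1344 (.node 1312 fix240PB40 fix240PB41) (.node 1376 fix240PB42 fix240PB43)))) (.node 1632 (.node 1504 (.node 1440 fix240PB44 (.node 1472 fix240PB45 fix240PB46)) (.node 1568 (.node 1536 fix240PB47 fix240PB48) (.node 1600 fix240PB49 fix240PB50))) (.node 1760 (.node 1696 (.node 1664 fix240PB51 fix240PB52) (.node 1728 fix240PB53 fix240PB54)) (.node 1824 (.node 1792 fix240PB55 fix240PB56) (.node 1856 fix240PB57 fix240PB58)))))) (.node 2816 (.node 2336 (.node 2112 (.node 1984 (.node 1920 fix240PB59 (.node 1952 fix240PB60 fix240PB61)) (.node 2048 (.node 2016 fix240PB62 fix240PB63) (.node 2080 fix240PB64 fix240PB65))) (.node 2208 (.node 2144 fix240PB66 (.node 2176 fix240PB67 fix240PB68)) (.node 2272 (.node 2240 fix240PB69 fix240PB70) (.node 2304 fix240PB71 fix240PB72)))) (.node 2560 (.node 2432 (.node 2368 fix240PB73 (.node 2400 fix240PB74 fix240PB75)) (.node 2496 (.node 2464 fix240PB76 fix240PB77) (.node 2528 fix240PB78 fix240PB79))) (.node 2688 (.node 2624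 (.node 2592 fix240PB80 fix240PB81) (.node 2656 fix240PB82 fix240PB83)) (.node 2752 (.node 2720 fix240PB84 fix240PB85) (.node 2784 fix240PB86 fix240PB87))))) (.node 3296 (.node 3040 (.node 2912 (.node 2848 fix240PB88 (.node 2880 fix240PB89 fix240PB90)) (.node 2976 (.node 2944 fix240PB91 fix240PB92) (.node 3008 fix240PB93 fix240PB94))) (.node 3168 (.node 3104 (.node 3072 fix240PB95 fix240PB96) (.node 3136 fix240PB97 fix240PB98)) (.node 3232 (.node 3200 fix240PB99 fix240PB100) (.node 3264 fix240PB101 fix240PB102)))) (.node 3520 (.node 3392 (.node 3328 fix240PB103 (.node 3360 fix240PB104 fix240PB105)) (.node 3456 (.node 3424 fix240PB106 fix240PB107) (.node 3488 fix240PB108 fix240PB109))) (.node 3648 (.node 3584 (.node 3552 fix240PB110 fix240PB111) (.node 3616 fix240PB112 fix240PB113)) (.node 3712 (.node 3680 fix240PB114 fix240PB115) (.node 3744 fix240PB116 fix240PB117))))))), 20, 2⟩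

/-- An orbit of fixed points -/
def fix240 : Wide.Orb := ⟨240, fix240E, fix240P⟩

def fix120EB0 : Bst := (.node 15 (.node 7 (.node 3 (.node 1 (.leaf 0x2000000006a00001000000013800000000000001200000000000000f) (.node 2 (.leaf 0x30006d00002000020015000000000020014f00001000010014d) (.leaf 0x200005006e100002000040025b00000000040014e000010000300173))) (.node 5 (.node 4 (.leaf 0xa0025a000020000900181000020000800174000000000600b9f) (.leaf 0x10000c01be1000010000b00175000000000b006e2000010000a0125e)) (.node 6 (.leaf 0x10000e01d1e000000000e00182000010000d00abb000020000c006dd) (.leaf 0x2000100125d00000000100125f000020000f002d6000010000f0120b)))) (.node 11 (.node 9 (.node 8 (.leaf 0x14006dc000020001301d2d000020001201209000010001100abc) (.leaf 0x2000160018d000010001601c9a0000200015006e0000010001401c9e)) (.node 10 (.leaf 0x1000190018a00000000190018e00000000180120a000020001701c73) (.leaf 0x10001d01260000000001d01208000010001b019f8000000001b0017a))) (.node 13 (.node 12 (.leaf 0x20002001c5f000000002001cd0000010001f0124e000010001e01c99)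 (.leaf 0x100024006de000000002401c7200000000230018c00000000210095a)) (.node 14 (.leaf 0x2000270018600000000270018b00002000260018300002000250015f) (.leaf 0x200029001630000000029019f900002000280017b000010002800179))))) (.node 22 (.node 18 (.node 16 (.leaf 0x20002b006df000000002b01261000020002a00160000010002a00177) (.node 17 (.leaf 0x20003201c9b00002000310044f000000002d019ed000020002c01c70) (.leaf 0x10003501c6f00000000350018400000000340015e000020003300165))) (.node 20 (.node 19 (.leaf 0x380017800001000370006c000000003700185000020003600259) (.leaf 0x20003a001760000100039006db00000000390017c00002000380120c)) (.node 21 (.leaf 0x10003d01c71000000003d00161000010003b00164000000003b00162) (.leaf 0x1000440044d0000100043006e800000000420025c000010004000257)))) (.node 26 (.node 24 (.node 23 (.leaf 0x20004701be20000200046002560000100046006e900002000450015d) (.leaf 0x4e006da000020004d006e5000000004a0006b00000000480017f)) (.node 25 (.leaf 0x1000520025800002000500015c00001000500044e000020004e006e3)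 (.leaf 0x200055001870000200054002d4000020005301c5e0000200052006d9))) (.node 28 (.node 27 (.leaf 0x10005e006e4000000005e006e6000020005d000100000200056006e7) (.leaf 0x66002d5000020006100168000010006000abd000020005f0016a)) (.node 29 (.leaf 0x10006c00169000020006b0170e00001000690014c000000006900011) (.leaf 0x2000730018800000000720016b000020006f00189000020006d01bf4))))))

/-- The other orbit of fixed points (entries) -/
def fix120E : Tab := ⟨fix120EB0, 60, 2⟩

def fix120PB0 : Bst := (.node 16 (.node 8 (.node 4 (.node 2 (.node 1 (.leaf 0) (.leaf 0)) (.node 3 (.leaf 0) (.leaf 0))) (.node 6 (.node 5 (.leaf 0x10007000069) (.leaf 0)) (.node 7 (.leaf 0) (.leaf 0)))) (.node 12 (.node 10 (.node 9 (.leaf 0) (.leaf 0)) (.node 11 (.leaf 0) (.leaf 0))) (.node 14 (.node 13 (.leaf 0) (.leaf 0)) (.node 15 (.leaf 0) (.leaf 0))))) (.node 24 (.node 20 (.node 18 (.node 17 (.leaf 0) (.leaf 0)) (.node 19 (.leaf 0) (.leaf 0))) (.node 22 (.node 21 (.leaf 0) (.leaf 0)) (.node 23 (.leaf 0) (.leaf 0))))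 (.node 28 (.node 26 (.node 25 (.leaf 0) (.leaf 0)) (.node 27 (.leaf 0x5d000030000000000) (.leaf 0x70004a))) (.node 30 (.node 29 (.leaf 0) (.leaf 0)) (.node 31 (.leaf 0) (.leaf 0))))))

def fix120PB1 : Bst := (.node 48 (.node 40 (.node 36 (.node 34 (.node 33 (.leaf 0) (.leaf 0)) (.node 35 (.leaf 0) (.leaf 0))) (.node 38 (.node 37 (.leaf 0) (.leaf 0)) (.node 39 (.leaf 0) (.leaf 0)))) (.node 44 (.node 42 (.node 41 (.leaf 0) (.leaf 0)) (.node 43 (.leaf 0) (.leaf 0))) (.node 46 (.node 45 (.leaf 0) (.leaf 0)) (.node 47 (.leaf 0) (.leaf 0))))) (.node 56 (.node 52 (.node 50 (.node 49 (.leaf 0) (.leaf 0)) (.node 51 (.leaf 0) (.leaf 0))) (.node 54 (.node 53 (.leaf 0) (.leaf 0)) (.node 55 (.leaf 0) (.leaf 0)))) (.node 60 (.node 58 (.node 57 (.leaf 0) (.leaf 0)) (.node 59 (.leaf 0) (.leaf 0))) (.node 62 (.node 61 (.leaf 0) (.leaf 0)) (.node 63 (.leaf 0) (.leaf 0))))))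

def fix120PB2 : Bst := (.node 80 (.node 72 (.node 68 (.node 66 (.node 65 (.leaf 0) (.leaf 0)) (.node 67 (.leaf 0) (.leaf 0))) (.node 70 (.node 69 (.leaf 0) (.leaf 0)) (.node 71 (.leaf 0) (.leaf 0)))) (.node 76 (.node 74 (.node 73 (.leaf 0) (.leaf 0)) (.node 75 (.leaf 0) (.leaf 0))) (.node 78 (.node 77 (.leaf 0) (.leaf 0)) (.node 79 (.leaf 0x2) (.leaf 0))))) (.node 88 (.node 84 (.node 82 (.node 81 (.leaf 0) (.leaf 0)) (.node 83 (.leaf 0) (.leaf 0x5000090000400071))) (.node 86 (.node 85 (.leaf 0x6) (.leaf 0)) (.node 87 (.leaf 0) (.leaf 0x34000450005800062)))) (.node 92 (.node 90 (.node 89 (.leaf 0x3b00050000520003d) (.leaf 0x4400051)) (.node 91 (.leaf 0x760006c000730006e) (.leaf 0))) (.node 94 (.node 93 (.leaf 0x8000000000000000) (.leaf 0x3c0004f000120000d)) (.node 95 (.leaf 0x3900028000380004b) (.leaf 0x5c00000000000004d))))))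

def fix120PB3 : Bst := (.node 112 (.node 104 (.node 100 (.node 98 (.node 97 (.leaf 0x35000160000e00000) (.leaf 0x67000370004900046)) (.node 99 (.leaf 0x36000270007500077) (.leaf 0x260002300031))) (.node 102 (.node 101 (.leaf 0) (.leaf 0)) (.node 103 (.leaf 0) (.leaf 0)))) (.node 108 (.node 106 (.node 105 (.leaf 0) (.leaf 0)) (.node 107 (.leaf 0) (.leaf 0))) (.node 110 (.node 109 (.leaf 0) (.leaf 0)) (.node 111 (.leaf 0) (.leaf 0))))) (.node 120 (.node 116 (.node 114 (.node 113 (.leaf 0) (.leaf 0)) (.node 115 (.leaf 0) (.leaf 0))) (.node 118 (.node 117 (.leaf 0) (.leaf 0)) (.node 119 (.leaf 0) (.leaf 0)))) (.node 124 (.node 122 (.node 121 (.leaf 0) (.leaf 0)) (.node 123 (.leaf 0) (.leaf 0))) (.node 126 (.node 125 (.leaf 0) (.leaf 0)) (.node 127 (.leaf 0) (.leaf 0))))))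

def fix120PB4 : Bst := (.node 144 (.node 136 (.node 132 (.node 130 (.node 129 (.leaf 0) (.leaf 0)) (.node 131 (.leaf 0) (.leaf 0))) (.node 134 (.node 133 (.leaf 0) (.leaf 0)) (.node 135 (.leaf 0) (.leaf 0)))) (.node 140 (.node 138 (.node 137 (.leaf 0) (.leaf 0)) (.node 139 (.leaf 0) (.leaf 0))) (.node 142 (.node 141 (.leaf 0) (.leaf 0)) (.node 143 (.leaf 0) (.leaf 0))))) (.node 152 (.node 148 (.node 146 (.node 145 (.leaf 0) (.leaf 0)) (.node 147 (.leaf 0) (.leaf 0))) (.node 150 (.node 149 (.leaf 0) (.leaf 0x540005a0000000000)) (.node 151 (.leaf 0xa0000f0004800063) (.leaf 0x55)))) (.node 156 (.node 154 (.node 153 (.leaf 0) (.leaf 0)) (.node 155 (.leaf 0) (.leaf 0))) (.node 158 (.node 157 (.leaf 0) (.leaf 0)) (.node 159 (.leaf 0) (.leaf 0))))))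

def fix120PB5 : Bst := (.node 176 (.node 168 (.node 164 (.node 162 (.node 161 (.leaf 0) (.leaf 0)) (.node 163 (.leaf 0) (.leaf 0))) (.node 166 (.node 165 (.leaf 0) (.leaf 0)) (.node 167 (.leaf 0) (.leaf 0)))) (.node 172 (.node 170 (.node 169 (.leaf 0) (.leaf 0)) (.node 171 (.leaf 0) (.leaf 0))) (.node 174 (.node 173 (.leaf 0) (.leaf 0)) (.node 175 (.leaf 0) (.leaf 0))))) (.node 184 (.node 180 (.node 178 (.node 177 (.leaf 0) (.leaf 0)) (.node 179 (.leaf 0) (.leaf 0))) (.node 182 (.node 181 (.leaf 0) (.leaf 0x190006f00066)) (.node 183 (.leaf 0) (.leaf 0)))) (.node 188 (.node 186 (.node 185 (.leaf 0) (.leaf 0)) (.node 187 (.leaf 0) (.leaf 0))) (.node 190 (.node 189 (.leaf 0) (.leaf 0)) (.node 191 (.leaf 0) (.leaf 0))))))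

def fix120PB6 : Bst := (.node 208 (.node 200 (.node 196 (.node 194 (.node 193 (.leaf 0) (.leaf 0)) (.node 195 (.leaf 0) (.leaf 0))) (.node 198 (.node 197 (.leaf 0) (.leaf 0)) (.node 199 (.leaf 0) (.leaf 0)))) (.node 204 (.node 202 (.node 201 (.leaf 0) (.leaf 0)) (.node 203 (.leaf 0) (.leaf 0))) (.node 206 (.node 205 (.leaf 0) (.leaf 0)) (.node 207 (.leaf 0) (.leaf 0))))) (.node 216 (.node 212 (.node 210 (.node 209 (.leaf 0) (.leaf 0)) (.node 211 (.leaf 0) (.leaf 0))) (.node 214 (.node 213 (.leaf 0) (.leaf 0)) (.node 215 (.leaf 0) (.leaf 0)))) (.node 220 (.node 218 (.node 217 (.leaf 0) (.leaf 0)) (.node 219 (.leaf 0) (.leaf 0))) (.node 222 (.node 221 (.leaf 0) (.leaf 0)) (.node 223 (.leaf 0) (.leaf 0))))))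

def fix120PB7 : Bst := (.node 240 (.node 232 (.node 228 (.node 226 (.node 225 (.leaf 0) (.leaf 0)) (.node 227 (.leaf 0) (.leaf 0))) (.node 230 (.node 229 (.leaf 0) (.leaf 0)) (.node 231 (.leaf 0) (.leaf 0)))) (.node 236 (.node 234 (.node 233 (.leaf 0) (.leaf 0)) (.node 235 (.leaf 0) (.leaf 0))) (.node 238 (.node 237 (.leaf 0) (.leaf 0)) (.node 239 (.leaf 0) (.leaf 0))))) (.node 248 (.node 244 (.node 242 (.node 241 (.leaf 0) (.leaf 0)) (.node 243 (.leaf 0) (.leaf 0))) (.node 246 (.node 245 (.leaf 0) (.leaf 0)) (.node 247 (.leaf 0) (.leaf 0)))) (.node 252 (.node 250 (.node 249 (.leaf 0) (.leaf 0)) (.node 251 (.leaf 0) (.leaf 0))) (.node 254 (.node 253 (.leaf 0) (.leaf 0)) (.node 255 (.leaf 0) (.leaf 0))))))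

def fix120PB8 : Bst := (.node 272 (.node 264 (.node 260 (.node 258 (.node 257 (.leaf 0) (.leaf 0)) (.node 259 (.leaf 0) (.leaf 0))) (.node 262 (.node 261 (.leaf 0) (.leaf 0)) (.node 263 (.leaf 0) (.leaf 0)))) (.node 268 (.node 266 (.node 265 (.leaf 0) (.leaf 0)) (.node 267 (.leaf 0) (.leaf 0))) (.node 270 (.node 269 (.leaf 0) (.leaf 0)) (.node 271 (.leaf 0) (.leaf 0))))) (.node 280 (.node 276 (.node 274 (.node 273 (.leaf 0) (.leaf 0)) (.node 275 (.leaf 0) (.leaf 0x42000610005700000))) (.node 278 (.node 277 (.leaf 0) (.leaf 0)) (.node 279 (.leaf 0) (.leaf 0)))) (.node 284 (.node 282 (.node 281 (.leaf 0) (.leaf 0)) (.node 283 (.leaf 0) (.leaf 0))) (.node 286 (.node 285 (.leaf 0) (.leaf 0)) (.node 287 (.leaf 0) (.leaf 0))))))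

def fix120PB9 : Bst := (.node 304 (.node 296 (.node 292 (.node 290 (.node 289 (.leaf 0) (.leaf 0)) (.node 291 (.leaf 0) (.leaf 0))) (.node 294 (.node 293 (.leaf 0) (.leaf 0)) (.node 295 (.leaf 0) (.leaf 0)))) (.node 300 (.node 298 (.node 297 (.leaf 0) (.leaf 0)) (.node 299 (.leaf 0) (.leaf 0))) (.node 302 (.node 301 (.leaf 0) (.leaf 0)) (.node 303 (.leaf 0) (.leaf 0))))) (.node 312 (.node 308 (.node 306 (.node 305 (.leaf 0) (.leaf 0)) (.node 307 (.leaf 0) (.leaf 0))) (.node 310 (.node 309 (.leaf 0) (.leaf 0)) (.node 311 (.leaf 0) (.leaf 0)))) (.node 316 (.node 314 (.node 313 (.leaf 0) (.leaf 0)) (.node 315 (.leaf 0) (.leaf 0))) (.node 318 (.node 317 (.leaf 0) (.leaf 0)) (.node 319 (.leaf 0) (.leaf 0))))))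

def fix120PB10 : Bst := (.node 336 (.node 328 (.node 324 (.node 322 (.node 321 (.leaf 0) (.leaf 0)) (.node 323 (.leaf 0) (.leaf 0))) (.node 326 (.node 325 (.leaf 0) (.leaf 0)) (.node 327 (.leaf 0) (.leaf 0)))) (.node 332 (.node 330 (.node 329 (.leaf 0) (.leaf 0)) (.node 331 (.leaf 0) (.leaf 0))) (.node 334 (.node 333 (.leaf 0) (.leaf 0)) (.node 335 (.leaf 0) (.leaf 0))))) (.node 344 (.node 340 (.node 338 (.node 337 (.leaf 0) (.leaf 0)) (.node 339 (.leaf 0) (.leaf 0))) (.node 342 (.node 341 (.leaf 0) (.leaf 0)) (.node 343 (.leaf 0) (.leaf 0)))) (.node 348 (.node 346 (.node 345 (.leaf 0) (.leaf 0)) (.node 347 (.leaf 0) (.leaf 0))) (.node 350 (.node 349 (.leaf 0) (.leaf 0)) (.node 351 (.leaf 0) (.leaf 0))))))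

def fix120PB11 : Bst := (.node 368 (.node 360 (.node 356 (.node 354 (.node 353 (.leaf 0) (.leaf 0)) (.node 355 (.leaf 0) (.leaf 0))) (.node 358 (.node 357 (.leaf 0) (.leaf 0)) (.node 359 (.leaf 0) (.leaf 0)))) (.node 364 (.node 362 (.node 361 (.leaf 0) (.leaf 0)) (.node 363 (.leaf 0) (.leaf 0))) (.node 366 (.node 365 (.leaf 0) (.leaf 0)) (.node 367 (.leaf 0) (.leaf 0))))) (.node 376 (.node 372 (.node 370 (.node 369 (.leaf 0) (.leaf 0)) (.node 371 (.leaf 0) (.leaf 0))) (.node 374 (.node 373 (.leaf 0) (.leaf 0)) (.node 375 (.leaf 0) (.leaf 0)))) (.node 380 (.node 378 (.node 377 (.leaf 0) (.leaf 0)) (.node 379 (.leaf 0) (.leaf 0))) (.node 382 (.node 381 (.leaf 0) (.leaf 0)) (.node 383 (.leaf 0) (.leaf 0))))))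

def fix120PB12 : Bst := (.node 400 (.node 392 (.node 388 (.node 386 (.node 385 (.leaf 0) (.leaf 0)) (.node 387 (.leaf 0) (.leaf 0))) (.node 390 (.node 389 (.leaf 0) (.leaf 0)) (.node 391 (.leaf 0) (.leaf 0)))) (.node 396 (.node 394 (.node 393 (.leaf 0) (.leaf 0)) (.node 395 (.leaf 0) (.leaf 0))) (.node 398 (.node 397 (.leaf 0) (.leaf 0)) (.node 399 (.leaf 0) (.leaf 0))))) (.node 408 (.node 404 (.node 402 (.node 401 (.leaf 0) (.leaf 0)) (.node 403 (.leaf 0) (.leaf 0))) (.node 406 (.node 405 (.leaf 0) (.leaf 0)) (.node 407 (.leaf 0) (.leaf 0)))) (.node 412 (.node 410 (.node 409 (.leaf 0) (.leaf 0)) (.node 411 (.leaf 0) (.leaf 0))) (.node 414 (.node 413 (.leaf 0) (.leaf 0)) (.node 415 (.leaf 0) (.leaf 0))))))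

def fix120PB13 : Bst := (.node 432 (.node 424 (.node 420 (.node 418 (.node 417 (.leaf 0) (.leaf 0)) (.node 419 (.leaf 0) (.leaf 0))) (.node 422 (.node 421 (.leaf 0) (.leaf 0)) (.node 423 (.leaf 0) (.leaf 0)))) (.node 428 (.node 426 (.node 425 (.leaf 0) (.leaf 0)) (.node 427 (.leaf 0) (.leaf 0))) (.node 430 (.node 429 (.leaf 0) (.leaf 0)) (.node 431 (.leaf 0) (.leaf 0))))) (.node 440 (.node 436 (.node 434 (.node 433 (.leaf 0) (.leaf 0)) (.node 435 (.leaf 0) (.leaf 0))) (.node 438 (.node 437 (.leaf 0) (.leaf 0)) (.node 439 (.leaf 0x4e0005f0006400000) (.leaf 0x3f00033000140001f)))) (.node 444 (.node 442 (.node 441 (.leaf 0x60000110000b00021) (.leaf 0x680006a0005e0006b)) (.node 443 (.leaf 0x5900056) (.leaf 0))) (.node 446 (.node 445 (.leaf 0) (.leaf 0)) (.node 447 (.leaf 0) (.leaf 0))))))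

def fix120PB14 : Bst := (.node 464 (.node 456 (.node 452 (.node 450 (.node 449 (.leaf 0) (.leaf 0)) (.node 451 (.leaf 0) (.leaf 0))) (.node 454 (.node 453 (.leaf 0) (.leaf 0)) (.node 455 (.leaf 0) (.leaf 0)))) (.node 460 (.node 458 (.node 457 (.leaf 0) (.leaf 0)) (.node 459 (.leaf 0) (.leaf 0))) (.node 462 (.node 461 (.leaf 0) (.leaf 0)) (.node 463 (.leaf 0) (.leaf 0))))) (.node 472 (.node 468 (.node 466 (.node 465 (.leaf 0) (.leaf 0)) (.node 467 (.leaf 0) (.leaf 0))) (.node 470 (.node 469 (.leaf 0) (.leaf 0)) (.node 471 (.leaf 0) (.leaf 0)))) (.node 476 (.node 474 (.node 473 (.leaf 0) (.leaf 0)) (.node 475 (.leaf 0) (.leaf 0))) (.node 478 (.node 477 (.leaf 0) (.leaf 0)) (.node 479 (.leaf 0) (.leaf 0))))))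

def fix120PB15 : Bst := (.node 496 (.node 488 (.node 484 (.node 482 (.node 481 (.leaf 0) (.leaf 0)) (.node 483 (.leaf 0) (.leaf 0))) (.node 486 (.node 485 (.leaf 0) (.leaf 0)) (.node 487 (.leaf 0) (.leaf 0)))) (.node 492 (.node 490 (.node 489 (.leaf 0) (.leaf 0)) (.node 491 (.leaf 0) (.leaf 0))) (.node 494 (.node 493 (.leaf 0) (.leaf 0)) (.node 495 (.leaf 0) (.leaf 0))))) (.node 504 (.node 500 (.node 498 (.node 497 (.leaf 0) (.leaf 0)) (.node 499 (.leaf 0) (.leaf 0))) (.node 502 (.node 501 (.leaf 0) (.leaf 0)) (.node 503 (.leaf 0) (.leaf 0)))) (.node 508 (.node 506 (.node 505 (.leaf 0) (.leaf 0)) (.node 507 (.leaf 0) (.leaf 0))) (.node 510 (.node 509 (.leaf 0) (.leaf 0)) (.node 511 (.leaf 0) (.leaf 0))))))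

def fix120PB16 : Bst := (.node 528 (.node 520 (.node 516 (.node 514 (.node 513 (.leaf 0) (.leaf 0)) (.node 515 (.leaf 0) (.leaf 0))) (.node 518 (.node 517 (.leaf 0) (.leaf 0)) (.node 519 (.leaf 0) (.leaf 0)))) (.node 524 (.node 522 (.node 521 (.leaf 0) (.leaf 0)) (.node 523 (.leaf 0) (.leaf 0))) (.node 526 (.node 525 (.leaf 0) (.leaf 0)) (.node 527 (.leaf 0) (.leaf 0))))) (.node 536 (.node 532 (.node 530 (.node 529 (.leaf 0) (.leaf 0)) (.node 531 (.leaf 0) (.leaf 0))) (.node 534 (.node 533 (.leaf 0) (.leaf 0)) (.node 535 (.leaf 0) (.leaf 0)))) (.node 540 (.node 538 (.node 537 (.leaf 0) (.leaf 0)) (.node 539 (.leaf 0) (.leaf 0))) (.node 542 (.node 541 (.leaf 0) (.leaf 0)) (.node 543 (.leaf 0) (.leaf 0))))))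

def fix120PB17 : Bst := (.node 560 (.node 552 (.node 548 (.node 546 (.node 545 (.leaf 0) (.leaf 0)) (.node 547 (.leaf 0) (.leaf 0))) (.node 550 (.node 549 (.leaf 0) (.leaf 0)) (.node 551 (.leaf 0) (.leaf 0)))) (.node 556 (.node 554 (.node 553 (.leaf 0) (.leaf 0)) (.node 555 (.leaf 0) (.leaf 0))) (.node 558 (.node 557 (.leaf 0) (.leaf 0)) (.node 559 (.leaf 0) (.leaf 0))))) (.node 568 (.node 564 (.node 562 (.node 561 (.leaf 0) (.leaf 0)) (.node 563 (.leaf 0) (.leaf 0))) (.node 566 (.node 565 (.leaf 0) (.leaf 0)) (.node 567 (.leaf 0) (.leaf 0)))) (.node 572 (.node 570 (.node 569 (.leaf 0) (.leaf 0)) (.node 571 (.leaf 0) (.leaf 0))) (.node 574 (.node 573 (.leaf 0) (.leaf 0)) (.node 575 (.leaf 0) (.leaf 0))))))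

def fix120PB18 : Bst := (.node 592 (.node 584 (.node 580 (.node 578 (.node 577 (.leaf 0) (.leaf 0)) (.node 579 (.leaf 0) (.leaf 0))) (.node 582 (.node 581 (.leaf 0) (.leaf 0)) (.node 583 (.leaf 0) (.leaf 0)))) (.node 588 (.node 586 (.node 585 (.leaf 0) (.leaf 0)) (.node 587 (.leaf 0) (.leaf 0))) (.node 590 (.node 589 (.leaf 0) (.leaf 0)) (.node 591 (.leaf 0) (.leaf 0))))) (.node 600 (.node 596 (.node 594 (.node 593 (.leaf 0) (.leaf 0)) (.node 595 (.leaf 0) (.leaf 0))) (.node 598 (.node 597 (.leaf 0) (.leaf 0)) (.node 599 (.leaf 0x300000000000) (.leaf 0)))) (.node 604 (.node 602 (.node 601 (.leaf 0) (.leaf 0)) (.node 603 (.leaf 0) (.leaf 0))) (.node 606 (.node 605 (.leaf 0) (.leaf 0)) (.node 607 (.leaf 0) (.leaf 0))))))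

def fix120PB19 : Bst := (.node 624 (.node 616 (.node 612 (.node 610 (.node 609 (.leaf 0) (.leaf 0)) (.node 611 (.leaf 0) (.leaf 0))) (.node 614 (.node 613 (.leaf 0) (.leaf 0)) (.node 615 (.leaf 0) (.leaf 0)))) (.node 620 (.node 618 (.node 617 (.leaf 0) (.leaf 0)) (.node 619 (.leaf 0) (.leaf 0))) (.node 622 (.node 621 (.leaf 0) (.leaf 0)) (.node 623 (.leaf 0) (.leaf 0))))) (.node 632 (.node 628 (.node 626 (.node 625 (.leaf 0) (.leaf 0)) (.node 627 (.leaf 0) (.leaf 0))) (.node 630 (.node 629 (.leaf 0) (.leaf 0)) (.node 631 (.leaf 0) (.leaf 0)))) (.node 636 (.node 634 (.node 633 (.leaf 0) (.leaf 0)) (.node 635 (.leaf 0) (.leaf 0))) (.node 638 (.node 637 (.leaf 0) (.leaf 0)) (.node 639 (.leaf 0) (.leaf 0))))))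

def fix120PB20 : Bst := (.node 656 (.node 648 (.node 644 (.node 642 (.node 641 (.leaf 0) (.leaf 0)) (.node 643 (.leaf 0) (.leaf 0))) (.node 646 (.node 645 (.leaf 0) (.leaf 0)) (.node 647 (.leaf 0) (.leaf 0)))) (.node 652 (.node 650 (.node 649 (.leaf 0) (.leaf 0)) (.node 651 (.leaf 0) (.leaf 0))) (.node 654 (.node 653 (.leaf 0) (.leaf 0)) (.node 655 (.leaf 0) (.leaf 0))))) (.node 664 (.node 660 (.node 658 (.node 657 (.leaf 0) (.leaf 0)) (.node 659 (.leaf 0) (.leaf 0))) (.node 662 (.node 661 (.leaf 0) (.leaf 0)) (.node 663 (.leaf 0) (.leaf 0)))) (.node 668 (.node 666 (.node 665 (.leaf 0) (.leaf 0)) (.node 667 (.leaf 0) (.leaf 0))) (.node 670 (.node 669 (.leaf 0) (.leaf 0)) (.node 671 (.leaf 0) (.leaf 0))))))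

def fix120PB21 : Bst := (.node 688 (.node 680 (.node 676 (.node 674 (.node 673 (.leaf 0) (.leaf 0)) (.node 675 (.leaf 0) (.leaf 0))) (.node 678 (.node 677 (.leaf 0) (.leaf 0)) (.node 679 (.leaf 0) (.leaf 0)))) (.node 684 (.node 682 (.node 681 (.leaf 0) (.leaf 0)) (.node 683 (.leaf 0) (.leaf 0))) (.node 686 (.node 685 (.leaf 0) (.leaf 0)) (.node 687 (.leaf 0x15000000000000000) (.leaf 0x6d0001c))))) (.node 696 (.node 692 (.node 690 (.node 689 (.leaf 0) (.leaf 0)) (.node 691 (.leaf 0) (.leaf 0))) (.node 694 (.node 693 (.leaf 0) (.leaf 0)) (.node 695 (.leaf 0) (.leaf 0)))) (.node 700 (.node 698 (.node 697 (.leaf 0) (.leaf 0)) (.node 699 (.leaf 0) (.leaf 0))) (.node 702 (.node 701 (.leaf 0) (.leaf 0)) (.node 703 (.leaf 0) (.leaf 0))))))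

def fix120PB22 : Bst := (.node 720 (.node 712 (.node 708 (.node 706 (.node 705 (.leaf 0) (.leaf 0)) (.node 707 (.leaf 0) (.leaf 0))) (.node 710 (.node 709 (.leaf 0) (.leaf 0)) (.node 711 (.leaf 0) (.leaf 0)))) (.node 716 (.node 714 (.node 713 (.leaf 0) (.leaf 0)) (.node 715 (.leaf 0) (.leaf 0))) (.node 718 (.node 717 (.leaf 0) (.leaf 0)) (.node 719 (.leaf 0) (.leaf 0))))) (.node 728 (.node 724 (.node 722 (.node 721 (.leaf 0) (.leaf 0)) (.node 723 (.leaf 0) (.leaf 0))) (.node 726 (.node 725 (.leaf 0) (.leaf 0)) (.node 727 (.leaf 0) (.leaf 0)))) (.node 732 (.node 730 (.node 729 (.leaf 0) (.leaf 0)) (.node 731 (.leaf 0) (.leaf 0))) (.node 734 (.node 733 (.leaf 0) (.leaf 0)) (.node 735 (.leaf 0) (.leaf 0))))))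

def fix120PB23 : Bst := (.node 752 (.node 744 (.node 740 (.node 738 (.node 737 (.leaf 0) (.leaf 0)) (.node 739 (.leaf 0) (.leaf 0))) (.node 742 (.node 741 (.leaf 0) (.leaf 0)) (.node 743 (.leaf 0) (.leaf 0xc000000000000000)))) (.node 748 (.node 746 (.node 745 (.leaf 0) (.leaf 0)) (.node 747 (.leaf 0) (.leaf 0))) (.node 750 (.node 749 (.leaf 0) (.leaf 0)) (.node 751 (.leaf 0) (.leaf 0))))) (.node 760 (.node 756 (.node 754 (.node 753 (.leaf 0) (.leaf 0)) (.node 755 (.leaf 0) (.leaf 0))) (.node 758 (.node 757 (.leaf 0) (.leaf 0)) (.node 759 (.leaf 0) (.leaf 0)))) (.node 764 (.node 762 (.node 761 (.leaf 0) (.leaf 0)) (.node 763 (.leaf 0) (.leaf 0))) (.node 766 (.node 765 (.leaf 0) (.leaf 0)) (.node 767 (.leaf 0) (.leaf 0))))))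

def fix120PB24 : Bst := (.node 784 (.node 776 (.node 772 (.node 770 (.node 769 (.leaf 0) (.leaf 0)) (.node 771 (.leaf 0) (.leaf 0))) (.node 774 (.node 773 (.leaf 0) (.leaf 0)) (.node 775 (.leaf 0) (.leaf 0)))) (.node 780 (.node 778 (.node 777 (.leaf 0) (.leaf 0)) (.node 779 (.leaf 0) (.leaf 0))) (.node 782 (.node 781 (.leaf 0) (.leaf 0)) (.node 783 (.leaf 0) (.leaf 0))))) (.node 792 (.node 788 (.node 786 (.node 785 (.leaf 0) (.leaf 0)) (.node 787 (.leaf 0) (.leaf 0))) (.node 790 (.node 789 (.leaf 0) (.leaf 0)) (.node 791 (.leaf 0) (.leaf 0)))) (.node 796 (.node 794 (.node 793 (.leaf 0) (.leaf 0)) (.node 795 (.leaf 0) (.leaf 0))) (.node 798 (.node 797 (.leaf 0) (.leaf 0)) (.node 799 (.leaf 0) (.leaf 0))))))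

def fix120PB25 : Bst := (.node 816 (.node 808 (.node 804 (.node 802 (.node 801 (.leaf 0) (.leaf 0)) (.node 803 (.leaf 0) (.leaf 0))) (.node 806 (.node 805 (.leaf 0) (.leaf 0)) (.node 807 (.leaf 0) (.leaf 0)))) (.node 812 (.node 810 (.node 809 (.leaf 0) (.leaf 0)) (.node 811 (.leaf 0) (.leaf 0))) (.node 814 (.node 813 (.leaf 0) (.leaf 0)) (.node 815 (.leaf 0) (.leaf 0))))) (.node 824 (.node 820 (.node 818 (.node 817 (.leaf 0) (.leaf 0)) (.node 819 (.leaf 0) (.leaf 0))) (.node 822 (.node 821 (.leaf 0) (.leaf 0)) (.node 823 (.leaf 0) (.leaf 0)))) (.node 828 (.node 826 (.node 825 (.leaf 0) (.leaf 0)) (.node 827 (.leaf 0) (.leaf 0))) (.node 830 (.node 829 (.leaf 0) (.leaf 0)) (.node 831 (.leaf 0) (.leaf 0))))))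

def fix120PB26 : Bst := (.node 848 (.node 840 (.node 836 (.node 834 (.node 833 (.leaf 0) (.leaf 0)) (.node 835 (.leaf 0) (.leaf 0))) (.node 838 (.node 837 (.leaf 0) (.leaf 0)) (.node 839 (.leaf 0) (.leaf 0)))) (.node 844 (.node 842 (.node 841 (.leaf 0) (.leaf 0)) (.node 843 (.leaf 0) (.leaf 0))) (.node 846 (.node 845 (.leaf 0) (.leaf 0)) (.node 847 (.leaf 0) (.leaf 0))))) (.node 856 (.node 852 (.node 850 (.node 849 (.leaf 0) (.leaf 0)) (.node 851 (.leaf 0) (.leaf 0))) (.node 854 (.node 853 (.leaf 0) (.leaf 0)) (.node 855 (.leaf 0) (.leaf 0)))) (.node 860 (.node 858 (.node 857 (.leaf 0) (.leaf 0)) (.node 859 (.leaf 0) (.leaf 0))) (.node 862 (.node 861 (.leaf 0) (.leaf 0)) (.node 863 (.leaf 0) (.leaf 0))))))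

def fix120PB27 : Bst := (.node 880 (.node 872 (.node 868 (.node 866 (.node 865 (.leaf 0) (.leaf 0)) (.node 867 (.leaf 0) (.leaf 0))) (.node 870 (.node 869 (.leaf 0) (.leaf 0)) (.node 871 (.leaf 0) (.leaf 0)))) (.node 876 (.node 874 (.node 873 (.leaf 0) (.leaf 0)) (.node 875 (.leaf 0) (.leaf 0))) (.node 878 (.node 877 (.leaf 0) (.leaf 0)) (.node 879 (.leaf 0) (.leaf 0))))) (.node 888 (.node 884 (.node 882 (.node 881 (.leaf 0) (.leaf 0)) (.node 883 (.leaf 0) (.leaf 0))) (.node 886 (.node 885 (.leaf 0) (.leaf 0)) (.node 887 (.leaf 0) (.leaf 0)))) (.node 892 (.node 890 (.node 889 (.leaf 0) (.leaf 0)) (.node 891 (.leaf 0) (.leaf 0))) (.node 894 (.node 893 (.leaf 0) (.leaf 0)) (.node 895 (.leaf 0) (.leaf 0))))))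

def fix120PB28 : Bst := (.node 912 (.node 904 (.node 900 (.node 898 (.node 897 (.leaf 0) (.leaf 0)) (.node 899 (.leaf 0) (.leaf 0))) (.node 902 (.node 901 (.leaf 0) (.leaf 0)) (.node 903 (.leaf 0) (.leaf 0)))) (.node 908 (.node 906 (.node 905 (.leaf 0) (.leaf 0)) (.node 907 (.leaf 0) (.leaf 0))) (.node 910 (.node 909 (.leaf 0) (.leaf 0)) (.node 911 (.leaf 0) (.leaf 0))))) (.node 920 (.node 916 (.node 914 (.node 913 (.leaf 0) (.leaf 0)) (.node 915 (.leaf 0) (.leaf 0))) (.node 918 (.node 917 (.leaf 0) (.leaf 0)) (.node 919 (.leaf 0) (.leaf 0)))) (.node 924 (.node 922 (.node 921 (.leaf 0) (.leaf 0)) (.node 923 (.leaf 0) (.leaf 0))) (.node 926 (.node 925 (.leaf 0) (.leaf 0)) (.node 927 (.leaf 0) (.leaf 0))))))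

def fix120PB29 : Bst := (.node 944 (.node 936 (.node 932 (.node 930 (.node 929 (.leaf 0) (.leaf 0)) (.node 931 (.leaf 0) (.leaf 0))) (.node 934 (.node 933 (.leaf 0) (.leaf 0)) (.node 935 (.leaf 0) (.leaf 0)))) (.node 940 (.node 938 (.node 937 (.leaf 0) (.leaf 0)) (.node 939 (.leaf 0) (.leaf 0))) (.node 942 (.node 941 (.leaf 0) (.leaf 0)) (.node 943 (.leaf 0) (.leaf 0))))) (.node 952 (.node 948 (.node 946 (.node 945 (.leaf 0) (.leaf 0)) (.node 947 (.leaf 0) (.leaf 0))) (.node 950 (.node 949 (.leaf 0) (.leaf 0)) (.node 951 (.leaf 0) (.leaf 0)))) (.node 956 (.node 954 (.node 953 (.leaf 0) (.leaf 0)) (.node 955 (.leaf 0) (.leaf 0))) (.node 958 (.node 957 (.leaf 0) (.leaf 0)) (.node 959 (.leaf 0) (.leaf 0))))))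

def fix120PB30 : Bst := (.node 976 (.node 968 (.node 964 (.node 962 (.node 961 (.leaf 0) (.leaf 0)) (.node 963 (.leaf 0) (.leaf 0))) (.node 966 (.node 965 (.leaf 0) (.leaf 0)) (.node 967 (.leaf 0) (.leaf 0)))) (.node 972 (.node 970 (.node 969 (.leaf 0) (.leaf 0)) (.node 971 (.leaf 0) (.leaf 0))) (.node 974 (.node 973 (.leaf 0) (.leaf 0)) (.node 975 (.leaf 0) (.leaf 0))))) (.node 984 (.node 980 (.node 978 (.node 977 (.leaf 0) (.leaf 0)) (.node 979 (.leaf 0) (.leaf 0))) (.node 982 (.node 981 (.leaf 0) (.leaf 0)) (.node 983 (.leaf 0) (.leaf 0)))) (.node 988 (.node 986 (.node 985 (.leaf 0) (.leaf 0)) (.node 987 (.leaf 0) (.leaf 0))) (.node 990 (.node 989 (.leaf 0) (.leaf 0)) (.node 991 (.leaf 0) (.leaf 0))))))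

def fix120PB31 : Bst := (.node 1008 (.node 1000 (.node 996 (.node 994 (.node 993 (.leaf 0) (.leaf 0)) (.node 995 (.leaf 0) (.leaf 0))) (.node 998 (.node 997 (.leaf 0) (.leaf 0)) (.node 999 (.leaf 0) (.leaf 0)))) (.node 1004 (.node 1002 (.node 1001 (.leaf 0) (.leaf 0)) (.node 1003 (.leaf 0) (.leaf 0))) (.node 1006 (.node 1005 (.leaf 0) (.leaf 0)) (.node 1007 (.leaf 0) (.leaf 0))))) (.node 1016 (.node 1012 (.node 1010 (.node 1009 (.leaf 0) (.leaf 0)) (.node 1011 (.leaf 0) (.leaf 0))) (.node 1014 (.node 1013 (.leaf 0) (.leaf 0)) (.node 1015 (.leaf 0) (.leaf 0)))) (.node 1020 (.node 1018 (.node 1017 (.leaf 0) (.leaf 0)) (.node 1019 (.leaf 0) (.leaf 0))) (.node 1022 (.node 1021 (.leaf 0) (.leaf 0)) (.node 1023 (.leaf 0) (.leaf 0))))))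

def fix120PB32 : Bst := (.node 1040 (.node 1032 (.node 1028 (.node 1026 (.node 1025 (.leaf 0) (.leaf 0)) (.node 1027 (.leaf 0) (.leaf 0))) (.node 1030 (.node 1029 (.leaf 0) (.leaf 0)) (.node 1031 (.leaf 0) (.leaf 0)))) (.node 1036 (.node 1034 (.node 1033 (.leaf 0) (.leaf 0)) (.node 1035 (.leaf 0) (.leaf 0))) (.node 1038 (.node 1037 (.leaf 0) (.leaf 0)) (.node 1039 (.leaf 0) (.leaf 0))))) (.node 1048 (.node 1044 (.node 1042 (.node 1041 (.leaf 0) (.leaf 0)) (.node 1043 (.leaf 0) (.leaf 0))) (.node 1046 (.node 1045 (.leaf 0) (.leaf 0)) (.node 1047 (.leaf 0) (.leaf 0)))) (.node 1052 (.node 1050 (.node 1049 (.leaf 0) (.leaf 0)) (.node 1051 (.leaf 0) (.leaf 0))) (.node 1054 (.node 1053 (.leaf 0) (.leaf 0)) (.node 1055 (.leaf 0) (.leaf 0))))))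

def fix120PB33 : Bst := (.node 1072 (.node 1064 (.node 1060 (.node 1058 (.node 1057 (.leaf 0) (.leaf 0)) (.node 1059 (.leaf 0) (.leaf 0))) (.node 1062 (.node 1061 (.leaf 0) (.leaf 0)) (.node 1063 (.leaf 0) (.leaf 0)))) (.node 1068 (.node 1066 (.node 1065 (.leaf 0) (.leaf 0)) (.node 1067 (.leaf 0) (.leaf 0))) (.node 1070 (.node 1069 (.leaf 0) (.leaf 0)) (.node 1071 (.leaf 0) (.leaf 0))))) (.node 1080 (.node 1076 (.node 1074 (.node 1073 (.leaf 0) (.leaf 0)) (.node 1075 (.leaf 0) (.leaf 0))) (.node 1078 (.node 1077 (.leaf 0) (.leaf 0)) (.node 1079 (.leaf 0) (.leaf 0)))) (.node 1084 (.node 1082 (.node 1081 (.leaf 0) (.leaf 0)) (.node 1083 (.leaf 0) (.leaf 0))) (.node 1086 (.node 1085 (.leaf 0) (.leaf 0)) (.node 1087 (.leaf 0) (.leaf 0))))))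

def fix120PB34 : Bst := (.node 1104 (.node 1096 (.node 1092 (.node 1090 (.node 1089 (.leaf 0) (.leaf 0)) (.node 1091 (.leaf 0) (.leaf 0))) (.node 1094 (.node 1093 (.leaf 0) (.leaf 0)) (.node 1095 (.leaf 0) (.leaf 0)))) (.node 1100 (.node 1098 (.node 1097 (.leaf 0) (.leaf 0)) (.node 1099 (.leaf 0) (.leaf 0))) (.node 1102 (.node 1101 (.leaf 0) (.leaf 0)) (.node 1103 (.leaf 0) (.leaf 0))))) (.node 1112 (.node 1108 (.node 1106 (.node 1105 (.leaf 0) (.leaf 0)) (.node 1107 (.leaf 0) (.leaf 0))) (.node 1110 (.node 1109 (.leaf 0) (.leaf 0)) (.node 1111 (.leaf 0) (.leaf 0)))) (.node 1116 (.node 1114 (.node 1113 (.leaf 0) (.leaf 0)) (.node 1115 (.leaf 0) (.leaf 0))) (.node 1118 (.node 1117 (.leaf 0) (.leaf 0)) (.node 1119 (.leaf 0) (.leaf 0))))))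

def fix120PB35 : Bst := (.node 1136 (.node 1128 (.node 1124 (.node 1122 (.node 1121 (.leaf 0) (.leaf 0)) (.node 1123 (.leaf 0) (.leaf 0))) (.node 1126 (.node 1125 (.leaf 0) (.leaf 0)) (.node 1127 (.leaf 0) (.leaf 0)))) (.node 1132 (.node 1130 (.node 1129 (.leaf 0) (.leaf 0)) (.node 1131 (.leaf 0) (.leaf 0))) (.node 1134 (.node 1133 (.leaf 0) (.leaf 0)) (.node 1135 (.leaf 0) (.leaf 0))))) (.node 1144 (.node 1140 (.node 1138 (.node 1137 (.leaf 0) (.leaf 0)) (.node 1139 (.leaf 0) (.leaf 0))) (.node 1142 (.node 1141 (.leaf 0) (.leaf 0)) (.node 1143 (.leaf 0) (.leaf 0)))) (.node 1148 (.node 1146 (.node 1145 (.leaf 0) (.leaf 0)) (.node 1147 (.leaf 0) (.leaf 0))) (.node 1150 (.node 1149 (.leaf 0) (.leaf 0)) (.node 1151 (.leaf 0) (.leaf 0))))))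

def fix120PB36 : Bst := (.node 1168 (.node 1160 (.node 1156 (.node 1154 (.node 1153 (.leaf 0) (.leaf 0)) (.node 1155 (.leaf 0x18000250001d0002a) (.leaf 0x4c))) (.node 1158 (.node 1157 (.leaf 0) (.leaf 0)) (.node 1159 (.leaf 0) (.leaf 0)))) (.node 1164 (.node 1162 (.node 1161 (.leaf 0) (.leaf 0)) (.node 1163 (.leaf 0) (.leaf 0))) (.node 1166 (.node 1165 (.leaf 0) (.leaf 0)) (.node 1167 (.leaf 0) (.leaf 0))))) (.node 1176 (.node 1172 (.node 1170 (.node 1169 (.leaf 0) (.leaf 0)) (.node 1171 (.leaf 0) (.leaf 0x2d0000000000))) (.node 1174 (.node 1173 (.leaf 0) (.leaf 0)) (.node 1175 (.leaf 0) (.leaf 0x1a000100001b00000)))) (.node 1180 (.node 1178 (.node 1177 (.leaf 0x3e0002b) (.leaf 0)) (.node 1179 (.leaf 0) (.leaf 0))) (.node 1182 (.node 1181 (.leaf 0) (.leaf 0)) (.node 1183 (.leaf 0) (.leaf 0))))))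

def fix120PB37 : Bst := (.node 1200 (.node 1192 (.node 1188 (.node 1186 (.node 1185 (.leaf 0) (.leaf 0)) (.node 1187 (.leaf 0) (.leaf 0))) (.node 1190 (.node 1189 (.leaf 0) (.leaf 0)) (.node 1191 (.leaf 0) (.leaf 0)))) (.node 1196 (.node 1194 (.node 1193 (.leaf 0) (.leaf 0)) (.node 1195 (.leaf 0) (.leaf 0))) (.node 1198 (.node 1197 (.leaf 0) (.leaf 0)) (.node 1199 (.leaf 0) (.leaf 0))))) (.node 1208 (.node 1204 (.node 1202 (.node 1201 (.leaf 0) (.leaf 0)) (.node 1203 (.leaf 0) (.leaf 0))) (.node 1206 (.node 1205 (.leaf 0) (.leaf 0)) (.node 1207 (.leaf 0) (.leaf 0)))) (.node 1212 (.node 1210 (.node 1209 (.leaf 0) (.leaf 0)) (.node 1211 (.leaf 0) (.leaf 0))) (.node 1214 (.node 1213 (.leaf 0) (.leaf 0)) (.node 1215 (.leaf 0) (.leaf 0))))))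

def fix120PB38 : Bst := (.node 1232 (.node 1224 (.node 1220 (.node 1218 (.node 1217 (.leaf 0) (.leaf 0)) (.node 1219 (.leaf 0) (.leaf 0))) (.node 1222 (.node 1221 (.leaf 0) (.leaf 0)) (.node 1223 (.leaf 0) (.leaf 0)))) (.node 1228 (.node 1226 (.node 1225 (.leaf 0) (.leaf 0)) (.node 1227 (.leaf 0) (.leaf 0))) (.node 1230 (.node 1229 (.leaf 0) (.leaf 0)) (.node 1231 (.leaf 0) (.leaf 0))))) (.node 1240 (.node 1236 (.node 1234 (.node 1233 (.leaf 0) (.leaf 0)) (.node 1235 (.leaf 0) (.leaf 0))) (.node 1238 (.node 1237 (.leaf 0) (.leaf 0)) (.node 1239 (.leaf 0) (.leaf 0)))) (.node 1244 (.node 1242 (.node 1241 (.leaf 0) (.leaf 0)) (.node 1243 (.leaf 0) (.leaf 0))) (.node 1246 (.node 1245 (.leaf 0) (.leaf 0)) (.node 1247 (.leaf 0) (.leaf 0))))))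

def fix120PB39 : Bst := (.node 1264 (.node 1256 (.node 1252 (.node 1250 (.node 1249 (.leaf 0) (.leaf 0)) (.node 1251 (.leaf 0) (.leaf 0))) (.node 1254 (.node 1253 (.leaf 0) (.leaf 0)) (.node 1255 (.leaf 0) (.leaf 0)))) (.node 1260 (.node 1258 (.node 1257 (.leaf 0) (.leaf 0)) (.node 1259 (.leaf 0) (.leaf 0))) (.node 1262 (.node 1261 (.leaf 0) (.leaf 0)) (.node 1263 (.leaf 0) (.leaf 0))))) (.node 1272 (.node 1268 (.node 1266 (.node 1265 (.leaf 0) (.leaf 0)) (.node 1267 (.leaf 0) (.leaf 0))) (.node 1270 (.node 1269 (.leaf 0) (.leaf 0)) (.node 1271 (.leaf 0) (.leaf 0)))) (.node 1276 (.node 1274 (.node 1273 (.leaf 0) (.leaf 0)) (.node 1275 (.leaf 0) (.leaf 0))) (.node 1278 (.node 1277 (.leaf 0) (.leaf 0)) (.node 1279 (.leaf 0) (.leaf 0))))))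

def fix120PB40 : Bst := (.node 1296 (.node 1288 (.node 1284 (.node 1282 (.node 1281 (.leaf 0) (.leaf 0)) (.node 1283 (.leaf 0) (.leaf 0))) (.node 1286 (.node 1285 (.leaf 0) (.leaf 0)) (.node 1287 (.leaf 0) (.leaf 0)))) (.node 1292 (.node 1290 (.node 1289 (.leaf 0) (.leaf 0)) (.node 1291 (.leaf 0) (.leaf 0))) (.node 1294 (.node 1293 (.leaf 0) (.leaf 0)) (.node 1295 (.leaf 0) (.leaf 0))))) (.node 1304 (.node 1300 (.node 1298 (.node 1297 (.leaf 0) (.leaf 0)) (.node 1299 (.leaf 0) (.leaf 0))) (.node 1302 (.node 1301 (.leaf 0) (.leaf 0)) (.node 1303 (.leaf 0) (.leaf 0)))) (.node 1308 (.node 1306 (.node 1305 (.leaf 0) (.leaf 0)) (.node 1307 (.leaf 0) (.leaf 0))) (.node 1310 (.node 1309 (.leaf 0) (.leaf 0)) (.node 1311 (.leaf 0) (.leaf 0))))))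

def fix120PB41 : Bst := (.node 1328 (.node 1320 (.node 1316 (.node 1314 (.node 1313 (.leaf 0) (.leaf 0)) (.node 1315 (.leaf 0) (.leaf 0))) (.node 1318 (.node 1317 (.leaf 0) (.leaf 0)) (.node 1319 (.leaf 0) (.leaf 0)))) (.node 1324 (.node 1322 (.node 1321 (.leaf 0) (.leaf 0)) (.node 1323 (.leaf 0) (.leaf 0))) (.node 1326 (.node 1325 (.leaf 0) (.leaf 0)) (.node 1327 (.leaf 0) (.leaf 0))))) (.node 1336 (.node 1332 (.node 1330 (.node 1329 (.leaf 0) (.leaf 0)) (.node 1331 (.leaf 0) (.leaf 0))) (.node 1334 (.node 1333 (.leaf 0) (.leaf 0)) (.node 1335 (.leaf 0) (.leaf 0)))) (.node 1340 (.node 1338 (.node 1337 (.leaf 0) (.leaf 0)) (.node 1339 (.leaf 0) (.leaf 0))) (.node 1342 (.node 1341 (.leaf 0) (.leaf 0)) (.node 1343 (.leaf 0) (.leaf 0))))))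

def fix120PB42 : Bst := (.node 1360 (.node 1352 (.node 1348 (.node 1346 (.node 1345 (.leaf 0) (.leaf 0)) (.node 1347 (.leaf 0) (.leaf 0))) (.node 1350 (.node 1349 (.leaf 0) (.leaf 0)) (.node 1351 (.leaf 0) (.leaf 0)))) (.node 1356 (.node 1354 (.node 1353 (.leaf 0) (.leaf 0)) (.node 1355 (.leaf 0) (.leaf 0))) (.node 1358 (.node 1357 (.leaf 0) (.leaf 0)) (.node 1359 (.leaf 0) (.leaf 0))))) (.node 1368 (.node 1364 (.node 1362 (.node 1361 (.leaf 0) (.leaf 0)) (.node 1363 (.leaf 0) (.leaf 0))) (.node 1366 (.node 1365 (.leaf 0) (.leaf 0)) (.node 1367 (.leaf 0) (.leaf 0)))) (.node 1372 (.node 1370 (.node 1369 (.leaf 0) (.leaf 0)) (.node 1371 (.leaf 0) (.leaf 0))) (.node 1374 (.node 1373 (.leaf 0) (.leaf 0)) (.node 1375 (.leaf 0) (.leaf 0))))))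

def fix120PB43 : Bst := (.node 1392 (.node 1384 (.node 1380 (.node 1378 (.node 1377 (.leaf 0) (.leaf 0)) (.node 1379 (.leaf 0) (.leaf 0))) (.node 1382 (.node 1381 (.leaf 0) (.leaf 0)) (.node 1383 (.leaf 0) (.leaf 0)))) (.node 1388 (.node 1386 (.node 1385 (.leaf 0) (.leaf 0)) (.node 1387 (.leaf 0) (.leaf 0))) (.node 1390 (.node 1389 (.leaf 0) (.leaf 0)) (.node 1391 (.leaf 0) (.leaf 0))))) (.node 1400 (.node 1396 (.node 1394 (.node 1393 (.leaf 0) (.leaf 0)) (.node 1395 (.leaf 0) (.leaf 0))) (.node 1398 (.node 1397 (.leaf 0) (.leaf 0)) (.node 1399 (.leaf 0) (.leaf 0)))) (.node 1404 (.node 1402 (.node 1401 (.leaf 0) (.leaf 0)) (.node 1403 (.leaf 0) (.leaf 0))) (.node 1406 (.node 1405 (.leaf 0) (.leaf 0)) (.node 1407 (.leaf 0) (.leaf 0))))))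

def fix120PB44 : Bst := (.node 1424 (.node 1416 (.node 1412 (.node 1410 (.node 1409 (.leaf 0) (.leaf 0)) (.node 1411 (.leaf 0) (.leaf 0))) (.node 1414 (.node 1413 (.leaf 0) (.leaf 0)) (.node 1415 (.leaf 0) (.leaf 0)))) (.node 1420 (.node 1418 (.node 1417 (.leaf 0) (.leaf 0)) (.node 1419 (.leaf 0) (.leaf 0))) (.node 1422 (.node 1421 (.leaf 0) (.leaf 0)) (.node 1423 (.leaf 0) (.leaf 0))))) (.node 1432 (.node 1428 (.node 1426 (.node 1425 (.leaf 0) (.leaf 0)) (.node 1427 (.leaf 0) (.leaf 0))) (.node 1430 (.node 1429 (.leaf 0) (.leaf 0)) (.node 1431 (.leaf 0) (.leaf 0)))) (.node 1436 (.node 1434 (.node 1433 (.leaf 0) (.leaf 0)) (.node 1435 (.leaf 0) (.leaf 0))) (.node 1438 (.node 1437 (.leaf 0) (.leaf 0)) (.node 1439 (.leaf 0) (.leaf 0))))))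

def fix120PB45 : Bst := (.node 1456 (.node 1448 (.node 1444 (.node 1442 (.node 1441 (.leaf 0) (.leaf 0)) (.node 1443 (.leaf 0) (.leaf 0))) (.node 1446 (.node 1445 (.leaf 0) (.leaf 0)) (.node 1447 (.leaf 0) (.leaf 0)))) (.node 1452 (.node 1450 (.node 1449 (.leaf 0) (.leaf 0)) (.node 1451 (.leaf 0) (.leaf 0))) (.node 1454 (.node 1453 (.leaf 0) (.leaf 0)) (.node 1455 (.leaf 0) (.leaf 0))))) (.node 1464 (.node 1460 (.node 1458 (.node 1457 (.leaf 0) (.leaf 0)) (.node 1459 (.leaf 0) (.leaf 0))) (.node 1462 (.node 1461 (.leaf 0) (.leaf 0)) (.node 1463 (.leaf 0) (.leaf 0)))) (.node 1468 (.node 1466 (.node 1465 (.leaf 0) (.leaf 0)) (.node 1467 (.leaf 0) (.leaf 0))) (.node 1470 (.node 1469 (.leaf 0) (.leaf 0)) (.node 1471 (.leaf 0) (.leaf 0))))))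

def fix120PB46 : Bst := (.node 1488 (.node 1480 (.node 1476 (.node 1474 (.node 1473 (.leaf 0) (.leaf 0)) (.node 1475 (.leaf 0) (.leaf 0x720000000000))) (.node 1478 (.node 1477 (.leaf 0) (.leaf 0)) (.node 1479 (.leaf 0) (.leaf 0)))) (.node 1484 (.node 1482 (.node 1481 (.leaf 0) (.leaf 0)) (.node 1483 (.leaf 0) (.leaf 0))) (.node 1486 (.node 1485 (.leaf 0) (.leaf 0)) (.node 1487 (.leaf 0) (.leaf 0))))) (.node 1496 (.node 1492 (.node 1490 (.node 1489 (.leaf 0) (.leaf 0)) (.node 1491 (.leaf 0) (.leaf 0))) (.node 1494 (.node 1493 (.leaf 0) (.leaf 0)) (.node 1495 (.leaf 0) (.leaf 0)))) (.node 1500 (.node 1498 (.node 1497 (.leaf 0) (.leaf 0)) (.node 1499 (.leaf 0) (.leaf 0))) (.node 1502 (.node 1501 (.leaf 0) (.leaf 0)) (.node 1503 (.leaf 0) (.leaf 0))))))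

def fix120PB47 : Bst := (.node 1520 (.node 1512 (.node 1508 (.node 1506 (.node 1505 (.leaf 0) (.leaf 0)) (.node 1507 (.leaf 0) (.leaf 0))) (.node 1510 (.node 1509 (.leaf 0) (.leaf 0)) (.node 1511 (.leaf 0) (.leaf 0)))) (.node 1516 (.node 1514 (.node 1513 (.leaf 0) (.leaf 0)) (.node 1515 (.leaf 0) (.leaf 0))) (.node 1518 (.node 1517 (.leaf 0) (.leaf 0)) (.node 1519 (.leaf 0) (.leaf 0))))) (.node 1528 (.node 1524 (.node 1522 (.node 1521 (.leaf 0) (.leaf 0)) (.node 1523 (.leaf 0) (.leaf 0))) (.node 1526 (.node 1525 (.leaf 0) (.leaf 0)) (.node 1527 (.leaf 0) (.leaf 0)))) (.node 1532 (.node 1530 (.node 1529 (.leaf 0) (.leaf 0)) (.node 1531 (.leaf 0) (.leaf 0))) (.node 1534 (.node 1533 (.leaf 0) (.leaf 0)) (.node 1535 (.leaf 0) (.leaf 0))))))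

def fix120PB48 : Bst := (.node 1552 (.node 1544 (.node 1540 (.node 1538 (.node 1537 (.leaf 0) (.leaf 0)) (.node 1539 (.leaf 0) (.leaf 0))) (.node 1542 (.node 1541 (.leaf 0) (.leaf 0)) (.node 1543 (.leaf 0) (.leaf 0)))) (.node 1548 (.node 1546 (.node 1545 (.leaf 0) (.leaf 0)) (.node 1547 (.leaf 0) (.leaf 0))) (.node 1550 (.node 1549 (.leaf 0) (.leaf 0)) (.node 1551 (.leaf 0) (.leaf 0))))) (.node 1560 (.node 1556 (.node 1554 (.node 1553 (.leaf 0) (.leaf 0)) (.node 1555 (.leaf 0) (.leaf 0))) (.node 1558 (.node 1557 (.leaf 0) (.leaf 0)) (.node 1559 (.leaf 0) (.leaf 0)))) (.node 1564 (.node 1562 (.node 1561 (.leaf 0) (.leaf 0)) (.node 1563 (.leaf 0) (.leaf 0))) (.node 1566 (.node 1565 (.leaf 0) (.leaf 0)) (.node 1567 (.leaf 0) (.leaf 0))))))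

def fix120PB49 : Bst := (.node 1584 (.node 1576 (.node 1572 (.node 1570 (.node 1569 (.leaf 0) (.leaf 0)) (.node 1571 (.leaf 0) (.leaf 0))) (.node 1574 (.node 1573 (.leaf 0) (.leaf 0)) (.node 1575 (.leaf 0) (.leaf 0)))) (.node 1580 (.node 1578 (.node 1577 (.leaf 0) (.leaf 0)) (.node 1579 (.leaf 0) (.leaf 0))) (.node 1582 (.node 1581 (.leaf 0) (.leaf 0)) (.node 1583 (.leaf 0) (.leaf 0))))) (.node 1592 (.node 1588 (.node 1586 (.node 1585 (.leaf 0) (.leaf 0)) (.node 1587 (.leaf 0) (.leaf 0))) (.node 1590 (.node 1589 (.leaf 0) (.leaf 0)) (.node 1591 (.leaf 0) (.leaf 0)))) (.node 1596 (.node 1594 (.node 1593 (.leaf 0) (.leaf 0)) (.node 1595 (.leaf 0) (.leaf 0))) (.node 1598 (.node 1597 (.leaf 0) (.leaf 0)) (.node 1599 (.leaf 0) (.leaf 0))))))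

def fix120PB50 : Bst := (.node 1616 (.node 1608 (.node 1604 (.node 1602 (.node 1601 (.leaf 0) (.leaf 0)) (.node 1603 (.leaf 0) (.leaf 0))) (.node 1606 (.node 1605 (.leaf 0) (.leaf 0)) (.node 1607 (.leaf 0) (.leaf 0)))) (.node 1612 (.node 1610 (.node 1609 (.leaf 0) (.leaf 0)) (.node 1611 (.leaf 0) (.leaf 0))) (.node 1614 (.node 1613 (.leaf 0) (.leaf 0)) (.node 1615 (.leaf 0) (.leaf 0))))) (.node 1624 (.node 1620 (.node 1618 (.node 1617 (.leaf 0) (.leaf 0)) (.node 1619 (.leaf 0) (.leaf 0))) (.node 1622 (.node 1621 (.leaf 0) (.leaf 0)) (.node 1623 (.leaf 0) (.leaf 0)))) (.node 1628 (.node 1626 (.node 1625 (.leaf 0) (.leaf 0)) (.node 1627 (.leaf 0) (.leaf 0))) (.node 1630 (.node 1629 (.leaf 0) (.leaf 0)) (.node 1631 (.leaf 0) (.leaf 0))))))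

def fix120PB51 : Bst := (.node 1648 (.node 1640 (.node 1636 (.node 1634 (.node 1633 (.leaf 0) (.leaf 0)) (.node 1635 (.leaf 0) (.leaf 0))) (.node 1638 (.node 1637 (.leaf 0) (.leaf 0)) (.node 1639 (.leaf 0) (.leaf 0)))) (.node 1644 (.node 1642 (.node 1641 (.leaf 0) (.leaf 0)) (.node 1643 (.leaf 0) (.leaf 0))) (.node 1646 (.node 1645 (.leaf 0) (.leaf 0)) (.node 1647 (.leaf 0) (.leaf 0))))) (.node 1656 (.node 1652 (.node 1650 (.node 1649 (.leaf 0) (.leaf 0)) (.node 1651 (.leaf 0) (.leaf 0))) (.node 1654 (.node 1653 (.leaf 0) (.leaf 0)) (.node 1655 (.leaf 0) (.leaf 0)))) (.node 1660 (.node 1658 (.node 1657 (.leaf 0) (.leaf 0)) (.node 1659 (.leaf 0) (.leaf 0x4100000))) (.node 1662 (.node 1661 (.leaf 0) (.leaf 0)) (.node 1663 (.leaf 0x3a00029) (.leaf 0))))))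

def fix120PB52 : Bst := (.node 1680 (.node 1672 (.node 1668 (.node 1666 (.node 1665 (.leaf 0) (.leaf 0)) (.node 1667 (.leaf 0) (.leaf 0))) (.node 1670 (.node 1669 (.leaf 0) (.leaf 0)) (.node 1671 (.leaf 0) (.leaf 0)))) (.node 1676 (.node 1674 (.node 1673 (.leaf 0) (.leaf 0)) (.node 1675 (.leaf 0) (.leaf 0))) (.node 1678 (.node 1677 (.leaf 0) (.leaf 0)) (.node 1679 (.leaf 0) (.leaf 0))))) (.node 1688 (.node 1684 (.node 1682 (.node 1681 (.leaf 0) (.leaf 0)) (.node 1683 (.leaf 0) (.leaf 0))) (.node 1686 (.node 1685 (.leaf 0) (.leaf 0)) (.node 1687 (.leaf 0) (.leaf 0)))) (.node 1692 (.node 1690 (.node 1689 (.leaf 0) (.leaf 0)) (.node 1691 (.leaf 0) (.leaf 0))) (.node 1694 (.node 1693 (.leaf 0) (.leaf 0)) (.node 1695 (.leaf 0) (.leaf 0))))))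

def fix120PB53 : Bst := (.node 1712 (.node 1704 (.node 1700 (.node 1698 (.node 1697 (.leaf 0) (.leaf 0)) (.node 1699 (.leaf 0) (.leaf 0))) (.node 1702 (.node 1701 (.leaf 0) (.leaf 0)) (.node 1703 (.leaf 0) (.leaf 0)))) (.node 1708 (.node 1706 (.node 1705 (.leaf 0) (.leaf 0)) (.node 1707 (.leaf 0) (.leaf 0))) (.node 1710 (.node 1709 (.leaf 0) (.leaf 0)) (.node 1711 (.leaf 0) (.leaf 0))))) (.node 1720 (.node 1716 (.node 1714 (.node 1713 (.leaf 0) (.leaf 0)) (.node 1715 (.leaf 0) (.leaf 0))) (.node 1718 (.node 1717 (.leaf 0) (.leaf 0)) (.node 1719 (.leaf 0) (.leaf 0)))) (.node 1724 (.node 1722 (.node 1721 (.leaf 0) (.leaf 0)) (.node 1723 (.leaf 0) (.leaf 0))) (.node 1726 (.node 1725 (.leaf 0) (.leaf 0)) (.node 1727 (.leaf 0) (.leaf 0))))))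

def fix120PB54 : Bst := (.node 1744 (.node 1736 (.node 1732 (.node 1730 (.node 1729 (.leaf 0) (.leaf 0)) (.node 1731 (.leaf 0) (.leaf 0))) (.node 1734 (.node 1733 (.leaf 0) (.leaf 0)) (.node 1735 (.leaf 0) (.leaf 0)))) (.node 1740 (.node 1738 (.node 1737 (.leaf 0) (.leaf 0)) (.node 1739 (.leaf 0) (.leaf 0))) (.node 1742 (.node 1741 (.leaf 0) (.leaf 0)) (.node 1743 (.leaf 0) (.leaf 0))))) (.node 1752 (.node 1748 (.node 1746 (.node 1745 (.leaf 0) (.leaf 0)) (.node 1747 (.leaf 0) (.leaf 0))) (.node 1750 (.node 1749 (.leaf 0) (.leaf 0)) (.node 1751 (.leaf 0) (.leaf 0)))) (.node 1756 (.node 1754 (.node 1753 (.leaf 0) (.leaf 0)) (.node 1755 (.leaf 0) (.leaf 0))) (.node 1758 (.node 1757 (.leaf 0) (.leaf 0)) (.node 1759 (.leaf 0) (.leaf 0))))))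

def fix120PB55 : Bst := (.node 1776 (.node 1768 (.node 1764 (.node 1762 (.node 1761 (.leaf 0) (.leaf 0)) (.node 1763 (.leaf 0) (.leaf 0))) (.node 1766 (.node 1765 (.leaf 0) (.leaf 0)) (.node 1767 (.leaf 0) (.leaf 0)))) (.node 1772 (.node 1770 (.node 1769 (.leaf 0) (.leaf 0)) (.node 1771 (.leaf 0) (.leaf 0))) (.node 1774 (.node 1773 (.leaf 0) (.leaf 0)) (.node 1775 (.leaf 0) (.leaf 0))))) (.node 1784 (.node 1780 (.node 1778 (.node 1777 (.leaf 0) (.leaf 0)) (.node 1779 (.leaf 0) (.leaf 0))) (.node 1782 (.node 1781 (.leaf 0) (.leaf 0)) (.node 1783 (.leaf 0) (.leaf 0)))) (.node 1788 (.node 1786 (.node 1785 (.leaf 0x5b0001300000) (.leaf 0)) (.node 1787 (.leaf 0) (.leaf 0))) (.node 1790 (.node 1789 (.leaf 0) (.leaf 0x74)) (.node 1791 (.leaf 0) (.leaf 0))))))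

def fix120PB56 : Bst := (.node 1808 (.node 1800 (.node 1796 (.node 1794 (.node 1793 (.leaf 0) (.leaf 0)) (.node 1795 (.leaf 0) (.leaf 0))) (.node 1798 (.node 1797 (.leaf 0) (.leaf 0)) (.node 1799 (.leaf 0) (.leaf 0)))) (.node 1804 (.node 1802 (.node 1801 (.leaf 0) (.leaf 0)) (.node 1803 (.leaf 0) (.leaf 0))) (.node 1806 (.node 1805 (.leaf 0) (.leaf 0)) (.node 1807 (.leaf 0) (.leaf 0))))) (.node 1816 (.node 1812 (.node 1810 (.node 1809 (.leaf 0) (.leaf 0)) (.node 1811 (.leaf 0) (.leaf 0))) (.node 1814 (.node 1813 (.leaf 0) (.leaf 0)) (.node 1815 (.leaf 0) (.leaf 0x2f000650000000000)))) (.node 1820 (.node 1818 (.node 1817 (.leaf 0) (.leaf 0)) (.node 1819 (.leaf 0) (.leaf 0x47000000000000000))) (.node 1822 (.node 1821 (.leaf 0x24000320005300040) (.leaf 0)) (.node 1823 (.leaf 0) (.leaf 0))))))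

def fix120PB57 : Bst := (.node 1840 (.node 1832 (.node 1828 (.node 1826 (.node 1825 (.leaf 0) (.leaf 0)) (.node 1827 (.leaf 0) (.leaf 0))) (.node 1830 (.node 1829 (.leaf 0) (.leaf 0)) (.node 1831 (.leaf 0x43000220002c00000) (.leaf 0x200000000000)))) (.node 1836 (.node 1834 (.node 1833 (.leaf 0) (.leaf 0)) (.node 1835 (.leaf 0) (.leaf 0))) (.node 1838 (.node 1837 (.leaf 0) (.leaf 0)) (.node 1839 (.leaf 0) (.leaf 0))))) (.node 1848 (.node 1844 (.node 1842 (.node 1841 (.leaf 0) (.leaf 0)) (.node 1843 (.leaf 0) (.leaf 0))) (.node 1846 (.node 1845 (.leaf 0x2e) (.leaf 0)) (.node 1847 (.leaf 0) (.leaf 0)))) (.node 1852 (.node 1850 (.node 1849 (.leaf 0) (.leaf 0)) (.node 1851 (.leaf 0) (.leaf 0))) (.node 1854 (.node 1853 (.leaf 0) (.leaf 0)) (.node 1855 (.leaf 0) (.leaf 0))))))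

def fix120PB58 : Bst := (.node 1862 (.node 1859 (.node 1857 (.leaf 0) (.node 1858 (.leaf 0) (.leaf 0))) (.node 1860 (.leaf 0) (.node 1861 (.leaf 0) (.leaf 0)))) (.node 1865 (.node 1863 (.leaf 0) (.node 1864 (.leaf 0x170000000000) (.leaf 0))) (.node 1866 (.leaf 0) (.node 1867 (.leaf 0) (.leaf 0x1e00000)))))

/-- The other orbit of fixed points (positions) -/
def fix120P : Tab := ⟨(.node 928 (.node 448 (.node 224 (.node 96 (.node 32 fix120PB0 (.node 64 fix120PB1 fix120PB2)) (.node 160 (.node 128 fix120PB3 fix120PB4) (.node 192 fix120PB5 fix120PB6))) (.node 320 (.node 256 fix120PB7 (.node 288 fix120PB8 fix120PB9)) (.node 384 (.node 352 fix120PB10 fix120PB11) (.node 416 fix120PB12 fix120PB13)))) (.node 672 (.node 544 (.node 480 fix120PB14 (.node 512 fix120PB15 fix120PB16)) (.node 608 (.node 576 fix120PB17 fix120PB18) (.node 640 fix120PB19 fix120PB20))) (.node 800 (.node 736 (.node 704 fix120PB21 fix120PB22) (.node 768 fix120PB23 fix120PB24)) (.node 864 (.node 832 fix120PB25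 fix120PB26) (.node 896 fix120PB27 fix120PB28))))) (.node 1408 (.node 1152 (.node 1024 (.node 960 fix120PB29 (.node 992 fix120PB30 fix120PB31)) (.node 1088 (.node 1056 fix120PB32 fix120PB33) (.node 1120 fix120PB34 fix120PB35))) (.node 1280 (.node 1216 (.node 1184 fix120PB36 fix120PB37) (.node 1248 fix120PB38 fix120PB39)) (.node 1344 (.node 1312 fix120PB40 fix120PB41) (.node 1376 fix120PB42 fix120PB43)))) (.node 1632 (.node 1504 (.node 1440 fix120PB44 (.node 1472 fix120PB45 fix120PB46)) (.node 1568 (.node 1536 fix120PB47 fix120PB48) (.node 1600 fix120PB49 fix120PB50))) (.node 1760 (.node 1696 (.node 1664 fix120PB51 fix120PB52) (.node 1728 fix120PB53 fix120PB54)) (.node 1824 (.node 1792 fix120PB55 fix120PB56) (.node 1856 fix120PB57 fix120PB58)))))), 20, 2⟩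

/-- The other orbit of fixed points -/
def fix120 : Wide.Orb := ⟨120, fix120E, fix120P⟩

def regKEB0 : Bst := (.node 16 (.node 8 (.node 4 (.node 2 (.node 1 (.leaf 0x2000000078d000010000000bcc0000000000000bd0000000000000bc) (.leaf 0x2000010078e000010000100bd3000040000004d4b00003000000082e)) (.node 3 (.leaf 0x2000020b153000000000200bd50000400001089e20000300001026f8) (.leaf 0x300003012c4000010000300c1a000040000202528000030000201612))) (.node 6 (.node 5 (.leaf 0x20000400795000010000400d8900000000040082f000040000309504) (.leaf 0x10000504b56000000000504d4c0000400004043f5000030000400b5f)) (.node 7 (.leaf 0x3000060ac8b000020000609533000000000600bd4000020000502527) (.leaf 0x400007099d800003000070115d000010000700bd80000400006078a0)))) (.node 12 (.node 10 (.node 9 (.leaf 0x30000800b5e0000200008028150000100008093130000000008026f9) (.leaf 0x20000900c6600001000090621f000000000900c650000400008009d4)) (.node 11 (.leaf 0x10000b0a6d8000040000a0a256000030000a0621d000020000a00bd6) (.leaf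 0x10000c00d8a000000000c00d96000040000b09531000030000b0b6d4))) (.node 14 (.node 13 (.leaf 0x10000d00794000040000c005b2000030000c08e92000020000c04b57) (.leaf 0x40000e00c63000030000e04e36000020000e089e1000000000e078c8)) (.node 15 (.leaf 0x30000f00e79000020000f0128c000010000f0267a000000000f012c5) (.leaf 0x20001000c17000010001006220000000001000c64000040000f0995d))))) (.node 24 (.node 20 (.node 18 (.node 17 (.leaf 0x40001202534000030001204e56000020001205187000020001100796) (.leaf 0x1000140685f000040001304b55000030001300b98000010001303c3c)) (.node 19 (.leaf 0x100015089980000000015043f40000400014009d3000020001400c25) (.leaf 0x30001705184000020001700d940000100016078fa00002000150623a))) (.node 22 (.node 21 (.leaf 0x4000190d149000030001900c08000020001900c1800001000180078f) (.leaf 0x1b0ac8a000040001a0a0cf000030001a099c4000010001a0b276)) (.node 23 (.leaf 0x40001b035b6000030001b02677000020001b082f4000010001b0ac8c) (.leaf 0x30001d00d92000020001d0b2b0000000001d06236000010001c02816))))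 (.node 28 (.node 26 (.node 25 (.leaf 0x20001e00b99000010001e01185000000001e01573000040001d01a6d) (.leaf 0x20002002814000020001f00bd2000040001e06846000030001e00e7a)) (.node 27 (.leaf 0x1000220957b0000400021027ac0000300021068600000200021026c4) (.leaf 0x10002406791000020002300c24000010002304e5700003000220128d))) (.node 30 (.node 29 (.leaf 0x1000270078c0000300026026a00000200026068420000200024027ad) (.leaf 0x290621e000040002800790000030002800a3f000010002800bd7)) (.node 31 (.leaf 0x40002902cd3000030002908e91000020002906844000010002900c06) (.leaf 0x2b0a6d7000020002a0d14a000010002a06886000000002a0a257))))))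

def regKEB1 : Bst := (.node 48 (.node 40 (.node 36 (.node 34 (.node 33 (.leaf 0x2c0b6d3000040002b085d4000030002b089ae000020002b0b7d6) (.leaf 0x40002c06440000030002c026c5000020002c08359000010002c07e1c)) (.node 35 (.leaf 0x20002e04b58000020002d0b256000010002d06887000000002d09532) (.leaf 0x10003004d4a000040002f00730000030002f0832e000020002f05186))) (.node 38 (.node 37 (.leaf 0x200031048a0000010003102891000040003000791000030003001588) (.leaf 0x2000320072f0000100032064410000000032005b3000040003102cd2)) (.node 39 (.leaf 0x300034027ab000020003400c19000030003306444000020003300831) (.leaf 0x3604e35000040003502c52000030003503d97000040003409564)))) (.node 44 (.node 42 (.node 41 (.leaf 0x400036085d1000030003601a94000020003606221000010003607e22) (.leaf 0x40003904f6f0000300039054210000200039061cf000010003700c62)) (.node 43 (.leaf 0x40003b06847000020003b00c07000010003b02cd1000010003a04ffe) (.leaf 0x20003e06843000020003c04f70000010003c07bcc000000003c0995e))) (.node 46 (.node 45 (.leaf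 0x30004001377000010004006239000010003f000be000030003e07a34) (.leaf 0x200042089970000400041056090000300041067950000100041005b4)) (.node 47 (.leaf 0x440647a0000100043019fa00004000420b6d2000030004200c11) (.leaf 0x30004501fbe00001000450188700003000440aee20000200044051ab))))) (.node 56 (.node 52 (.node 50 (.node 49 (.leaf 0x1000480253300002000470678f000020004600d9500004000450489e) (.leaf 0x10004a051850000100049026a1000040004808999000030004800e40)) (.node 51 (.leaf 0x10004e00a3c000010004c00797000030004b06792000020004b04e59) (.leaf 0x20005000b6e000030004f07d5f000020004f04fe1000030004e08386))) (.node 54 (.node 53 (.leaf 0x2000520995b000000005204f6e00004000510078b000030005100b91) (.leaf 0x3000540679300001000530a7f5000040005202c4a000030005202676)) (.node 55 (.leaf 0x40005504b590000200055085d300001000550269e00004000540b174) (.leaf 0x200057082f300002000560b17500001000560a7f600000000560a0ce)))) (.node 60 (.node 58 (.node 57 (.leaf 0x30005900bbd00001000590804d000040005803d960000300058018c4)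 (.leaf 0x40005a02c4b000020005a0646a000010005a00579000040005900ca6)) (.node 59 (.leaf 0x20005c00ca5000020005b03506000010005b054f4000000005b035b5) (.leaf 0x40005e009d9000030005e03d77000040005d094ab000030005c026c2))) (.node 62 (.node 61 (.leaf 0x30005f04fe3000020005f0aee6000010005f01186000000005f00d93) (.leaf 0x30006202cd0000020006205002000010006000b9a000040005f0835b)) (.node 63 (.leaf 0x10006502798000010006405422000010006301a6e0000400062055ac) (.leaf 0x30006700bc20000100067027ae000010006600b6f0000200065055ab))))))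

def regKEB2 : Bst := (.node 80 (.node 72 (.node 68 (.node 66 (.node 65 (.leaf 0x30006900bcb00002000690679000004000680762f000010006804085) (.leaf 0x20006b0804c000000006b027b0000010006a00c2300004000690a704)) (.node 67 (.leaf 0x20006d08996000030006c007b6000010006c04f71000030006b04fff) (.leaf 0x100071026c0000010007004a4b000020006f05482000030006e01584))) (.node 70 (.node 69 (.leaf 0x200073000bf0000300072061d40000200072056cb000030007106863) (.leaf 0x20007500b9c000010007500b6b000000007500a3e000030007400833)) (.node 71 (.leaf 0x10007906ca3000040007802797000030007800fd1000020007706845) (.leaf 0x10007b039b1000020007a0489f000010007a0832f00003000790835a)))) (.node 76 (.node 74 (.node 73 (.leaf 0x40007f0643c000030007f05016000030007d010bd000020007d089ac) (.leaf 0x10008107e1b0000000081089ad0000400080064830000300080061a9)) (.node 75 (.leaf 0x10008208358000040008100e43000030008100c03000020008106888) (.leaf 0x100086026c60000100085085db000040008407e33000030008404084))) (.node 78 (.node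 77 (.leaf 0x300089048910000200089089ab000020008707e32000040008601e17) (.leaf 0x30008c00b92000010008c043f3000030008b099c6000010008b0072e)) (.node 79 (.leaf 0x40008d07845000030008d07822000020008d06443000040008c00798) (.leaf 0x20009100830000010009001e41000030008f00b6c000010008e048a1))))) (.node 88 (.node 84 (.node 82 (.node 81 (.leaf 0x100095051880000100094010bc000040009306445000030009308385) (.leaf 0x3000980178a000010009800a3d0000300096039b2000020009606223)) (.node 83 (.leaf 0x9b027aa000030009a039b60000300099018b70000200099061d1) (.leaf 0x10009c09565000000009c0a6d6000030009b01a95000020009b009d6))) (.node 86 (.node 85 (.leaf 0x30009d05003000020009d027c3000000009d03d98000020009c094ac) (.leaf 0x20009e07eca000010009e0b2de000000009e02c51000040009d0d204)) (.node 87 (.leaf 0x4000a0099c500003000a0018c700002000a0061ce000020009f06222) (.leaf 0x1000a20158500004000a100c6100003000a10286900001000a109503)))) (.node 92 (.node 90 (.node 89 (.leaf 0x2000a30833000001000a30ca4a00000000a3085d000004000a205483)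 (.leaf 0x4000a50622400003000a50412000001000a50838400002000a400ca4)) (.node 91 (.leaf 0x1000a700d0b00004000a606ca600003000a600dd300002000a607bcb) (.leaf 0x4000aa07a3300003000aa0057a00002000a90279a00002000a809502))) (.node 94 (.node 93 (.leaf 0x1000af026fa00001000ae0125800001000ac07d5200001000ab0489d) (.leaf 0xb20623800003000b0089e400002000b00267900003000af005b6)) (.node 95 (.leaf 0x1000b30269a00000000b30137600004000b204fe200002000b2051b2) (.leaf 0x2000b4007df00000000b4005b500003000b3039b000002000b300e41))))))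

def regKEB3 : Bst := (.node 112 (.node 104 (.node 100 (.node 98 (.node 97 (.leaf 0x1000b60501500002000b5085d200001000b50679400003000b40269f) (.leaf 0x4000b70079900003000b700bbc00001000b70acad00002000b606455)) (.node 99 (.leaf 0xb90b6ea00004000b807a7b00002000b80b25300001000b800781) (.leaf 0x3000ba0762b00002000ba00b5c00002000b90a70300001000b90b172))) (.node 102 (.node 101 (.leaf 0x2000bd0acc200001000bd0188800004000bc0542000004000bb04083) (.leaf 0x1000bf0931600004000be0534a00003000be02cd500002000be06849)) (.node 103 (.leaf 0x3000c2082f500001000c20950c00002000c00534900004000bf07d5e) (.leaf 0x3000c3061d800002000c30953c00000000c30253200004000c201880)))) (.node 108 (.node 106 (.node 105 (.leaf 0x2000c504e5800004000c40784400003000c4007c200001000c404f48) (.leaf 0x3000c907abe00003000c80835c00001000c80137500002000c6056ca)) (.node 107 (.leaf 0x4000cb0acc300003000cb0686100002000cb00b9b00002000ca00963) (.leaf 0x3000cd0350300001000cd0096200002000cc099bf00001000cc0117e))) (.node 110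 (.node 109 (.leaf 0x2000d20995c00001000d000b5b00002000ce0678d00001000ce06439) (.leaf 0x1000d5007b800002000d4061a800001000d4018c300001000d30a255)) (.node 111 (.leaf 0x3000d700d0d00002000d7015d100003000d6007ba00002000d6067af) (.leaf 0x2000dd067ae00001000da0b17300001000d80835700004000d701587))))) (.node 120 (.node 116 (.node 114 (.node 113 (.leaf 0x3000e00114e00002000e0075eb00003000df099be00001000df03505) (.leaf 0x3000e60684a00001000e30096400003000e2000c100004000e000dd4)) (.node 115 (.leaf 0x3000e9007b900001000e8026c300001000e700e7b00004000e6054f5) (.leaf 0x1000ed009d700003000ec0762a00002000ec0500000003000eb00936))) (.node 118 (.node 117 (.leaf 0x2000ef0797a00001000ef009d800000000ef089e000002000ee01066) (.leaf 0x2000f4099bc00003000f200a6d00004000f1099bb00002000f00d203)) (.node 119 (.leaf 0x3000f70783b00002000f70279900004000f60d20500001000f608387) (.leaf 0x1000fc00e9c00002000fa07bca00001000f800c0500004000f70a27e)))) (.node 124 (.node 122 (.node 121 (.leaf 0x1000ff0115100000000ff00bc300002000fe0946700000000fe027af)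 (.leaf 0x100102009d500001001010489200002001000350400003000ff007b7)) (.node 123 (.leaf 0x40010300dd500002001030b154000010010300780000040010200c22) (.leaf 0x100108067de000040010706480000020010500b6a00001001040b252))) (.node 126 (.node 125 (.leaf 0x10010a00dd6000040010902678000030010900dca000020010904e85) (.leaf 0x10010d00bc4000030010c007c1000030010b099bd000010010b0a702)) (.node 127 (.leaf 0x200110099c0000010011006862000030010f01146000020010e01e40) (.leaf 0x200112018c60000100112061d50000300111007e0000010011102d0f))))))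

def regKEB4 : Bst := (.node 144 (.node 136 (.node 132 (.node 130 (.node 129 (.leaf 0x10011700b6d000020011400786000010011400834000000011400832) (.leaf 0x20011b0cda5000000011b06ca4000040011906438000030011800972)) (.node 131 (.leaf 0x20011d07d60000030011c061b8000010011c07e31000030011b0b255) (.leaf 0x300120026b500001001201003b000020011f0286a000030011e00938))) (.node 134 (.node 133 (.leaf 0x1001230106500003001220057f0000000122076220000300121007b5) (.leaf 0x100125027c2000040012400a6c000030012400d0e000000012406479)) (.node 135 (.leaf 0x1001280269b00004001270137400003001270057d000020012604e5a) (.leaf 0x12a00e4200004001290286b0000100129009390000300128015d0)))) (.node 140 (.node 138 (.node 137 (.leaf 0x300132051b3000040012c093a5000030012c07824000020012b067b0) (.leaf 0x300136010be0000400134061d00000300133007b4000020013307e1d)) (.node 139 (.leaf 0x10013b007c0000020013a07839000010013901067000010013700cd8) (.leaf 0x20013d00785000010013d01e42000030013c01e4f000020013c0269d))) (.node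 142 (.node 141 (.leaf 0x20014200c04000030014007823000040013e00b69000020013e00fce) (.leaf 0x40014600784000030014600fd00000300145007c3000030014401257)) (.node 143 (.leaf 0x10014c0950b000020014a00cd90000300148104da000020014700c9f) (.leaf 0x1001520647b000020014f02530000010014d0560a000030014c035a4))))) (.node 152 (.node 148 (.node 146 (.node 145 (.leaf 0x1001590996a000020015602531000040015300e9d000010015306848) (.leaf 0x30015c00cd7000040015a0114f000030015a00dd2000020015a0d31b)) (.node 147 (.leaf 0x1001670269c00003001640057b000030016200bc5000010015d00971) (.leaf 0x16a06ca500004001690115000002001690b2df000040016800d0c))) (.node 150 (.node 149 (.leaf 0x40016e07abd000040016d06481000030016b0279c000020016a0cda4) (.leaf 0x200176018c50000100176089e50000100175012c30000200172012c2)) (.node 151 (.leaf 0x40017b0678e000030017b02cd600004001780761d00003001780dd7d) (.leaf 0x300185000c2000040017e0676b000030017e0783a000010017d02cd4)))) (.node 156 (.node 154 (.node 153 (.leaf 0x10018a01fbd00004001890b171000020018700b5d0000100186000c0)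 (.leaf 0x1001900647f000030018e00afd000030018c007bf000020018c0acc4)) (.node 155 (.leaf 0x2001970643b000030019500dc900004001940acc5000030019406ca7) (.leaf 0x10019c0b251000020019a0953b00001001990096f00001001980b254))) (.node 158 (.node 157 (.leaf 0x2001a20622500004001a000c5d00003001a007a58000010019f04f49) (.leaf 0x1001af07a5600003001aa0762300001001a60500100001001a401586)) (.node 159 (.leaf 0x3001b80093700003001b600e7e00003001b40b0b600003001b300cd4) (.leaf 0x2001c500ca300004001bb00a6b00001001bb00e7d00001001ba08e81))))))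

def regKEB5 : Bst := (.node 164 (.node 162 (.node 161 (.leaf 0x1001d600e9600002001d20953a00003001cd0279b00002001cc00afe) (.leaf 0x3001e10a28000002001df0097000002001db093a400001001d907e1e)) (.node 163 (.leaf 0x3001ec007c400002001ec0950100003001e302c5300004001e107a57) (.leaf 0x1001fd051ac00004001f00950000003001f00a27f00003001ed01378))) (.node 166 (.node 165 (.leaf 0x10020f00fcf000010020b0643a000010020a061b9000010020807e30) (.leaf 0x10021500fcd0000200213040f900001002120057e00002002100057c)) (.node 167 (.leaf 0x2220279d000040022100d0a000040021900bca0000200217040f8) (.leaf 0x10025206482000040023000782000020022b0078300003002290b0b7))))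

/-- A regular orbit (entries) -/
def regKE : Tab := ⟨(.node 96 (.node 32 regKEB0 (.node 64 regKEB1 regKEB2)) (.node 128 regKEB3 (.node 160 regKEB4 regKEB5))), 60, 2⟩

def regKPB0 : Bst := (.node 16 (.node 8 (.node 4 (.node 2 (.node 1 (.leaf 0) (.leaf 0)) (.node 3 (.leaf 0) (.leaf 0))) (.node 6 (.node 5 (.leaf 0) (.leaf 0)) (.node 7 (.leaf 0) (.leaf 0)))) (.node 12 (.node 10 (.node 9 (.leaf 0) (.leaf 0)) (.node 11 (.leaf 0) (.leaf 0))) (.node 14 (.node 13 (.leaf 0) (.leaf 0)) (.node 15 (.leaf 0) (.leaf 0))))) (.node 24 (.node 20 (.node 18 (.node 17 (.leaf 0) (.leaf 0)) (.node 19 (.leaf 0) (.leaf 0))) (.node 22 (.node 21 (.leaf 0) (.leaf 0)) (.node 23 (.leaf 0) (.leaf 0)))) (.node 28 (.node 26 (.node 25 (.leaf 0) (.leaf 0)) (.node 27 (.leaf 0) (.leaf 0))) (.node 30 (.node 29 (.leaf 0) (.leaf 0)) (.node 31 (.leaf 0) (.leaf 0))))))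

def regKPB1 : Bst := (.node 48 (.node 40 (.node 36 (.node 34 (.node 33 (.leaf 0) (.leaf 0)) (.node 35 (.leaf 0) (.leaf 0))) (.node 38 (.node 37 (.leaf 0) (.leaf 0)) (.node 39 (.leaf 0) (.leaf 0)))) (.node 44 (.node 42 (.node 41 (.leaf 0) (.leaf 0)) (.node 43 (.leaf 0) (.leaf 0))) (.node 46 (.node 45 (.leaf 0) (.leaf 0)) (.node 47 (.leaf 0) (.leaf 0x113000b10000100000))))) (.node 56 (.node 52 (.node 50 (.node 49 (.leaf 0x25f001c500260) (.leaf 0)) (.node 51 (.leaf 0) (.leaf 0))) (.node 54 (.node 53 (.leaf 0) (.leaf 0)) (.node 55 (.leaf 0) (.leaf 0)))) (.node 60 (.node 58 (.node 57 (.leaf 0) (.leaf 0)) (.node 59 (.leaf 0) (.leaf 0))) (.node 62 (.node 61 (.leaf 0) (.leaf 0)) (.node 63 (.leaf 0) (.leaf 0))))))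

def regKPB2 : Bst := (.node 80 (.node 72 (.node 68 (.node 66 (.node 65 (.leaf 0) (.leaf 0)) (.node 67 (.leaf 0) (.leaf 0))) (.node 70 (.node 69 (.leaf 0) (.leaf 0)) (.node 71 (.leaf 0) (.leaf 0)))) (.node 76 (.node 74 (.node 73 (.leaf 0) (.leaf 0)) (.node 75 (.leaf 0) (.leaf 0))) (.node 78 (.node 77 (.leaf 0) (.leaf 0)) (.node 79 (.leaf 0) (.leaf 0))))) (.node 88 (.node 84 (.node 82 (.node 81 (.leaf 0) (.leaf 0)) (.node 83 (.leaf 0) (.leaf 0))) (.node 86 (.node 85 (.leaf 0) (.leaf 0)) (.node 87 (.leaf 0) (.leaf 0)))) (.node 92 (.node 90 (.node 89 (.leaf 0) (.leaf 0)) (.node 91 (.leaf 0) (.leaf 0))) (.node 94 (.node 93 (.leaf 0) (.leaf 0)) (.node 95 (.leaf 0) (.leaf 0))))))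

def regKPB3 : Bst := (.node 112 (.node 104 (.node 100 (.node 98 (.node 97 (.leaf 0) (.leaf 0)) (.node 99 (.leaf 0) (.leaf 0))) (.node 102 (.node 101 (.leaf 0) (.leaf 0)) (.node 103 (.leaf 0) (.leaf 0)))) (.node 108 (.node 106 (.node 105 (.leaf 0) (.leaf 0)) (.node 107 (.leaf 0) (.leaf 0))) (.node 110 (.node 109 (.leaf 0) (.leaf 0)) (.node 111 (.leaf 0) (.leaf 0))))) (.node 120 (.node 116 (.node 114 (.node 113 (.leaf 0) (.leaf 0)) (.node 115 (.leaf 0) (.leaf 0))) (.node 118 (.node 117 (.leaf 0) (.leaf 0)) (.node 119 (.leaf 0) (.leaf 0)))) (.node 124 (.node 122 (.node 121 (.leaf 0) (.leaf 0)) (.node 123 (.leaf 0) (.leaf 0))) (.node 126 (.node 125 (.leaf 0) (.leaf 0)) (.node 127 (.leaf 0) (.leaf 0))))))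

def regKPB4 : Bst := (.node 144 (.node 136 (.node 132 (.node 130 (.node 129 (.leaf 0) (.leaf 0)) (.node 131 (.leaf 0) (.leaf 0))) (.node 134 (.node 133 (.leaf 0) (.leaf 0)) (.node 135 (.leaf 0) (.leaf 0)))) (.node 140 (.node 138 (.node 137 (.leaf 0) (.leaf 0)) (.node 139 (.leaf 0) (.leaf 0))) (.node 142 (.node 141 (.leaf 0) (.leaf 0)) (.node 143 (.leaf 0) (.leaf 0))))) (.node 152 (.node 148 (.node 146 (.node 145 (.leaf 0) (.leaf 0)) (.node 147 (.leaf 0) (.leaf 0))) (.node 150 (.node 149 (.leaf 0) (.leaf 0)) (.node 151 (.leaf 0) (.leaf 0)))) (.node 156 (.node 154 (.node 153 (.leaf 0) (.leaf 0)) (.node 155 (.leaf 0) (.leaf 0))) (.node 158 (.node 157 (.leaf 0) (.leaf 0)) (.node 159 (.leaf 0) (.leaf 0))))))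

def regKPB5 : Bst := (.node 176 (.node 168 (.node 164 (.node 162 (.node 161 (.leaf 0) (.leaf 0)) (.node 163 (.leaf 0) (.leaf 0))) (.node 166 (.node 165 (.leaf 0) (.leaf 0)) (.node 167 (.leaf 0) (.leaf 0)))) (.node 172 (.node 170 (.node 169 (.leaf 0) (.leaf 0)) (.node 171 (.leaf 0) (.leaf 0))) (.node 174 (.node 173 (.leaf 0) (.leaf 0)) (.node 175 (.leaf 0) (.leaf 0))))) (.node 184 (.node 180 (.node 178 (.node 177 (.leaf 0) (.leaf 0)) (.node 179 (.leaf 0) (.leaf 0))) (.node 182 (.node 181 (.leaf 0) (.leaf 0)) (.node 183 (.leaf 0) (.leaf 0)))) (.node 188 (.node 186 (.node 185 (.leaf 0) (.leaf 0)) (.node 187 (.leaf 0) (.leaf 0))) (.node 190 (.node 189 (.leaf 0) (.leaf 0)) (.node 191 (.leaf 0) (.leaf 0))))))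

def regKPB6 : Bst := (.node 208 (.node 200 (.node 196 (.node 194 (.node 193 (.leaf 0) (.leaf 0)) (.node 195 (.leaf 0) (.leaf 0))) (.node 198 (.node 197 (.leaf 0) (.leaf 0)) (.node 199 (.leaf 0) (.leaf 0)))) (.node 204 (.node 202 (.node 201 (.leaf 0) (.leaf 0)) (.node 203 (.leaf 0) (.leaf 0))) (.node 206 (.node 205 (.leaf 0) (.leaf 0)) (.node 207 (.leaf 0) (.leaf 0))))) (.node 216 (.node 212 (.node 210 (.node 209 (.leaf 0) (.leaf 0)) (.node 211 (.leaf 0) (.leaf 0))) (.node 214 (.node 213 (.leaf 0) (.leaf 0)) (.node 215 (.leaf 0) (.leaf 0)))) (.node 220 (.node 218 (.node 217 (.leaf 0) (.leaf 0)) (.node 219 (.leaf 0) (.leaf 0))) (.node 222 (.node 221 (.leaf 0) (.leaf 0)) (.node 223 (.leaf 0) (.leaf 0))))))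

def regKPB7 : Bst := (.node 240 (.node 232 (.node 228 (.node 226 (.node 225 (.leaf 0) (.leaf 0)) (.node 227 (.leaf 0) (.leaf 0))) (.node 230 (.node 229 (.leaf 0) (.leaf 0)) (.node 231 (.leaf 0) (.leaf 0)))) (.node 236 (.node 234 (.node 233 (.leaf 0) (.leaf 0)) (.node 235 (.leaf 0) (.leaf 0))) (.node 238 (.node 237 (.leaf 0) (.leaf 0)) (.node 239 (.leaf 0) (.leaf 0))))) (.node 248 (.node 244 (.node 242 (.node 241 (.leaf 0) (.leaf 0)) (.node 243 (.leaf 0) (.leaf 0))) (.node 246 (.node 245 (.leaf 0) (.leaf 0)) (.node 247 (.leaf 0) (.leaf 0)))) (.node 252 (.node 250 (.node 249 (.leaf 0) (.leaf 0)) (.node 251 (.leaf 0) (.leaf 0))) (.node 254 (.node 253 (.leaf 0) (.leaf 0)) (.node 255 (.leaf 0) (.leaf 0))))))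

def regKPB8 : Bst := (.node 272 (.node 264 (.node 260 (.node 258 (.node 257 (.leaf 0) (.leaf 0)) (.node 259 (.leaf 0) (.leaf 0))) (.node 262 (.node 261 (.leaf 0) (.leaf 0)) (.node 263 (.leaf 0) (.leaf 0)))) (.node 268 (.node 266 (.node 265 (.leaf 0) (.leaf 0)) (.node 267 (.leaf 0) (.leaf 0))) (.node 270 (.node 269 (.leaf 0) (.leaf 0)) (.node 271 (.leaf 0) (.leaf 0))))) (.node 280 (.node 276 (.node 274 (.node 273 (.leaf 0) (.leaf 0)) (.node 275 (.leaf 0) (.leaf 0))) (.node 278 (.node 277 (.leaf 0) (.leaf 0)) (.node 279 (.leaf 0) (.leaf 0)))) (.node 284 (.node 282 (.node 281 (.leaf 0) (.leaf 0)) (.node 283 (.leaf 0) (.leaf 0))) (.node 286 (.node 285 (.leaf 0) (.leaf 0)) (.node 287 (.leaf 0) (.leaf 0))))))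

def regKPB9 : Bst := (.node 304 (.node 296 (.node 292 (.node 290 (.node 289 (.leaf 0) (.leaf 0)) (.node 291 (.leaf 0) (.leaf 0))) (.node 294 (.node 293 (.leaf 0) (.leaf 0)) (.node 295 (.leaf 0) (.leaf 0)))) (.node 300 (.node 298 (.node 297 (.leaf 0) (.leaf 0)) (.node 299 (.leaf 0) (.leaf 0))) (.node 302 (.node 301 (.leaf 0) (.leaf 0)) (.node 303 (.leaf 0) (.leaf 0))))) (.node 312 (.node 308 (.node 306 (.node 305 (.leaf 0) (.leaf 0)) (.node 307 (.leaf 0) (.leaf 0))) (.node 310 (.node 309 (.leaf 0) (.leaf 0)) (.node 311 (.leaf 0) (.leaf 0)))) (.node 316 (.node 314 (.node 313 (.leaf 0) (.leaf 0)) (.node 315 (.leaf 0) (.leaf 0))) (.node 318 (.node 317 (.leaf 0) (.leaf 0)) (.node 319 (.leaf 0) (.leaf 0))))))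

def regKPB10 : Bst := (.node 336 (.node 328 (.node 324 (.node 322 (.node 321 (.leaf 0) (.leaf 0)) (.node 323 (.leaf 0) (.leaf 0))) (.node 326 (.node 325 (.leaf 0) (.leaf 0)) (.node 327 (.leaf 0) (.leaf 0)))) (.node 332 (.node 330 (.node 329 (.leaf 0) (.leaf 0)) (.node 331 (.leaf 0) (.leaf 0))) (.node 334 (.node 333 (.leaf 0) (.leaf 0)) (.node 335 (.leaf 0) (.leaf 0))))) (.node 344 (.node 340 (.node 338 (.node 337 (.leaf 0) (.leaf 0)) (.node 339 (.leaf 0) (.leaf 0))) (.node 342 (.node 341 (.leaf 0) (.leaf 0)) (.node 343 (.leaf 0) (.leaf 0)))) (.node 348 (.node 346 (.node 345 (.leaf 0) (.leaf 0)) (.node 347 (.leaf 0) (.leaf 0))) (.node 350 (.node 349 (.leaf 0) (.leaf 0)) (.node 351 (.leaf 0x24a0016e000e500000) (.leaf 0x212002950021900294))))))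

def regKPB11 : Bst := (.node 368 (.node 360 (.node 356 (.node 354 (.node 353 (.leaf 0) (.leaf 0)) (.node 355 (.leaf 0) (.leaf 0))) (.node 358 (.node 357 (.leaf 0) (.leaf 0)) (.node 359 (.leaf 0) (.leaf 0)))) (.node 364 (.node 362 (.node 361 (.leaf 0) (.leaf 0)) (.node 363 (.leaf 0) (.leaf 0))) (.node 366 (.node 365 (.leaf 0x95000320000000000) (.leaf 0x1740017e000b4)) (.node 367 (.leaf 0) (.leaf 0))))) (.node 376 (.node 372 (.node 370 (.node 369 (.leaf 0) (.leaf 0)) (.node 371 (.leaf 0) (.leaf 0))) (.node 374 (.node 373 (.leaf 0) (.leaf 0)) (.node 375 (.leaf 0) (.leaf 0)))) (.node 380 (.node 378 (.node 377 (.leaf 0) (.leaf 0)) (.node 379 (.leaf 0) (.leaf 0))) (.node 382 (.node 381 (.leaf 0) (.leaf 0)) (.node 383 (.leaf 0) (.leaf 0))))))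

def regKPB12 : Bst := (.node 400 (.node 392 (.node 388 (.node 386 (.node 385 (.leaf 0) (.leaf 0)) (.node 387 (.leaf 0) (.leaf 0))) (.node 390 (.node 389 (.leaf 0) (.leaf 0)) (.node 391 (.leaf 0) (.leaf 0)))) (.node 396 (.node 394 (.node 393 (.leaf 0) (.leaf 0)) (.node 395 (.leaf 0) (.leaf 0))) (.node 398 (.node 397 (.leaf 0) (.leaf 0)) (.node 399 (.leaf 0) (.leaf 0))))) (.node 408 (.node 404 (.node 402 (.node 401 (.leaf 0) (.leaf 0)) (.node 403 (.leaf 0) (.leaf 0))) (.node 406 (.node 405 (.leaf 0) (.leaf 0)) (.node 407 (.leaf 0) (.leaf 0)))) (.node 412 (.node 410 (.node 409 (.leaf 0) (.leaf 0)) (.node 411 (.leaf 0) (.leaf 0))) (.node 414 (.node 413 (.leaf 0) (.leaf 0)) (.node 415 (.leaf 0) (.leaf 0))))))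

def regKPB13 : Bst := (.node 432 (.node 424 (.node 420 (.node 418 (.node 417 (.leaf 0) (.leaf 0)) (.node 419 (.leaf 0) (.leaf 0))) (.node 422 (.node 421 (.leaf 0) (.leaf 0)) (.node 423 (.leaf 0) (.leaf 0)))) (.node 428 (.node 426 (.node 425 (.leaf 0) (.leaf 0)) (.node 427 (.leaf 0) (.leaf 0))) (.node 430 (.node 429 (.leaf 0) (.leaf 0)) (.node 431 (.leaf 0) (.leaf 0))))) (.node 440 (.node 436 (.node 434 (.node 433 (.leaf 0) (.leaf 0)) (.node 435 (.leaf 0) (.leaf 0))) (.node 438 (.node 437 (.leaf 0) (.leaf 0)) (.node 439 (.leaf 0) (.leaf 0)))) (.node 444 (.node 442 (.node 441 (.leaf 0) (.leaf 0)) (.node 443 (.leaf 0) (.leaf 0))) (.node 446 (.node 445 (.leaf 0) (.leaf 0)) (.node 447 (.leaf 0) (.leaf 0))))))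

def regKPB14 : Bst := (.node 464 (.node 456 (.node 452 (.node 450 (.node 449 (.leaf 0) (.leaf 0)) (.node 451 (.leaf 0) (.leaf 0))) (.node 454 (.node 453 (.leaf 0) (.leaf 0)) (.node 455 (.leaf 0) (.leaf 0)))) (.node 460 (.node 458 (.node 457 (.leaf 0) (.leaf 0)) (.node 459 (.leaf 0) (.leaf 0x97001340000000000))) (.node 462 (.node 461 (.leaf 0x8e) (.leaf 0)) (.node 463 (.leaf 0) (.leaf 0))))) (.node 472 (.node 468 (.node 466 (.node 465 (.leaf 0) (.leaf 0)) (.node 467 (.leaf 0) (.leaf 0))) (.node 470 (.node 469 (.leaf 0) (.leaf 0)) (.node 471 (.leaf 0) (.leaf 0)))) (.node 476 (.node 474 (.node 473 (.leaf 0) (.leaf 0)) (.node 475 (.leaf 0) (.leaf 0))) (.node 478 (.node 477 (.leaf 0) (.leaf 0)) (.node 479 (.leaf 0) (.leaf 0))))))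

def regKPB15 : Bst := (.node 496 (.node 488 (.node 484 (.node 482 (.node 481 (.leaf 0x29d0029e00188001e9) (.leaf 0x2020022f00237)) (.node 483 (.leaf 0xd1000000000000000) (.leaf 0x50000070000300073))) (.node 486 (.node 485 (.leaf 0x9100076) (.leaf 0xca000400001300033)) (.node 487 (.leaf 0x18700138) (.leaf 0)))) (.node 492 (.node 490 (.node 489 (.leaf 0) (.leaf 0)) (.node 491 (.leaf 0) (.leaf 0))) (.node 494 (.node 493 (.leaf 0) (.leaf 0x1e40010a0021000225)) (.node 495 (.leaf 0x1b9001cb001b7) (.leaf 0x265000000000000000))))) (.node 504 (.node 500 (.node 498 (.node 497 (.leaf 0x235001a1001f60022b) (.leaf 0x28b)) (.node 499 (.leaf 0) (.leaf 0))) (.node 502 (.node 501 (.leaf 0) (.leaf 0)) (.node 503 (.leaf 0) (.leaf 0x17f000000000000000)))) (.node 508 (.node 506 (.node 505 (.leaf 0x1fd) (.leaf 0)) (.node 507 (.leaf 0) (.leaf 0))) (.node 510 (.node 509 (.leaf 0) (.leaf 0)) (.node 511 (.leaf 0) (.leaf 0))))))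

def regKPB16 : Bst := (.node 528 (.node 520 (.node 516 (.node 514 (.node 513 (.leaf 0) (.leaf 0)) (.node 515 (.leaf 0) (.leaf 0))) (.node 518 (.node 517 (.leaf 0) (.leaf 0)) (.node 519 (.leaf 0) (.leaf 0)))) (.node 524 (.node 522 (.node 521 (.leaf 0) (.leaf 0)) (.node 523 (.leaf 0) (.leaf 0x11000040000000000))) (.node 526 (.node 525 (.leaf 0x11400200000980013f) (.leaf 0x201)) (.node 527 (.leaf 0) (.leaf 0))))) (.node 536 (.node 532 (.node 530 (.node 529 (.leaf 0) (.leaf 0)) (.node 531 (.leaf 0) (.leaf 0))) (.node 534 (.node 533 (.leaf 0) (.leaf 0)) (.node 535 (.leaf 0) (.leaf 0)))) (.node 540 (.node 538 (.node 537 (.leaf 0) (.leaf 0)) (.node 539 (.leaf 0) (.leaf 0))) (.node 542 (.node 541 (.leaf 0) (.leaf 0)) (.node 543 (.leaf 0) (.leaf 0))))))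

def regKPB17 : Bst := (.node 560 (.node 552 (.node 548 (.node 546 (.node 545 (.leaf 0) (.leaf 0)) (.node 547 (.leaf 0) (.leaf 0))) (.node 550 (.node 549 (.leaf 0) (.leaf 0)) (.node 551 (.leaf 0) (.leaf 0)))) (.node 556 (.node 554 (.node 553 (.leaf 0) (.leaf 0)) (.node 555 (.leaf 0) (.leaf 0))) (.node 558 (.node 557 (.leaf 0) (.leaf 0)) (.node 559 (.leaf 0) (.leaf 0))))) (.node 568 (.node 564 (.node 562 (.node 561 (.leaf 0) (.leaf 0)) (.node 563 (.leaf 0) (.leaf 0))) (.node 566 (.node 565 (.leaf 0) (.leaf 0)) (.node 567 (.leaf 0) (.leaf 0)))) (.node 572 (.node 570 (.node 569 (.leaf 0) (.leaf 0)) (.node 571 (.leaf 0) (.leaf 0))) (.node 574 (.node 573 (.leaf 0) (.leaf 0)) (.node 575 (.leaf 0) (.leaf 0))))))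

def regKPB18 : Bst := (.node 592 (.node 584 (.node 580 (.node 578 (.node 577 (.leaf 0) (.leaf 0)) (.node 579 (.leaf 0) (.leaf 0))) (.node 582 (.node 581 (.leaf 0) (.leaf 0)) (.node 583 (.leaf 0) (.leaf 0)))) (.node 588 (.node 586 (.node 585 (.leaf 0) (.leaf 0)) (.node 587 (.leaf 0) (.leaf 0))) (.node 590 (.node 589 (.leaf 0) (.leaf 0x27b001cc0000000000)) (.node 591 (.leaf 0x21d0020c) (.leaf 0))))) (.node 600 (.node 596 (.node 594 (.node 593 (.leaf 0) (.leaf 0)) (.node 595 (.leaf 0) (.leaf 0))) (.node 598 (.node 597 (.leaf 0) (.leaf 0)) (.node 599 (.leaf 0) (.leaf 0)))) (.node 604 (.node 602 (.node 601 (.leaf 0x1a8001ae0000000000) (.leaf 0x1c6)) (.node 603 (.leaf 0) (.leaf 0x26d000000000000000))) (.node 606 (.node 605 (.leaf 0x2040024800286) (.leaf 0)) (.node 607 (.leaf 0) (.leaf 0))))))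

def regKPB19 : Bst := (.node 624 (.node 616 (.node 612 (.node 610 (.node 609 (.leaf 0) (.leaf 0)) (.node 611 (.leaf 0) (.leaf 0))) (.node 614 (.node 613 (.leaf 0) (.leaf 0)) (.node 615 (.leaf 0) (.leaf 0)))) (.node 620 (.node 618 (.node 617 (.leaf 0) (.leaf 0)) (.node 619 (.leaf 0) (.leaf 0))) (.node 622 (.node 621 (.leaf 0) (.leaf 0)) (.node 623 (.leaf 0) (.leaf 0))))) (.node 632 (.node 628 (.node 626 (.node 625 (.leaf 0) (.leaf 0)) (.node 627 (.leaf 0) (.leaf 0))) (.node 630 (.node 629 (.leaf 0x49000000000000000) (.leaf 0x1cf0014c001e700024)) (.node 631 (.leaf 0xef001d2) (.leaf 0)))) (.node 636 (.node 634 (.node 633 (.leaf 0) (.leaf 0)) (.node 635 (.leaf 0) (.leaf 0))) (.node 638 (.node 637 (.leaf 0) (.leaf 0)) (.node 639 (.leaf 0) (.leaf 0))))))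

def regKPB20 : Bst := (.node 656 (.node 648 (.node 644 (.node 642 (.node 641 (.leaf 0) (.leaf 0)) (.node 643 (.leaf 0) (.leaf 0))) (.node 646 (.node 645 (.leaf 0) (.leaf 0)) (.node 647 (.leaf 0) (.leaf 0)))) (.node 652 (.node 650 (.node 649 (.leaf 0) (.leaf 0)) (.node 651 (.leaf 0) (.leaf 0))) (.node 654 (.node 653 (.leaf 0) (.leaf 0)) (.node 655 (.leaf 0) (.leaf 0x750011500146000cb))))) (.node 664 (.node 660 (.node 658 (.node 657 (.leaf 0) (.leaf 0)) (.node 659 (.leaf 0) (.leaf 0))) (.node 662 (.node 661 (.leaf 0) (.leaf 0)) (.node 663 (.leaf 0) (.leaf 0)))) (.node 668 (.node 666 (.node 665 (.leaf 0) (.leaf 0)) (.node 667 (.leaf 0x27e000000000000000) (.leaf 0x1d600216))) (.node 670 (.node 669 (.leaf 0) (.leaf 0)) (.node 671 (.leaf 0) (.leaf 0))))))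

def regKPB21 : Bst := (.node 688 (.node 680 (.node 676 (.node 674 (.node 673 (.leaf 0) (.leaf 0)) (.node 675 (.leaf 0) (.leaf 0))) (.node 678 (.node 677 (.leaf 0) (.leaf 0)) (.node 679 (.leaf 0) (.leaf 0)))) (.node 684 (.node 682 (.node 681 (.leaf 0) (.leaf 0)) (.node 683 (.leaf 0) (.leaf 0))) (.node 686 (.node 685 (.leaf 0) (.leaf 0)) (.node 687 (.leaf 0) (.leaf 0))))) (.node 696 (.node 692 (.node 690 (.node 689 (.leaf 0) (.leaf 0)) (.node 691 (.leaf 0) (.leaf 0))) (.node 694 (.node 693 (.leaf 0) (.leaf 0)) (.node 695 (.leaf 0) (.leaf 0)))) (.node 700 (.node 698 (.node 697 (.leaf 0) (.leaf 0)) (.node 699 (.leaf 0) (.leaf 0))) (.node 702 (.node 701 (.leaf 0) (.leaf 0)) (.node 703 (.leaf 0) (.leaf 0x2800026600000))))))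

def regKPB22 : Bst := (.node 720 (.node 712 (.node 708 (.node 706 (.node 705 (.leaf 0) (.leaf 0)) (.node 707 (.leaf 0) (.leaf 0))) (.node 710 (.node 709 (.leaf 0) (.leaf 0)) (.node 711 (.leaf 0) (.leaf 0)))) (.node 716 (.node 714 (.node 713 (.leaf 0) (.leaf 0)) (.node 715 (.leaf 0) (.leaf 0))) (.node 718 (.node 717 (.leaf 0) (.leaf 0)) (.node 719 (.leaf 0) (.leaf 0))))) (.node 728 (.node 724 (.node 722 (.node 721 (.leaf 0) (.leaf 0)) (.node 723 (.leaf 0) (.leaf 0))) (.node 726 (.node 725 (.leaf 0) (.leaf 0)) (.node 727 (.leaf 0x1b2000000000000000) (.leaf 0x1400023002610018e)))) (.node 732 (.node 730 (.node 729 (.leaf 0) (.leaf 0)) (.node 731 (.leaf 0x116001ed0023100000) (.leaf 0xfd000cf002030013d))) (.node 734 (.node 733 (.leaf 0) (.leaf 0)) (.node 735 (.leaf 0) (.leaf 0))))))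

def regKPB23 : Bst := (.node 752 (.node 744 (.node 740 (.node 738 (.node 737 (.leaf 0) (.leaf 0)) (.node 739 (.leaf 0) (.leaf 0))) (.node 742 (.node 741 (.leaf 0x137000d000000) (.leaf 0)) (.node 743 (.leaf 0x1a9000f50006300045) (.leaf 0x117)))) (.node 748 (.node 746 (.node 745 (.leaf 0) (.leaf 0)) (.node 747 (.leaf 0) (.leaf 0))) (.node 750 (.node 749 (.leaf 0) (.leaf 0)) (.node 751 (.leaf 0) (.leaf 0xe300186))))) (.node 760 (.node 756 (.node 754 (.node 753 (.leaf 0x1e2000ff0000000000) (.leaf 0x249001f7)) (.node 755 (.leaf 0x103002990000000000) (.leaf 0x2))) (.node 758 (.node 757 (.leaf 0x6000660000000000) (.leaf 0x74000280000a00019)) (.node 759 (.leaf 0x1d) (.leaf 0)))) (.node 764 (.node 762 (.node 761 (.leaf 0) (.leaf 0)) (.node 763 (.leaf 0) (.leaf 0))) (.node 766 (.node 765 (.leaf 0) (.leaf 0)) (.node 767 (.leaf 0) (.leaf 0))))))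

def regKPB24 : Bst := (.node 784 (.node 776 (.node 772 (.node 770 (.node 769 (.leaf 0x129000000000000000) (.leaf 0xaa00078001dd00233)) (.node 771 (.leaf 0x52) (.leaf 0))) (.node 774 (.node 773 (.leaf 0xb800000) (.leaf 0x3f000000000000000)) (.node 775 (.leaf 0xe0009a00051) (.leaf 0)))) (.node 780 (.node 778 (.node 777 (.leaf 0x105001e80000000000) (.leaf 0x480006e)) (.node 779 (.leaf 0) (.leaf 0))) (.node 782 (.node 781 (.leaf 0) (.leaf 0)) (.node 783 (.leaf 0) (.leaf 0))))) (.node 792 (.node 788 (.node 786 (.node 785 (.leaf 0) (.leaf 0)) (.node 787 (.leaf 0) (.leaf 0))) (.node 790 (.node 789 (.leaf 0) (.leaf 0)) (.node 791 (.leaf 0) (.leaf 0x27200000)))) (.node 796 (.node 794 (.node 793 (.leaf 0x37000a40015e00000) (.leaf 0x27000250003d)) (.node 795 (.leaf 0) (.leaf 0))) (.node 798 (.node 797 (.leaf 0) (.leaf 0)) (.node 799 (.leaf 0) (.leaf 0))))))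

def regKPB25 : Bst := (.node 816 (.node 808 (.node 804 (.node 802 (.node 801 (.leaf 0) (.leaf 0)) (.node 803 (.leaf 0) (.leaf 0))) (.node 806 (.node 805 (.leaf 0) (.leaf 0)) (.node 807 (.leaf 0) (.leaf 0x238000000000000000)))) (.node 812 (.node 810 (.node 809 (.leaf 0x27f000000000000000) (.leaf 0xe4000eb00164)) (.node 811 (.leaf 0) (.leaf 0))) (.node 814 (.node 813 (.leaf 0) (.leaf 0)) (.node 815 (.leaf 0) (.leaf 0))))) (.node 824 (.node 820 (.node 818 (.node 817 (.leaf 0) (.leaf 0)) (.node 819 (.leaf 0) (.leaf 0))) (.node 822 (.node 821 (.leaf 0) (.leaf 0x247000000000000278)) (.node 823 (.leaf 0x23a00228) (.leaf 0)))) (.node 828 (.node 826 (.node 825 (.leaf 0) (.leaf 0)) (.node 827 (.leaf 0) (.leaf 0))) (.node 830 (.node 829 (.leaf 0) (.leaf 0)) (.node 831 (.leaf 0) (.leaf 0))))))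

def regKPB26 : Bst := (.node 848 (.node 840 (.node 836 (.node 834 (.node 833 (.leaf 0) (.leaf 0)) (.node 835 (.leaf 0x16b0029a0000000000) (.leaf 0x215001bb0024c))) (.node 838 (.node 837 (.leaf 0) (.leaf 0)) (.node 839 (.leaf 0) (.leaf 0)))) (.node 844 (.node 842 (.node 841 (.leaf 0) (.leaf 0)) (.node 843 (.leaf 0) (.leaf 0))) (.node 846 (.node 845 (.leaf 0) (.leaf 0)) (.node 847 (.leaf 0) (.leaf 0))))) (.node 856 (.node 852 (.node 850 (.node 849 (.leaf 0) (.leaf 0)) (.node 851 (.leaf 0) (.leaf 0))) (.node 854 (.node 853 (.leaf 0) (.leaf 0)) (.node 855 (.leaf 0) (.leaf 0)))) (.node 860 (.node 858 (.node 857 (.leaf 0) (.leaf 0)) (.node 859 (.leaf 0) (.leaf 0))) (.node 862 (.node 861 (.leaf 0) (.leaf 0)) (.node 863 (.leaf 0) (.leaf 0))))))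

def regKPB27 : Bst := (.node 880 (.node 872 (.node 868 (.node 866 (.node 865 (.leaf 0) (.leaf 0)) (.node 867 (.leaf 0x2f0001200000) (.leaf 0))) (.node 870 (.node 869 (.leaf 0xf00005f0000000000) (.leaf 0x2e000c10004e)) (.node 871 (.leaf 0) (.leaf 0)))) (.node 876 (.node 874 (.node 873 (.leaf 0) (.leaf 0)) (.node 875 (.leaf 0) (.leaf 0))) (.node 878 (.node 877 (.leaf 0) (.leaf 0)) (.node 879 (.leaf 0) (.leaf 0))))) (.node 888 (.node 884 (.node 882 (.node 881 (.leaf 0) (.leaf 0)) (.node 883 (.leaf 0x1f10026a00000) (.leaf 0))) (.node 886 (.node 885 (.leaf 0x169002450000000000) (.leaf 0x1f3001eb001c4)) (.node 887 (.leaf 0) (.leaf 0)))) (.node 892 (.node 890 (.node 889 (.leaf 0) (.leaf 0)) (.node 891 (.leaf 0) (.leaf 0))) (.node 894 (.node 893 (.leaf 0) (.leaf 0)) (.node 895 (.leaf 0) (.leaf 0))))))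

def regKPB28 : Bst := (.node 912 (.node 904 (.node 900 (.node 898 (.node 897 (.leaf 0) (.leaf 0)) (.node 899 (.leaf 0) (.leaf 0))) (.node 902 (.node 901 (.leaf 0) (.leaf 0)) (.node 903 (.leaf 0) (.leaf 0)))) (.node 908 (.node 906 (.node 905 (.leaf 0) (.leaf 0)) (.node 907 (.leaf 0) (.leaf 0))) (.node 910 (.node 909 (.leaf 0) (.leaf 0)) (.node 911 (.leaf 0) (.leaf 0))))) (.node 920 (.node 916 (.node 914 (.node 913 (.leaf 0x12a0021f0017c000c4) (.leaf 0)) (.node 915 (.leaf 0) (.leaf 0))) (.node 918 (.node 917 (.leaf 0) (.leaf 0)) (.node 919 (.leaf 0) (.leaf 0)))) (.node 924 (.node 922 (.node 921 (.leaf 0) (.leaf 0)) (.node 923 (.leaf 0) (.leaf 0))) (.node 926 (.node 925 (.leaf 0) (.leaf 0)) (.node 927 (.leaf 0x1c9000640003b00000) (.leaf 0x27a0027d00000))))))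

def regKPB29 : Bst := (.node 944 (.node 936 (.node 932 (.node 930 (.node 929 (.leaf 0) (.leaf 0)) (.node 931 (.leaf 0) (.leaf 0))) (.node 934 (.node 933 (.leaf 0) (.leaf 0x2830000000000)) (.node 935 (.leaf 0) (.leaf 0x241001df)))) (.node 940 (.node 938 (.node 937 (.leaf 0) (.leaf 0)) (.node 939 (.leaf 0) (.leaf 0))) (.node 942 (.node 941 (.leaf 0) (.leaf 0)) (.node 943 (.leaf 0) (.leaf 0))))) (.node 952 (.node 948 (.node 946 (.node 945 (.leaf 0) (.leaf 0)) (.node 947 (.leaf 0) (.leaf 0))) (.node 950 (.node 949 (.leaf 0) (.leaf 0)) (.node 951 (.leaf 0) (.leaf 0)))) (.node 956 (.node 954 (.node 953 (.leaf 0) (.leaf 0)) (.node 955 (.leaf 0) (.leaf 0))) (.node 958 (.node 957 (.leaf 0) (.leaf 0)) (.node 959 (.leaf 0) (.leaf 0))))))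

def regKPB30 : Bst := (.node 976 (.node 968 (.node 964 (.node 962 (.node 961 (.leaf 0) (.leaf 0)) (.node 963 (.leaf 0) (.leaf 0))) (.node 966 (.node 965 (.leaf 0) (.leaf 0)) (.node 967 (.leaf 0) (.leaf 0)))) (.node 972 (.node 970 (.node 969 (.leaf 0) (.leaf 0)) (.node 971 (.leaf 0) (.leaf 0))) (.node 974 (.node 973 (.leaf 0) (.leaf 0)) (.node 975 (.leaf 0) (.leaf 0))))) (.node 984 (.node 980 (.node 978 (.node 977 (.leaf 0) (.leaf 0)) (.node 979 (.leaf 0) (.leaf 0))) (.node 982 (.node 981 (.leaf 0) (.leaf 0)) (.node 983 (.leaf 0) (.leaf 0)))) (.node 988 (.node 986 (.node 985 (.leaf 0) (.leaf 0)) (.node 987 (.leaf 0) (.leaf 0))) (.node 990 (.node 989 (.leaf 0) (.leaf 0)) (.node 991 (.leaf 0) (.leaf 0))))))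

def regKPB31 : Bst := (.node 1008 (.node 1000 (.node 996 (.node 994 (.node 993 (.leaf 0) (.leaf 0)) (.node 995 (.leaf 0) (.leaf 0))) (.node 998 (.node 997 (.leaf 0) (.leaf 0)) (.node 999 (.leaf 0) (.leaf 0)))) (.node 1004 (.node 1002 (.node 1001 (.leaf 0) (.leaf 0)) (.node 1003 (.leaf 0) (.leaf 0))) (.node 1006 (.node 1005 (.leaf 0) (.leaf 0)) (.node 1007 (.leaf 0) (.leaf 0))))) (.node 1016 (.node 1012 (.node 1010 (.node 1009 (.leaf 0) (.leaf 0)) (.node 1011 (.leaf 0) (.leaf 0x293002300029700000))) (.node 1014 (.node 1013 (.leaf 0x11900236) (.leaf 0)) (.node 1015 (.leaf 0) (.leaf 0)))) (.node 1020 (.node 1018 (.node 1017 (.leaf 0) (.leaf 0)) (.node 1019 (.leaf 0) (.leaf 0))) (.node 1022 (.node 1021 (.leaf 0) (.leaf 0)) (.node 1023 (.leaf 0) (.leaf 0))))))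

def regKPB32 : Bst := (.node 1040 (.node 1032 (.node 1028 (.node 1026 (.node 1025 (.leaf 0) (.leaf 0)) (.node 1027 (.leaf 0) (.leaf 0))) (.node 1030 (.node 1029 (.leaf 0) (.leaf 0)) (.node 1031 (.leaf 0) (.leaf 0)))) (.node 1036 (.node 1034 (.node 1033 (.leaf 0) (.leaf 0)) (.node 1035 (.leaf 0) (.leaf 0))) (.node 1038 (.node 1037 (.leaf 0) (.leaf 0)) (.node 1039 (.leaf 0) (.leaf 0))))) (.node 1048 (.node 1044 (.node 1042 (.node 1041 (.leaf 0) (.leaf 0)) (.node 1043 (.leaf 0) (.leaf 0))) (.node 1046 (.node 1045 (.leaf 0) (.leaf 0)) (.node 1047 (.leaf 0) (.leaf 0)))) (.node 1052 (.node 1050 (.node 1049 (.leaf 0) (.leaf 0x229001d00021300000)) (.node 1051 (.leaf 0) (.leaf 0))) (.node 1054 (.node 1053 (.leaf 0) (.leaf 0)) (.node 1055 (.leaf 0) (.leaf 0))))))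

def regKPB33 : Bst := (.node 1072 (.node 1064 (.node 1060 (.node 1058 (.node 1057 (.leaf 0) (.leaf 0)) (.node 1059 (.leaf 0) (.leaf 0))) (.node 1062 (.node 1061 (.leaf 0) (.leaf 0)) (.node 1063 (.leaf 0) (.leaf 0)))) (.node 1068 (.node 1066 (.node 1065 (.leaf 0) (.leaf 0)) (.node 1067 (.leaf 0) (.leaf 0))) (.node 1070 (.node 1069 (.leaf 0) (.leaf 0)) (.node 1071 (.leaf 0) (.leaf 0x2270012100142))))) (.node 1080 (.node 1076 (.node 1074 (.node 1073 (.leaf 0) (.leaf 0)) (.node 1075 (.leaf 0) (.leaf 0))) (.node 1078 (.node 1077 (.leaf 0) (.leaf 0)) (.node 1079 (.leaf 0) (.leaf 0)))) (.node 1084 (.node 1082 (.node 1081 (.leaf 0) (.leaf 0)) (.node 1083 (.leaf 0) (.leaf 0))) (.node 1086 (.node 1085 (.leaf 0) (.leaf 0)) (.node 1087 (.leaf 0) (.leaf 0))))))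

def regKPB34 : Bst := (.node 1104 (.node 1096 (.node 1092 (.node 1090 (.node 1089 (.leaf 0) (.leaf 0)) (.node 1091 (.leaf 0) (.leaf 0))) (.node 1094 (.node 1093 (.leaf 0) (.leaf 0)) (.node 1095 (.leaf 0) (.leaf 0)))) (.node 1100 (.node 1098 (.node 1097 (.leaf 0) (.leaf 0)) (.node 1099 (.leaf 0) (.leaf 0))) (.node 1102 (.node 1101 (.leaf 0) (.leaf 0)) (.node 1103 (.leaf 0) (.leaf 0))))) (.node 1112 (.node 1108 (.node 1106 (.node 1105 (.leaf 0) (.leaf 0x1f90000000000)) (.node 1107 (.leaf 0) (.leaf 0x246001c30000000000))) (.node 1110 (.node 1109 (.leaf 0x1e30024e) (.leaf 0)) (.node 1111 (.leaf 0) (.leaf 0x1e00000)))) (.node 1116 (.node 1114 (.node 1113 (.leaf 0) (.leaf 0)) (.node 1115 (.leaf 0) (.leaf 0))) (.node 1118 (.node 1117 (.leaf 0) (.leaf 0)) (.node 1119 (.leaf 0) (.leaf 0x1ac0000000000))))))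

def regKPB35 : Bst := (.node 1136 (.node 1128 (.node 1124 (.node 1122 (.node 1121 (.leaf 0) (.leaf 0xf10006200000)) (.node 1123 (.leaf 0) (.leaf 0))) (.node 1126 (.node 1125 (.leaf 0) (.leaf 0)) (.node 1127 (.leaf 0) (.leaf 0)))) (.node 1132 (.node 1130 (.node 1129 (.leaf 0) (.leaf 0)) (.node 1131 (.leaf 0) (.leaf 0))) (.node 1134 (.node 1133 (.leaf 0) (.leaf 0)) (.node 1135 (.leaf 0) (.leaf 0))))) (.node 1144 (.node 1140 (.node 1138 (.node 1137 (.leaf 0) (.leaf 0)) (.node 1139 (.leaf 0) (.leaf 0))) (.node 1142 (.node 1141 (.leaf 0) (.leaf 0)) (.node 1143 (.leaf 0) (.leaf 0)))) (.node 1148 (.node 1146 (.node 1145 (.leaf 0) (.leaf 0)) (.node 1147 (.leaf 0) (.leaf 0))) (.node 1150 (.node 1149 (.leaf 0) (.leaf 0)) (.node 1151 (.leaf 0) (.leaf 0))))))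

def regKPB36 : Bst := (.node 1168 (.node 1160 (.node 1156 (.node 1154 (.node 1153 (.leaf 0) (.leaf 0)) (.node 1155 (.leaf 0) (.leaf 0))) (.node 1158 (.node 1157 (.leaf 0) (.leaf 0)) (.node 1159 (.leaf 0) (.leaf 0)))) (.node 1164 (.node 1162 (.node 1161 (.leaf 0) (.leaf 0)) (.node 1163 (.leaf 0) (.leaf 0))) (.node 1166 (.node 1165 (.leaf 0) (.leaf 0)) (.node 1167 (.leaf 0) (.leaf 0))))) (.node 1176 (.node 1172 (.node 1170 (.node 1169 (.leaf 0) (.leaf 0)) (.node 1171 (.leaf 0) (.leaf 0))) (.node 1174 (.node 1173 (.leaf 0) (.leaf 0x234000000000000000)) (.node 1175 (.leaf 0x172) (.leaf 0)))) (.node 1180 (.node 1178 (.node 1177 (.leaf 0) (.leaf 0)) (.node 1179 (.leaf 0) (.leaf 0))) (.node 1182 (.node 1181 (.leaf 0) (.leaf 0)) (.node 1183 (.leaf 0) (.leaf 0))))))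

def regKPB37 : Bst := (.node 1200 (.node 1192 (.node 1188 (.node 1186 (.node 1185 (.leaf 0) (.leaf 0)) (.node 1187 (.leaf 0) (.leaf 0x6c0003a))) (.node 1190 (.node 1189 (.leaf 0) (.leaf 0)) (.node 1191 (.leaf 0) (.leaf 0)))) (.node 1196 (.node 1194 (.node 1193 (.leaf 0) (.leaf 0)) (.node 1195 (.leaf 0) (.leaf 0))) (.node 1198 (.node 1197 (.leaf 0) (.leaf 0)) (.node 1199 (.leaf 0) (.leaf 0))))) (.node 1208 (.node 1204 (.node 1202 (.node 1201 (.leaf 0x255002540000000000) (.leaf 0x380000f)) (.node 1203 (.leaf 0) (.leaf 0))) (.node 1206 (.node 1205 (.leaf 0) (.leaf 0)) (.node 1207 (.leaf 0) (.leaf 0)))) (.node 1212 (.node 1210 (.node 1209 (.leaf 0) (.leaf 0)) (.node 1211 (.leaf 0) (.leaf 0))) (.node 1214 (.node 1213 (.leaf 0) (.leaf 0)) (.node 1215 (.leaf 0) (.leaf 0))))))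

def regKPB38 : Bst := (.node 1232 (.node 1224 (.node 1220 (.node 1218 (.node 1217 (.leaf 0) (.leaf 0)) (.node 1219 (.leaf 0) (.leaf 0))) (.node 1222 (.node 1221 (.leaf 0) (.leaf 0)) (.node 1223 (.leaf 0) (.leaf 0)))) (.node 1228 (.node 1226 (.node 1225 (.leaf 0) (.leaf 0)) (.node 1227 (.leaf 0) (.leaf 0))) (.node 1230 (.node 1229 (.leaf 0) (.leaf 0)) (.node 1231 (.leaf 0) (.leaf 0))))) (.node 1240 (.node 1236 (.node 1234 (.node 1233 (.leaf 0) (.leaf 0)) (.node 1235 (.leaf 0) (.leaf 0))) (.node 1238 (.node 1237 (.leaf 0) (.leaf 0)) (.node 1239 (.leaf 0) (.leaf 0)))) (.node 1244 (.node 1242 (.node 1241 (.leaf 0) (.leaf 0)) (.node 1243 (.leaf 0) (.leaf 0))) (.node 1246 (.node 1245 (.leaf 0) (.leaf 0xb30017a001a50021a)) (.node 1247 (.leaf 0x28c) (.leaf 0))))))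

def regKPB39 : Bst := (.node 1264 (.node 1256 (.node 1252 (.node 1250 (.node 1249 (.leaf 0) (.leaf 0)) (.node 1251 (.leaf 0) (.leaf 0))) (.node 1254 (.node 1253 (.leaf 0) (.leaf 0)) (.node 1255 (.leaf 0) (.leaf 0)))) (.node 1260 (.node 1258 (.node 1257 (.leaf 0) (.leaf 0)) (.node 1259 (.leaf 0) (.leaf 0))) (.node 1262 (.node 1261 (.leaf 0) (.leaf 0)) (.node 1263 (.leaf 0) (.leaf 0))))) (.node 1272 (.node 1268 (.node 1266 (.node 1265 (.leaf 0) (.leaf 0)) (.node 1267 (.leaf 0) (.leaf 0))) (.node 1270 (.node 1269 (.leaf 0) (.leaf 0)) (.node 1271 (.leaf 0) (.leaf 0)))) (.node 1276 (.node 1274 (.node 1273 (.leaf 0) (.leaf 0)) (.node 1275 (.leaf 0) (.leaf 0))) (.node 1278 (.node 1277 (.leaf 0) (.leaf 0)) (.node 1279 (.leaf 0) (.leaf 0))))))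

def regKPB40 : Bst := (.node 1296 (.node 1288 (.node 1284 (.node 1282 (.node 1281 (.leaf 0) (.leaf 0)) (.node 1283 (.leaf 0) (.leaf 0))) (.node 1286 (.node 1285 (.leaf 0) (.leaf 0)) (.node 1287 (.leaf 0) (.leaf 0)))) (.node 1292 (.node 1290 (.node 1289 (.leaf 0) (.leaf 0)) (.node 1291 (.leaf 0) (.leaf 0))) (.node 1294 (.node 1293 (.leaf 0) (.leaf 0)) (.node 1295 (.leaf 0) (.leaf 0))))) (.node 1304 (.node 1300 (.node 1298 (.node 1297 (.leaf 0) (.leaf 0)) (.node 1299 (.leaf 0) (.leaf 0))) (.node 1302 (.node 1301 (.leaf 0) (.leaf 0)) (.node 1303 (.leaf 0) (.leaf 0)))) (.node 1308 (.node 1306 (.node 1305 (.leaf 0) (.leaf 0)) (.node 1307 (.leaf 0) (.leaf 0))) (.node 1310 (.node 1309 (.leaf 0) (.leaf 0)) (.node 1311 (.leaf 0) (.leaf 0))))))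

def regKPB41 : Bst := (.node 1328 (.node 1320 (.node 1316 (.node 1314 (.node 1313 (.leaf 0) (.leaf 0)) (.node 1315 (.leaf 0) (.leaf 0))) (.node 1318 (.node 1317 (.leaf 0) (.leaf 0)) (.node 1319 (.leaf 0) (.leaf 0)))) (.node 1324 (.node 1322 (.node 1321 (.leaf 0) (.leaf 0)) (.node 1323 (.leaf 0) (.leaf 0))) (.node 1326 (.node 1325 (.leaf 0) (.leaf 0)) (.node 1327 (.leaf 0) (.leaf 0))))) (.node 1336 (.node 1332 (.node 1330 (.node 1329 (.leaf 0) (.leaf 0)) (.node 1331 (.leaf 0) (.leaf 0))) (.node 1334 (.node 1333 (.leaf 0) (.leaf 0)) (.node 1335 (.leaf 0) (.leaf 0)))) (.node 1340 (.node 1338 (.node 1337 (.leaf 0) (.leaf 0)) (.node 1339 (.leaf 0) (.leaf 0))) (.node 1342 (.node 1341 (.leaf 0) (.leaf 0)) (.node 1343 (.leaf 0) (.leaf 0))))))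

def regKPB42 : Bst := (.node 1360 (.node 1352 (.node 1348 (.node 1346 (.node 1345 (.leaf 0) (.leaf 0)) (.node 1347 (.leaf 0) (.leaf 0))) (.node 1350 (.node 1349 (.leaf 0) (.leaf 0)) (.node 1351 (.leaf 0) (.leaf 0)))) (.node 1356 (.node 1354 (.node 1353 (.leaf 0) (.leaf 0)) (.node 1355 (.leaf 0) (.leaf 0))) (.node 1358 (.node 1357 (.leaf 0) (.leaf 0)) (.node 1359 (.leaf 0) (.leaf 0))))) (.node 1368 (.node 1364 (.node 1362 (.node 1361 (.leaf 0) (.leaf 0)) (.node 1363 (.leaf 0) (.leaf 0))) (.node 1366 (.node 1365 (.leaf 0) (.leaf 0)) (.node 1367 (.leaf 0) (.leaf 0)))) (.node 1372 (.node 1370 (.node 1369 (.leaf 0) (.leaf 0)) (.node 1371 (.leaf 0) (.leaf 0))) (.node 1374 (.node 1373 (.leaf 0x61000000000000000) (.leaf 0)) (.node 1375 (.leaf 0) (.leaf 0))))))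

def regKPB43 : Bst := (.node 1392 (.node 1384 (.node 1380 (.node 1378 (.node 1377 (.leaf 0) (.leaf 0x1bc002740015f0010c)) (.node 1379 (.leaf 0x90) (.leaf 0))) (.node 1382 (.node 1381 (.leaf 0) (.leaf 0)) (.node 1383 (.leaf 0) (.leaf 0)))) (.node 1388 (.node 1386 (.node 1385 (.leaf 0) (.leaf 0)) (.node 1387 (.leaf 0) (.leaf 0))) (.node 1390 (.node 1389 (.leaf 0) (.leaf 0)) (.node 1391 (.leaf 0) (.leaf 0))))) (.node 1400 (.node 1396 (.node 1394 (.node 1393 (.leaf 0) (.leaf 0)) (.node 1395 (.leaf 0) (.leaf 0))) (.node 1398 (.node 1397 (.leaf 0x1ba0021c) (.leaf 0)) (.node 1399 (.leaf 0) (.leaf 0)))) (.node 1404 (.node 1402 (.node 1401 (.leaf 0) (.leaf 0)) (.node 1403 (.leaf 0) (.leaf 0))) (.node 1406 (.node 1405 (.leaf 0) (.leaf 0)) (.node 1407 (.leaf 0) (.leaf 0))))))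

def regKPB44 : Bst := (.node 1424 (.node 1416 (.node 1412 (.node 1410 (.node 1409 (.leaf 0) (.leaf 0)) (.node 1411 (.leaf 0) (.leaf 0))) (.node 1414 (.node 1413 (.leaf 0xc0000000000) (.leaf 0)) (.node 1415 (.leaf 0) (.leaf 0)))) (.node 1420 (.node 1418 (.node 1417 (.leaf 0) (.leaf 0)) (.node 1419 (.leaf 0) (.leaf 0))) (.node 1422 (.node 1421 (.leaf 0) (.leaf 0)) (.node 1423 (.leaf 0) (.leaf 0))))) (.node 1432 (.node 1428 (.node 1426 (.node 1425 (.leaf 0) (.leaf 0)) (.node 1427 (.leaf 0) (.leaf 0))) (.node 1430 (.node 1429 (.leaf 0) (.leaf 0)) (.node 1431 (.leaf 0) (.leaf 0)))) (.node 1436 (.node 1434 (.node 1433 (.leaf 0) (.leaf 0)) (.node 1435 (.leaf 0) (.leaf 0))) (.node 1438 (.node 1437 (.leaf 0) (.leaf 0)) (.node 1439 (.leaf 0) (.leaf 0))))))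

def regKPB45 : Bst := (.node 1456 (.node 1448 (.node 1444 (.node 1442 (.node 1441 (.leaf 0) (.leaf 0)) (.node 1443 (.leaf 0) (.leaf 0))) (.node 1446 (.node 1445 (.leaf 0) (.leaf 0)) (.node 1447 (.leaf 0) (.leaf 0)))) (.node 1452 (.node 1450 (.node 1449 (.leaf 0) (.leaf 0)) (.node 1451 (.leaf 0) (.leaf 0))) (.node 1454 (.node 1453 (.leaf 0) (.leaf 0)) (.node 1455 (.leaf 0) (.leaf 0))))) (.node 1464 (.node 1460 (.node 1458 (.node 1457 (.leaf 0) (.leaf 0)) (.node 1459 (.leaf 0) (.leaf 0))) (.node 1462 (.node 1461 (.leaf 0) (.leaf 0)) (.node 1463 (.leaf 0) (.leaf 0)))) (.node 1468 (.node 1466 (.node 1465 (.leaf 0) (.leaf 0)) (.node 1467 (.leaf 0) (.leaf 0))) (.node 1470 (.node 1469 (.leaf 0) (.leaf 0)) (.node 1471 (.leaf 0) (.leaf 0))))))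

def regKPB46 : Bst := (.node 1488 (.node 1480 (.node 1476 (.node 1474 (.node 1473 (.leaf 0) (.leaf 0)) (.node 1475 (.leaf 0) (.leaf 0))) (.node 1478 (.node 1477 (.leaf 0) (.leaf 0)) (.node 1479 (.leaf 0) (.leaf 0)))) (.node 1484 (.node 1482 (.node 1481 (.leaf 0) (.leaf 0)) (.node 1483 (.leaf 0) (.leaf 0))) (.node 1486 (.node 1485 (.leaf 0) (.leaf 0)) (.node 1487 (.leaf 0) (.leaf 0))))) (.node 1496 (.node 1492 (.node 1490 (.node 1489 (.leaf 0) (.leaf 0)) (.node 1491 (.leaf 0) (.leaf 0))) (.node 1494 (.node 1493 (.leaf 0) (.leaf 0)) (.node 1495 (.leaf 0) (.leaf 0)))) (.node 1500 (.node 1498 (.node 1497 (.leaf 0) (.leaf 0)) (.node 1499 (.leaf 0) (.leaf 0))) (.node 1502 (.node 1501 (.leaf 0) (.leaf 0)) (.node 1503 (.leaf 0) (.leaf 0))))))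

def regKPB47 : Bst := (.node 1520 (.node 1512 (.node 1508 (.node 1506 (.node 1505 (.leaf 0) (.leaf 0)) (.node 1507 (.leaf 0x1470000000000) (.leaf 0))) (.node 1510 (.node 1509 (.leaf 0) (.leaf 0)) (.node 1511 (.leaf 0) (.leaf 0)))) (.node 1516 (.node 1514 (.node 1513 (.leaf 0) (.leaf 0)) (.node 1515 (.leaf 0) (.leaf 0))) (.node 1518 (.node 1517 (.leaf 0) (.leaf 0)) (.node 1519 (.leaf 0) (.leaf 0))))) (.node 1528 (.node 1524 (.node 1522 (.node 1521 (.leaf 0) (.leaf 0)) (.node 1523 (.leaf 0) (.leaf 0))) (.node 1526 (.node 1525 (.leaf 0) (.leaf 0)) (.node 1527 (.leaf 0) (.leaf 0)))) (.node 1532 (.node 1530 (.node 1529 (.leaf 0) (.leaf 0)) (.node 1531 (.leaf 0) (.leaf 0))) (.node 1534 (.node 1533 (.leaf 0) (.leaf 0)) (.node 1535 (.leaf 0) (.leaf 0))))))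

def regKPB48 : Bst := (.node 1552 (.node 1544 (.node 1540 (.node 1538 (.node 1537 (.leaf 0) (.leaf 0)) (.node 1539 (.leaf 0) (.leaf 0))) (.node 1542 (.node 1541 (.leaf 0) (.leaf 0)) (.node 1543 (.leaf 0) (.leaf 0)))) (.node 1548 (.node 1546 (.node 1545 (.leaf 0) (.leaf 0)) (.node 1547 (.leaf 0) (.leaf 0))) (.node 1550 (.node 1549 (.leaf 0) (.leaf 0)) (.node 1551 (.leaf 0) (.leaf 0))))) (.node 1560 (.node 1556 (.node 1554 (.node 1553 (.leaf 0) (.leaf 0)) (.node 1555 (.leaf 0) (.leaf 0))) (.node 1558 (.node 1557 (.leaf 0) (.leaf 0)) (.node 1559 (.leaf 0) (.leaf 0)))) (.node 1564 (.node 1562 (.node 1561 (.leaf 0) (.leaf 0)) (.node 1563 (.leaf 0) (.leaf 0))) (.node 1566 (.node 1565 (.leaf 0) (.leaf 0)) (.node 1567 (.leaf 0) (.leaf 0))))))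

def regKPB49 : Bst := (.node 1584 (.node 1576 (.node 1572 (.node 1570 (.node 1569 (.leaf 0x19c) (.leaf 0xbe000000000000000)) (.node 1571 (.leaf 0x192) (.leaf 0))) (.node 1574 (.node 1573 (.leaf 0) (.leaf 0)) (.node 1575 (.leaf 0) (.leaf 0)))) (.node 1580 (.node 1578 (.node 1577 (.leaf 0) (.leaf 0)) (.node 1579 (.leaf 0) (.leaf 0))) (.node 1582 (.node 1581 (.leaf 0) (.leaf 0x149000000000000000)) (.node 1583 (.leaf 0) (.leaf 0))))) (.node 1592 (.node 1588 (.node 1586 (.node 1585 (.leaf 0x1b5000000000000000) (.leaf 0x15a001ff00257000e0)) (.node 1587 (.leaf 0) (.leaf 0))) (.node 1590 (.node 1589 (.leaf 0) (.leaf 0)) (.node 1591 (.leaf 0) (.leaf 0)))) (.node 1596 (.node 1594 (.node 1593 (.leaf 0) (.leaf 0)) (.node 1595 (.leaf 0) (.leaf 0))) (.node 1598 (.node 1597 (.leaf 0) (.leaf 0)) (.node 1599 (.leaf 0) (.leaf 0))))))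

def regKPB50 : Bst := (.node 1616 (.node 1608 (.node 1604 (.node 1602 (.node 1601 (.leaf 0) (.leaf 0)) (.node 1603 (.leaf 0) (.leaf 0))) (.node 1606 (.node 1605 (.leaf 0) (.leaf 0)) (.node 1607 (.leaf 0) (.leaf 0)))) (.node 1612 (.node 1610 (.node 1609 (.leaf 0) (.leaf 0)) (.node 1611 (.leaf 0) (.leaf 0))) (.node 1614 (.node 1613 (.leaf 0) (.leaf 0)) (.node 1615 (.leaf 0) (.leaf 0))))) (.node 1624 (.node 1620 (.node 1618 (.node 1617 (.leaf 0) (.leaf 0)) (.node 1619 (.leaf 0) (.leaf 0))) (.node 1622 (.node 1621 (.leaf 0) (.leaf 0)) (.node 1623 (.leaf 0) (.leaf 0)))) (.node 1628 (.node 1626 (.node 1625 (.leaf 0) (.leaf 0)) (.node 1627 (.leaf 0) (.leaf 0))) (.node 1630 (.node 1629 (.leaf 0) (.leaf 0)) (.node 1631 (.leaf 0) (.leaf 0))))))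

def regKPB51 : Bst := (.node 1648 (.node 1640 (.node 1636 (.node 1634 (.node 1633 (.leaf 0) (.leaf 0)) (.node 1635 (.leaf 0) (.leaf 0))) (.node 1638 (.node 1637 (.leaf 0) (.leaf 0)) (.node 1639 (.leaf 0) (.leaf 0)))) (.node 1644 (.node 1642 (.node 1641 (.leaf 0) (.leaf 0)) (.node 1643 (.leaf 0) (.leaf 0))) (.node 1646 (.node 1645 (.leaf 0) (.leaf 0)) (.node 1647 (.leaf 0) (.leaf 0))))) (.node 1656 (.node 1652 (.node 1650 (.node 1649 (.leaf 0) (.leaf 0)) (.node 1651 (.leaf 0) (.leaf 0))) (.node 1654 (.node 1653 (.leaf 0) (.leaf 0)) (.node 1655 (.leaf 0) (.leaf 0)))) (.node 1660 (.node 1658 (.node 1657 (.leaf 0) (.leaf 0)) (.node 1659 (.leaf 0) (.leaf 0))) (.node 1662 (.node 1661 (.leaf 0) (.leaf 0)) (.node 1663 (.leaf 0xba0000000000) (.leaf 0))))))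

def regKPB52 : Bst := (.node 1680 (.node 1672 (.node 1668 (.node 1666 (.node 1665 (.leaf 0) (.leaf 0)) (.node 1667 (.leaf 0) (.leaf 0))) (.node 1670 (.node 1669 (.leaf 0) (.leaf 0)) (.node 1671 (.leaf 0) (.leaf 0)))) (.node 1676 (.node 1674 (.node 1673 (.leaf 0) (.leaf 0)) (.node 1675 (.leaf 0) (.leaf 0))) (.node 1678 (.node 1677 (.leaf 0) (.leaf 0)) (.node 1679 (.leaf 0) (.leaf 0))))) (.node 1688 (.node 1684 (.node 1682 (.node 1681 (.leaf 0) (.leaf 0)) (.node 1683 (.leaf 0) (.leaf 0))) (.node 1686 (.node 1685 (.leaf 0) (.leaf 0)) (.node 1687 (.leaf 0) (.leaf 0)))) (.node 1692 (.node 1690 (.node 1689 (.leaf 0) (.leaf 0)) (.node 1691 (.leaf 0) (.leaf 0xf90006000000))) (.node 1694 (.node 1693 (.leaf 0) (.leaf 0)) (.node 1695 (.leaf 0) (.leaf 0))))))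

def regKPB53 : Bst := (.node 1712 (.node 1704 (.node 1700 (.node 1698 (.node 1697 (.leaf 0) (.leaf 0)) (.node 1699 (.leaf 0) (.leaf 0))) (.node 1702 (.node 1701 (.leaf 0) (.leaf 0x14d000a2)) (.node 1703 (.leaf 0) (.leaf 0)))) (.node 1708 (.node 1706 (.node 1705 (.leaf 0) (.leaf 0)) (.node 1707 (.leaf 0) (.leaf 0))) (.node 1710 (.node 1709 (.leaf 0) (.leaf 0)) (.node 1711 (.leaf 0) (.leaf 0))))) (.node 1720 (.node 1716 (.node 1714 (.node 1713 (.leaf 0) (.leaf 0)) (.node 1715 (.leaf 0) (.leaf 0))) (.node 1718 (.node 1717 (.leaf 0) (.leaf 0)) (.node 1719 (.leaf 0) (.leaf 0)))) (.node 1724 (.node 1722 (.node 1721 (.leaf 0) (.leaf 0)) (.node 1723 (.leaf 0) (.leaf 0))) (.node 1726 (.node 1725 (.leaf 0) (.leaf 0)) (.node 1727 (.leaf 0) (.leaf 0))))))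

def regKPB54 : Bst := (.node 1744 (.node 1736 (.node 1732 (.node 1730 (.node 1729 (.leaf 0) (.leaf 0)) (.node 1731 (.leaf 0) (.leaf 0))) (.node 1734 (.node 1733 (.leaf 0) (.leaf 0)) (.node 1735 (.leaf 0) (.leaf 0)))) (.node 1740 (.node 1738 (.node 1737 (.leaf 0) (.leaf 0)) (.node 1739 (.leaf 0) (.leaf 0))) (.node 1742 (.node 1741 (.leaf 0) (.leaf 0)) (.node 1743 (.leaf 0) (.leaf 0))))) (.node 1752 (.node 1748 (.node 1746 (.node 1745 (.leaf 0) (.leaf 0)) (.node 1747 (.leaf 0) (.leaf 0))) (.node 1750 (.node 1749 (.leaf 0) (.leaf 0)) (.node 1751 (.leaf 0) (.leaf 0)))) (.node 1756 (.node 1754 (.node 1753 (.leaf 0) (.leaf 0)) (.node 1755 (.leaf 0) (.leaf 0))) (.node 1758 (.node 1757 (.leaf 0) (.leaf 0)) (.node 1759 (.leaf 0) (.leaf 0))))))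

def regKPB55 : Bst := (.node 1776 (.node 1768 (.node 1764 (.node 1762 (.node 1761 (.leaf 0) (.leaf 0)) (.node 1763 (.leaf 0) (.leaf 0))) (.node 1766 (.node 1765 (.leaf 0) (.leaf 0)) (.node 1767 (.leaf 0) (.leaf 0)))) (.node 1772 (.node 1770 (.node 1769 (.leaf 0) (.leaf 0)) (.node 1771 (.leaf 0) (.leaf 0))) (.node 1774 (.node 1773 (.leaf 0) (.leaf 0)) (.node 1775 (.leaf 0) (.leaf 0))))) (.node 1784 (.node 1780 (.node 1778 (.node 1777 (.leaf 0) (.leaf 0)) (.node 1779 (.leaf 0) (.leaf 0))) (.node 1782 (.node 1781 (.leaf 0) (.leaf 0)) (.node 1783 (.leaf 0) (.leaf 0)))) (.node 1788 (.node 1786 (.node 1785 (.leaf 0) (.leaf 0)) (.node 1787 (.leaf 0) (.leaf 0))) (.node 1790 (.node 1789 (.leaf 0) (.leaf 0)) (.node 1791 (.leaf 0) (.leaf 0))))))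

def regKPB56 : Bst := (.node 1808 (.node 1800 (.node 1796 (.node 1794 (.node 1793 (.leaf 0) (.leaf 0)) (.node 1795 (.leaf 0) (.leaf 0))) (.node 1798 (.node 1797 (.leaf 0) (.leaf 0)) (.node 1799 (.leaf 0) (.leaf 0)))) (.node 1804 (.node 1802 (.node 1801 (.leaf 0) (.leaf 0)) (.node 1803 (.leaf 0) (.leaf 0))) (.node 1806 (.node 1805 (.leaf 0) (.leaf 0)) (.node 1807 (.leaf 0) (.leaf 0))))) (.node 1816 (.node 1812 (.node 1810 (.node 1809 (.leaf 0) (.leaf 0)) (.node 1811 (.leaf 0) (.leaf 0))) (.node 1814 (.node 1813 (.leaf 0) (.leaf 0)) (.node 1815 (.leaf 0) (.leaf 0)))) (.node 1820 (.node 1818 (.node 1817 (.leaf 0) (.leaf 0)) (.node 1819 (.leaf 0) (.leaf 0))) (.node 1822 (.node 1821 (.leaf 0) (.leaf 0)) (.node 1823 (.leaf 0) (.leaf 0))))))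

def regKPB57 : Bst := (.node 1840 (.node 1832 (.node 1828 (.node 1826 (.node 1825 (.leaf 0) (.leaf 0)) (.node 1827 (.leaf 0) (.leaf 0))) (.node 1830 (.node 1829 (.leaf 0) (.leaf 0)) (.node 1831 (.leaf 0) (.leaf 0)))) (.node 1836 (.node 1834 (.node 1833 (.leaf 0) (.leaf 0)) (.node 1835 (.leaf 0) (.leaf 0))) (.node 1838 (.node 1837 (.leaf 0) (.leaf 0)) (.node 1839 (.leaf 0) (.leaf 0))))) (.node 1848 (.node 1844 (.node 1842 (.node 1841 (.leaf 0) (.leaf 0)) (.node 1843 (.leaf 0) (.leaf 0))) (.node 1846 (.node 1845 (.leaf 0) (.leaf 0)) (.node 1847 (.leaf 0) (.leaf 0)))) (.node 1852 (.node 1850 (.node 1849 (.leaf 0) (.leaf 0)) (.node 1851 (.leaf 0) (.leaf 0))) (.node 1854 (.node 1853 (.leaf 0) (.leaf 0)) (.node 1855 (.leaf 0) (.leaf 0))))))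

def regKPB58 : Bst := (.node 1872 (.node 1864 (.node 1860 (.node 1858 (.node 1857 (.leaf 0) (.leaf 0)) (.node 1859 (.leaf 0) (.leaf 0))) (.node 1862 (.node 1861 (.leaf 0) (.leaf 0)) (.node 1863 (.leaf 0) (.leaf 0)))) (.node 1868 (.node 1866 (.node 1865 (.leaf 0) (.leaf 0)) (.node 1867 (.leaf 0) (.leaf 0))) (.node 1870 (.node 1869 (.leaf 0) (.leaf 0)) (.node 1871 (.leaf 0) (.leaf 0))))) (.node 1880 (.node 1876 (.node 1874 (.node 1873 (.leaf 0) (.leaf 0)) (.node 1875 (.leaf 0) (.leaf 0))) (.node 1878 (.node 1877 (.leaf 0) (.leaf 0)) (.node 1879 (.leaf 0) (.leaf 0)))) (.node 1884 (.node 1882 (.node 1881 (.leaf 0) (.leaf 0)) (.node 1883 (.leaf 0) (.leaf 0))) (.node 1886 (.node 1885 (.leaf 0) (.leaf 0)) (.node 1887 (.leaf 0) (.leaf 0))))))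

def regKPB59 : Bst := (.node 1904 (.node 1896 (.node 1892 (.node 1890 (.node 1889 (.leaf 0) (.leaf 0)) (.node 1891 (.leaf 0) (.leaf 0))) (.node 1894 (.node 1893 (.leaf 0) (.leaf 0)) (.node 1895 (.leaf 0) (.leaf 0)))) (.node 1900 (.node 1898 (.node 1897 (.leaf 0) (.leaf 0)) (.node 1899 (.leaf 0) (.leaf 0))) (.node 1902 (.node 1901 (.leaf 0) (.leaf 0)) (.node 1903 (.leaf 0) (.leaf 0))))) (.node 1912 (.node 1908 (.node 1906 (.node 1905 (.leaf 0) (.leaf 0)) (.node 1907 (.leaf 0) (.leaf 0))) (.node 1910 (.node 1909 (.leaf 0) (.leaf 0)) (.node 1911 (.leaf 0) (.leaf 0)))) (.node 1916 (.node 1914 (.node 1913 (.leaf 0) (.leaf 0)) (.node 1915 (.leaf 0) (.leaf 0))) (.node 1918 (.node 1917 (.leaf 0) (.leaf 0)) (.node 1919 (.leaf 0) (.leaf 0))))))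

def regKPB60 : Bst := (.node 1936 (.node 1928 (.node 1924 (.node 1922 (.node 1921 (.leaf 0) (.leaf 0)) (.node 1923 (.leaf 0) (.leaf 0))) (.node 1926 (.node 1925 (.leaf 0) (.leaf 0x130000000000000000)) (.node 1927 (.leaf 0) (.leaf 0)))) (.node 1932 (.node 1930 (.node 1929 (.leaf 0) (.leaf 0)) (.node 1931 (.leaf 0) (.leaf 0))) (.node 1934 (.node 1933 (.leaf 0) (.leaf 0)) (.node 1935 (.leaf 0) (.leaf 0))))) (.node 1944 (.node 1940 (.node 1938 (.node 1937 (.leaf 0x22e0013e001f8) (.leaf 0)) (.node 1939 (.leaf 0) (.leaf 0x22d000000000000000))) (.node 1942 (.node 1941 (.leaf 0) (.leaf 0)) (.node 1943 (.leaf 0) (.leaf 0)))) (.node 1948 (.node 1946 (.node 1945 (.leaf 0) (.leaf 0)) (.node 1947 (.leaf 0) (.leaf 0))) (.node 1950 (.node 1949 (.leaf 0) (.leaf 0)) (.node 1951 (.leaf 0) (.leaf 0))))))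

def regKPB61 : Bst := (.node 1968 (.node 1960 (.node 1956 (.node 1954 (.node 1953 (.leaf 0) (.leaf 0)) (.node 1955 (.leaf 0) (.leaf 0))) (.node 1958 (.node 1957 (.leaf 0) (.leaf 0)) (.node 1959 (.leaf 0) (.leaf 0)))) (.node 1964 (.node 1962 (.node 1961 (.leaf 0) (.leaf 0)) (.node 1963 (.leaf 0) (.leaf 0))) (.node 1966 (.node 1965 (.leaf 0) (.leaf 0)) (.node 1967 (.leaf 0) (.leaf 0))))) (.node 1976 (.node 1972 (.node 1970 (.node 1969 (.leaf 0) (.leaf 0)) (.node 1971 (.leaf 0) (.leaf 0))) (.node 1974 (.node 1973 (.leaf 0) (.leaf 0)) (.node 1975 (.leaf 0) (.leaf 0)))) (.node 1980 (.node 1978 (.node 1977 (.leaf 0) (.leaf 0)) (.node 1979 (.leaf 0) (.leaf 0))) (.node 1982 (.node 1981 (.leaf 0) (.leaf 0)) (.node 1983 (.leaf 0) (.leaf 0))))))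

def regKPB62 : Bst := (.node 2000 (.node 1992 (.node 1988 (.node 1986 (.node 1985 (.leaf 0) (.leaf 0)) (.node 1987 (.leaf 0) (.leaf 0))) (.node 1990 (.node 1989 (.leaf 0) (.leaf 0)) (.node 1991 (.leaf 0) (.leaf 0)))) (.node 1996 (.node 1994 (.node 1993 (.leaf 0) (.leaf 0)) (.node 1995 (.leaf 0) (.leaf 0))) (.node 1998 (.node 1997 (.leaf 0) (.leaf 0)) (.node 1999 (.leaf 0) (.leaf 0))))) (.node 2008 (.node 2004 (.node 2002 (.node 2001 (.leaf 0) (.leaf 0)) (.node 2003 (.leaf 0) (.leaf 0))) (.node 2006 (.node 2005 (.leaf 0) (.leaf 0)) (.node 2007 (.leaf 0) (.leaf 0)))) (.node 2012 (.node 2010 (.node 2009 (.leaf 0) (.leaf 0)) (.node 2011 (.leaf 0) (.leaf 0))) (.node 2014 (.node 2013 (.leaf 0) (.leaf 0)) (.node 2015 (.leaf 0) (.leaf 0))))))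

def regKPB63 : Bst := (.node 2032 (.node 2024 (.node 2020 (.node 2018 (.node 2017 (.leaf 0) (.leaf 0)) (.node 2019 (.leaf 0) (.leaf 0))) (.node 2022 (.node 2021 (.leaf 0) (.leaf 0)) (.node 2023 (.leaf 0) (.leaf 0)))) (.node 2028 (.node 2026 (.node 2025 (.leaf 0) (.leaf 0)) (.node 2027 (.leaf 0) (.leaf 0))) (.node 2030 (.node 2029 (.leaf 0) (.leaf 0)) (.node 2031 (.leaf 0) (.leaf 0xbf0026300000))))) (.node 2040 (.node 2036 (.node 2034 (.node 2033 (.leaf 0) (.leaf 0)) (.node 2035 (.leaf 0) (.leaf 0))) (.node 2038 (.node 2037 (.leaf 0) (.leaf 0)) (.node 2039 (.leaf 0) (.leaf 0)))) (.node 2044 (.node 2042 (.node 2041 (.leaf 0) (.leaf 0)) (.node 2043 (.leaf 0) (.leaf 0))) (.node 2046 (.node 2045 (.leaf 0) (.leaf 0)) (.node 2047 (.leaf 0) (.leaf 0))))))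

def regKPB64 : Bst := (.node 2064 (.node 2056 (.node 2052 (.node 2050 (.node 2049 (.leaf 0) (.leaf 0)) (.node 2051 (.leaf 0) (.leaf 0))) (.node 2054 (.node 2053 (.leaf 0) (.leaf 0)) (.node 2055 (.leaf 0) (.leaf 0)))) (.node 2060 (.node 2058 (.node 2057 (.leaf 0) (.leaf 0)) (.node 2059 (.leaf 0) (.leaf 0))) (.node 2062 (.node 2061 (.leaf 0) (.leaf 0)) (.node 2063 (.leaf 0) (.leaf 0))))) (.node 2072 (.node 2068 (.node 2066 (.node 2065 (.leaf 0) (.leaf 0)) (.node 2067 (.leaf 0) (.leaf 0))) (.node 2070 (.node 2069 (.leaf 0) (.leaf 0)) (.node 2071 (.leaf 0) (.leaf 0)))) (.node 2076 (.node 2074 (.node 2073 (.leaf 0) (.leaf 0)) (.node 2075 (.leaf 0) (.leaf 0))) (.node 2078 (.node 2077 (.leaf 0) (.leaf 0)) (.node 2079 (.leaf 0) (.leaf 0))))))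

def regKPB65 : Bst := (.node 2096 (.node 2088 (.node 2084 (.node 2082 (.node 2081 (.leaf 0) (.leaf 0)) (.node 2083 (.leaf 0) (.leaf 0))) (.node 2086 (.node 2085 (.leaf 0) (.leaf 0)) (.node 2087 (.leaf 0) (.leaf 0)))) (.node 2092 (.node 2090 (.node 2089 (.leaf 0) (.leaf 0)) (.node 2091 (.leaf 0) (.leaf 0))) (.node 2094 (.node 2093 (.leaf 0) (.leaf 0)) (.node 2095 (.leaf 0) (.leaf 0))))) (.node 2104 (.node 2100 (.node 2098 (.node 2097 (.leaf 0) (.leaf 0)) (.node 2099 (.leaf 0) (.leaf 0))) (.node 2102 (.node 2101 (.leaf 0) (.leaf 0)) (.node 2103 (.leaf 0) (.leaf 0)))) (.node 2108 (.node 2106 (.node 2105 (.leaf 0) (.leaf 0)) (.node 2107 (.leaf 0) (.leaf 0))) (.node 2110 (.node 2109 (.leaf 0) (.leaf 0)) (.node 2111 (.leaf 0) (.leaf 0))))))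

def regKPB66 : Bst := (.node 2128 (.node 2120 (.node 2116 (.node 2114 (.node 2113 (.leaf 0) (.leaf 0)) (.node 2115 (.leaf 0) (.leaf 0))) (.node 2118 (.node 2117 (.leaf 0) (.leaf 0)) (.node 2119 (.leaf 0) (.leaf 0)))) (.node 2124 (.node 2122 (.node 2121 (.leaf 0) (.leaf 0)) (.node 2123 (.leaf 0) (.leaf 0))) (.node 2126 (.node 2125 (.leaf 0) (.leaf 0)) (.node 2127 (.leaf 0) (.leaf 0))))) (.node 2136 (.node 2132 (.node 2130 (.node 2129 (.leaf 0) (.leaf 0)) (.node 2131 (.leaf 0) (.leaf 0))) (.node 2134 (.node 2133 (.leaf 0) (.leaf 0)) (.node 2135 (.leaf 0) (.leaf 0)))) (.node 2140 (.node 2138 (.node 2137 (.leaf 0) (.leaf 0)) (.node 2139 (.leaf 0) (.leaf 0))) (.node 2142 (.node 2141 (.leaf 0) (.leaf 0)) (.node 2143 (.leaf 0) (.leaf 0))))))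

def regKPB67 : Bst := (.node 2160 (.node 2152 (.node 2148 (.node 2146 (.node 2145 (.leaf 0) (.leaf 0)) (.node 2147 (.leaf 0) (.leaf 0))) (.node 2150 (.node 2149 (.leaf 0) (.leaf 0)) (.node 2151 (.leaf 0) (.leaf 0)))) (.node 2156 (.node 2154 (.node 2153 (.leaf 0) (.leaf 0)) (.node 2155 (.leaf 0) (.leaf 0))) (.node 2158 (.node 2157 (.leaf 0) (.leaf 0)) (.node 2159 (.leaf 0) (.leaf 0))))) (.node 2168 (.node 2164 (.node 2162 (.node 2161 (.leaf 0) (.leaf 0)) (.node 2163 (.leaf 0) (.leaf 0))) (.node 2166 (.node 2165 (.leaf 0) (.leaf 0)) (.node 2167 (.leaf 0) (.leaf 0)))) (.node 2172 (.node 2170 (.node 2169 (.leaf 0) (.leaf 0)) (.node 2171 (.leaf 0) (.leaf 0))) (.node 2174 (.node 2173 (.leaf 0) (.leaf 0)) (.node 2175 (.leaf 0) (.leaf 0))))))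

def regKPB68 : Bst := (.node 2192 (.node 2184 (.node 2180 (.node 2178 (.node 2177 (.leaf 0) (.leaf 0)) (.node 2179 (.leaf 0) (.leaf 0))) (.node 2182 (.node 2181 (.leaf 0) (.leaf 0)) (.node 2183 (.leaf 0) (.leaf 0)))) (.node 2188 (.node 2186 (.node 2185 (.leaf 0) (.leaf 0)) (.node 2187 (.leaf 0) (.leaf 0))) (.node 2190 (.node 2189 (.leaf 0) (.leaf 0)) (.node 2191 (.leaf 0) (.leaf 0))))) (.node 2200 (.node 2196 (.node 2194 (.node 2193 (.leaf 0) (.leaf 0)) (.node 2195 (.leaf 0) (.leaf 0))) (.node 2198 (.node 2197 (.leaf 0) (.leaf 0)) (.node 2199 (.leaf 0) (.leaf 0)))) (.node 2204 (.node 2202 (.node 2201 (.leaf 0) (.leaf 0)) (.node 2203 (.leaf 0) (.leaf 0))) (.node 2206 (.node 2205 (.leaf 0) (.leaf 0)) (.node 2207 (.leaf 0) (.leaf 0))))))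

def regKPB69 : Bst := (.node 2224 (.node 2216 (.node 2212 (.node 2210 (.node 2209 (.leaf 0) (.leaf 0)) (.node 2211 (.leaf 0) (.leaf 0))) (.node 2214 (.node 2213 (.leaf 0) (.leaf 0)) (.node 2215 (.leaf 0) (.leaf 0)))) (.node 2220 (.node 2218 (.node 2217 (.leaf 0) (.leaf 0)) (.node 2219 (.leaf 0) (.leaf 0))) (.node 2222 (.node 2221 (.leaf 0) (.leaf 0)) (.node 2223 (.leaf 0) (.leaf 0))))) (.node 2232 (.node 2228 (.node 2226 (.node 2225 (.leaf 0) (.leaf 0)) (.node 2227 (.leaf 0) (.leaf 0))) (.node 2230 (.node 2229 (.leaf 0) (.leaf 0)) (.node 2231 (.leaf 0) (.leaf 0)))) (.node 2236 (.node 2234 (.node 2233 (.leaf 0) (.leaf 0)) (.node 2235 (.leaf 0) (.leaf 0))) (.node 2238 (.node 2237 (.leaf 0) (.leaf 0)) (.node 2239 (.leaf 0) (.leaf 0))))))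

def regKPB70 : Bst := (.node 2256 (.node 2248 (.node 2244 (.node 2242 (.node 2241 (.leaf 0) (.leaf 0)) (.node 2243 (.leaf 0) (.leaf 0))) (.node 2246 (.node 2245 (.leaf 0) (.leaf 0)) (.node 2247 (.leaf 0) (.leaf 0)))) (.node 2252 (.node 2250 (.node 2249 (.leaf 0) (.leaf 0)) (.node 2251 (.leaf 0) (.leaf 0))) (.node 2254 (.node 2253 (.leaf 0) (.leaf 0)) (.node 2255 (.leaf 0) (.leaf 0))))) (.node 2264 (.node 2260 (.node 2258 (.node 2257 (.leaf 0) (.leaf 0)) (.node 2259 (.leaf 0) (.leaf 0))) (.node 2262 (.node 2261 (.leaf 0) (.leaf 0)) (.node 2263 (.leaf 0) (.leaf 0)))) (.node 2268 (.node 2266 (.node 2265 (.leaf 0) (.leaf 0)) (.node 2267 (.leaf 0) (.leaf 0))) (.node 2270 (.node 2269 (.leaf 0) (.leaf 0)) (.node 2271 (.leaf 0) (.leaf 0))))))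

def regKPB71 : Bst := (.node 2288 (.node 2280 (.node 2276 (.node 2274 (.node 2273 (.leaf 0) (.leaf 0)) (.node 2275 (.leaf 0) (.leaf 0))) (.node 2278 (.node 2277 (.leaf 0) (.leaf 0)) (.node 2279 (.leaf 0) (.leaf 0)))) (.node 2284 (.node 2282 (.node 2281 (.leaf 0) (.leaf 0)) (.node 2283 (.leaf 0) (.leaf 0))) (.node 2286 (.node 2285 (.leaf 0) (.leaf 0)) (.node 2287 (.leaf 0) (.leaf 0))))) (.node 2296 (.node 2292 (.node 2290 (.node 2289 (.leaf 0) (.leaf 0)) (.node 2291 (.leaf 0) (.leaf 0))) (.node 2294 (.node 2293 (.leaf 0) (.leaf 0)) (.node 2295 (.leaf 0) (.leaf 0)))) (.node 2300 (.node 2298 (.node 2297 (.leaf 0) (.leaf 0)) (.node 2299 (.leaf 0) (.leaf 0))) (.node 2302 (.node 2301 (.leaf 0) (.leaf 0)) (.node 2303 (.leaf 0) (.leaf 0))))))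

def regKPB72 : Bst := (.node 2320 (.node 2312 (.node 2308 (.node 2306 (.node 2305 (.leaf 0) (.leaf 0)) (.node 2307 (.leaf 0) (.leaf 0))) (.node 2310 (.node 2309 (.leaf 0) (.leaf 0)) (.node 2311 (.leaf 0) (.leaf 0)))) (.node 2316 (.node 2314 (.node 2313 (.leaf 0) (.leaf 0)) (.node 2315 (.leaf 0) (.leaf 0))) (.node 2318 (.node 2317 (.leaf 0) (.leaf 0)) (.node 2319 (.leaf 0) (.leaf 0))))) (.node 2328 (.node 2324 (.node 2322 (.node 2321 (.leaf 0) (.leaf 0)) (.node 2323 (.leaf 0) (.leaf 0))) (.node 2326 (.node 2325 (.leaf 0) (.leaf 0)) (.node 2327 (.leaf 0) (.leaf 0)))) (.node 2332 (.node 2330 (.node 2329 (.leaf 0) (.leaf 0)) (.node 2331 (.leaf 0) (.leaf 0))) (.node 2334 (.node 2333 (.leaf 0) (.leaf 0)) (.node 2335 (.leaf 0) (.leaf 0))))))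

def regKPB73 : Bst := (.node 2352 (.node 2344 (.node 2340 (.node 2338 (.node 2337 (.leaf 0) (.leaf 0)) (.node 2339 (.leaf 0) (.leaf 0))) (.node 2342 (.node 2341 (.leaf 0) (.leaf 0)) (.node 2343 (.leaf 0) (.leaf 0)))) (.node 2348 (.node 2346 (.node 2345 (.leaf 0) (.leaf 0)) (.node 2347 (.leaf 0) (.leaf 0))) (.node 2350 (.node 2349 (.leaf 0) (.leaf 0)) (.node 2351 (.leaf 0) (.leaf 0))))) (.node 2360 (.node 2356 (.node 2354 (.node 2353 (.leaf 0) (.leaf 0)) (.node 2355 (.leaf 0) (.leaf 0))) (.node 2358 (.node 2357 (.leaf 0) (.leaf 0)) (.node 2359 (.leaf 0) (.leaf 0)))) (.node 2364 (.node 2362 (.node 2361 (.leaf 0) (.leaf 0)) (.node 2363 (.leaf 0) (.leaf 0))) (.node 2366 (.node 2365 (.leaf 0) (.leaf 0)) (.node 2367 (.leaf 0) (.leaf 0))))))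

def regKPB74 : Bst := (.node 2384 (.node 2376 (.node 2372 (.node 2370 (.node 2369 (.leaf 0) (.leaf 0)) (.node 2371 (.leaf 0) (.leaf 0))) (.node 2374 (.node 2373 (.leaf 0) (.leaf 0)) (.node 2375 (.leaf 0) (.leaf 0)))) (.node 2380 (.node 2378 (.node 2377 (.leaf 0) (.leaf 0x18000000000000000)) (.node 2379 (.leaf 0xd) (.leaf 0))) (.node 2382 (.node 2381 (.leaf 0xc30019d002420023e) (.leaf 0x43)) (.node 2383 (.leaf 0) (.leaf 0))))) (.node 2392 (.node 2388 (.node 2386 (.node 2385 (.leaf 0) (.leaf 0)) (.node 2387 (.leaf 0) (.leaf 0))) (.node 2390 (.node 2389 (.leaf 0) (.leaf 0)) (.node 2391 (.leaf 0) (.leaf 0)))) (.node 2396 (.node 2394 (.node 2393 (.leaf 0) (.leaf 0)) (.node 2395 (.leaf 0) (.leaf 0))) (.node 2398 (.node 2397 (.leaf 0) (.leaf 0)) (.node 2399 (.leaf 0) (.leaf 0))))))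

def regKPB75 : Bst := (.node 2416 (.node 2408 (.node 2404 (.node 2402 (.node 2401 (.leaf 0) (.leaf 0)) (.node 2403 (.leaf 0) (.leaf 0))) (.node 2406 (.node 2405 (.leaf 0) (.leaf 0)) (.node 2407 (.leaf 0) (.leaf 0)))) (.node 2412 (.node 2410 (.node 2409 (.leaf 0) (.leaf 0)) (.node 2411 (.leaf 0) (.leaf 0))) (.node 2414 (.node 2413 (.leaf 0) (.leaf 0)) (.node 2415 (.leaf 0) (.leaf 0))))) (.node 2424 (.node 2420 (.node 2418 (.node 2417 (.leaf 0) (.leaf 0)) (.node 2419 (.leaf 0) (.leaf 0))) (.node 2422 (.node 2421 (.leaf 0) (.leaf 0)) (.node 2423 (.leaf 0) (.leaf 0)))) (.node 2428 (.node 2426 (.node 2425 (.leaf 0) (.leaf 0)) (.node 2427 (.leaf 0) (.leaf 0))) (.node 2430 (.node 2429 (.leaf 0) (.leaf 0)) (.node 2431 (.leaf 0) (.leaf 0))))))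

def regKPB76 : Bst := (.node 2448 (.node 2440 (.node 2436 (.node 2434 (.node 2433 (.leaf 0) (.leaf 0)) (.node 2435 (.leaf 0) (.leaf 0))) (.node 2438 (.node 2437 (.leaf 0) (.leaf 0)) (.node 2439 (.leaf 0) (.leaf 0)))) (.node 2444 (.node 2442 (.node 2441 (.leaf 0) (.leaf 0)) (.node 2443 (.leaf 0) (.leaf 0))) (.node 2446 (.node 2445 (.leaf 0) (.leaf 0)) (.node 2447 (.leaf 0) (.leaf 0))))) (.node 2456 (.node 2452 (.node 2450 (.node 2449 (.leaf 0) (.leaf 0)) (.node 2451 (.leaf 0) (.leaf 0))) (.node 2454 (.node 2453 (.leaf 0) (.leaf 0)) (.node 2455 (.leaf 0) (.leaf 0)))) (.node 2460 (.node 2458 (.node 2457 (.leaf 0) (.leaf 0)) (.node 2459 (.leaf 0) (.leaf 0))) (.node 2462 (.node 2461 (.leaf 0) (.leaf 0x5a000d40000000000)) (.node 2463 (.leaf 0x3900175001f2) (.leaf 0))))))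

def regKPB77 : Bst := (.node 2480 (.node 2472 (.node 2468 (.node 2466 (.node 2465 (.leaf 0) (.leaf 0)) (.node 2467 (.leaf 0) (.leaf 0))) (.node 2470 (.node 2469 (.leaf 0) (.leaf 0)) (.node 2471 (.leaf 0x21b0017b0000000000) (.leaf 0x180000d90022c0024b)))) (.node 2476 (.node 2474 (.node 2473 (.leaf 0xc600072) (.leaf 0)) (.node 2475 (.leaf 0) (.leaf 0))) (.node 2478 (.node 2477 (.leaf 0) (.leaf 0x20f00000)) (.node 2479 (.leaf 0) (.leaf 0))))) (.node 2488 (.node 2484 (.node 2482 (.node 2481 (.leaf 0x1ca000ec000000010f) (.leaf 0x12f0008600068)) (.node 2483 (.leaf 0) (.leaf 0))) (.node 2486 (.node 2485 (.leaf 0) (.leaf 0)) (.node 2487 (.leaf 0) (.leaf 0)))) (.node 2492 (.node 2490 (.node 2489 (.leaf 0) (.leaf 0)) (.node 2491 (.leaf 0) (.leaf 0))) (.node 2494 (.node 2493 (.leaf 0) (.leaf 0)) (.node 2495 (.leaf 0x1730002000008) (.leaf 0))))))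

def regKPB78 : Bst := (.node 2512 (.node 2504 (.node 2500 (.node 2498 (.node 2497 (.leaf 0) (.leaf 0)) (.node 2499 (.leaf 0) (.leaf 0))) (.node 2502 (.node 2501 (.leaf 0) (.leaf 0)) (.node 2503 (.leaf 0) (.leaf 0)))) (.node 2508 (.node 2506 (.node 2505 (.leaf 0) (.leaf 0)) (.node 2507 (.leaf 0) (.leaf 0))) (.node 2510 (.node 2509 (.leaf 0) (.leaf 0)) (.node 2511 (.leaf 0) (.leaf 0))))) (.node 2520 (.node 2516 (.node 2514 (.node 2513 (.leaf 0) (.leaf 0)) (.node 2515 (.leaf 0) (.leaf 0))) (.node 2518 (.node 2517 (.leaf 0) (.leaf 0)) (.node 2519 (.leaf 0) (.leaf 0)))) (.node 2524 (.node 2522 (.node 2521 (.leaf 0) (.leaf 0)) (.node 2523 (.leaf 0) (.leaf 0))) (.node 2526 (.node 2525 (.leaf 0) (.leaf 0)) (.node 2527 (.leaf 0) (.leaf 0))))))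

def regKPB79 : Bst := (.node 2544 (.node 2536 (.node 2532 (.node 2530 (.node 2529 (.leaf 0) (.leaf 0)) (.node 2531 (.leaf 0) (.leaf 0))) (.node 2534 (.node 2533 (.leaf 0) (.leaf 0x11a000000000000000)) (.node 2535 (.leaf 0x2810016d001da000fb) (.leaf 0x29b00251)))) (.node 2540 (.node 2538 (.node 2537 (.leaf 0) (.leaf 0)) (.node 2539 (.leaf 0x9b0014b0000000000) (.leaf 0x1e0000fe000700006a))) (.node 2542 (.node 2541 (.leaf 0x106) (.leaf 0)) (.node 2543 (.leaf 0) (.leaf 0))))) (.node 2552 (.node 2548 (.node 2546 (.node 2545 (.leaf 0x152002170000000000) (.leaf 0)) (.node 2547 (.leaf 0) (.leaf 0))) (.node 2550 (.node 2549 (.leaf 0) (.leaf 0)) (.node 2551 (.leaf 0) (.leaf 0)))) (.node 2556 (.node 2554 (.node 2553 (.leaf 0) (.leaf 0)) (.node 2555 (.leaf 0) (.leaf 0))) (.node 2558 (.node 2557 (.leaf 0) (.leaf 0)) (.node 2559 (.leaf 0) (.leaf 0))))))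

def regKPB80 : Bst := (.node 2576 (.node 2568 (.node 2564 (.node 2562 (.node 2561 (.leaf 0) (.leaf 0)) (.node 2563 (.leaf 0) (.leaf 0))) (.node 2566 (.node 2565 (.leaf 0) (.leaf 0x5c0002200067)) (.node 2567 (.leaf 0) (.leaf 0)))) (.node 2572 (.node 2570 (.node 2569 (.leaf 0) (.leaf 0)) (.node 2571 (.leaf 0) (.leaf 0))) (.node 2574 (.node 2573 (.leaf 0) (.leaf 0)) (.node 2575 (.leaf 0) (.leaf 0))))) (.node 2584 (.node 2580 (.node 2578 (.node 2577 (.leaf 0) (.leaf 0)) (.node 2579 (.leaf 0) (.leaf 0))) (.node 2582 (.node 2581 (.leaf 0) (.leaf 0)) (.node 2583 (.leaf 0) (.leaf 0)))) (.node 2588 (.node 2586 (.node 2585 (.leaf 0) (.leaf 0)) (.node 2587 (.leaf 0x21e0020d0015d00000) (.leaf 0))) (.node 2590 (.node 2589 (.leaf 0) (.leaf 0)) (.node 2591 (.leaf 0) (.leaf 0))))))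

def regKPB81 : Bst := (.node 2608 (.node 2600 (.node 2596 (.node 2594 (.node 2593 (.leaf 0) (.leaf 0)) (.node 2595 (.leaf 0) (.leaf 0))) (.node 2598 (.node 2597 (.leaf 0x9200000) (.leaf 0)) (.node 2599 (.leaf 0) (.leaf 0)))) (.node 2604 (.node 2602 (.node 2601 (.leaf 0) (.leaf 0)) (.node 2603 (.leaf 0) (.leaf 0))) (.node 2606 (.node 2605 (.leaf 0) (.leaf 0)) (.node 2607 (.leaf 0) (.leaf 0))))) (.node 2616 (.node 2612 (.node 2610 (.node 2609 (.leaf 0) (.leaf 0)) (.node 2611 (.leaf 0) (.leaf 0))) (.node 2614 (.node 2613 (.leaf 0) (.leaf 0)) (.node 2615 (.leaf 0) (.leaf 0)))) (.node 2620 (.node 2618 (.node 2617 (.leaf 0) (.leaf 0)) (.node 2619 (.leaf 0) (.leaf 0))) (.node 2622 (.node 2621 (.leaf 0) (.leaf 0)) (.node 2623 (.leaf 0) (.leaf 0))))))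

def regKPB82 : Bst := (.node 2640 (.node 2632 (.node 2628 (.node 2626 (.node 2625 (.leaf 0) (.leaf 0)) (.node 2627 (.leaf 0) (.leaf 0))) (.node 2630 (.node 2629 (.leaf 0) (.leaf 0)) (.node 2631 (.leaf 0) (.leaf 0)))) (.node 2636 (.node 2634 (.node 2633 (.leaf 0) (.leaf 0)) (.node 2635 (.leaf 0) (.leaf 0))) (.node 2638 (.node 2637 (.leaf 0) (.leaf 0)) (.node 2639 (.leaf 0) (.leaf 0))))) (.node 2648 (.node 2644 (.node 2642 (.node 2641 (.leaf 0) (.leaf 0)) (.node 2643 (.leaf 0) (.leaf 0))) (.node 2646 (.node 2645 (.leaf 0) (.leaf 0)) (.node 2647 (.leaf 0) (.leaf 0)))) (.node 2652 (.node 2650 (.node 2649 (.leaf 0) (.leaf 0)) (.node 2651 (.leaf 0) (.leaf 0))) (.node 2654 (.node 2653 (.leaf 0) (.leaf 0)) (.node 2655 (.leaf 0) (.leaf 0))))))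

def regKPB83 : Bst := (.node 2672 (.node 2664 (.node 2660 (.node 2658 (.node 2657 (.leaf 0) (.leaf 0)) (.node 2659 (.leaf 0) (.leaf 0))) (.node 2662 (.node 2661 (.leaf 0) (.leaf 0)) (.node 2663 (.leaf 0) (.leaf 0)))) (.node 2668 (.node 2666 (.node 2665 (.leaf 0) (.leaf 0)) (.node 2667 (.leaf 0) (.leaf 0))) (.node 2670 (.node 2669 (.leaf 0) (.leaf 0)) (.node 2671 (.leaf 0) (.leaf 0))))) (.node 2680 (.node 2676 (.node 2674 (.node 2673 (.leaf 0) (.leaf 0)) (.node 2675 (.leaf 0) (.leaf 0))) (.node 2678 (.node 2677 (.leaf 0) (.leaf 0)) (.node 2679 (.leaf 0) (.leaf 0)))) (.node 2684 (.node 2682 (.node 2681 (.leaf 0) (.leaf 0)) (.node 2683 (.leaf 0) (.leaf 0))) (.node 2686 (.node 2685 (.leaf 0) (.leaf 0)) (.node 2687 (.leaf 0) (.leaf 0))))))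

def regKPB84 : Bst := (.node 2704 (.node 2696 (.node 2692 (.node 2690 (.node 2689 (.leaf 0) (.leaf 0)) (.node 2691 (.leaf 0) (.leaf 0))) (.node 2694 (.node 2693 (.leaf 0) (.leaf 0)) (.node 2695 (.leaf 0) (.leaf 0)))) (.node 2700 (.node 2698 (.node 2697 (.leaf 0) (.leaf 0)) (.node 2699 (.leaf 0) (.leaf 0))) (.node 2702 (.node 2701 (.leaf 0) (.leaf 0)) (.node 2703 (.leaf 0) (.leaf 0))))) (.node 2712 (.node 2708 (.node 2706 (.node 2705 (.leaf 0) (.leaf 0)) (.node 2707 (.leaf 0) (.leaf 0))) (.node 2710 (.node 2709 (.leaf 0) (.leaf 0)) (.node 2711 (.leaf 0) (.leaf 0)))) (.node 2716 (.node 2714 (.node 2713 (.leaf 0) (.leaf 0)) (.node 2715 (.leaf 0) (.leaf 0))) (.node 2718 (.node 2717 (.leaf 0) (.leaf 0)) (.node 2719 (.leaf 0) (.leaf 0))))))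

def regKPB85 : Bst := (.node 2736 (.node 2728 (.node 2724 (.node 2722 (.node 2721 (.leaf 0) (.leaf 0)) (.node 2723 (.leaf 0) (.leaf 0))) (.node 2726 (.node 2725 (.leaf 0) (.leaf 0)) (.node 2727 (.leaf 0) (.leaf 0)))) (.node 2732 (.node 2730 (.node 2729 (.leaf 0) (.leaf 0)) (.node 2731 (.leaf 0) (.leaf 0))) (.node 2734 (.node 2733 (.leaf 0) (.leaf 0)) (.node 2735 (.leaf 0) (.leaf 0))))) (.node 2744 (.node 2740 (.node 2738 (.node 2737 (.leaf 0) (.leaf 0)) (.node 2739 (.leaf 0) (.leaf 0))) (.node 2742 (.node 2741 (.leaf 0) (.leaf 0)) (.node 2743 (.leaf 0) (.leaf 0)))) (.node 2748 (.node 2746 (.node 2745 (.leaf 0) (.leaf 0)) (.node 2747 (.leaf 0) (.leaf 0))) (.node 2750 (.node 2749 (.leaf 0) (.leaf 0)) (.node 2751 (.leaf 0) (.leaf 0))))))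

def regKPB86 : Bst := (.node 2768 (.node 2760 (.node 2756 (.node 2754 (.node 2753 (.leaf 0) (.leaf 0)) (.node 2755 (.leaf 0) (.leaf 0))) (.node 2758 (.node 2757 (.leaf 0) (.leaf 0)) (.node 2759 (.leaf 0) (.leaf 0)))) (.node 2764 (.node 2762 (.node 2761 (.leaf 0) (.leaf 0)) (.node 2763 (.leaf 0) (.leaf 0))) (.node 2766 (.node 2765 (.leaf 0) (.leaf 0)) (.node 2767 (.leaf 0) (.leaf 0))))) (.node 2776 (.node 2772 (.node 2770 (.node 2769 (.leaf 0) (.leaf 0)) (.node 2771 (.leaf 0) (.leaf 0))) (.node 2774 (.node 2773 (.leaf 0) (.leaf 0)) (.node 2775 (.leaf 0) (.leaf 0)))) (.node 2780 (.node 2778 (.node 2777 (.leaf 0) (.leaf 0)) (.node 2779 (.leaf 0) (.leaf 0))) (.node 2782 (.node 2781 (.leaf 0) (.leaf 0)) (.node 2783 (.leaf 0) (.leaf 0))))))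

def regKPB87 : Bst := (.node 2800 (.node 2792 (.node 2788 (.node 2786 (.node 2785 (.leaf 0) (.leaf 0)) (.node 2787 (.leaf 0) (.leaf 0))) (.node 2790 (.node 2789 (.leaf 0) (.leaf 0)) (.node 2791 (.leaf 0) (.leaf 0)))) (.node 2796 (.node 2794 (.node 2793 (.leaf 0) (.leaf 0)) (.node 2795 (.leaf 0) (.leaf 0))) (.node 2798 (.node 2797 (.leaf 0) (.leaf 0)) (.node 2799 (.leaf 0) (.leaf 0))))) (.node 2808 (.node 2804 (.node 2802 (.node 2801 (.leaf 0) (.leaf 0)) (.node 2803 (.leaf 0) (.leaf 0))) (.node 2806 (.node 2805 (.leaf 0) (.leaf 0)) (.node 2807 (.leaf 0) (.leaf 0)))) (.node 2812 (.node 2810 (.node 2809 (.leaf 0) (.leaf 0)) (.node 2811 (.leaf 0) (.leaf 0))) (.node 2814 (.node 2813 (.leaf 0) (.leaf 0)) (.node 2815 (.leaf 0) (.leaf 0))))))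

def regKPB88 : Bst := (.node 2832 (.node 2824 (.node 2820 (.node 2818 (.node 2817 (.leaf 0) (.leaf 0)) (.node 2819 (.leaf 0) (.leaf 0))) (.node 2822 (.node 2821 (.leaf 0) (.leaf 0)) (.node 2823 (.leaf 0) (.leaf 0)))) (.node 2828 (.node 2826 (.node 2825 (.leaf 0) (.leaf 0)) (.node 2827 (.leaf 0) (.leaf 0))) (.node 2830 (.node 2829 (.leaf 0) (.leaf 0)) (.node 2831 (.leaf 0) (.leaf 0))))) (.node 2840 (.node 2836 (.node 2834 (.node 2833 (.leaf 0) (.leaf 0)) (.node 2835 (.leaf 0xe7000d50000000000) (.leaf 0))) (.node 2838 (.node 2837 (.leaf 0x2890009e0015500000) (.leaf 0)) (.node 2839 (.leaf 0) (.leaf 0)))) (.node 2844 (.node 2842 (.node 2841 (.leaf 0) (.leaf 0)) (.node 2843 (.leaf 0) (.leaf 0))) (.node 2846 (.node 2845 (.leaf 0) (.leaf 0)) (.node 2847 (.leaf 0) (.leaf 0))))))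

def regKPB89 : Bst := (.node 2864 (.node 2856 (.node 2852 (.node 2850 (.node 2849 (.leaf 0) (.leaf 0)) (.node 2851 (.leaf 0) (.leaf 0))) (.node 2854 (.node 2853 (.leaf 0) (.leaf 0)) (.node 2855 (.leaf 0) (.leaf 0)))) (.node 2860 (.node 2858 (.node 2857 (.leaf 0) (.leaf 0)) (.node 2859 (.leaf 0) (.leaf 0))) (.node 2862 (.node 2861 (.leaf 0) (.leaf 0)) (.node 2863 (.leaf 0) (.leaf 0))))) (.node 2872 (.node 2868 (.node 2866 (.node 2865 (.leaf 0) (.leaf 0)) (.node 2867 (.leaf 0) (.leaf 0))) (.node 2870 (.node 2869 (.leaf 0x7b00094000a9000f7) (.leaf 0x25a001950025c)) (.node 2871 (.leaf 0) (.leaf 0)))) (.node 2876 (.node 2874 (.node 2873 (.leaf 0) (.leaf 0)) (.node 2875 (.leaf 0) (.leaf 0))) (.node 2878 (.node 2877 (.leaf 0) (.leaf 0)) (.node 2879 (.leaf 0) (.leaf 0))))))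

def regKPB90 : Bst := (.node 2896 (.node 2888 (.node 2884 (.node 2882 (.node 2881 (.leaf 0) (.leaf 0)) (.node 2883 (.leaf 0) (.leaf 0x1fc000000000000000))) (.node 2886 (.node 2885 (.leaf 0) (.leaf 0)) (.node 2887 (.leaf 0) (.leaf 0)))) (.node 2892 (.node 2890 (.node 2889 (.leaf 0) (.leaf 0)) (.node 2891 (.leaf 0) (.leaf 0))) (.node 2894 (.node 2893 (.leaf 0) (.leaf 0)) (.node 2895 (.leaf 0) (.leaf 0))))) (.node 2904 (.node 2900 (.node 2898 (.node 2897 (.leaf 0) (.leaf 0)) (.node 2899 (.leaf 0) (.leaf 0))) (.node 2902 (.node 2901 (.leaf 0) (.leaf 0)) (.node 2903 (.leaf 0) (.leaf 0)))) (.node 2908 (.node 2906 (.node 2905 (.leaf 0) (.leaf 0)) (.node 2907 (.leaf 0) (.leaf 0))) (.node 2910 (.node 2909 (.leaf 0) (.leaf 0)) (.node 2911 (.leaf 0) (.leaf 0))))))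

def regKPB91 : Bst := (.node 2928 (.node 2920 (.node 2916 (.node 2914 (.node 2913 (.leaf 0) (.leaf 0)) (.node 2915 (.leaf 0) (.leaf 0))) (.node 2918 (.node 2917 (.leaf 0) (.leaf 0)) (.node 2919 (.leaf 0) (.leaf 0)))) (.node 2924 (.node 2922 (.node 2921 (.leaf 0) (.leaf 0)) (.node 2923 (.leaf 0) (.leaf 0))) (.node 2926 (.node 2925 (.leaf 0) (.leaf 0)) (.node 2927 (.leaf 0) (.leaf 0))))) (.node 2936 (.node 2932 (.node 2930 (.node 2929 (.leaf 0) (.leaf 0)) (.node 2931 (.leaf 0) (.leaf 0))) (.node 2934 (.node 2933 (.leaf 0) (.leaf 0)) (.node 2935 (.leaf 0) (.leaf 0)))) (.node 2940 (.node 2938 (.node 2937 (.leaf 0) (.leaf 0)) (.node 2939 (.leaf 0) (.leaf 0))) (.node 2942 (.node 2941 (.leaf 0) (.leaf 0)) (.node 2943 (.leaf 0) (.leaf 0))))))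

def regKPB92 : Bst := (.node 2960 (.node 2952 (.node 2948 (.node 2946 (.node 2945 (.leaf 0) (.leaf 0)) (.node 2947 (.leaf 0) (.leaf 0))) (.node 2950 (.node 2949 (.leaf 0) (.leaf 0)) (.node 2951 (.leaf 0) (.leaf 0)))) (.node 2956 (.node 2954 (.node 2953 (.leaf 0) (.leaf 0)) (.node 2955 (.leaf 0) (.leaf 0))) (.node 2958 (.node 2957 (.leaf 0) (.leaf 0)) (.node 2959 (.leaf 0) (.leaf 0))))) (.node 2968 (.node 2964 (.node 2962 (.node 2961 (.leaf 0) (.leaf 0)) (.node 2963 (.leaf 0) (.leaf 0))) (.node 2966 (.node 2965 (.leaf 0) (.leaf 0)) (.node 2967 (.leaf 0) (.leaf 0)))) (.node 2972 (.node 2970 (.node 2969 (.leaf 0) (.leaf 0)) (.node 2971 (.leaf 0) (.leaf 0))) (.node 2974 (.node 2973 (.leaf 0) (.leaf 0)) (.node 2975 (.leaf 0) (.leaf 0))))))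

def regKPB93 : Bst := (.node 2992 (.node 2984 (.node 2980 (.node 2978 (.node 2977 (.leaf 0) (.leaf 0)) (.node 2979 (.leaf 0) (.leaf 0))) (.node 2982 (.node 2981 (.leaf 0) (.leaf 0)) (.node 2983 (.leaf 0) (.leaf 0)))) (.node 2988 (.node 2986 (.node 2985 (.leaf 0) (.leaf 0)) (.node 2987 (.leaf 0) (.leaf 0))) (.node 2990 (.node 2989 (.leaf 0) (.leaf 0)) (.node 2991 (.leaf 0) (.leaf 0))))) (.node 3000 (.node 2996 (.node 2994 (.node 2993 (.leaf 0) (.leaf 0)) (.node 2995 (.leaf 0) (.leaf 0))) (.node 2998 (.node 2997 (.leaf 0) (.leaf 0)) (.node 2999 (.leaf 0) (.leaf 0)))) (.node 3004 (.node 3002 (.node 3001 (.leaf 0) (.leaf 0)) (.node 3003 (.leaf 0) (.leaf 0))) (.node 3006 (.node 3005 (.leaf 0) (.leaf 0)) (.node 3007 (.leaf 0) (.leaf 0))))))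

def regKPB94 : Bst := (.node 3024 (.node 3016 (.node 3012 (.node 3010 (.node 3009 (.leaf 0) (.leaf 0)) (.node 3011 (.leaf 0) (.leaf 0))) (.node 3014 (.node 3013 (.leaf 0) (.leaf 0)) (.node 3015 (.leaf 0) (.leaf 0)))) (.node 3020 (.node 3018 (.node 3017 (.leaf 0) (.leaf 0)) (.node 3019 (.leaf 0) (.leaf 0))) (.node 3022 (.node 3021 (.leaf 0) (.leaf 0)) (.node 3023 (.leaf 0) (.leaf 0))))) (.node 3032 (.node 3028 (.node 3026 (.node 3025 (.leaf 0) (.leaf 0)) (.node 3027 (.leaf 0) (.leaf 0))) (.node 3030 (.node 3029 (.leaf 0) (.leaf 0)) (.node 3031 (.leaf 0) (.leaf 0)))) (.node 3036 (.node 3034 (.node 3033 (.leaf 0) (.leaf 0)) (.node 3035 (.leaf 0) (.leaf 0))) (.node 3038 (.node 3037 (.leaf 0) (.leaf 0)) (.node 3039 (.leaf 0) (.leaf 0))))))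

def regKPB95 : Bst := (.node 3056 (.node 3048 (.node 3044 (.node 3042 (.node 3041 (.leaf 0) (.leaf 0)) (.node 3043 (.leaf 0) (.leaf 0))) (.node 3046 (.node 3045 (.leaf 0) (.leaf 0)) (.node 3047 (.leaf 0) (.leaf 0)))) (.node 3052 (.node 3050 (.node 3049 (.leaf 0) (.leaf 0)) (.node 3051 (.leaf 0) (.leaf 0))) (.node 3054 (.node 3053 (.leaf 0) (.leaf 0)) (.node 3055 (.leaf 0) (.leaf 0))))) (.node 3064 (.node 3060 (.node 3058 (.node 3057 (.leaf 0) (.leaf 0)) (.node 3059 (.leaf 0) (.leaf 0))) (.node 3062 (.node 3061 (.leaf 0) (.leaf 0)) (.node 3063 (.leaf 0) (.leaf 0)))) (.node 3068 (.node 3066 (.node 3065 (.leaf 0) (.leaf 0)) (.node 3067 (.leaf 0) (.leaf 0))) (.node 3070 (.node 3069 (.leaf 0) (.leaf 0)) (.node 3071 (.leaf 0) (.leaf 0))))))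

def regKPB96 : Bst := (.node 3088 (.node 3080 (.node 3076 (.node 3074 (.node 3073 (.leaf 0) (.leaf 0)) (.node 3075 (.leaf 0) (.leaf 0))) (.node 3078 (.node 3077 (.leaf 0) (.leaf 0)) (.node 3079 (.leaf 0) (.leaf 0)))) (.node 3084 (.node 3082 (.node 3081 (.leaf 0) (.leaf 0)) (.node 3083 (.leaf 0) (.leaf 0))) (.node 3086 (.node 3085 (.leaf 0) (.leaf 0)) (.node 3087 (.leaf 0) (.leaf 0))))) (.node 3096 (.node 3092 (.node 3090 (.node 3089 (.leaf 0) (.leaf 0)) (.node 3091 (.leaf 0) (.leaf 0))) (.node 3094 (.node 3093 (.leaf 0) (.leaf 0)) (.node 3095 (.leaf 0) (.leaf 0)))) (.node 3100 (.node 3098 (.node 3097 (.leaf 0) (.leaf 0)) (.node 3099 (.leaf 0) (.leaf 0))) (.node 3102 (.node 3101 (.leaf 0) (.leaf 0)) (.node 3103 (.leaf 0) (.leaf 0))))))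

def regKPB97 : Bst := (.node 3120 (.node 3112 (.node 3108 (.node 3106 (.node 3105 (.leaf 0) (.leaf 0)) (.node 3107 (.leaf 0) (.leaf 0))) (.node 3110 (.node 3109 (.leaf 0) (.leaf 0)) (.node 3111 (.leaf 0) (.leaf 0)))) (.node 3116 (.node 3114 (.node 3113 (.leaf 0) (.leaf 0)) (.node 3115 (.leaf 0) (.leaf 0))) (.node 3118 (.node 3117 (.leaf 0) (.leaf 0)) (.node 3119 (.leaf 0) (.leaf 0))))) (.node 3128 (.node 3124 (.node 3122 (.node 3121 (.leaf 0) (.leaf 0)) (.node 3123 (.leaf 0) (.leaf 0))) (.node 3126 (.node 3125 (.leaf 0) (.leaf 0)) (.node 3127 (.leaf 0) (.leaf 0)))) (.node 3132 (.node 3130 (.node 3129 (.leaf 0) (.leaf 0)) (.node 3131 (.leaf 0) (.leaf 0))) (.node 3134 (.node 3133 (.leaf 0) (.leaf 0)) (.node 3135 (.leaf 0) (.leaf 0))))))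

def regKPB98 : Bst := (.node 3152 (.node 3144 (.node 3140 (.node 3138 (.node 3137 (.leaf 0) (.leaf 0)) (.node 3139 (.leaf 0) (.leaf 0))) (.node 3142 (.node 3141 (.leaf 0) (.leaf 0)) (.node 3143 (.leaf 0) (.leaf 0)))) (.node 3148 (.node 3146 (.node 3145 (.leaf 0) (.leaf 0)) (.node 3147 (.leaf 0) (.leaf 0))) (.node 3150 (.node 3149 (.leaf 0) (.leaf 0)) (.node 3151 (.leaf 0) (.leaf 0))))) (.node 3160 (.node 3156 (.node 3154 (.node 3153 (.leaf 0) (.leaf 0)) (.node 3155 (.leaf 0) (.leaf 0))) (.node 3158 (.node 3157 (.leaf 0) (.leaf 0)) (.node 3159 (.leaf 0) (.leaf 0)))) (.node 3164 (.node 3162 (.node 3161 (.leaf 0) (.leaf 0)) (.node 3163 (.leaf 0) (.leaf 0))) (.node 3166 (.node 3165 (.leaf 0) (.leaf 0)) (.node 3167 (.leaf 0) (.leaf 0))))))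

def regKPB99 : Bst := (.node 3184 (.node 3176 (.node 3172 (.node 3170 (.node 3169 (.leaf 0) (.leaf 0)) (.node 3171 (.leaf 0) (.leaf 0))) (.node 3174 (.node 3173 (.leaf 0) (.leaf 0)) (.node 3175 (.leaf 0) (.leaf 0)))) (.node 3180 (.node 3178 (.node 3177 (.leaf 0) (.leaf 0)) (.node 3179 (.leaf 0) (.leaf 0))) (.node 3182 (.node 3181 (.leaf 0) (.leaf 0)) (.node 3183 (.leaf 0) (.leaf 0))))) (.node 3192 (.node 3188 (.node 3186 (.node 3185 (.leaf 0) (.leaf 0)) (.node 3187 (.leaf 0) (.leaf 0))) (.node 3190 (.node 3189 (.leaf 0) (.leaf 0)) (.node 3191 (.leaf 0) (.leaf 0)))) (.node 3196 (.node 3194 (.node 3193 (.leaf 0) (.leaf 0)) (.node 3195 (.leaf 0) (.leaf 0))) (.node 3198 (.node 3197 (.leaf 0) (.leaf 0)) (.node 3199 (.leaf 0) (.leaf 0))))))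

def regKPB100 : Bst := (.node 3216 (.node 3208 (.node 3204 (.node 3202 (.node 3201 (.leaf 0) (.leaf 0)) (.node 3203 (.leaf 0) (.leaf 0))) (.node 3206 (.node 3205 (.leaf 0) (.leaf 0)) (.node 3207 (.leaf 0) (.leaf 0)))) (.node 3212 (.node 3210 (.node 3209 (.leaf 0) (.leaf 0)) (.node 3211 (.leaf 0) (.leaf 0))) (.node 3214 (.node 3213 (.leaf 0) (.leaf 0)) (.node 3215 (.leaf 0) (.leaf 0))))) (.node 3224 (.node 3220 (.node 3218 (.node 3217 (.leaf 0) (.leaf 0)) (.node 3219 (.leaf 0) (.leaf 0))) (.node 3222 (.node 3221 (.leaf 0) (.leaf 0)) (.node 3223 (.leaf 0) (.leaf 0)))) (.node 3228 (.node 3226 (.node 3225 (.leaf 0) (.leaf 0)) (.node 3227 (.leaf 0) (.leaf 0))) (.node 3230 (.node 3229 (.leaf 0) (.leaf 0)) (.node 3231 (.leaf 0) (.leaf 0))))))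

def regKPB101 : Bst := (.node 3248 (.node 3240 (.node 3236 (.node 3234 (.node 3233 (.leaf 0) (.leaf 0)) (.node 3235 (.leaf 0) (.leaf 0))) (.node 3238 (.node 3237 (.leaf 0) (.leaf 0)) (.node 3239 (.leaf 0) (.leaf 0)))) (.node 3244 (.node 3242 (.node 3241 (.leaf 0) (.leaf 0)) (.node 3243 (.leaf 0) (.leaf 0))) (.node 3246 (.node 3245 (.leaf 0) (.leaf 0)) (.node 3247 (.leaf 0) (.leaf 0))))) (.node 3256 (.node 3252 (.node 3250 (.node 3249 (.leaf 0) (.leaf 0)) (.node 3251 (.leaf 0) (.leaf 0))) (.node 3254 (.node 3253 (.leaf 0) (.leaf 0)) (.node 3255 (.leaf 0) (.leaf 0)))) (.node 3260 (.node 3258 (.node 3257 (.leaf 0) (.leaf 0)) (.node 3259 (.leaf 0) (.leaf 0))) (.node 3262 (.node 3261 (.leaf 0) (.leaf 0)) (.node 3263 (.leaf 0) (.leaf 0))))))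

def regKPB102 : Bst := (.node 3280 (.node 3272 (.node 3268 (.node 3266 (.node 3265 (.leaf 0) (.leaf 0)) (.node 3267 (.leaf 0) (.leaf 0))) (.node 3270 (.node 3269 (.leaf 0) (.leaf 0)) (.node 3271 (.leaf 0) (.leaf 0)))) (.node 3276 (.node 3274 (.node 3273 (.leaf 0) (.leaf 0)) (.node 3275 (.leaf 0) (.leaf 0))) (.node 3278 (.node 3277 (.leaf 0) (.leaf 0)) (.node 3279 (.leaf 0) (.leaf 0))))) (.node 3288 (.node 3284 (.node 3282 (.node 3281 (.leaf 0) (.leaf 0)) (.node 3283 (.leaf 0) (.leaf 0))) (.node 3286 (.node 3285 (.leaf 0) (.leaf 0)) (.node 3287 (.leaf 0) (.leaf 0)))) (.node 3292 (.node 3290 (.node 3289 (.leaf 0) (.leaf 0)) (.node 3291 (.leaf 0) (.leaf 0))) (.node 3294 (.node 3293 (.leaf 0) (.leaf 0)) (.node 3295 (.leaf 0) (.leaf 0))))))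

def regKPB103 : Bst := (.node 3312 (.node 3304 (.node 3300 (.node 3298 (.node 3297 (.leaf 0) (.leaf 0)) (.node 3299 (.leaf 0) (.leaf 0))) (.node 3302 (.node 3301 (.leaf 0) (.leaf 0)) (.node 3303 (.leaf 0) (.leaf 0)))) (.node 3308 (.node 3306 (.node 3305 (.leaf 0) (.leaf 0)) (.node 3307 (.leaf 0) (.leaf 0))) (.node 3310 (.node 3309 (.leaf 0) (.leaf 0)) (.node 3311 (.leaf 0) (.leaf 0))))) (.node 3320 (.node 3316 (.node 3314 (.node 3313 (.leaf 0) (.leaf 0)) (.node 3315 (.leaf 0) (.leaf 0))) (.node 3318 (.node 3317 (.leaf 0) (.leaf 0)) (.node 3319 (.leaf 0) (.leaf 0)))) (.node 3324 (.node 3322 (.node 3321 (.leaf 0) (.leaf 0)) (.node 3323 (.leaf 0) (.leaf 0))) (.node 3326 (.node 3325 (.leaf 0) (.leaf 0)) (.node 3327 (.leaf 0) (.leaf 0))))))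

def regKPB104 : Bst := (.node 3344 (.node 3336 (.node 3332 (.node 3330 (.node 3329 (.leaf 0) (.leaf 0)) (.node 3331 (.leaf 0) (.leaf 0))) (.node 3334 (.node 3333 (.leaf 0) (.leaf 0)) (.node 3335 (.leaf 0) (.leaf 0)))) (.node 3340 (.node 3338 (.node 3337 (.leaf 0) (.leaf 0)) (.node 3339 (.leaf 0) (.leaf 0))) (.node 3342 (.node 3341 (.leaf 0) (.leaf 0)) (.node 3343 (.leaf 0) (.leaf 0))))) (.node 3352 (.node 3348 (.node 3346 (.node 3345 (.leaf 0) (.leaf 0)) (.node 3347 (.leaf 0) (.leaf 0))) (.node 3350 (.node 3349 (.leaf 0) (.leaf 0)) (.node 3351 (.leaf 0) (.leaf 0)))) (.node 3356 (.node 3354 (.node 3353 (.leaf 0) (.leaf 0)) (.node 3355 (.leaf 0) (.leaf 0))) (.node 3358 (.node 3357 (.leaf 0) (.leaf 0)) (.node 3359 (.leaf 0) (.leaf 0))))))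

def regKPB105 : Bst := (.node 3376 (.node 3368 (.node 3364 (.node 3362 (.node 3361 (.leaf 0) (.leaf 0)) (.node 3363 (.leaf 0) (.leaf 0))) (.node 3366 (.node 3365 (.leaf 0) (.leaf 0)) (.node 3367 (.leaf 0) (.leaf 0)))) (.node 3372 (.node 3370 (.node 3369 (.leaf 0) (.leaf 0)) (.node 3371 (.leaf 0) (.leaf 0))) (.node 3374 (.node 3373 (.leaf 0) (.leaf 0)) (.node 3375 (.leaf 0) (.leaf 0))))) (.node 3384 (.node 3380 (.node 3378 (.node 3377 (.leaf 0) (.leaf 0)) (.node 3379 (.leaf 0) (.leaf 0))) (.node 3382 (.node 3381 (.leaf 0) (.leaf 0)) (.node 3383 (.leaf 0) (.leaf 0)))) (.node 3388 (.node 3386 (.node 3385 (.leaf 0) (.leaf 0)) (.node 3387 (.leaf 0) (.leaf 0))) (.node 3390 (.node 3389 (.leaf 0) (.leaf 0)) (.node 3391 (.leaf 0) (.leaf 0))))))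

def regKPB106 : Bst := (.node 3408 (.node 3400 (.node 3396 (.node 3394 (.node 3393 (.leaf 0x1af000000000000000) (.leaf 0xea001c0001e5)) (.node 3395 (.leaf 0) (.leaf 0))) (.node 3398 (.node 3397 (.leaf 0) (.leaf 0)) (.node 3399 (.leaf 0) (.leaf 0)))) (.node 3404 (.node 3402 (.node 3401 (.leaf 0) (.leaf 0)) (.node 3403 (.leaf 0) (.leaf 0))) (.node 3406 (.node 3405 (.leaf 0) (.leaf 0)) (.node 3407 (.leaf 0) (.leaf 0))))) (.node 3416 (.node 3412 (.node 3410 (.node 3409 (.leaf 0) (.leaf 0)) (.node 3411 (.leaf 0) (.leaf 0))) (.node 3414 (.node 3413 (.leaf 0) (.leaf 0)) (.node 3415 (.leaf 0) (.leaf 0)))) (.node 3420 (.node 3418 (.node 3417 (.leaf 0) (.leaf 0)) (.node 3419 (.leaf 0) (.leaf 0))) (.node 3422 (.node 3421 (.leaf 0) (.leaf 0)) (.node 3423 (.leaf 0) (.leaf 0))))))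

def regKPB107 : Bst := (.node 3440 (.node 3432 (.node 3428 (.node 3426 (.node 3425 (.leaf 0) (.leaf 0)) (.node 3427 (.leaf 0) (.leaf 0))) (.node 3430 (.node 3429 (.leaf 0) (.leaf 0)) (.node 3431 (.leaf 0) (.leaf 0)))) (.node 3436 (.node 3434 (.node 3433 (.leaf 0) (.leaf 0x23c)) (.node 3435 (.leaf 0) (.leaf 0))) (.node 3438 (.node 3437 (.leaf 0) (.leaf 0x5b000e800000)) (.node 3439 (.leaf 0) (.leaf 0))))) (.node 3448 (.node 3444 (.node 3442 (.node 3441 (.leaf 0) (.leaf 0)) (.node 3443 (.leaf 0) (.leaf 0))) (.node 3446 (.node 3445 (.leaf 0) (.leaf 0)) (.node 3447 (.leaf 0) (.leaf 0)))) (.node 3452 (.node 3450 (.node 3449 (.leaf 0) (.leaf 0)) (.node 3451 (.leaf 0) (.leaf 0))) (.node 3454 (.node 3453 (.leaf 0) (.leaf 0)) (.node 3455 (.leaf 0) (.leaf 0))))))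

def regKPB108 : Bst := (.node 3472 (.node 3464 (.node 3460 (.node 3458 (.node 3457 (.leaf 0) (.leaf 0)) (.node 3459 (.leaf 0) (.leaf 0))) (.node 3462 (.node 3461 (.leaf 0) (.leaf 0)) (.node 3463 (.leaf 0) (.leaf 0)))) (.node 3468 (.node 3466 (.node 3465 (.leaf 0) (.leaf 0)) (.node 3467 (.leaf 0) (.leaf 0))) (.node 3470 (.node 3469 (.leaf 0) (.leaf 0)) (.node 3471 (.leaf 0) (.leaf 0))))) (.node 3480 (.node 3476 (.node 3474 (.node 3473 (.leaf 0) (.leaf 0)) (.node 3475 (.leaf 0) (.leaf 0))) (.node 3478 (.node 3477 (.leaf 0) (.leaf 0)) (.node 3479 (.leaf 0) (.leaf 0)))) (.node 3484 (.node 3482 (.node 3481 (.leaf 0) (.leaf 0)) (.node 3483 (.leaf 0) (.leaf 0))) (.node 3486 (.node 3485 (.leaf 0) (.leaf 0)) (.node 3487 (.leaf 0) (.leaf 0))))))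

def regKPB109 : Bst := (.node 3504 (.node 3496 (.node 3492 (.node 3490 (.node 3489 (.leaf 0) (.leaf 0)) (.node 3491 (.leaf 0) (.leaf 0))) (.node 3494 (.node 3493 (.leaf 0) (.leaf 0)) (.node 3495 (.leaf 0) (.leaf 0)))) (.node 3500 (.node 3498 (.node 3497 (.leaf 0) (.leaf 0)) (.node 3499 (.leaf 0) (.leaf 0))) (.node 3502 (.node 3501 (.leaf 0) (.leaf 0)) (.node 3503 (.leaf 0) (.leaf 0))))) (.node 3512 (.node 3508 (.node 3506 (.node 3505 (.leaf 0) (.leaf 0)) (.node 3507 (.leaf 0) (.leaf 0))) (.node 3510 (.node 3509 (.leaf 0) (.leaf 0)) (.node 3511 (.leaf 0) (.leaf 0)))) (.node 3516 (.node 3514 (.node 3513 (.leaf 0) (.leaf 0)) (.node 3515 (.leaf 0) (.leaf 0))) (.node 3518 (.node 3517 (.leaf 0) (.leaf 0)) (.node 3519 (.leaf 0) (.leaf 0))))))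

def regKPB110 : Bst := (.node 3536 (.node 3528 (.node 3524 (.node 3522 (.node 3521 (.leaf 0) (.leaf 0)) (.node 3523 (.leaf 0) (.leaf 0))) (.node 3526 (.node 3525 (.leaf 0) (.leaf 0)) (.node 3527 (.leaf 0) (.leaf 0)))) (.node 3532 (.node 3530 (.node 3529 (.leaf 0) (.leaf 0)) (.node 3531 (.leaf 0) (.leaf 0))) (.node 3534 (.node 3533 (.leaf 0) (.leaf 0)) (.node 3535 (.leaf 0) (.leaf 0))))) (.node 3544 (.node 3540 (.node 3538 (.node 3537 (.leaf 0) (.leaf 0)) (.node 3539 (.leaf 0) (.leaf 0))) (.node 3542 (.node 3541 (.leaf 0) (.leaf 0)) (.node 3543 (.leaf 0) (.leaf 0)))) (.node 3548 (.node 3546 (.node 3545 (.leaf 0) (.leaf 0)) (.node 3547 (.leaf 0) (.leaf 0))) (.node 3550 (.node 3549 (.leaf 0) (.leaf 0)) (.node 3551 (.leaf 0) (.leaf 0))))))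

def regKPB111 : Bst := (.node 3568 (.node 3560 (.node 3556 (.node 3554 (.node 3553 (.leaf 0) (.leaf 0)) (.node 3555 (.leaf 0) (.leaf 0))) (.node 3558 (.node 3557 (.leaf 0) (.leaf 0)) (.node 3559 (.leaf 0) (.leaf 0)))) (.node 3564 (.node 3562 (.node 3561 (.leaf 0) (.leaf 0)) (.node 3563 (.leaf 0) (.leaf 0))) (.node 3566 (.node 3565 (.leaf 0) (.leaf 0)) (.node 3567 (.leaf 0) (.leaf 0))))) (.node 3576 (.node 3572 (.node 3570 (.node 3569 (.leaf 0) (.leaf 0)) (.node 3571 (.leaf 0) (.leaf 0))) (.node 3574 (.node 3573 (.leaf 0) (.leaf 0)) (.node 3575 (.leaf 0) (.leaf 0)))) (.node 3580 (.node 3578 (.node 3577 (.leaf 0) (.leaf 0)) (.node 3579 (.leaf 0) (.leaf 0))) (.node 3582 (.node 3581 (.leaf 0) (.leaf 0)) (.node 3583 (.leaf 0) (.leaf 0))))))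

def regKPB112 : Bst := (.node 3600 (.node 3592 (.node 3588 (.node 3586 (.node 3585 (.leaf 0) (.leaf 0)) (.node 3587 (.leaf 0) (.leaf 0))) (.node 3590 (.node 3589 (.leaf 0) (.leaf 0)) (.node 3591 (.leaf 0) (.leaf 0)))) (.node 3596 (.node 3594 (.node 3593 (.leaf 0) (.leaf 0)) (.node 3595 (.leaf 0) (.leaf 0))) (.node 3598 (.node 3597 (.leaf 0) (.leaf 0)) (.node 3599 (.leaf 0) (.leaf 0))))) (.node 3608 (.node 3604 (.node 3602 (.node 3601 (.leaf 0) (.leaf 0)) (.node 3603 (.leaf 0) (.leaf 0))) (.node 3606 (.node 3605 (.leaf 0) (.leaf 0)) (.node 3607 (.leaf 0) (.leaf 0)))) (.node 3612 (.node 3610 (.node 3609 (.leaf 0) (.leaf 0)) (.node 3611 (.leaf 0) (.leaf 0))) (.node 3614 (.node 3613 (.leaf 0) (.leaf 0)) (.node 3615 (.leaf 0) (.leaf 0))))))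

def regKPB113 : Bst := (.node 3632 (.node 3624 (.node 3620 (.node 3618 (.node 3617 (.leaf 0) (.leaf 0)) (.node 3619 (.leaf 0) (.leaf 0))) (.node 3622 (.node 3621 (.leaf 0) (.leaf 0)) (.node 3623 (.leaf 0) (.leaf 0)))) (.node 3628 (.node 3626 (.node 3625 (.leaf 0) (.leaf 0)) (.node 3627 (.leaf 0) (.leaf 0))) (.node 3630 (.node 3629 (.leaf 0) (.leaf 0)) (.node 3631 (.leaf 0) (.leaf 0))))) (.node 3640 (.node 3636 (.node 3634 (.node 3633 (.leaf 0) (.leaf 0)) (.node 3635 (.leaf 0) (.leaf 0))) (.node 3638 (.node 3637 (.leaf 0) (.leaf 0)) (.node 3639 (.leaf 0) (.leaf 0)))) (.node 3644 (.node 3642 (.node 3641 (.leaf 0) (.leaf 0)) (.node 3643 (.leaf 0) (.leaf 0))) (.node 3646 (.node 3645 (.leaf 0) (.leaf 0)) (.node 3647 (.leaf 0) (.leaf 0))))))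

def regKPB114 : Bst := (.node 3664 (.node 3656 (.node 3652 (.node 3650 (.node 3649 (.leaf 0) (.leaf 0)) (.node 3651 (.leaf 0) (.leaf 0))) (.node 3654 (.node 3653 (.leaf 0) (.leaf 0)) (.node 3655 (.leaf 0) (.leaf 0)))) (.node 3660 (.node 3658 (.node 3657 (.leaf 0) (.leaf 0)) (.node 3659 (.leaf 0) (.leaf 0))) (.node 3662 (.node 3661 (.leaf 0) (.leaf 0)) (.node 3663 (.leaf 0) (.leaf 0))))) (.node 3672 (.node 3668 (.node 3666 (.node 3665 (.leaf 0) (.leaf 0)) (.node 3667 (.leaf 0) (.leaf 0))) (.node 3670 (.node 3669 (.leaf 0) (.leaf 0)) (.node 3671 (.leaf 0) (.leaf 0)))) (.node 3676 (.node 3674 (.node 3673 (.leaf 0) (.leaf 0)) (.node 3675 (.leaf 0) (.leaf 0))) (.node 3678 (.node 3677 (.leaf 0) (.leaf 0)) (.node 3679 (.leaf 0) (.leaf 0))))))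

def regKPB115 : Bst := (.node 3696 (.node 3688 (.node 3684 (.node 3682 (.node 3681 (.leaf 0) (.leaf 0)) (.node 3683 (.leaf 0) (.leaf 0))) (.node 3686 (.node 3685 (.leaf 0) (.leaf 0)) (.node 3687 (.leaf 0) (.leaf 0)))) (.node 3692 (.node 3690 (.node 3689 (.leaf 0) (.leaf 0)) (.node 3691 (.leaf 0) (.leaf 0))) (.node 3694 (.node 3693 (.leaf 0x1450011f0017d) (.leaf 0x14a0000000000)) (.node 3695 (.leaf 0) (.leaf 0))))) (.node 3704 (.node 3700 (.node 3698 (.node 3697 (.leaf 0) (.leaf 0)) (.node 3699 (.leaf 0) (.leaf 0))) (.node 3702 (.node 3701 (.leaf 0) (.leaf 0)) (.node 3703 (.leaf 0) (.leaf 0)))) (.node 3708 (.node 3706 (.node 3705 (.leaf 0) (.leaf 0)) (.node 3707 (.leaf 0) (.leaf 0))) (.node 3710 (.node 3709 (.leaf 0) (.leaf 0)) (.node 3711 (.leaf 0) (.leaf 0))))))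

def regKPB116 : Bst := (.node 3728 (.node 3720 (.node 3716 (.node 3714 (.node 3713 (.leaf 0) (.leaf 0)) (.node 3715 (.leaf 0) (.leaf 0))) (.node 3718 (.node 3717 (.leaf 0) (.leaf 0)) (.node 3719 (.leaf 0) (.leaf 0)))) (.node 3724 (.node 3722 (.node 3721 (.leaf 0) (.leaf 0)) (.node 3723 (.leaf 0) (.leaf 0))) (.node 3726 (.node 3725 (.leaf 0) (.leaf 0)) (.node 3727 (.leaf 0) (.leaf 0))))) (.node 3736 (.node 3732 (.node 3730 (.node 3729 (.leaf 0) (.leaf 0)) (.node 3731 (.leaf 0) (.leaf 0))) (.node 3734 (.node 3733 (.leaf 0) (.leaf 0)) (.node 3735 (.leaf 0) (.leaf 0)))) (.node 3740 (.node 3738 (.node 3737 (.leaf 0) (.leaf 0)) (.node 3739 (.leaf 0) (.leaf 0))) (.node 3742 (.node 3741 (.leaf 0) (.leaf 0)) (.node 3743 (.leaf 0) (.leaf 0))))))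

def regKPB117 : Bst := (.node 3760 (.node 3752 (.node 3748 (.node 3746 (.node 3745 (.leaf 0) (.leaf 0)) (.node 3747 (.leaf 0) (.leaf 0))) (.node 3750 (.node 3749 (.leaf 0) (.leaf 0)) (.node 3751 (.leaf 0) (.leaf 0)))) (.node 3756 (.node 3754 (.node 3753 (.leaf 0) (.leaf 0)) (.node 3755 (.leaf 0) (.leaf 0))) (.node 3758 (.node 3757 (.leaf 0) (.leaf 0)) (.node 3759 (.leaf 0) (.leaf 0))))) (.node 3768 (.node 3764 (.node 3762 (.node 3761 (.leaf 0) (.leaf 0)) (.node 3763 (.leaf 0) (.leaf 0))) (.node 3766 (.node 3765 (.leaf 0) (.leaf 0)) (.node 3767 (.leaf 0) (.leaf 0)))) (.node 3772 (.node 3770 (.node 3769 (.leaf 0) (.leaf 0)) (.node 3771 (.leaf 0) (.leaf 0))) (.node 3774 (.node 3773 (.leaf 0) (.leaf 0)) (.node 3775 (.leaf 0) (.leaf 0))))))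

def regKPB118 : Bst := (.node 3792 (.node 3784 (.node 3780 (.node 3778 (.node 3777 (.leaf 0) (.leaf 0)) (.node 3779 (.leaf 0) (.leaf 0))) (.node 3782 (.node 3781 (.leaf 0) (.leaf 0)) (.node 3783 (.leaf 0) (.leaf 0)))) (.node 3788 (.node 3786 (.node 3785 (.leaf 0) (.leaf 0)) (.node 3787 (.leaf 0) (.leaf 0))) (.node 3790 (.node 3789 (.leaf 0) (.leaf 0)) (.node 3791 (.leaf 0) (.leaf 0))))) (.node 3800 (.node 3796 (.node 3794 (.node 3793 (.leaf 0) (.leaf 0)) (.node 3795 (.leaf 0) (.leaf 0))) (.node 3798 (.node 3797 (.leaf 0) (.leaf 0)) (.node 3799 (.leaf 0) (.leaf 0)))) (.node 3804 (.node 3802 (.node 3801 (.leaf 0) (.leaf 0)) (.node 3803 (.leaf 0) (.leaf 0))) (.node 3806 (.node 3805 (.leaf 0) (.leaf 0)) (.node 3807 (.leaf 0) (.leaf 0))))))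

def regKPB119 : Bst := (.node 3824 (.node 3816 (.node 3812 (.node 3810 (.node 3809 (.leaf 0) (.leaf 0)) (.node 3811 (.leaf 0) (.leaf 0))) (.node 3814 (.node 3813 (.leaf 0) (.leaf 0)) (.node 3815 (.leaf 0) (.leaf 0)))) (.node 3820 (.node 3818 (.node 3817 (.leaf 0) (.leaf 0)) (.node 3819 (.leaf 0) (.leaf 0))) (.node 3822 (.node 3821 (.leaf 0) (.leaf 0)) (.node 3823 (.leaf 0) (.leaf 0))))) (.node 3832 (.node 3828 (.node 3826 (.node 3825 (.leaf 0) (.leaf 0)) (.node 3827 (.leaf 0) (.leaf 0))) (.node 3830 (.node 3829 (.leaf 0) (.leaf 0)) (.node 3831 (.leaf 0) (.leaf 0)))) (.node 3836 (.node 3834 (.node 3833 (.leaf 0) (.leaf 0)) (.node 3835 (.leaf 0) (.leaf 0))) (.node 3838 (.node 3837 (.leaf 0) (.leaf 0)) (.node 3839 (.leaf 0) (.leaf 0))))))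

def regKPB120 : Bst := (.node 3856 (.node 3848 (.node 3844 (.node 3842 (.node 3841 (.leaf 0) (.leaf 0)) (.node 3843 (.leaf 0) (.leaf 0))) (.node 3846 (.node 3845 (.leaf 0) (.leaf 0)) (.node 3847 (.leaf 0) (.leaf 0)))) (.node 3852 (.node 3850 (.node 3849 (.leaf 0) (.leaf 0)) (.node 3851 (.leaf 0) (.leaf 0))) (.node 3854 (.node 3853 (.leaf 0) (.leaf 0)) (.node 3855 (.leaf 0) (.leaf 0x44))))) (.node 3864 (.node 3860 (.node 3858 (.node 3857 (.leaf 0) (.leaf 0)) (.node 3859 (.leaf 0) (.leaf 0))) (.node 3862 (.node 3861 (.leaf 0) (.leaf 0)) (.node 3863 (.leaf 0) (.leaf 0)))) (.node 3868 (.node 3866 (.node 3865 (.leaf 0) (.leaf 0)) (.node 3867 (.leaf 0) (.leaf 0))) (.node 3870 (.node 3869 (.leaf 0) (.leaf 0)) (.node 3871 (.leaf 0) (.leaf 0))))))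

def regKPB121 : Bst := (.node 3888 (.node 3880 (.node 3876 (.node 3874 (.node 3873 (.leaf 0) (.leaf 0)) (.node 3875 (.leaf 0) (.leaf 0))) (.node 3878 (.node 3877 (.leaf 0) (.leaf 0)) (.node 3879 (.leaf 0) (.leaf 0)))) (.node 3884 (.node 3882 (.node 3881 (.leaf 0) (.leaf 0)) (.node 3883 (.leaf 0) (.leaf 0))) (.node 3886 (.node 3885 (.leaf 0) (.leaf 0)) (.node 3887 (.leaf 0) (.leaf 0))))) (.node 3896 (.node 3892 (.node 3890 (.node 3889 (.leaf 0) (.leaf 0)) (.node 3891 (.leaf 0) (.leaf 0))) (.node 3894 (.node 3893 (.leaf 0) (.leaf 0)) (.node 3895 (.leaf 0) (.leaf 0)))) (.node 3900 (.node 3898 (.node 3897 (.leaf 0) (.leaf 0)) (.node 3899 (.leaf 0) (.leaf 0))) (.node 3902 (.node 3901 (.leaf 0) (.leaf 0)) (.node 3903 (.leaf 0) (.leaf 0))))))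

def regKPB122 : Bst := (.node 3920 (.node 3912 (.node 3908 (.node 3906 (.node 3905 (.leaf 0) (.leaf 0)) (.node 3907 (.leaf 0) (.leaf 0))) (.node 3910 (.node 3909 (.leaf 0) (.leaf 0)) (.node 3911 (.leaf 0) (.leaf 0)))) (.node 3916 (.node 3914 (.node 3913 (.leaf 0) (.leaf 0)) (.node 3915 (.leaf 0) (.leaf 0))) (.node 3918 (.node 3917 (.leaf 0) (.leaf 0)) (.node 3919 (.leaf 0) (.leaf 0))))) (.node 3928 (.node 3924 (.node 3922 (.node 3921 (.leaf 0) (.leaf 0)) (.node 3923 (.leaf 0) (.leaf 0))) (.node 3926 (.node 3925 (.leaf 0) (.leaf 0)) (.node 3927 (.leaf 0) (.leaf 0)))) (.node 3932 (.node 3930 (.node 3929 (.leaf 0) (.leaf 0)) (.node 3931 (.leaf 0) (.leaf 0))) (.node 3934 (.node 3933 (.leaf 0) (.leaf 0xee000000000000000)) (.node 3935 (.leaf 0) (.leaf 0))))))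

def regKPB123 : Bst := (.node 3952 (.node 3944 (.node 3940 (.node 3938 (.node 3937 (.leaf 0) (.leaf 0)) (.node 3939 (.leaf 0) (.leaf 0))) (.node 3942 (.node 3941 (.leaf 0) (.leaf 0x9d000e10000000000)) (.node 3943 (.leaf 0x151) (.leaf 0)))) (.node 3948 (.node 3946 (.node 3945 (.leaf 0) (.leaf 0)) (.node 3947 (.leaf 0) (.leaf 0))) (.node 3950 (.node 3949 (.leaf 0) (.leaf 0)) (.node 3951 (.leaf 0) (.leaf 0))))) (.node 3960 (.node 3956 (.node 3954 (.node 3953 (.leaf 0) (.leaf 0)) (.node 3955 (.leaf 0) (.leaf 0))) (.node 3958 (.node 3957 (.leaf 0) (.leaf 0)) (.node 3959 (.leaf 0) (.leaf 0)))) (.node 3964 (.node 3962 (.node 3961 (.leaf 0) (.leaf 0)) (.node 3963 (.leaf 0) (.leaf 0))) (.node 3966 (.node 3965 (.leaf 0) (.leaf 0)) (.node 3967 (.leaf 0) (.leaf 0))))))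

def regKPB124 : Bst := (.node 3984 (.node 3976 (.node 3972 (.node 3970 (.node 3969 (.leaf 0) (.leaf 0)) (.node 3971 (.leaf 0) (.leaf 0))) (.node 3974 (.node 3973 (.leaf 0) (.leaf 0)) (.node 3975 (.leaf 0) (.leaf 0)))) (.node 3980 (.node 3978 (.node 3977 (.leaf 0) (.leaf 0)) (.node 3979 (.leaf 0) (.leaf 0))) (.node 3982 (.node 3981 (.leaf 0) (.leaf 0)) (.node 3983 (.leaf 0) (.leaf 0))))) (.node 3992 (.node 3988 (.node 3986 (.node 3985 (.leaf 0) (.leaf 0)) (.node 3987 (.leaf 0) (.leaf 0))) (.node 3990 (.node 3989 (.leaf 0) (.leaf 0)) (.node 3991 (.leaf 0) (.leaf 0)))) (.node 3996 (.node 3994 (.node 3993 (.leaf 0) (.leaf 0)) (.node 3995 (.leaf 0) (.leaf 0))) (.node 3998 (.node 3997 (.leaf 0) (.leaf 0)) (.node 3999 (.leaf 0) (.leaf 0))))))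

def regKPB125 : Bst := (.node 4016 (.node 4008 (.node 4004 (.node 4002 (.node 4001 (.leaf 0) (.leaf 0)) (.node 4003 (.leaf 0) (.leaf 0))) (.node 4006 (.node 4005 (.leaf 0) (.leaf 0)) (.node 4007 (.leaf 0) (.leaf 0)))) (.node 4012 (.node 4010 (.node 4009 (.leaf 0) (.leaf 0)) (.node 4011 (.leaf 0) (.leaf 0))) (.node 4014 (.node 4013 (.leaf 0) (.leaf 0)) (.node 4015 (.leaf 0) (.leaf 0))))) (.node 4024 (.node 4020 (.node 4018 (.node 4017 (.leaf 0) (.leaf 0)) (.node 4019 (.leaf 0) (.leaf 0))) (.node 4022 (.node 4021 (.leaf 0) (.leaf 0)) (.node 4023 (.leaf 0) (.leaf 0)))) (.node 4028 (.node 4026 (.node 4025 (.leaf 0) (.leaf 0)) (.node 4027 (.leaf 0) (.leaf 0))) (.node 4030 (.node 4029 (.leaf 0) (.leaf 0)) (.node 4031 (.leaf 0) (.leaf 0))))))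

def regKPB126 : Bst := (.node 4048 (.node 4040 (.node 4036 (.node 4034 (.node 4033 (.leaf 0) (.leaf 0)) (.node 4035 (.leaf 0) (.leaf 0))) (.node 4038 (.node 4037 (.leaf 0) (.leaf 0)) (.node 4039 (.leaf 0) (.leaf 0)))) (.node 4044 (.node 4042 (.node 4041 (.leaf 0) (.leaf 0)) (.node 4043 (.leaf 0) (.leaf 0))) (.node 4046 (.node 4045 (.leaf 0) (.leaf 0)) (.node 4047 (.leaf 0) (.leaf 0))))) (.node 4056 (.node 4052 (.node 4050 (.node 4049 (.leaf 0) (.leaf 0)) (.node 4051 (.leaf 0) (.leaf 0))) (.node 4054 (.node 4053 (.leaf 0) (.leaf 0)) (.node 4055 (.leaf 0) (.leaf 0)))) (.node 4060 (.node 4058 (.node 4057 (.leaf 0) (.leaf 0)) (.node 4059 (.leaf 0) (.leaf 0))) (.node 4062 (.node 4061 (.leaf 0) (.leaf 0)) (.node 4063 (.leaf 0) (.leaf 0))))))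

def regKPB127 : Bst := (.node 4080 (.node 4072 (.node 4068 (.node 4066 (.node 4065 (.leaf 0) (.leaf 0)) (.node 4067 (.leaf 0) (.leaf 0))) (.node 4070 (.node 4069 (.leaf 0) (.leaf 0)) (.node 4071 (.leaf 0) (.leaf 0)))) (.node 4076 (.node 4074 (.node 4073 (.leaf 0) (.leaf 0)) (.node 4075 (.leaf 0) (.leaf 0))) (.node 4078 (.node 4077 (.leaf 0) (.leaf 0)) (.node 4079 (.leaf 0) (.leaf 0))))) (.node 4088 (.node 4084 (.node 4082 (.node 4081 (.leaf 0) (.leaf 0)) (.node 4083 (.leaf 0) (.leaf 0))) (.node 4086 (.node 4085 (.leaf 0) (.leaf 0)) (.node 4087 (.leaf 0) (.leaf 0)))) (.node 4092 (.node 4090 (.node 4089 (.leaf 0) (.leaf 0)) (.node 4091 (.leaf 0) (.leaf 0))) (.node 4094 (.node 4093 (.leaf 0) (.leaf 0)) (.node 4095 (.leaf 0) (.leaf 0))))))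

def regKPB128 : Bst := (.node 4112 (.node 4104 (.node 4100 (.node 4098 (.node 4097 (.leaf 0) (.leaf 0)) (.node 4099 (.leaf 0) (.leaf 0))) (.node 4102 (.node 4101 (.leaf 0) (.leaf 0)) (.node 4103 (.leaf 0) (.leaf 0)))) (.node 4108 (.node 4106 (.node 4105 (.leaf 0) (.leaf 0)) (.node 4107 (.leaf 0) (.leaf 0))) (.node 4110 (.node 4109 (.leaf 0) (.leaf 0)) (.node 4111 (.leaf 0) (.leaf 0))))) (.node 4120 (.node 4116 (.node 4114 (.node 4113 (.leaf 0) (.leaf 0)) (.node 4115 (.leaf 0) (.leaf 0))) (.node 4118 (.node 4117 (.leaf 0) (.leaf 0)) (.node 4119 (.leaf 0) (.leaf 0)))) (.node 4124 (.node 4122 (.node 4121 (.leaf 0) (.leaf 0)) (.node 4123 (.leaf 0) (.leaf 0))) (.node 4126 (.node 4125 (.leaf 0) (.leaf 0)) (.node 4127 (.leaf 0) (.leaf 0))))))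

def regKPB129 : Bst := (.node 4144 (.node 4136 (.node 4132 (.node 4130 (.node 4129 (.leaf 0x190000000000000000) (.leaf 0x1000012c)) (.node 4131 (.leaf 0) (.leaf 0))) (.node 4134 (.node 4133 (.leaf 0) (.leaf 0)) (.node 4135 (.leaf 0) (.leaf 0)))) (.node 4140 (.node 4138 (.node 4137 (.leaf 0) (.leaf 0)) (.node 4139 (.leaf 0) (.leaf 0))) (.node 4142 (.node 4141 (.leaf 0) (.leaf 0)) (.node 4143 (.leaf 0) (.leaf 0))))) (.node 4152 (.node 4148 (.node 4146 (.node 4145 (.leaf 0) (.leaf 0)) (.node 4147 (.leaf 0) (.leaf 0))) (.node 4150 (.node 4149 (.leaf 0) (.leaf 0)) (.node 4151 (.leaf 0) (.leaf 0)))) (.node 4156 (.node 4154 (.node 4153 (.leaf 0) (.leaf 0)) (.node 4155 (.leaf 0) (.leaf 0))) (.node 4158 (.node 4157 (.leaf 0) (.leaf 0)) (.node 4159 (.leaf 0x29600298) (.leaf 0))))))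

def regKPB130 : Bst := (.node 4176 (.node 4168 (.node 4164 (.node 4162 (.node 4161 (.leaf 0) (.leaf 0)) (.node 4163 (.leaf 0) (.leaf 0))) (.node 4166 (.node 4165 (.leaf 0) (.leaf 0)) (.node 4167 (.leaf 0) (.leaf 0)))) (.node 4172 (.node 4170 (.node 4169 (.leaf 0x166) (.leaf 0)) (.node 4171 (.leaf 0) (.leaf 0))) (.node 4174 (.node 4173 (.leaf 0) (.leaf 0)) (.node 4175 (.leaf 0) (.leaf 0))))) (.node 4184 (.node 4180 (.node 4178 (.node 4177 (.leaf 0) (.leaf 0)) (.node 4179 (.leaf 0) (.leaf 0))) (.node 4182 (.node 4181 (.leaf 0) (.leaf 0)) (.node 4183 (.leaf 0) (.leaf 0)))) (.node 4188 (.node 4186 (.node 4185 (.leaf 0) (.leaf 0)) (.node 4187 (.leaf 0) (.leaf 0))) (.node 4190 (.node 4189 (.leaf 0) (.leaf 0)) (.node 4191 (.leaf 0) (.leaf 0))))))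

def regKPB131 : Bst := (.node 4208 (.node 4200 (.node 4196 (.node 4194 (.node 4193 (.leaf 0) (.leaf 0)) (.node 4195 (.leaf 0) (.leaf 0))) (.node 4198 (.node 4197 (.leaf 0) (.leaf 0)) (.node 4199 (.leaf 0) (.leaf 0)))) (.node 4204 (.node 4202 (.node 4201 (.leaf 0) (.leaf 0)) (.node 4203 (.leaf 0) (.leaf 0))) (.node 4206 (.node 4205 (.leaf 0) (.leaf 0)) (.node 4207 (.leaf 0) (.leaf 0))))) (.node 4216 (.node 4212 (.node 4210 (.node 4209 (.leaf 0) (.leaf 0)) (.node 4211 (.leaf 0) (.leaf 0))) (.node 4214 (.node 4213 (.leaf 0) (.leaf 0)) (.node 4215 (.leaf 0) (.leaf 0)))) (.node 4220 (.node 4218 (.node 4217 (.leaf 0) (.leaf 0)) (.node 4219 (.leaf 0) (.leaf 0))) (.node 4222 (.node 4221 (.leaf 0) (.leaf 0)) (.node 4223 (.leaf 0) (.leaf 0))))))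

def regKPB132 : Bst := (.node 4240 (.node 4232 (.node 4228 (.node 4226 (.node 4225 (.leaf 0) (.leaf 0)) (.node 4227 (.leaf 0) (.leaf 0))) (.node 4230 (.node 4229 (.leaf 0) (.leaf 0)) (.node 4231 (.leaf 0) (.leaf 0)))) (.node 4236 (.node 4234 (.node 4233 (.leaf 0) (.leaf 0)) (.node 4235 (.leaf 0) (.leaf 0))) (.node 4238 (.node 4237 (.leaf 0) (.leaf 0)) (.node 4239 (.leaf 0) (.leaf 0))))) (.node 4248 (.node 4244 (.node 4242 (.node 4241 (.leaf 0) (.leaf 0)) (.node 4243 (.leaf 0) (.leaf 0))) (.node 4246 (.node 4245 (.leaf 0) (.leaf 0)) (.node 4247 (.leaf 0) (.leaf 0)))) (.node 4252 (.node 4250 (.node 4249 (.leaf 0) (.leaf 0)) (.node 4251 (.leaf 0) (.leaf 0))) (.node 4254 (.node 4253 (.leaf 0) (.leaf 0)) (.node 4255 (.leaf 0) (.leaf 0))))))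

def regKPB133 : Bst := (.node 4272 (.node 4264 (.node 4260 (.node 4258 (.node 4257 (.leaf 0) (.leaf 0)) (.node 4259 (.leaf 0) (.leaf 0))) (.node 4262 (.node 4261 (.leaf 0) (.leaf 0)) (.node 4263 (.leaf 0) (.leaf 0)))) (.node 4268 (.node 4266 (.node 4265 (.leaf 0) (.leaf 0)) (.node 4267 (.leaf 0) (.leaf 0))) (.node 4270 (.node 4269 (.leaf 0) (.leaf 0)) (.node 4271 (.leaf 0) (.leaf 0))))) (.node 4280 (.node 4276 (.node 4274 (.node 4273 (.leaf 0) (.leaf 0)) (.node 4275 (.leaf 0) (.leaf 0))) (.node 4278 (.node 4277 (.leaf 0) (.leaf 0)) (.node 4279 (.leaf 0) (.leaf 0)))) (.node 4284 (.node 4282 (.node 4281 (.leaf 0) (.leaf 0)) (.node 4283 (.leaf 0) (.leaf 0))) (.node 4286 (.node 4285 (.leaf 0) (.leaf 0)) (.node 4287 (.leaf 0) (.leaf 0))))))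

def regKPB134 : Bst := (.node 4304 (.node 4296 (.node 4292 (.node 4290 (.node 4289 (.leaf 0) (.leaf 0)) (.node 4291 (.leaf 0) (.leaf 0))) (.node 4294 (.node 4293 (.leaf 0) (.leaf 0)) (.node 4295 (.leaf 0) (.leaf 0)))) (.node 4300 (.node 4298 (.node 4297 (.leaf 0) (.leaf 0)) (.node 4299 (.leaf 0) (.leaf 0))) (.node 4302 (.node 4301 (.leaf 0) (.leaf 0)) (.node 4303 (.leaf 0) (.leaf 0))))) (.node 4312 (.node 4308 (.node 4306 (.node 4305 (.leaf 0) (.leaf 0)) (.node 4307 (.leaf 0) (.leaf 0))) (.node 4310 (.node 4309 (.leaf 0) (.leaf 0)) (.node 4311 (.leaf 0) (.leaf 0)))) (.node 4316 (.node 4314 (.node 4313 (.leaf 0) (.leaf 0)) (.node 4315 (.leaf 0) (.leaf 0))) (.node 4318 (.node 4317 (.leaf 0) (.leaf 0)) (.node 4319 (.leaf 0) (.leaf 0))))))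

def regKPB135 : Bst := (.node 4336 (.node 4328 (.node 4324 (.node 4322 (.node 4321 (.leaf 0) (.leaf 0)) (.node 4323 (.leaf 0) (.leaf 0))) (.node 4326 (.node 4325 (.leaf 0) (.leaf 0)) (.node 4327 (.leaf 0) (.leaf 0)))) (.node 4332 (.node 4330 (.node 4329 (.leaf 0) (.leaf 0)) (.node 4331 (.leaf 0) (.leaf 0))) (.node 4334 (.node 4333 (.leaf 0) (.leaf 0)) (.node 4335 (.leaf 0) (.leaf 0))))) (.node 4344 (.node 4340 (.node 4338 (.node 4337 (.leaf 0) (.leaf 0)) (.node 4339 (.leaf 0) (.leaf 0))) (.node 4342 (.node 4341 (.leaf 0) (.leaf 0)) (.node 4343 (.leaf 0) (.leaf 0)))) (.node 4348 (.node 4346 (.node 4345 (.leaf 0) (.leaf 0)) (.node 4347 (.leaf 0) (.leaf 0))) (.node 4350 (.node 4349 (.leaf 0x136000000000000000) (.leaf 0x150004a)) (.node 4351 (.leaf 0) (.leaf 0))))))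

def regKPB136 : Bst := (.node 4368 (.node 4360 (.node 4356 (.node 4354 (.node 4353 (.leaf 0) (.leaf 0)) (.node 4355 (.leaf 0) (.leaf 0))) (.node 4358 (.node 4357 (.leaf 0) (.leaf 0)) (.node 4359 (.leaf 0) (.leaf 0)))) (.node 4364 (.node 4362 (.node 4361 (.leaf 0) (.leaf 0)) (.node 4363 (.leaf 0) (.leaf 0))) (.node 4366 (.node 4365 (.leaf 0) (.leaf 0)) (.node 4367 (.leaf 0) (.leaf 0))))) (.node 4376 (.node 4372 (.node 4370 (.node 4369 (.leaf 0) (.leaf 0)) (.node 4371 (.leaf 0) (.leaf 0))) (.node 4374 (.node 4373 (.leaf 0) (.leaf 0)) (.node 4375 (.leaf 0) (.leaf 0)))) (.node 4380 (.node 4378 (.node 4377 (.leaf 0) (.leaf 0)) (.node 4379 (.leaf 0) (.leaf 0))) (.node 4382 (.node 4381 (.leaf 0) (.leaf 0)) (.node 4383 (.leaf 0) (.leaf 0))))))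

def regKPB137 : Bst := (.node 4400 (.node 4392 (.node 4388 (.node 4386 (.node 4385 (.leaf 0) (.leaf 0)) (.node 4387 (.leaf 0) (.leaf 0))) (.node 4390 (.node 4389 (.leaf 0) (.leaf 0)) (.node 4391 (.leaf 0) (.leaf 0)))) (.node 4396 (.node 4394 (.node 4393 (.leaf 0) (.leaf 0)) (.node 4395 (.leaf 0) (.leaf 0))) (.node 4398 (.node 4397 (.leaf 0) (.leaf 0)) (.node 4399 (.leaf 0) (.leaf 0))))) (.node 4408 (.node 4404 (.node 4402 (.node 4401 (.leaf 0) (.leaf 0)) (.node 4403 (.leaf 0) (.leaf 0))) (.node 4406 (.node 4405 (.leaf 0) (.leaf 0)) (.node 4407 (.leaf 0) (.leaf 0)))) (.node 4412 (.node 4410 (.node 4409 (.leaf 0) (.leaf 0)) (.node 4411 (.leaf 0) (.leaf 0))) (.node 4414 (.node 4413 (.leaf 0) (.leaf 0)) (.node 4415 (.leaf 0) (.leaf 0))))))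

def regKPB138 : Bst := (.node 4432 (.node 4424 (.node 4420 (.node 4418 (.node 4417 (.leaf 0) (.leaf 0)) (.node 4419 (.leaf 0) (.leaf 0))) (.node 4422 (.node 4421 (.leaf 0) (.leaf 0)) (.node 4423 (.leaf 0) (.leaf 0)))) (.node 4428 (.node 4426 (.node 4425 (.leaf 0) (.leaf 0)) (.node 4427 (.leaf 0) (.leaf 0))) (.node 4430 (.node 4429 (.leaf 0) (.leaf 0)) (.node 4431 (.leaf 0) (.leaf 0))))) (.node 4440 (.node 4436 (.node 4434 (.node 4433 (.leaf 0) (.leaf 0)) (.node 4435 (.leaf 0) (.leaf 0))) (.node 4438 (.node 4437 (.leaf 0) (.leaf 0)) (.node 4439 (.leaf 0) (.leaf 0)))) (.node 4444 (.node 4442 (.node 4441 (.leaf 0) (.leaf 0)) (.node 4443 (.leaf 0) (.leaf 0))) (.node 4446 (.node 4445 (.leaf 0) (.leaf 0)) (.node 4447 (.leaf 0) (.leaf 0))))))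

def regKPB139 : Bst := (.node 4464 (.node 4456 (.node 4452 (.node 4450 (.node 4449 (.leaf 0) (.leaf 0)) (.node 4451 (.leaf 0) (.leaf 0))) (.node 4454 (.node 4453 (.leaf 0) (.leaf 0)) (.node 4455 (.leaf 0) (.leaf 0)))) (.node 4460 (.node 4458 (.node 4457 (.leaf 0) (.leaf 0)) (.node 4459 (.leaf 0) (.leaf 0))) (.node 4462 (.node 4461 (.leaf 0) (.leaf 0)) (.node 4463 (.leaf 0) (.leaf 0))))) (.node 4472 (.node 4468 (.node 4466 (.node 4465 (.leaf 0) (.leaf 0)) (.node 4467 (.leaf 0) (.leaf 0))) (.node 4470 (.node 4469 (.leaf 0) (.leaf 0)) (.node 4471 (.leaf 0) (.leaf 0)))) (.node 4476 (.node 4474 (.node 4473 (.leaf 0) (.leaf 0)) (.node 4475 (.leaf 0) (.leaf 0))) (.node 4478 (.node 4477 (.leaf 0) (.leaf 0)) (.node 4479 (.leaf 0) (.leaf 0))))))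

def regKPB140 : Bst := (.node 4496 (.node 4488 (.node 4484 (.node 4482 (.node 4481 (.leaf 0) (.leaf 0)) (.node 4483 (.leaf 0) (.leaf 0))) (.node 4486 (.node 4485 (.leaf 0) (.leaf 0)) (.node 4487 (.leaf 0) (.leaf 0)))) (.node 4492 (.node 4490 (.node 4489 (.leaf 0) (.leaf 0)) (.node 4491 (.leaf 0) (.leaf 0))) (.node 4494 (.node 4493 (.leaf 0) (.leaf 0)) (.node 4495 (.leaf 0) (.leaf 0))))) (.node 4504 (.node 4500 (.node 4498 (.node 4497 (.leaf 0) (.leaf 0)) (.node 4499 (.leaf 0) (.leaf 0))) (.node 4502 (.node 4501 (.leaf 0) (.leaf 0)) (.node 4503 (.leaf 0) (.leaf 0)))) (.node 4508 (.node 4506 (.node 4505 (.leaf 0) (.leaf 0)) (.node 4507 (.leaf 0) (.leaf 0))) (.node 4510 (.node 4509 (.leaf 0) (.leaf 0)) (.node 4511 (.leaf 0) (.leaf 0))))))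

def regKPB141 : Bst := (.node 4528 (.node 4520 (.node 4516 (.node 4514 (.node 4513 (.leaf 0) (.leaf 0)) (.node 4515 (.leaf 0) (.leaf 0))) (.node 4518 (.node 4517 (.leaf 0) (.leaf 0)) (.node 4519 (.leaf 0) (.leaf 0)))) (.node 4524 (.node 4522 (.node 4521 (.leaf 0) (.leaf 0)) (.node 4523 (.leaf 0) (.leaf 0))) (.node 4526 (.node 4525 (.leaf 0) (.leaf 0)) (.node 4527 (.leaf 0) (.leaf 0))))) (.node 4536 (.node 4532 (.node 4530 (.node 4529 (.leaf 0) (.leaf 0)) (.node 4531 (.leaf 0) (.leaf 0))) (.node 4534 (.node 4533 (.leaf 0) (.leaf 0)) (.node 4535 (.leaf 0) (.leaf 0)))) (.node 4540 (.node 4538 (.node 4537 (.leaf 0) (.leaf 0)) (.node 4539 (.leaf 0) (.leaf 0))) (.node 4542 (.node 4541 (.leaf 0) (.leaf 0)) (.node 4543 (.leaf 0) (.leaf 0))))))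

def regKPB142 : Bst := (.node 4560 (.node 4552 (.node 4548 (.node 4546 (.node 4545 (.leaf 0) (.leaf 0)) (.node 4547 (.leaf 0) (.leaf 0))) (.node 4550 (.node 4549 (.leaf 0) (.leaf 0)) (.node 4551 (.leaf 0) (.leaf 0)))) (.node 4556 (.node 4554 (.node 4553 (.leaf 0) (.leaf 0)) (.node 4555 (.leaf 0) (.leaf 0))) (.node 4558 (.node 4557 (.leaf 0) (.leaf 0)) (.node 4559 (.leaf 0) (.leaf 0))))) (.node 4568 (.node 4564 (.node 4562 (.node 4561 (.leaf 0) (.leaf 0)) (.node 4563 (.leaf 0) (.leaf 0))) (.node 4566 (.node 4565 (.leaf 0) (.leaf 0)) (.node 4567 (.leaf 0) (.leaf 0)))) (.node 4572 (.node 4570 (.node 4569 (.leaf 0) (.leaf 0)) (.node 4571 (.leaf 0) (.leaf 0))) (.node 4574 (.node 4573 (.leaf 0) (.leaf 0)) (.node 4575 (.leaf 0) (.leaf 0))))))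

def regKPB143 : Bst := (.node 4592 (.node 4584 (.node 4580 (.node 4578 (.node 4577 (.leaf 0) (.leaf 0)) (.node 4579 (.leaf 0) (.leaf 0))) (.node 4582 (.node 4581 (.leaf 0) (.leaf 0)) (.node 4583 (.leaf 0) (.leaf 0)))) (.node 4588 (.node 4586 (.node 4585 (.leaf 0) (.leaf 0)) (.node 4587 (.leaf 0) (.leaf 0))) (.node 4590 (.node 4589 (.leaf 0) (.leaf 0)) (.node 4591 (.leaf 0) (.leaf 0))))) (.node 4600 (.node 4596 (.node 4594 (.node 4593 (.leaf 0) (.leaf 0)) (.node 4595 (.leaf 0) (.leaf 0))) (.node 4598 (.node 4597 (.leaf 0) (.leaf 0)) (.node 4599 (.leaf 0) (.leaf 0)))) (.node 4604 (.node 4602 (.node 4601 (.leaf 0) (.leaf 0)) (.node 4603 (.leaf 0) (.leaf 0))) (.node 4606 (.node 4605 (.leaf 0) (.leaf 0)) (.node 4607 (.leaf 0) (.leaf 0))))))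

def regKPB144 : Bst := (.node 4624 (.node 4616 (.node 4612 (.node 4610 (.node 4609 (.leaf 0) (.leaf 0)) (.node 4611 (.leaf 0) (.leaf 0))) (.node 4614 (.node 4613 (.leaf 0) (.leaf 0)) (.node 4615 (.leaf 0) (.leaf 0)))) (.node 4620 (.node 4618 (.node 4617 (.leaf 0) (.leaf 0)) (.node 4619 (.leaf 0) (.leaf 0))) (.node 4622 (.node 4621 (.leaf 0) (.leaf 0)) (.node 4623 (.leaf 0) (.leaf 0))))) (.node 4632 (.node 4628 (.node 4626 (.node 4625 (.leaf 0) (.leaf 0)) (.node 4627 (.leaf 0) (.leaf 0))) (.node 4630 (.node 4629 (.leaf 0) (.leaf 0)) (.node 4631 (.leaf 0) (.leaf 0)))) (.node 4636 (.node 4634 (.node 4633 (.leaf 0) (.leaf 0)) (.node 4635 (.leaf 0) (.leaf 0))) (.node 4638 (.node 4637 (.leaf 0) (.leaf 0)) (.node 4639 (.leaf 0) (.leaf 0))))))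

def regKPB145 : Bst := (.node 4656 (.node 4648 (.node 4644 (.node 4642 (.node 4641 (.leaf 0) (.leaf 0)) (.node 4643 (.leaf 0) (.leaf 0))) (.node 4646 (.node 4645 (.leaf 0x1e60013300000) (.leaf 0)) (.node 4647 (.leaf 0) (.leaf 0x11e000c00017000000)))) (.node 4652 (.node 4650 (.node 4649 (.leaf 0x13c00093) (.leaf 0)) (.node 4651 (.leaf 0) (.leaf 0))) (.node 4654 (.node 4653 (.leaf 0) (.leaf 0)) (.node 4655 (.leaf 0) (.leaf 0))))) (.node 4664 (.node 4660 (.node 4658 (.node 4657 (.leaf 0) (.leaf 0)) (.node 4659 (.leaf 0) (.leaf 0))) (.node 4662 (.node 4661 (.leaf 0) (.leaf 0)) (.node 4663 (.leaf 0) (.leaf 0)))) (.node 4668 (.node 4666 (.node 4665 (.leaf 0) (.leaf 0)) (.node 4667 (.leaf 0) (.leaf 0))) (.node 4670 (.node 4669 (.leaf 0) (.leaf 0)) (.node 4671 (.leaf 0) (.leaf 0))))))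

def regKPB146 : Bst := (.node 4688 (.node 4680 (.node 4676 (.node 4674 (.node 4673 (.leaf 0) (.leaf 0)) (.node 4675 (.leaf 0) (.leaf 0))) (.node 4678 (.node 4677 (.leaf 0) (.leaf 0)) (.node 4679 (.leaf 0) (.leaf 0)))) (.node 4684 (.node 4682 (.node 4681 (.leaf 0) (.leaf 0)) (.node 4683 (.leaf 0) (.leaf 0))) (.node 4686 (.node 4685 (.leaf 0) (.leaf 0)) (.node 4687 (.leaf 0) (.leaf 0))))) (.node 4696 (.node 4692 (.node 4690 (.node 4689 (.leaf 0) (.leaf 0)) (.node 4691 (.leaf 0) (.leaf 0))) (.node 4694 (.node 4693 (.leaf 0) (.leaf 0)) (.node 4695 (.leaf 0) (.leaf 0)))) (.node 4700 (.node 4698 (.node 4697 (.leaf 0) (.leaf 0)) (.node 4699 (.leaf 0) (.leaf 0))) (.node 4702 (.node 4701 (.leaf 0) (.leaf 0)) (.node 4703 (.leaf 0) (.leaf 0))))))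

def regKPB147 : Bst := (.node 4720 (.node 4712 (.node 4708 (.node 4706 (.node 4705 (.leaf 0) (.leaf 0)) (.node 4707 (.leaf 0) (.leaf 0))) (.node 4710 (.node 4709 (.leaf 0) (.leaf 0)) (.node 4711 (.leaf 0) (.leaf 0)))) (.node 4716 (.node 4714 (.node 4713 (.leaf 0) (.leaf 0)) (.node 4715 (.leaf 0) (.leaf 0))) (.node 4718 (.node 4717 (.leaf 0) (.leaf 0)) (.node 4719 (.leaf 0) (.leaf 0))))) (.node 4728 (.node 4724 (.node 4722 (.node 4721 (.leaf 0) (.leaf 0)) (.node 4723 (.leaf 0) (.leaf 0))) (.node 4726 (.node 4725 (.leaf 0) (.leaf 0)) (.node 4727 (.leaf 0) (.leaf 0)))) (.node 4732 (.node 4730 (.node 4729 (.leaf 0) (.leaf 0)) (.node 4731 (.leaf 0) (.leaf 0))) (.node 4734 (.node 4733 (.leaf 0) (.leaf 0)) (.node 4735 (.leaf 0) (.leaf 0))))))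

def regKPB148 : Bst := (.node 4752 (.node 4744 (.node 4740 (.node 4738 (.node 4737 (.leaf 0) (.leaf 0)) (.node 4739 (.leaf 0) (.leaf 0))) (.node 4742 (.node 4741 (.leaf 0) (.leaf 0)) (.node 4743 (.leaf 0) (.leaf 0)))) (.node 4748 (.node 4746 (.node 4745 (.leaf 0) (.leaf 0)) (.node 4747 (.leaf 0) (.leaf 0))) (.node 4750 (.node 4749 (.leaf 0) (.leaf 0)) (.node 4751 (.leaf 0) (.leaf 0))))) (.node 4760 (.node 4756 (.node 4754 (.node 4753 (.leaf 0) (.leaf 0)) (.node 4755 (.leaf 0x10e000000000000000) (.leaf 0))) (.node 4758 (.node 4757 (.leaf 0) (.leaf 0)) (.node 4759 (.leaf 0) (.leaf 0)))) (.node 4764 (.node 4762 (.node 4761 (.leaf 0) (.leaf 0)) (.node 4763 (.leaf 0) (.leaf 0))) (.node 4766 (.node 4765 (.leaf 0) (.leaf 0)) (.node 4767 (.leaf 0) (.leaf 0))))))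

def regKPB149 : Bst := (.node 4784 (.node 4776 (.node 4772 (.node 4770 (.node 4769 (.leaf 0) (.leaf 0)) (.node 4771 (.leaf 0) (.leaf 0))) (.node 4774 (.node 4773 (.leaf 0) (.leaf 0)) (.node 4775 (.leaf 0) (.leaf 0)))) (.node 4780 (.node 4778 (.node 4777 (.leaf 0) (.leaf 0)) (.node 4779 (.leaf 0) (.leaf 0))) (.node 4782 (.node 4781 (.leaf 0) (.leaf 0)) (.node 4783 (.leaf 0) (.leaf 0))))) (.node 4792 (.node 4788 (.node 4786 (.node 4785 (.leaf 0) (.leaf 0)) (.node 4787 (.leaf 0) (.leaf 0))) (.node 4790 (.node 4789 (.leaf 0) (.leaf 0)) (.node 4791 (.leaf 0) (.leaf 0)))) (.node 4796 (.node 4794 (.node 4793 (.leaf 0) (.leaf 0)) (.node 4795 (.leaf 0) (.leaf 0))) (.node 4798 (.node 4797 (.leaf 0) (.leaf 0)) (.node 4799 (.leaf 0) (.leaf 0))))))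

def regKPB150 : Bst := (.node 4816 (.node 4808 (.node 4804 (.node 4802 (.node 4801 (.leaf 0) (.leaf 0)) (.node 4803 (.leaf 0) (.leaf 0))) (.node 4806 (.node 4805 (.leaf 0) (.leaf 0)) (.node 4807 (.leaf 0) (.leaf 0)))) (.node 4812 (.node 4810 (.node 4809 (.leaf 0) (.leaf 0)) (.node 4811 (.leaf 0) (.leaf 0))) (.node 4814 (.node 4813 (.leaf 0) (.leaf 0)) (.node 4815 (.leaf 0) (.leaf 0))))) (.node 4824 (.node 4820 (.node 4818 (.node 4817 (.leaf 0) (.leaf 0)) (.node 4819 (.leaf 0) (.leaf 0))) (.node 4822 (.node 4821 (.leaf 0) (.leaf 0x30000170004600000)) (.node 4823 (.leaf 0xdb0008b) (.leaf 0)))) (.node 4828 (.node 4826 (.node 4825 (.leaf 0) (.leaf 0)) (.node 4827 (.leaf 0) (.leaf 0))) (.node 4830 (.node 4829 (.leaf 0) (.leaf 0)) (.node 4831 (.leaf 0) (.leaf 0))))))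

def regKPB151 : Bst := (.node 4848 (.node 4840 (.node 4836 (.node 4834 (.node 4833 (.leaf 0) (.leaf 0)) (.node 4835 (.leaf 0) (.leaf 0))) (.node 4838 (.node 4837 (.leaf 0) (.leaf 0)) (.node 4839 (.leaf 0) (.leaf 0)))) (.node 4844 (.node 4842 (.node 4841 (.leaf 0) (.leaf 0)) (.node 4843 (.leaf 0) (.leaf 0))) (.node 4846 (.node 4845 (.leaf 0) (.leaf 0)) (.node 4847 (.leaf 0) (.leaf 0))))) (.node 4856 (.node 4852 (.node 4850 (.node 4849 (.leaf 0) (.leaf 0)) (.node 4851 (.leaf 0) (.leaf 0))) (.node 4854 (.node 4853 (.leaf 0) (.leaf 0)) (.node 4855 (.leaf 0) (.leaf 0)))) (.node 4860 (.node 4858 (.node 4857 (.leaf 0) (.leaf 0)) (.node 4859 (.leaf 0) (.leaf 0))) (.node 4862 (.node 4861 (.leaf 0) (.leaf 0)) (.node 4863 (.leaf 0) (.leaf 0))))))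

def regKPB152 : Bst := (.node 4880 (.node 4872 (.node 4868 (.node 4866 (.node 4865 (.leaf 0) (.leaf 0)) (.node 4867 (.leaf 0) (.leaf 0))) (.node 4870 (.node 4869 (.leaf 0) (.leaf 0)) (.node 4871 (.leaf 0) (.leaf 0)))) (.node 4876 (.node 4874 (.node 4873 (.leaf 0) (.leaf 0)) (.node 4875 (.leaf 0) (.leaf 0))) (.node 4878 (.node 4877 (.leaf 0) (.leaf 0)) (.node 4879 (.leaf 0) (.leaf 0))))) (.node 4888 (.node 4884 (.node 4882 (.node 4881 (.leaf 0) (.leaf 0)) (.node 4883 (.leaf 0) (.leaf 0))) (.node 4886 (.node 4885 (.leaf 0) (.leaf 0)) (.node 4887 (.leaf 0) (.leaf 0)))) (.node 4892 (.node 4890 (.node 4889 (.leaf 0) (.leaf 0)) (.node 4891 (.leaf 0) (.leaf 0))) (.node 4894 (.node 4893 (.leaf 0) (.leaf 0)) (.node 4895 (.leaf 0) (.leaf 0))))))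

def regKPB153 : Bst := (.node 4912 (.node 4904 (.node 4900 (.node 4898 (.node 4897 (.leaf 0) (.leaf 0)) (.node 4899 (.leaf 0) (.leaf 0))) (.node 4902 (.node 4901 (.leaf 0) (.leaf 0)) (.node 4903 (.leaf 0) (.leaf 0)))) (.node 4908 (.node 4906 (.node 4905 (.leaf 0) (.leaf 0)) (.node 4907 (.leaf 0) (.leaf 0))) (.node 4910 (.node 4909 (.leaf 0) (.leaf 0)) (.node 4911 (.leaf 0) (.leaf 0))))) (.node 4920 (.node 4916 (.node 4914 (.node 4913 (.leaf 0) (.leaf 0)) (.node 4915 (.leaf 0) (.leaf 0))) (.node 4918 (.node 4917 (.leaf 0) (.leaf 0)) (.node 4919 (.leaf 0) (.leaf 0)))) (.node 4924 (.node 4922 (.node 4921 (.leaf 0) (.leaf 0)) (.node 4923 (.leaf 0) (.leaf 0))) (.node 4926 (.node 4925 (.leaf 0) (.leaf 0)) (.node 4927 (.leaf 0) (.leaf 0))))))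

def regKPB154 : Bst := (.node 4944 (.node 4936 (.node 4932 (.node 4930 (.node 4929 (.leaf 0) (.leaf 0)) (.node 4931 (.leaf 0) (.leaf 0))) (.node 4934 (.node 4933 (.leaf 0) (.leaf 0)) (.node 4935 (.leaf 0) (.leaf 0)))) (.node 4940 (.node 4938 (.node 4937 (.leaf 0) (.leaf 0)) (.node 4939 (.leaf 0) (.leaf 0))) (.node 4942 (.node 4941 (.leaf 0) (.leaf 0)) (.node 4943 (.leaf 0) (.leaf 0))))) (.node 4952 (.node 4948 (.node 4946 (.node 4945 (.leaf 0) (.leaf 0)) (.node 4947 (.leaf 0x50008f0000000000) (.leaf 0x16))) (.node 4950 (.node 4949 (.leaf 0) (.leaf 0)) (.node 4951 (.leaf 0) (.leaf 0)))) (.node 4956 (.node 4954 (.node 4953 (.leaf 0) (.leaf 0)) (.node 4955 (.leaf 0) (.leaf 0))) (.node 4958 (.node 4957 (.leaf 0) (.leaf 0)) (.node 4959 (.leaf 0) (.leaf 0))))))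

def regKPB155 : Bst := (.node 4976 (.node 4968 (.node 4964 (.node 4962 (.node 4961 (.leaf 0) (.leaf 0)) (.node 4963 (.leaf 0) (.leaf 0))) (.node 4966 (.node 4965 (.leaf 0) (.leaf 0)) (.node 4967 (.leaf 0) (.leaf 0)))) (.node 4972 (.node 4970 (.node 4969 (.leaf 0) (.leaf 0)) (.node 4971 (.leaf 0) (.leaf 0))) (.node 4974 (.node 4973 (.leaf 0) (.leaf 0)) (.node 4975 (.leaf 0) (.leaf 0))))) (.node 4984 (.node 4980 (.node 4978 (.node 4977 (.leaf 0) (.leaf 0)) (.node 4979 (.leaf 0) (.leaf 0))) (.node 4982 (.node 4981 (.leaf 0) (.leaf 0)) (.node 4983 (.leaf 0) (.leaf 0)))) (.node 4988 (.node 4986 (.node 4985 (.leaf 0) (.leaf 0)) (.node 4987 (.leaf 0) (.leaf 0))) (.node 4990 (.node 4989 (.leaf 0) (.leaf 0)) (.node 4991 (.leaf 0) (.leaf 0))))))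

def regKPB156 : Bst := (.node 5008 (.node 5000 (.node 4996 (.node 4994 (.node 4993 (.leaf 0) (.leaf 0)) (.node 4995 (.leaf 0) (.leaf 0))) (.node 4998 (.node 4997 (.leaf 0) (.leaf 0)) (.node 4999 (.leaf 0) (.leaf 0)))) (.node 5004 (.node 5002 (.node 5001 (.leaf 0) (.leaf 0)) (.node 5003 (.leaf 0) (.leaf 0))) (.node 5006 (.node 5005 (.leaf 0) (.leaf 0x360009f00000)) (.node 5007 (.leaf 0) (.leaf 0))))) (.node 5016 (.node 5012 (.node 5010 (.node 5009 (.leaf 0) (.leaf 0)) (.node 5011 (.leaf 0) (.leaf 0))) (.node 5014 (.node 5013 (.leaf 0) (.leaf 0x6d000420000000000)) (.node 5015 (.leaf 0x218000c8001a3) (.leaf 0)))) (.node 5020 (.node 5018 (.node 5017 (.leaf 0) (.leaf 0)) (.node 5019 (.leaf 0) (.leaf 0))) (.node 5022 (.node 5021 (.leaf 0) (.leaf 0)) (.node 5023 (.leaf 0) (.leaf 0))))))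

def regKPB157 : Bst := (.node 5040 (.node 5032 (.node 5028 (.node 5026 (.node 5025 (.leaf 0) (.leaf 0x1f000000)) (.node 5027 (.leaf 0) (.leaf 0))) (.node 5030 (.node 5029 (.leaf 0) (.leaf 0)) (.node 5031 (.leaf 0) (.leaf 0)))) (.node 5036 (.node 5034 (.node 5033 (.leaf 0) (.leaf 0)) (.node 5035 (.leaf 0) (.leaf 0))) (.node 5038 (.node 5037 (.leaf 0) (.leaf 0)) (.node 5039 (.leaf 0) (.leaf 0))))) (.node 5048 (.node 5044 (.node 5042 (.node 5041 (.leaf 0) (.leaf 0)) (.node 5043 (.leaf 0) (.leaf 0))) (.node 5046 (.node 5045 (.leaf 0) (.leaf 0)) (.node 5047 (.leaf 0) (.leaf 0)))) (.node 5052 (.node 5050 (.node 5049 (.leaf 0) (.leaf 0)) (.node 5051 (.leaf 0) (.leaf 0))) (.node 5054 (.node 5053 (.leaf 0) (.leaf 0)) (.node 5055 (.leaf 0) (.leaf 0))))))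

def regKPB158 : Bst := (.node 5072 (.node 5064 (.node 5060 (.node 5058 (.node 5057 (.leaf 0) (.leaf 0)) (.node 5059 (.leaf 0) (.leaf 0))) (.node 5062 (.node 5061 (.leaf 0) (.leaf 0)) (.node 5063 (.leaf 0) (.leaf 0)))) (.node 5068 (.node 5066 (.node 5065 (.leaf 0) (.leaf 0)) (.node 5067 (.leaf 0) (.leaf 0))) (.node 5070 (.node 5069 (.leaf 0) (.leaf 0)) (.node 5071 (.leaf 0) (.leaf 0))))) (.node 5080 (.node 5076 (.node 5074 (.node 5073 (.leaf 0) (.leaf 0)) (.node 5075 (.leaf 0x270001a0) (.leaf 0))) (.node 5078 (.node 5077 (.leaf 0) (.leaf 0)) (.node 5079 (.leaf 0) (.leaf 0)))) (.node 5084 (.node 5082 (.node 5081 (.leaf 0) (.leaf 0)) (.node 5083 (.leaf 0) (.leaf 0xa7000d20000000000))) (.node 5086 (.node 5085 (.leaf 0x109000ae) (.leaf 0)) (.node 5087 (.leaf 0) (.leaf 0))))))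

def regKPB159 : Bst := (.node 5104 (.node 5096 (.node 5092 (.node 5090 (.node 5089 (.leaf 0) (.leaf 0)) (.node 5091 (.leaf 0) (.leaf 0))) (.node 5094 (.node 5093 (.leaf 0) (.leaf 0)) (.node 5095 (.leaf 0) (.leaf 0)))) (.node 5100 (.node 5098 (.node 5097 (.leaf 0) (.leaf 0)) (.node 5099 (.leaf 0) (.leaf 0))) (.node 5102 (.node 5101 (.leaf 0) (.leaf 0)) (.node 5103 (.leaf 0) (.leaf 0))))) (.node 5112 (.node 5108 (.node 5106 (.node 5105 (.leaf 0) (.leaf 0)) (.node 5107 (.leaf 0) (.leaf 0))) (.node 5110 (.node 5109 (.leaf 0) (.leaf 0)) (.node 5111 (.leaf 0) (.leaf 0)))) (.node 5116 (.node 5114 (.node 5113 (.leaf 0xf300179000cd00000) (.leaf 0)) (.node 5115 (.leaf 0) (.leaf 0))) (.node 5118 (.node 5117 (.leaf 0) (.leaf 0)) (.node 5119 (.leaf 0) (.leaf 0x108000a80000000000))))))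

def regKPB160 : Bst := (.node 5136 (.node 5128 (.node 5124 (.node 5122 (.node 5121 (.leaf 0x153000f600275001cd) (.leaf 0)) (.node 5123 (.leaf 0) (.leaf 0))) (.node 5126 (.node 5125 (.leaf 0) (.leaf 0x1220018300000)) (.node 5127 (.leaf 0) (.leaf 0)))) (.node 5132 (.node 5130 (.node 5129 (.leaf 0) (.leaf 0)) (.node 5131 (.leaf 0) (.leaf 0))) (.node 5134 (.node 5133 (.leaf 0) (.leaf 0)) (.node 5135 (.leaf 0) (.leaf 0))))) (.node 5144 (.node 5140 (.node 5138 (.node 5137 (.leaf 0) (.leaf 0)) (.node 5139 (.leaf 0) (.leaf 0))) (.node 5142 (.node 5141 (.leaf 0) (.leaf 0)) (.node 5143 (.leaf 0) (.leaf 0)))) (.node 5148 (.node 5146 (.node 5145 (.leaf 0) (.leaf 0)) (.node 5147 (.leaf 0) (.leaf 0))) (.node 5150 (.node 5149 (.leaf 0) (.leaf 0)) (.node 5151 (.leaf 0) (.leaf 0))))))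

def regKPB161 : Bst := (.node 5168 (.node 5160 (.node 5156 (.node 5154 (.node 5153 (.leaf 0) (.leaf 0)) (.node 5155 (.leaf 0) (.leaf 0))) (.node 5158 (.node 5157 (.leaf 0) (.leaf 0)) (.node 5159 (.leaf 0) (.leaf 0)))) (.node 5164 (.node 5162 (.node 5161 (.leaf 0) (.leaf 0)) (.node 5163 (.leaf 0) (.leaf 0))) (.node 5166 (.node 5165 (.leaf 0) (.leaf 0)) (.node 5167 (.leaf 0) (.leaf 0))))) (.node 5176 (.node 5172 (.node 5170 (.node 5169 (.leaf 0) (.leaf 0)) (.node 5171 (.leaf 0) (.leaf 0))) (.node 5174 (.node 5173 (.leaf 0) (.leaf 0)) (.node 5175 (.leaf 0) (.leaf 0)))) (.node 5180 (.node 5178 (.node 5177 (.leaf 0) (.leaf 0)) (.node 5179 (.leaf 0) (.leaf 0))) (.node 5182 (.node 5181 (.leaf 0) (.leaf 0)) (.node 5183 (.leaf 0) (.leaf 0))))))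

def regKPB162 : Bst := (.node 5200 (.node 5192 (.node 5188 (.node 5186 (.node 5185 (.leaf 0) (.leaf 0)) (.node 5187 (.leaf 0) (.leaf 0))) (.node 5190 (.node 5189 (.leaf 0) (.leaf 0)) (.node 5191 (.leaf 0) (.leaf 0)))) (.node 5196 (.node 5194 (.node 5193 (.leaf 0) (.leaf 0)) (.node 5195 (.leaf 0) (.leaf 0))) (.node 5198 (.node 5197 (.leaf 0) (.leaf 0)) (.node 5199 (.leaf 0) (.leaf 0))))) (.node 5208 (.node 5204 (.node 5202 (.node 5201 (.leaf 0) (.leaf 0)) (.node 5203 (.leaf 0) (.leaf 0))) (.node 5206 (.node 5205 (.leaf 0) (.leaf 0)) (.node 5207 (.leaf 0) (.leaf 0)))) (.node 5212 (.node 5210 (.node 5209 (.leaf 0) (.leaf 0)) (.node 5211 (.leaf 0) (.leaf 0))) (.node 5214 (.node 5213 (.leaf 0) (.leaf 0)) (.node 5215 (.leaf 0) (.leaf 0))))))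

def regKPB163 : Bst := (.node 5232 (.node 5224 (.node 5220 (.node 5218 (.node 5217 (.leaf 0) (.leaf 0x410008c000c70004f)) (.node 5219 (.leaf 0x143) (.leaf 0))) (.node 5222 (.node 5221 (.leaf 0) (.leaf 0)) (.node 5223 (.leaf 0) (.leaf 0)))) (.node 5228 (.node 5226 (.node 5225 (.leaf 0) (.leaf 0)) (.node 5227 (.leaf 0xbc000000000000000) (.leaf 0x28f))) (.node 5230 (.node 5229 (.leaf 0x223001780000000000) (.leaf 0)) (.node 5231 (.leaf 0) (.leaf 0))))) (.node 5240 (.node 5236 (.node 5234 (.node 5233 (.leaf 0) (.leaf 0)) (.node 5235 (.leaf 0) (.leaf 0))) (.node 5238 (.node 5237 (.leaf 0) (.leaf 0)) (.node 5239 (.leaf 0) (.leaf 0)))) (.node 5244 (.node 5242 (.node 5241 (.leaf 0) (.leaf 0)) (.node 5243 (.leaf 0) (.leaf 0))) (.node 5246 (.node 5245 (.leaf 0) (.leaf 0)) (.node 5247 (.leaf 0) (.leaf 0))))))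

def regKPB164 : Bst := (.node 5264 (.node 5256 (.node 5252 (.node 5250 (.node 5249 (.leaf 0) (.leaf 0)) (.node 5251 (.leaf 0) (.leaf 0))) (.node 5254 (.node 5253 (.leaf 0) (.leaf 0)) (.node 5255 (.leaf 0) (.leaf 0)))) (.node 5260 (.node 5258 (.node 5257 (.leaf 0) (.leaf 0)) (.node 5259 (.leaf 0) (.leaf 0))) (.node 5262 (.node 5261 (.leaf 0) (.leaf 0)) (.node 5263 (.leaf 0) (.leaf 0))))) (.node 5272 (.node 5268 (.node 5266 (.node 5265 (.leaf 0) (.leaf 0)) (.node 5267 (.leaf 0) (.leaf 0))) (.node 5270 (.node 5269 (.leaf 0) (.leaf 0)) (.node 5271 (.leaf 0) (.leaf 0)))) (.node 5276 (.node 5274 (.node 5273 (.leaf 0) (.leaf 0)) (.node 5275 (.leaf 0) (.leaf 0))) (.node 5278 (.node 5277 (.leaf 0) (.leaf 0)) (.node 5279 (.leaf 0) (.leaf 0))))))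

def regKPB165 : Bst := (.node 5296 (.node 5288 (.node 5284 (.node 5282 (.node 5281 (.leaf 0) (.leaf 0)) (.node 5283 (.leaf 0) (.leaf 0))) (.node 5286 (.node 5285 (.leaf 0) (.leaf 0)) (.node 5287 (.leaf 0) (.leaf 0)))) (.node 5292 (.node 5290 (.node 5289 (.leaf 0) (.leaf 0)) (.node 5291 (.leaf 0) (.leaf 0))) (.node 5294 (.node 5293 (.leaf 0) (.leaf 0)) (.node 5295 (.leaf 0) (.leaf 0))))) (.node 5304 (.node 5300 (.node 5298 (.node 5297 (.leaf 0) (.leaf 0)) (.node 5299 (.leaf 0) (.leaf 0))) (.node 5302 (.node 5301 (.leaf 0) (.leaf 0)) (.node 5303 (.leaf 0) (.leaf 0)))) (.node 5308 (.node 5306 (.node 5305 (.leaf 0) (.leaf 0)) (.node 5307 (.leaf 0) (.leaf 0))) (.node 5310 (.node 5309 (.leaf 0) (.leaf 0)) (.node 5311 (.leaf 0) (.leaf 0))))))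

def regKPB166 : Bst := (.node 5328 (.node 5320 (.node 5316 (.node 5314 (.node 5313 (.leaf 0) (.leaf 0)) (.node 5315 (.leaf 0) (.leaf 0))) (.node 5318 (.node 5317 (.leaf 0) (.leaf 0)) (.node 5319 (.leaf 0) (.leaf 0)))) (.node 5324 (.node 5322 (.node 5321 (.leaf 0) (.leaf 0)) (.node 5323 (.leaf 0) (.leaf 0))) (.node 5326 (.node 5325 (.leaf 0) (.leaf 0)) (.node 5327 (.leaf 0) (.leaf 0))))) (.node 5336 (.node 5332 (.node 5330 (.node 5329 (.leaf 0) (.leaf 0)) (.node 5331 (.leaf 0x1960019900000) (.leaf 0))) (.node 5334 (.node 5333 (.leaf 0) (.leaf 0)) (.node 5335 (.leaf 0) (.leaf 0)))) (.node 5340 (.node 5338 (.node 5337 (.leaf 0) (.leaf 0)) (.node 5339 (.leaf 0) (.leaf 0))) (.node 5342 (.node 5341 (.leaf 0) (.leaf 0)) (.node 5343 (.leaf 0) (.leaf 0))))))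

def regKPB167 : Bst := (.node 5360 (.node 5352 (.node 5348 (.node 5346 (.node 5345 (.leaf 0) (.leaf 0)) (.node 5347 (.leaf 0) (.leaf 0))) (.node 5350 (.node 5349 (.leaf 0) (.leaf 0)) (.node 5351 (.leaf 0) (.leaf 0)))) (.node 5356 (.node 5354 (.node 5353 (.leaf 0) (.leaf 0)) (.node 5355 (.leaf 0) (.leaf 0))) (.node 5358 (.node 5357 (.leaf 0) (.leaf 0)) (.node 5359 (.leaf 0) (.leaf 0))))) (.node 5368 (.node 5364 (.node 5362 (.node 5361 (.leaf 0) (.leaf 0)) (.node 5363 (.leaf 0) (.leaf 0))) (.node 5366 (.node 5365 (.leaf 0) (.leaf 0)) (.node 5367 (.leaf 0) (.leaf 0)))) (.node 5372 (.node 5370 (.node 5369 (.leaf 0) (.leaf 0)) (.node 5371 (.leaf 0) (.leaf 0))) (.node 5374 (.node 5373 (.leaf 0) (.leaf 0)) (.node 5375 (.leaf 0) (.leaf 0))))))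

def regKPB168 : Bst := (.node 5392 (.node 5384 (.node 5380 (.node 5378 (.node 5377 (.leaf 0) (.leaf 0)) (.node 5379 (.leaf 0) (.leaf 0))) (.node 5382 (.node 5381 (.leaf 0) (.leaf 0)) (.node 5383 (.leaf 0) (.leaf 0)))) (.node 5388 (.node 5386 (.node 5385 (.leaf 0xfa000a600191) (.leaf 0)) (.node 5387 (.leaf 0) (.leaf 0))) (.node 5390 (.node 5389 (.leaf 0) (.leaf 0)) (.node 5391 (.leaf 0) (.leaf 0))))) (.node 5400 (.node 5396 (.node 5394 (.node 5393 (.leaf 0) (.leaf 0)) (.node 5395 (.leaf 0) (.leaf 0))) (.node 5398 (.node 5397 (.leaf 0) (.leaf 0)) (.node 5399 (.leaf 0) (.leaf 0)))) (.node 5404 (.node 5402 (.node 5401 (.leaf 0) (.leaf 0)) (.node 5403 (.leaf 0) (.leaf 0))) (.node 5406 (.node 5405 (.leaf 0) (.leaf 0)) (.node 5407 (.leaf 0) (.leaf 0))))))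

def regKPB169 : Bst := (.node 5424 (.node 5416 (.node 5412 (.node 5410 (.node 5409 (.leaf 0x1600010d0000000000) (.leaf 0)) (.node 5411 (.leaf 0) (.leaf 0))) (.node 5414 (.node 5413 (.leaf 0) (.leaf 0)) (.node 5415 (.leaf 0) (.leaf 0)))) (.node 5420 (.node 5418 (.node 5417 (.leaf 0) (.leaf 0)) (.node 5419 (.leaf 0) (.leaf 0))) (.node 5422 (.node 5421 (.leaf 0) (.leaf 0)) (.node 5423 (.leaf 0) (.leaf 0))))) (.node 5432 (.node 5428 (.node 5426 (.node 5425 (.leaf 0) (.leaf 0)) (.node 5427 (.leaf 0) (.leaf 0))) (.node 5430 (.node 5429 (.leaf 0) (.leaf 0)) (.node 5431 (.leaf 0) (.leaf 0)))) (.node 5436 (.node 5434 (.node 5433 (.leaf 0) (.leaf 0)) (.node 5435 (.leaf 0) (.leaf 0))) (.node 5438 (.node 5437 (.leaf 0) (.leaf 0x1c8000e9)) (.node 5439 (.leaf 0) (.leaf 0))))))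

def regKPB170 : Bst := (.node 5456 (.node 5448 (.node 5444 (.node 5442 (.node 5441 (.leaf 0) (.leaf 0)) (.node 5443 (.leaf 0) (.leaf 0))) (.node 5446 (.node 5445 (.leaf 0) (.leaf 0)) (.node 5447 (.leaf 0) (.leaf 0)))) (.node 5452 (.node 5450 (.node 5449 (.leaf 0) (.leaf 0)) (.node 5451 (.leaf 0) (.leaf 0))) (.node 5454 (.node 5453 (.leaf 0) (.leaf 0)) (.node 5455 (.leaf 0) (.leaf 0))))) (.node 5464 (.node 5460 (.node 5458 (.node 5457 (.leaf 0) (.leaf 0)) (.node 5459 (.leaf 0) (.leaf 0))) (.node 5462 (.node 5461 (.leaf 0) (.leaf 0)) (.node 5463 (.leaf 0) (.leaf 0)))) (.node 5468 (.node 5466 (.node 5465 (.leaf 0) (.leaf 0)) (.node 5467 (.leaf 0) (.leaf 0))) (.node 5470 (.node 5469 (.leaf 0) (.leaf 0)) (.node 5471 (.leaf 0) (.leaf 0))))))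

def regKPB171 : Bst := (.node 5488 (.node 5480 (.node 5476 (.node 5474 (.node 5473 (.leaf 0) (.leaf 0)) (.node 5475 (.leaf 0) (.leaf 0))) (.node 5478 (.node 5477 (.leaf 0) (.leaf 0)) (.node 5479 (.leaf 0) (.leaf 0)))) (.node 5484 (.node 5482 (.node 5481 (.leaf 0) (.leaf 0)) (.node 5483 (.leaf 0xfc000000000000000) (.leaf 0xf8))) (.node 5486 (.node 5485 (.leaf 0) (.leaf 0)) (.node 5487 (.leaf 0) (.leaf 0))))) (.node 5496 (.node 5492 (.node 5490 (.node 5489 (.leaf 0) (.leaf 0)) (.node 5491 (.leaf 0) (.leaf 0))) (.node 5494 (.node 5493 (.leaf 0) (.leaf 0)) (.node 5495 (.leaf 0) (.leaf 0)))) (.node 5500 (.node 5498 (.node 5497 (.leaf 0) (.leaf 0)) (.node 5499 (.leaf 0) (.leaf 0))) (.node 5502 (.node 5501 (.leaf 0) (.leaf 0)) (.node 5503 (.leaf 0) (.leaf 0))))))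

def regKPB172 : Bst := (.node 5520 (.node 5512 (.node 5508 (.node 5506 (.node 5505 (.leaf 0) (.leaf 0)) (.node 5507 (.leaf 0x23d000b600000) (.leaf 0))) (.node 5510 (.node 5509 (.leaf 0) (.leaf 0)) (.node 5511 (.leaf 0) (.leaf 0)))) (.node 5516 (.node 5514 (.node 5513 (.leaf 0) (.leaf 0)) (.node 5515 (.leaf 0) (.leaf 0))) (.node 5518 (.node 5517 (.leaf 0) (.leaf 0)) (.node 5519 (.leaf 0) (.leaf 0))))) (.node 5528 (.node 5524 (.node 5522 (.node 5521 (.leaf 0) (.leaf 0)) (.node 5523 (.leaf 0) (.leaf 0))) (.node 5526 (.node 5525 (.leaf 0) (.leaf 0)) (.node 5527 (.leaf 0) (.leaf 0)))) (.node 5532 (.node 5530 (.node 5529 (.leaf 0) (.leaf 0)) (.node 5531 (.leaf 0) (.leaf 0))) (.node 5534 (.node 5533 (.leaf 0) (.leaf 0)) (.node 5535 (.leaf 0) (.leaf 0))))))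

def regKPB173 : Bst := (.node 5552 (.node 5544 (.node 5540 (.node 5538 (.node 5537 (.leaf 0) (.leaf 0)) (.node 5539 (.leaf 0) (.leaf 0))) (.node 5542 (.node 5541 (.leaf 0) (.leaf 0)) (.node 5543 (.leaf 0) (.leaf 0)))) (.node 5548 (.node 5546 (.node 5545 (.leaf 0) (.leaf 0)) (.node 5547 (.leaf 0) (.leaf 0))) (.node 5550 (.node 5549 (.leaf 0) (.leaf 0)) (.node 5551 (.leaf 0) (.leaf 0))))) (.node 5560 (.node 5556 (.node 5554 (.node 5553 (.leaf 0) (.leaf 0)) (.node 5555 (.leaf 0x111001a40000000000) (.leaf 0))) (.node 5558 (.node 5557 (.leaf 0) (.leaf 0)) (.node 5559 (.leaf 0) (.leaf 0)))) (.node 5564 (.node 5562 (.node 5561 (.leaf 0) (.leaf 0)) (.node 5563 (.leaf 0) (.leaf 0))) (.node 5566 (.node 5565 (.leaf 0) (.leaf 0)) (.node 5567 (.leaf 0) (.leaf 0))))))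

def regKPB174 : Bst := (.node 5584 (.node 5576 (.node 5572 (.node 5570 (.node 5569 (.leaf 0) (.leaf 0)) (.node 5571 (.leaf 0) (.leaf 0))) (.node 5574 (.node 5573 (.leaf 0) (.leaf 0)) (.node 5575 (.leaf 0) (.leaf 0)))) (.node 5580 (.node 5578 (.node 5577 (.leaf 0) (.leaf 0)) (.node 5579 (.leaf 0) (.leaf 0))) (.node 5582 (.node 5581 (.leaf 0) (.leaf 0)) (.node 5583 (.leaf 0) (.leaf 0))))) (.node 5592 (.node 5588 (.node 5586 (.node 5585 (.leaf 0) (.leaf 0)) (.node 5587 (.leaf 0) (.leaf 0))) (.node 5590 (.node 5589 (.leaf 0) (.leaf 0)) (.node 5591 (.leaf 0) (.leaf 0)))) (.node 5596 (.node 5594 (.node 5593 (.leaf 0) (.leaf 0)) (.node 5595 (.leaf 0) (.leaf 0))) (.node 5598 (.node 5597 (.leaf 0) (.leaf 0)) (.node 5599 (.leaf 0) (.leaf 0))))))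

def regKPB175 : Bst := (.node 5616 (.node 5608 (.node 5604 (.node 5602 (.node 5601 (.leaf 0) (.leaf 0)) (.node 5603 (.leaf 0) (.leaf 0))) (.node 5606 (.node 5605 (.leaf 0) (.leaf 0)) (.node 5607 (.leaf 0) (.leaf 0)))) (.node 5612 (.node 5610 (.node 5609 (.leaf 0) (.leaf 0)) (.node 5611 (.leaf 0) (.leaf 0))) (.node 5614 (.node 5613 (.leaf 0) (.leaf 0)) (.node 5615 (.leaf 0) (.leaf 0))))) (.node 5624 (.node 5620 (.node 5618 (.node 5617 (.leaf 0) (.leaf 0)) (.node 5619 (.leaf 0) (.leaf 0))) (.node 5622 (.node 5621 (.leaf 0) (.leaf 0)) (.node 5623 (.leaf 0) (.leaf 0)))) (.node 5628 (.node 5626 (.node 5625 (.leaf 0) (.leaf 0)) (.node 5627 (.leaf 0) (.leaf 0))) (.node 5630 (.node 5629 (.leaf 0) (.leaf 0)) (.node 5631 (.leaf 0) (.leaf 0))))))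

def regKPB176 : Bst := (.node 5648 (.node 5640 (.node 5636 (.node 5634 (.node 5633 (.leaf 0) (.leaf 0)) (.node 5635 (.leaf 0) (.leaf 0))) (.node 5638 (.node 5637 (.leaf 0) (.leaf 0)) (.node 5639 (.leaf 0) (.leaf 0)))) (.node 5644 (.node 5642 (.node 5641 (.leaf 0) (.leaf 0)) (.node 5643 (.leaf 0) (.leaf 0))) (.node 5646 (.node 5645 (.leaf 0) (.leaf 0)) (.node 5647 (.leaf 0) (.leaf 0))))) (.node 5656 (.node 5652 (.node 5650 (.node 5649 (.leaf 0) (.leaf 0)) (.node 5651 (.leaf 0) (.leaf 0))) (.node 5654 (.node 5653 (.leaf 0) (.leaf 0)) (.node 5655 (.leaf 0) (.leaf 0)))) (.node 5660 (.node 5658 (.node 5657 (.leaf 0) (.leaf 0)) (.node 5659 (.leaf 0) (.leaf 0))) (.node 5662 (.node 5661 (.leaf 0) (.leaf 0)) (.node 5663 (.leaf 0) (.leaf 0))))))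

def regKPB177 : Bst := (.node 5680 (.node 5672 (.node 5668 (.node 5666 (.node 5665 (.leaf 0) (.leaf 0)) (.node 5667 (.leaf 0) (.leaf 0))) (.node 5670 (.node 5669 (.leaf 0) (.leaf 0)) (.node 5671 (.leaf 0) (.leaf 0)))) (.node 5676 (.node 5674 (.node 5673 (.leaf 0) (.leaf 0)) (.node 5675 (.leaf 0) (.leaf 0))) (.node 5678 (.node 5677 (.leaf 0) (.leaf 0)) (.node 5679 (.leaf 0) (.leaf 0))))) (.node 5688 (.node 5684 (.node 5682 (.node 5681 (.leaf 0) (.leaf 0)) (.node 5683 (.leaf 0) (.leaf 0))) (.node 5686 (.node 5685 (.leaf 0) (.leaf 0)) (.node 5687 (.leaf 0) (.leaf 0)))) (.node 5692 (.node 5690 (.node 5689 (.leaf 0) (.leaf 0)) (.node 5691 (.leaf 0) (.leaf 0))) (.node 5694 (.node 5693 (.leaf 0) (.leaf 0)) (.node 5695 (.leaf 0) (.leaf 0))))))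

def regKPB178 : Bst := (.node 5712 (.node 5704 (.node 5700 (.node 5698 (.node 5697 (.leaf 0) (.leaf 0)) (.node 5699 (.leaf 0) (.leaf 0))) (.node 5702 (.node 5701 (.leaf 0) (.leaf 0)) (.node 5703 (.leaf 0) (.leaf 0)))) (.node 5708 (.node 5706 (.node 5705 (.leaf 0) (.leaf 0)) (.node 5707 (.leaf 0) (.leaf 0))) (.node 5710 (.node 5709 (.leaf 0) (.leaf 0)) (.node 5711 (.leaf 0) (.leaf 0))))) (.node 5720 (.node 5716 (.node 5714 (.node 5713 (.leaf 0) (.leaf 0)) (.node 5715 (.leaf 0) (.leaf 0))) (.node 5718 (.node 5717 (.leaf 0) (.leaf 0)) (.node 5719 (.leaf 0) (.leaf 0)))) (.node 5724 (.node 5722 (.node 5721 (.leaf 0) (.leaf 0)) (.node 5723 (.leaf 0) (.leaf 0))) (.node 5726 (.node 5725 (.leaf 0) (.leaf 0)) (.node 5727 (.leaf 0) (.leaf 0))))))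

def regKPB179 : Bst := (.node 5744 (.node 5736 (.node 5732 (.node 5730 (.node 5729 (.leaf 0) (.leaf 0)) (.node 5731 (.leaf 0) (.leaf 0))) (.node 5734 (.node 5733 (.leaf 0) (.leaf 0)) (.node 5735 (.leaf 0) (.leaf 0)))) (.node 5740 (.node 5738 (.node 5737 (.leaf 0) (.leaf 0)) (.node 5739 (.leaf 0) (.leaf 0))) (.node 5742 (.node 5741 (.leaf 0) (.leaf 0)) (.node 5743 (.leaf 0) (.leaf 0))))) (.node 5752 (.node 5748 (.node 5746 (.node 5745 (.leaf 0) (.leaf 0)) (.node 5747 (.leaf 0) (.leaf 0))) (.node 5750 (.node 5749 (.leaf 0) (.leaf 0)) (.node 5751 (.leaf 0) (.leaf 0)))) (.node 5756 (.node 5754 (.node 5753 (.leaf 0) (.leaf 0)) (.node 5755 (.leaf 0) (.leaf 0))) (.node 5758 (.node 5757 (.leaf 0) (.leaf 0)) (.node 5759 (.leaf 0) (.leaf 0))))))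

def regKPB180 : Bst := (.node 5776 (.node 5768 (.node 5764 (.node 5762 (.node 5761 (.leaf 0) (.leaf 0)) (.node 5763 (.leaf 0) (.leaf 0))) (.node 5766 (.node 5765 (.leaf 0) (.leaf 0)) (.node 5767 (.leaf 0) (.leaf 0)))) (.node 5772 (.node 5770 (.node 5769 (.leaf 0) (.leaf 0)) (.node 5771 (.leaf 0) (.leaf 0))) (.node 5774 (.node 5773 (.leaf 0) (.leaf 0)) (.node 5775 (.leaf 0) (.leaf 0))))) (.node 5784 (.node 5780 (.node 5778 (.node 5777 (.leaf 0) (.leaf 0)) (.node 5779 (.leaf 0) (.leaf 0))) (.node 5782 (.node 5781 (.leaf 0) (.leaf 0)) (.node 5783 (.leaf 0) (.leaf 0)))) (.node 5788 (.node 5786 (.node 5785 (.leaf 0) (.leaf 0)) (.node 5787 (.leaf 0) (.leaf 0))) (.node 5790 (.node 5789 (.leaf 0) (.leaf 0)) (.node 5791 (.leaf 0) (.leaf 0))))))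

def regKPB181 : Bst := (.node 5808 (.node 5800 (.node 5796 (.node 5794 (.node 5793 (.leaf 0) (.leaf 0)) (.node 5795 (.leaf 0) (.leaf 0))) (.node 5798 (.node 5797 (.leaf 0) (.leaf 0)) (.node 5799 (.leaf 0) (.leaf 0)))) (.node 5804 (.node 5802 (.node 5801 (.leaf 0) (.leaf 0)) (.node 5803 (.leaf 0) (.leaf 0))) (.node 5806 (.node 5805 (.leaf 0) (.leaf 0)) (.node 5807 (.leaf 0) (.leaf 0))))) (.node 5816 (.node 5812 (.node 5810 (.node 5809 (.leaf 0) (.leaf 0)) (.node 5811 (.leaf 0) (.leaf 0))) (.node 5814 (.node 5813 (.leaf 0) (.leaf 0)) (.node 5815 (.leaf 0) (.leaf 0)))) (.node 5820 (.node 5818 (.node 5817 (.leaf 0) (.leaf 0)) (.node 5819 (.leaf 0) (.leaf 0))) (.node 5822 (.node 5821 (.leaf 0) (.leaf 0)) (.node 5823 (.leaf 0) (.leaf 0))))))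

def regKPB182 : Bst := (.node 5840 (.node 5832 (.node 5828 (.node 5826 (.node 5825 (.leaf 0) (.leaf 0)) (.node 5827 (.leaf 0) (.leaf 0))) (.node 5830 (.node 5829 (.leaf 0) (.leaf 0)) (.node 5831 (.leaf 0) (.leaf 0)))) (.node 5836 (.node 5834 (.node 5833 (.leaf 0) (.leaf 0)) (.node 5835 (.leaf 0) (.leaf 0))) (.node 5838 (.node 5837 (.leaf 0) (.leaf 0)) (.node 5839 (.leaf 0) (.leaf 0))))) (.node 5848 (.node 5844 (.node 5842 (.node 5841 (.leaf 0) (.leaf 0)) (.node 5843 (.leaf 0) (.leaf 0))) (.node 5846 (.node 5845 (.leaf 0) (.leaf 0)) (.node 5847 (.leaf 0) (.leaf 0)))) (.node 5852 (.node 5850 (.node 5849 (.leaf 0) (.leaf 0)) (.node 5851 (.leaf 0) (.leaf 0))) (.node 5854 (.node 5853 (.leaf 0) (.leaf 0)) (.node 5855 (.leaf 0) (.leaf 0))))))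

def regKPB183 : Bst := (.node 5872 (.node 5864 (.node 5860 (.node 5858 (.node 5857 (.leaf 0) (.leaf 0)) (.node 5859 (.leaf 0) (.leaf 0))) (.node 5862 (.node 5861 (.leaf 0) (.leaf 0)) (.node 5863 (.leaf 0) (.leaf 0)))) (.node 5868 (.node 5866 (.node 5865 (.leaf 0) (.leaf 0)) (.node 5867 (.leaf 0) (.leaf 0))) (.node 5870 (.node 5869 (.leaf 0) (.leaf 0)) (.node 5871 (.leaf 0) (.leaf 0))))) (.node 5880 (.node 5876 (.node 5874 (.node 5873 (.leaf 0) (.leaf 0)) (.node 5875 (.leaf 0) (.leaf 0))) (.node 5878 (.node 5877 (.leaf 0) (.leaf 0)) (.node 5879 (.leaf 0) (.leaf 0)))) (.node 5884 (.node 5882 (.node 5881 (.leaf 0) (.leaf 0)) (.node 5883 (.leaf 0) (.leaf 0))) (.node 5886 (.node 5885 (.leaf 0) (.leaf 0)) (.node 5887 (.leaf 0) (.leaf 0))))))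

def regKPB184 : Bst := (.node 5904 (.node 5896 (.node 5892 (.node 5890 (.node 5889 (.leaf 0) (.leaf 0)) (.node 5891 (.leaf 0) (.leaf 0))) (.node 5894 (.node 5893 (.leaf 0) (.leaf 0)) (.node 5895 (.leaf 0) (.leaf 0)))) (.node 5900 (.node 5898 (.node 5897 (.leaf 0) (.leaf 0)) (.node 5899 (.leaf 0) (.leaf 0))) (.node 5902 (.node 5901 (.leaf 0) (.leaf 0)) (.node 5903 (.leaf 0) (.leaf 0))))) (.node 5912 (.node 5908 (.node 5906 (.node 5905 (.leaf 0) (.leaf 0)) (.node 5907 (.leaf 0) (.leaf 0))) (.node 5910 (.node 5909 (.leaf 0) (.leaf 0)) (.node 5911 (.leaf 0) (.leaf 0)))) (.node 5916 (.node 5914 (.node 5913 (.leaf 0) (.leaf 0)) (.node 5915 (.leaf 0) (.leaf 0))) (.node 5918 (.node 5917 (.leaf 0) (.leaf 0)) (.node 5919 (.leaf 0) (.leaf 0))))))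

def regKPB185 : Bst := (.node 5936 (.node 5928 (.node 5924 (.node 5922 (.node 5921 (.leaf 0) (.leaf 0)) (.node 5923 (.leaf 0) (.leaf 0))) (.node 5926 (.node 5925 (.leaf 0) (.leaf 0)) (.node 5927 (.leaf 0) (.leaf 0)))) (.node 5932 (.node 5930 (.node 5929 (.leaf 0) (.leaf 0)) (.node 5931 (.leaf 0) (.leaf 0))) (.node 5934 (.node 5933 (.leaf 0) (.leaf 0)) (.node 5935 (.leaf 0) (.leaf 0))))) (.node 5944 (.node 5940 (.node 5938 (.node 5937 (.leaf 0) (.leaf 0)) (.node 5939 (.leaf 0) (.leaf 0))) (.node 5942 (.node 5941 (.leaf 0) (.leaf 0)) (.node 5943 (.leaf 0) (.leaf 0)))) (.node 5948 (.node 5946 (.node 5945 (.leaf 0) (.leaf 0)) (.node 5947 (.leaf 0) (.leaf 0))) (.node 5950 (.node 5949 (.leaf 0) (.leaf 0)) (.node 5951 (.leaf 0) (.leaf 0))))))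

def regKPB186 : Bst := (.node 5968 (.node 5960 (.node 5956 (.node 5954 (.node 5953 (.leaf 0) (.leaf 0)) (.node 5955 (.leaf 0) (.leaf 0))) (.node 5958 (.node 5957 (.leaf 0) (.leaf 0)) (.node 5959 (.leaf 0) (.leaf 0)))) (.node 5964 (.node 5962 (.node 5961 (.leaf 0) (.leaf 0)) (.node 5963 (.leaf 0) (.leaf 0))) (.node 5966 (.node 5965 (.leaf 0) (.leaf 0)) (.node 5967 (.leaf 0) (.leaf 0))))) (.node 5976 (.node 5972 (.node 5970 (.node 5969 (.leaf 0) (.leaf 0)) (.node 5971 (.leaf 0) (.leaf 0))) (.node 5974 (.node 5973 (.leaf 0) (.leaf 0)) (.node 5975 (.leaf 0) (.leaf 0)))) (.node 5980 (.node 5978 (.node 5977 (.leaf 0) (.leaf 0)) (.node 5979 (.leaf 0) (.leaf 0))) (.node 5982 (.node 5981 (.leaf 0) (.leaf 0)) (.node 5983 (.leaf 0) (.leaf 0))))))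

def regKPB187 : Bst := (.node 6000 (.node 5992 (.node 5988 (.node 5986 (.node 5985 (.leaf 0) (.leaf 0)) (.node 5987 (.leaf 0) (.leaf 0))) (.node 5990 (.node 5989 (.leaf 0) (.leaf 0)) (.node 5991 (.leaf 0) (.leaf 0)))) (.node 5996 (.node 5994 (.node 5993 (.leaf 0) (.leaf 0)) (.node 5995 (.leaf 0) (.leaf 0))) (.node 5998 (.node 5997 (.leaf 0) (.leaf 0)) (.node 5999 (.leaf 0) (.leaf 0))))) (.node 6008 (.node 6004 (.node 6002 (.node 6001 (.leaf 0) (.leaf 0)) (.node 6003 (.leaf 0) (.leaf 0))) (.node 6006 (.node 6005 (.leaf 0) (.leaf 0)) (.node 6007 (.leaf 0) (.leaf 0)))) (.node 6012 (.node 6010 (.node 6009 (.leaf 0) (.leaf 0)) (.node 6011 (.leaf 0) (.leaf 0))) (.node 6014 (.node 6013 (.leaf 0) (.leaf 0)) (.node 6015 (.leaf 0) (.leaf 0))))))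

def regKPB188 : Bst := (.node 6032 (.node 6024 (.node 6020 (.node 6018 (.node 6017 (.leaf 0) (.leaf 0)) (.node 6019 (.leaf 0) (.leaf 0))) (.node 6022 (.node 6021 (.leaf 0) (.leaf 0)) (.node 6023 (.leaf 0) (.leaf 0)))) (.node 6028 (.node 6026 (.node 6025 (.leaf 0) (.leaf 0)) (.node 6027 (.leaf 0) (.leaf 0))) (.node 6030 (.node 6029 (.leaf 0) (.leaf 0)) (.node 6031 (.leaf 0) (.leaf 0))))) (.node 6040 (.node 6036 (.node 6034 (.node 6033 (.leaf 0) (.leaf 0)) (.node 6035 (.leaf 0) (.leaf 0))) (.node 6038 (.node 6037 (.leaf 0) (.leaf 0)) (.node 6039 (.leaf 0) (.leaf 0)))) (.node 6044 (.node 6042 (.node 6041 (.leaf 0) (.leaf 0)) (.node 6043 (.leaf 0) (.leaf 0))) (.node 6046 (.node 6045 (.leaf 0) (.leaf 0)) (.node 6047 (.leaf 0) (.leaf 0))))))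

def regKPB189 : Bst := (.node 6064 (.node 6056 (.node 6052 (.node 6050 (.node 6049 (.leaf 0) (.leaf 0)) (.node 6051 (.leaf 0) (.leaf 0))) (.node 6054 (.node 6053 (.leaf 0) (.leaf 0)) (.node 6055 (.leaf 0) (.leaf 0)))) (.node 6060 (.node 6058 (.node 6057 (.leaf 0) (.leaf 0)) (.node 6059 (.leaf 0) (.leaf 0))) (.node 6062 (.node 6061 (.leaf 0) (.leaf 0)) (.node 6063 (.leaf 0) (.leaf 0))))) (.node 6072 (.node 6068 (.node 6066 (.node 6065 (.leaf 0) (.leaf 0)) (.node 6067 (.leaf 0) (.leaf 0))) (.node 6070 (.node 6069 (.leaf 0) (.leaf 0)) (.node 6071 (.leaf 0) (.leaf 0)))) (.node 6076 (.node 6074 (.node 6073 (.leaf 0) (.leaf 0)) (.node 6075 (.leaf 0) (.leaf 0))) (.node 6078 (.node 6077 (.leaf 0) (.leaf 0)) (.node 6079 (.leaf 0) (.leaf 0))))))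

def regKPB190 : Bst := (.node 6096 (.node 6088 (.node 6084 (.node 6082 (.node 6081 (.leaf 0) (.leaf 0)) (.node 6083 (.leaf 0) (.leaf 0))) (.node 6086 (.node 6085 (.leaf 0) (.leaf 0)) (.node 6087 (.leaf 0) (.leaf 0)))) (.node 6092 (.node 6090 (.node 6089 (.leaf 0) (.leaf 0)) (.node 6091 (.leaf 0) (.leaf 0))) (.node 6094 (.node 6093 (.leaf 0) (.leaf 0)) (.node 6095 (.leaf 0) (.leaf 0))))) (.node 6104 (.node 6100 (.node 6098 (.node 6097 (.leaf 0) (.leaf 0)) (.node 6099 (.leaf 0) (.leaf 0))) (.node 6102 (.node 6101 (.leaf 0) (.leaf 0)) (.node 6103 (.leaf 0) (.leaf 0)))) (.node 6108 (.node 6106 (.node 6105 (.leaf 0) (.leaf 0)) (.node 6107 (.leaf 0) (.leaf 0))) (.node 6110 (.node 6109 (.leaf 0) (.leaf 0)) (.node 6111 (.leaf 0) (.leaf 0))))))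

def regKPB191 : Bst := (.node 6128 (.node 6120 (.node 6116 (.node 6114 (.node 6113 (.leaf 0) (.leaf 0)) (.node 6115 (.leaf 0) (.leaf 0))) (.node 6118 (.node 6117 (.leaf 0) (.leaf 0)) (.node 6119 (.leaf 0) (.leaf 0)))) (.node 6124 (.node 6122 (.node 6121 (.leaf 0) (.leaf 0)) (.node 6123 (.leaf 0) (.leaf 0))) (.node 6126 (.node 6125 (.leaf 0) (.leaf 0)) (.node 6127 (.leaf 0) (.leaf 0))))) (.node 6136 (.node 6132 (.node 6130 (.node 6129 (.leaf 0) (.leaf 0)) (.node 6131 (.leaf 0) (.leaf 0))) (.node 6134 (.node 6133 (.leaf 0) (.leaf 0)) (.node 6135 (.leaf 0) (.leaf 0)))) (.node 6140 (.node 6138 (.node 6137 (.leaf 0) (.leaf 0)) (.node 6139 (.leaf 0) (.leaf 0))) (.node 6142 (.node 6141 (.leaf 0) (.leaf 0)) (.node 6143 (.leaf 0) (.leaf 0))))))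

def regKPB192 : Bst := (.node 6160 (.node 6152 (.node 6148 (.node 6146 (.node 6145 (.leaf 0) (.leaf 0)) (.node 6147 (.leaf 0) (.leaf 0))) (.node 6150 (.node 6149 (.leaf 0) (.leaf 0)) (.node 6151 (.leaf 0) (.leaf 0)))) (.node 6156 (.node 6154 (.node 6153 (.leaf 0) (.leaf 0)) (.node 6155 (.leaf 0) (.leaf 0))) (.node 6158 (.node 6157 (.leaf 0) (.leaf 0)) (.node 6159 (.leaf 0) (.leaf 0))))) (.node 6168 (.node 6164 (.node 6162 (.node 6161 (.leaf 0) (.leaf 0)) (.node 6163 (.leaf 0) (.leaf 0))) (.node 6166 (.node 6165 (.leaf 0) (.leaf 0)) (.node 6167 (.leaf 0) (.leaf 0)))) (.node 6172 (.node 6170 (.node 6169 (.leaf 0) (.leaf 0)) (.node 6171 (.leaf 0) (.leaf 0))) (.node 6174 (.node 6173 (.leaf 0) (.leaf 0)) (.node 6175 (.leaf 0) (.leaf 0))))))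

def regKPB193 : Bst := (.node 6192 (.node 6184 (.node 6180 (.node 6178 (.node 6177 (.leaf 0) (.leaf 0)) (.node 6179 (.leaf 0) (.leaf 0))) (.node 6182 (.node 6181 (.leaf 0) (.leaf 0)) (.node 6183 (.leaf 0) (.leaf 0)))) (.node 6188 (.node 6186 (.node 6185 (.leaf 0) (.leaf 0)) (.node 6187 (.leaf 0) (.leaf 0))) (.node 6190 (.node 6189 (.leaf 0) (.leaf 0)) (.node 6191 (.leaf 0) (.leaf 0))))) (.node 6200 (.node 6196 (.node 6194 (.node 6193 (.leaf 0) (.leaf 0)) (.node 6195 (.leaf 0) (.leaf 0))) (.node 6198 (.node 6197 (.leaf 0) (.leaf 0)) (.node 6199 (.leaf 0) (.leaf 0)))) (.node 6204 (.node 6202 (.node 6201 (.leaf 0) (.leaf 0)) (.node 6203 (.leaf 0) (.leaf 0))) (.node 6206 (.node 6205 (.leaf 0) (.leaf 0)) (.node 6207 (.leaf 0) (.leaf 0))))))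

def regKPB194 : Bst := (.node 6224 (.node 6216 (.node 6212 (.node 6210 (.node 6209 (.leaf 0) (.leaf 0)) (.node 6211 (.leaf 0) (.leaf 0))) (.node 6214 (.node 6213 (.leaf 0) (.leaf 0)) (.node 6215 (.leaf 0) (.leaf 0)))) (.node 6220 (.node 6218 (.node 6217 (.leaf 0) (.leaf 0)) (.node 6219 (.leaf 0) (.leaf 0))) (.node 6222 (.node 6221 (.leaf 0) (.leaf 0)) (.node 6223 (.leaf 0) (.leaf 0))))) (.node 6232 (.node 6228 (.node 6226 (.node 6225 (.leaf 0) (.leaf 0)) (.node 6227 (.leaf 0) (.leaf 0))) (.node 6230 (.node 6229 (.leaf 0) (.leaf 0)) (.node 6231 (.leaf 0) (.leaf 0)))) (.node 6236 (.node 6234 (.node 6233 (.leaf 0) (.leaf 0)) (.node 6235 (.leaf 0) (.leaf 0))) (.node 6238 (.node 6237 (.leaf 0) (.leaf 0)) (.node 6239 (.leaf 0) (.leaf 0))))))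

def regKPB195 : Bst := (.node 6256 (.node 6248 (.node 6244 (.node 6242 (.node 6241 (.leaf 0) (.leaf 0)) (.node 6243 (.leaf 0) (.leaf 0))) (.node 6246 (.node 6245 (.leaf 0) (.leaf 0)) (.node 6247 (.leaf 0) (.leaf 0)))) (.node 6252 (.node 6250 (.node 6249 (.leaf 0) (.leaf 0)) (.node 6251 (.leaf 0x124001b6) (.leaf 0))) (.node 6254 (.node 6253 (.leaf 0) (.leaf 0)) (.node 6255 (.leaf 0x2910020a) (.leaf 0))))) (.node 6264 (.node 6260 (.node 6258 (.node 6257 (.leaf 0) (.leaf 0)) (.node 6259 (.leaf 0) (.leaf 0xa5001590000000000))) (.node 6262 (.node 6261 (.leaf 0x14800226) (.leaf 0x1fe00112)) (.node 6263 (.leaf 0x19f) (.leaf 0)))) (.node 6268 (.node 6266 (.node 6265 (.leaf 0) (.leaf 0)) (.node 6267 (.leaf 0) (.leaf 0))) (.node 6270 (.node 6269 (.leaf 0) (.leaf 0)) (.node 6271 (.leaf 0) (.leaf 0))))))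

def regKPB196 : Bst := (.node 6288 (.node 6280 (.node 6276 (.node 6274 (.node 6273 (.leaf 0) (.leaf 0)) (.node 6275 (.leaf 0) (.leaf 0))) (.node 6278 (.node 6277 (.leaf 0) (.leaf 0)) (.node 6279 (.leaf 0) (.leaf 0x26000770002900000)))) (.node 6284 (.node 6282 (.node 6281 (.leaf 0x14400158000a10003e) (.leaf 0x27300167)) (.node 6283 (.leaf 0) (.leaf 0))) (.node 6286 (.node 6285 (.leaf 0) (.leaf 0x5d0000000000)) (.node 6287 (.leaf 0x4c000b200177) (.leaf 0))))) (.node 6296 (.node 6292 (.node 6290 (.node 6289 (.leaf 0) (.leaf 0)) (.node 6291 (.leaf 0) (.leaf 0))) (.node 6294 (.node 6293 (.leaf 0) (.leaf 0)) (.node 6295 (.leaf 0) (.leaf 0)))) (.node 6300 (.node 6298 (.node 6297 (.leaf 0) (.leaf 0)) (.node 6299 (.leaf 0) (.leaf 0))) (.node 6302 (.node 6301 (.leaf 0) (.leaf 0)) (.node 6303 (.leaf 0) (.leaf 0))))))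

def regKPB197 : Bst := (.node 6320 (.node 6312 (.node 6308 (.node 6306 (.node 6305 (.leaf 0) (.leaf 0)) (.node 6307 (.leaf 0) (.leaf 0))) (.node 6310 (.node 6309 (.leaf 0) (.leaf 0)) (.node 6311 (.leaf 0) (.leaf 0)))) (.node 6316 (.node 6314 (.node 6313 (.leaf 0) (.leaf 0)) (.node 6315 (.leaf 0) (.leaf 0))) (.node 6318 (.node 6317 (.leaf 0) (.leaf 0)) (.node 6319 (.leaf 0) (.leaf 0))))) (.node 6328 (.node 6324 (.node 6322 (.node 6321 (.leaf 0) (.leaf 0)) (.node 6323 (.leaf 0) (.leaf 0))) (.node 6326 (.node 6325 (.leaf 0) (.leaf 0)) (.node 6327 (.leaf 0) (.leaf 0)))) (.node 6332 (.node 6330 (.node 6329 (.leaf 0) (.leaf 0)) (.node 6331 (.leaf 0) (.leaf 0))) (.node 6334 (.node 6333 (.leaf 0) (.leaf 0)) (.node 6335 (.leaf 0) (.leaf 0))))))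

def regKPB198 : Bst := (.node 6352 (.node 6344 (.node 6340 (.node 6338 (.node 6337 (.leaf 0) (.leaf 0)) (.node 6339 (.leaf 0) (.leaf 0))) (.node 6342 (.node 6341 (.leaf 0) (.leaf 0)) (.node 6343 (.leaf 0) (.leaf 0)))) (.node 6348 (.node 6346 (.node 6345 (.leaf 0) (.leaf 0)) (.node 6347 (.leaf 0) (.leaf 0))) (.node 6350 (.node 6349 (.leaf 0) (.leaf 0)) (.node 6351 (.leaf 0) (.leaf 0))))) (.node 6360 (.node 6356 (.node 6354 (.node 6353 (.leaf 0) (.leaf 0)) (.node 6355 (.leaf 0) (.leaf 0))) (.node 6358 (.node 6357 (.leaf 0) (.leaf 0)) (.node 6359 (.leaf 0) (.leaf 0)))) (.node 6364 (.node 6362 (.node 6361 (.leaf 0) (.leaf 0)) (.node 6363 (.leaf 0) (.leaf 0))) (.node 6366 (.node 6365 (.leaf 0) (.leaf 0)) (.node 6367 (.leaf 0) (.leaf 0))))))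

def regKPB199 : Bst := (.node 6384 (.node 6376 (.node 6372 (.node 6370 (.node 6369 (.leaf 0) (.leaf 0)) (.node 6371 (.leaf 0) (.leaf 0))) (.node 6374 (.node 6373 (.leaf 0) (.leaf 0)) (.node 6375 (.leaf 0) (.leaf 0)))) (.node 6380 (.node 6378 (.node 6377 (.leaf 0) (.leaf 0)) (.node 6379 (.leaf 0) (.leaf 0))) (.node 6382 (.node 6381 (.leaf 0) (.leaf 0)) (.node 6383 (.leaf 0) (.leaf 0))))) (.node 6392 (.node 6388 (.node 6386 (.node 6385 (.leaf 0) (.leaf 0)) (.node 6387 (.leaf 0) (.leaf 0))) (.node 6390 (.node 6389 (.leaf 0) (.leaf 0)) (.node 6391 (.leaf 0) (.leaf 0)))) (.node 6396 (.node 6394 (.node 6393 (.leaf 0) (.leaf 0)) (.node 6395 (.leaf 0) (.leaf 0))) (.node 6398 (.node 6397 (.leaf 0) (.leaf 0)) (.node 6399 (.leaf 0) (.leaf 0))))))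

def regKPB200 : Bst := (.node 6416 (.node 6408 (.node 6404 (.node 6402 (.node 6401 (.leaf 0) (.leaf 0)) (.node 6403 (.leaf 0) (.leaf 0))) (.node 6406 (.node 6405 (.leaf 0) (.leaf 0)) (.node 6407 (.leaf 0) (.leaf 0)))) (.node 6412 (.node 6410 (.node 6409 (.leaf 0) (.leaf 0)) (.node 6411 (.leaf 0) (.leaf 0))) (.node 6414 (.node 6413 (.leaf 0) (.leaf 0)) (.node 6415 (.leaf 0x26b00292001b000205) (.leaf 0x123))))) (.node 6424 (.node 6420 (.node 6418 (.node 6417 (.leaf 0x139000000009600087) (.leaf 0x14100099)) (.node 6419 (.leaf 0) (.leaf 0))) (.node 6422 (.node 6421 (.leaf 0) (.leaf 0x18400000)) (.node 6423 (.leaf 0) (.leaf 0)))) (.node 6428 (.node 6426 (.node 6425 (.leaf 0) (.leaf 0)) (.node 6427 (.leaf 0xe60000000000) (.leaf 0))) (.node 6430 (.node 6429 (.leaf 0) (.leaf 0)) (.node 6431 (.leaf 0x23f000bb0021400000) (.leaf 0x267000000000000000))))))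

def regKPB201 : Bst := (.node 6448 (.node 6440 (.node 6436 (.node 6434 (.node 6433 (.leaf 0x1250029f00252001ee) (.leaf 0)) (.node 6435 (.leaf 0) (.leaf 0))) (.node 6438 (.node 6437 (.leaf 0) (.leaf 0)) (.node 6439 (.leaf 0) (.leaf 0)))) (.node 6444 (.node 6442 (.node 6441 (.leaf 0) (.leaf 0)) (.node 6443 (.leaf 0) (.leaf 0))) (.node 6446 (.node 6445 (.leaf 0) (.leaf 0)) (.node 6447 (.leaf 0) (.leaf 0))))) (.node 6456 (.node 6452 (.node 6450 (.node 6449 (.leaf 0) (.leaf 0)) (.node 6451 (.leaf 0) (.leaf 0))) (.node 6454 (.node 6453 (.leaf 0) (.leaf 0)) (.node 6455 (.leaf 0) (.leaf 0)))) (.node 6460 (.node 6458 (.node 6457 (.leaf 0) (.leaf 0)) (.node 6459 (.leaf 0) (.leaf 0))) (.node 6462 (.node 6461 (.leaf 0) (.leaf 0)) (.node 6463 (.leaf 0) (.leaf 0))))))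

def regKPB202 : Bst := (.node 6480 (.node 6472 (.node 6468 (.node 6466 (.node 6465 (.leaf 0) (.leaf 0)) (.node 6467 (.leaf 0) (.leaf 0))) (.node 6470 (.node 6469 (.leaf 0) (.leaf 0)) (.node 6471 (.leaf 0) (.leaf 0)))) (.node 6476 (.node 6474 (.node 6473 (.leaf 0) (.leaf 0)) (.node 6475 (.leaf 0) (.leaf 0))) (.node 6478 (.node 6477 (.leaf 0) (.leaf 0)) (.node 6479 (.leaf 0) (.leaf 0))))) (.node 6488 (.node 6484 (.node 6482 (.node 6481 (.leaf 0) (.leaf 0)) (.node 6483 (.leaf 0) (.leaf 0))) (.node 6486 (.node 6485 (.leaf 0) (.leaf 0)) (.node 6487 (.leaf 0) (.leaf 0)))) (.node 6492 (.node 6490 (.node 6489 (.leaf 0) (.leaf 0)) (.node 6491 (.leaf 0) (.leaf 0))) (.node 6494 (.node 6493 (.leaf 0) (.leaf 0)) (.node 6495 (.leaf 0) (.leaf 0))))))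

def regKPB203 : Bst := (.node 6512 (.node 6504 (.node 6500 (.node 6498 (.node 6497 (.leaf 0) (.leaf 0)) (.node 6499 (.leaf 0) (.leaf 0))) (.node 6502 (.node 6501 (.leaf 0) (.leaf 0)) (.node 6503 (.leaf 0) (.leaf 0)))) (.node 6508 (.node 6506 (.node 6505 (.leaf 0) (.leaf 0)) (.node 6507 (.leaf 0) (.leaf 0))) (.node 6510 (.node 6509 (.leaf 0) (.leaf 0)) (.node 6511 (.leaf 0) (.leaf 0))))) (.node 6520 (.node 6516 (.node 6514 (.node 6513 (.leaf 0) (.leaf 0)) (.node 6515 (.leaf 0) (.leaf 0))) (.node 6518 (.node 6517 (.leaf 0) (.leaf 0)) (.node 6519 (.leaf 0) (.leaf 0)))) (.node 6524 (.node 6522 (.node 6521 (.leaf 0) (.leaf 0)) (.node 6523 (.leaf 0) (.leaf 0))) (.node 6526 (.node 6525 (.leaf 0) (.leaf 0)) (.node 6527 (.leaf 0) (.leaf 0))))))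

def regKPB204 : Bst := (.node 6544 (.node 6536 (.node 6532 (.node 6530 (.node 6529 (.leaf 0) (.leaf 0)) (.node 6531 (.leaf 0) (.leaf 0))) (.node 6534 (.node 6533 (.leaf 0) (.leaf 0)) (.node 6535 (.leaf 0) (.leaf 0)))) (.node 6540 (.node 6538 (.node 6537 (.leaf 0) (.leaf 0)) (.node 6539 (.leaf 0) (.leaf 0))) (.node 6542 (.node 6541 (.leaf 0) (.leaf 0)) (.node 6543 (.leaf 0) (.leaf 0))))) (.node 6552 (.node 6548 (.node 6546 (.node 6545 (.leaf 0) (.leaf 0)) (.node 6547 (.leaf 0) (.leaf 0))) (.node 6550 (.node 6549 (.leaf 0) (.leaf 0)) (.node 6551 (.leaf 0) (.leaf 0)))) (.node 6556 (.node 6554 (.node 6553 (.leaf 0) (.leaf 0)) (.node 6555 (.leaf 0) (.leaf 0))) (.node 6558 (.node 6557 (.leaf 0) (.leaf 0)) (.node 6559 (.leaf 0) (.leaf 0))))))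

def regKPB205 : Bst := (.node 6576 (.node 6568 (.node 6564 (.node 6562 (.node 6561 (.leaf 0) (.leaf 0)) (.node 6563 (.leaf 0) (.leaf 0))) (.node 6566 (.node 6565 (.leaf 0) (.leaf 0)) (.node 6567 (.leaf 0) (.leaf 0)))) (.node 6572 (.node 6570 (.node 6569 (.leaf 0) (.leaf 0)) (.node 6571 (.leaf 0) (.leaf 0))) (.node 6574 (.node 6573 (.leaf 0) (.leaf 0)) (.node 6575 (.leaf 0) (.leaf 0))))) (.node 6584 (.node 6580 (.node 6578 (.node 6577 (.leaf 0) (.leaf 0)) (.node 6579 (.leaf 0) (.leaf 0))) (.node 6582 (.node 6581 (.leaf 0) (.leaf 0)) (.node 6583 (.leaf 0) (.leaf 0)))) (.node 6588 (.node 6586 (.node 6585 (.leaf 0) (.leaf 0)) (.node 6587 (.leaf 0) (.leaf 0))) (.node 6590 (.node 6589 (.leaf 0) (.leaf 0)) (.node 6591 (.leaf 0) (.leaf 0))))))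

def regKPB206 : Bst := (.node 6608 (.node 6600 (.node 6596 (.node 6594 (.node 6593 (.leaf 0) (.leaf 0)) (.node 6595 (.leaf 0) (.leaf 0))) (.node 6598 (.node 6597 (.leaf 0) (.leaf 0)) (.node 6599 (.leaf 0) (.leaf 0)))) (.node 6604 (.node 6602 (.node 6601 (.leaf 0) (.leaf 0)) (.node 6603 (.leaf 0) (.leaf 0))) (.node 6606 (.node 6605 (.leaf 0) (.leaf 0)) (.node 6607 (.leaf 0) (.leaf 0))))) (.node 6616 (.node 6612 (.node 6610 (.node 6609 (.leaf 0) (.leaf 0)) (.node 6611 (.leaf 0) (.leaf 0))) (.node 6614 (.node 6613 (.leaf 0) (.leaf 0)) (.node 6615 (.leaf 0) (.leaf 0)))) (.node 6620 (.node 6618 (.node 6617 (.leaf 0) (.leaf 0)) (.node 6619 (.leaf 0x25e000000000000000) (.leaf 0))) (.node 6622 (.node 6621 (.leaf 0) (.leaf 0)) (.node 6623 (.leaf 0) (.leaf 0))))))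

def regKPB207 : Bst := (.node 6640 (.node 6632 (.node 6628 (.node 6626 (.node 6625 (.leaf 0) (.leaf 0)) (.node 6627 (.leaf 0) (.leaf 0xc20025b001b100000))) (.node 6630 (.node 6629 (.leaf 0xd7000c90006f00102) (.leaf 0xb500181)) (.node 6631 (.leaf 0) (.leaf 0)))) (.node 6636 (.node 6634 (.node 6633 (.leaf 0) (.leaf 0)) (.node 6635 (.leaf 0) (.leaf 0x1b8001bf0000000000))) (.node 6638 (.node 6637 (.leaf 0x220) (.leaf 0)) (.node 6639 (.leaf 0) (.leaf 0))))) (.node 6648 (.node 6644 (.node 6642 (.node 6641 (.leaf 0) (.leaf 0)) (.node 6643 (.leaf 0) (.leaf 0))) (.node 6646 (.node 6645 (.leaf 0) (.leaf 0)) (.node 6647 (.leaf 0) (.leaf 0x1ef0000000000)))) (.node 6652 (.node 6650 (.node 6649 (.leaf 0) (.leaf 0)) (.node 6651 (.leaf 0) (.leaf 0))) (.node 6654 (.node 6653 (.leaf 0) (.leaf 0)) (.node 6655 (.leaf 0) (.leaf 0))))))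

def regKPB208 : Bst := (.node 6672 (.node 6664 (.node 6660 (.node 6658 (.node 6657 (.leaf 0) (.leaf 0)) (.node 6659 (.leaf 0) (.leaf 0))) (.node 6662 (.node 6661 (.leaf 0) (.leaf 0)) (.node 6663 (.leaf 0) (.leaf 0)))) (.node 6668 (.node 6666 (.node 6665 (.leaf 0) (.leaf 0)) (.node 6667 (.leaf 0) (.leaf 0))) (.node 6670 (.node 6669 (.leaf 0) (.leaf 0)) (.node 6671 (.leaf 0) (.leaf 0))))) (.node 6680 (.node 6676 (.node 6674 (.node 6673 (.leaf 0xaf000710000000000) (.leaf 0xab000650011800079)) (.node 6675 (.leaf 0x1c70019400240) (.leaf 0))) (.node 6678 (.node 6677 (.leaf 0) (.leaf 0)) (.node 6679 (.leaf 0) (.leaf 0x47000000000000000)))) (.node 6684 (.node 6682 (.node 6681 (.leaf 0x110001fa001aa00069) (.leaf 0)) (.node 6683 (.leaf 0) (.leaf 0))) (.node 6686 (.node 6685 (.leaf 0) (.leaf 0)) (.node 6687 (.leaf 0) (.leaf 0))))))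

def regKPB209 : Bst := (.node 6704 (.node 6696 (.node 6692 (.node 6690 (.node 6689 (.leaf 0) (.leaf 0x890007d0000000000)) (.node 6691 (.leaf 0x128) (.leaf 0))) (.node 6694 (.node 6693 (.leaf 0) (.leaf 0)) (.node 6695 (.leaf 0) (.leaf 0)))) (.node 6700 (.node 6698 (.node 6697 (.leaf 0) (.leaf 0)) (.node 6699 (.leaf 0) (.leaf 0))) (.node 6702 (.node 6701 (.leaf 0) (.leaf 0)) (.node 6703 (.leaf 0) (.leaf 0))))) (.node 6712 (.node 6708 (.node 6706 (.node 6705 (.leaf 0) (.leaf 0)) (.node 6707 (.leaf 0) (.leaf 0))) (.node 6710 (.node 6709 (.leaf 0) (.leaf 0)) (.node 6711 (.leaf 0) (.leaf 0)))) (.node 6716 (.node 6714 (.node 6713 (.leaf 0) (.leaf 0)) (.node 6715 (.leaf 0) (.leaf 0))) (.node 6718 (.node 6717 (.leaf 0) (.leaf 0)) (.node 6719 (.leaf 0) (.leaf 0))))))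

def regKPB210 : Bst := (.node 6736 (.node 6728 (.node 6724 (.node 6722 (.node 6721 (.leaf 0) (.leaf 0)) (.node 6723 (.leaf 0) (.leaf 0))) (.node 6726 (.node 6725 (.leaf 0) (.leaf 0)) (.node 6727 (.leaf 0) (.leaf 0)))) (.node 6732 (.node 6730 (.node 6729 (.leaf 0) (.leaf 0)) (.node 6731 (.leaf 0) (.leaf 0))) (.node 6734 (.node 6733 (.leaf 0) (.leaf 0)) (.node 6735 (.leaf 0) (.leaf 0))))) (.node 6744 (.node 6740 (.node 6738 (.node 6737 (.leaf 0) (.leaf 0)) (.node 6739 (.leaf 0) (.leaf 0))) (.node 6742 (.node 6741 (.leaf 0) (.leaf 0)) (.node 6743 (.leaf 0) (.leaf 0)))) (.node 6748 (.node 6746 (.node 6745 (.leaf 0) (.leaf 0)) (.node 6747 (.leaf 0) (.leaf 0))) (.node 6750 (.node 6749 (.leaf 0) (.leaf 0)) (.node 6751 (.leaf 0) (.leaf 0))))))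

def regKPB211 : Bst := (.node 6768 (.node 6760 (.node 6756 (.node 6754 (.node 6753 (.leaf 0) (.leaf 0)) (.node 6755 (.leaf 0) (.leaf 0))) (.node 6758 (.node 6757 (.leaf 0) (.leaf 0)) (.node 6759 (.leaf 0) (.leaf 0)))) (.node 6764 (.node 6762 (.node 6761 (.leaf 0) (.leaf 0)) (.node 6763 (.leaf 0) (.leaf 0))) (.node 6766 (.node 6765 (.leaf 0) (.leaf 0)) (.node 6767 (.leaf 0) (.leaf 0))))) (.node 6776 (.node 6772 (.node 6770 (.node 6769 (.leaf 0) (.leaf 0)) (.node 6771 (.leaf 0) (.leaf 0))) (.node 6774 (.node 6773 (.leaf 0) (.leaf 0)) (.node 6775 (.leaf 0) (.leaf 0)))) (.node 6780 (.node 6778 (.node 6777 (.leaf 0) (.leaf 0)) (.node 6779 (.leaf 0) (.leaf 0))) (.node 6782 (.node 6781 (.leaf 0) (.leaf 0)) (.node 6783 (.leaf 0) (.leaf 0))))))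

def regKPB212 : Bst := (.node 6800 (.node 6792 (.node 6788 (.node 6786 (.node 6785 (.leaf 0) (.leaf 0)) (.node 6787 (.leaf 0) (.leaf 0))) (.node 6790 (.node 6789 (.leaf 0) (.leaf 0)) (.node 6791 (.leaf 0) (.leaf 0)))) (.node 6796 (.node 6794 (.node 6793 (.leaf 0) (.leaf 0)) (.node 6795 (.leaf 0) (.leaf 0))) (.node 6798 (.node 6797 (.leaf 0) (.leaf 0)) (.node 6799 (.leaf 0) (.leaf 0))))) (.node 6808 (.node 6804 (.node 6802 (.node 6801 (.leaf 0) (.leaf 0)) (.node 6803 (.leaf 0) (.leaf 0))) (.node 6806 (.node 6805 (.leaf 0) (.leaf 0)) (.node 6807 (.leaf 0) (.leaf 0)))) (.node 6812 (.node 6810 (.node 6809 (.leaf 0) (.leaf 0)) (.node 6811 (.leaf 0) (.leaf 0))) (.node 6814 (.node 6813 (.leaf 0) (.leaf 0)) (.node 6815 (.leaf 0) (.leaf 0))))))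

def regKPB213 : Bst := (.node 6832 (.node 6824 (.node 6820 (.node 6818 (.node 6817 (.leaf 0) (.leaf 0)) (.node 6819 (.leaf 0) (.leaf 0))) (.node 6822 (.node 6821 (.leaf 0) (.leaf 0)) (.node 6823 (.leaf 0) (.leaf 0)))) (.node 6828 (.node 6826 (.node 6825 (.leaf 0) (.leaf 0)) (.node 6827 (.leaf 0) (.leaf 0))) (.node 6830 (.node 6829 (.leaf 0) (.leaf 0)) (.node 6831 (.leaf 0) (.leaf 0))))) (.node 6840 (.node 6836 (.node 6834 (.node 6833 (.leaf 0) (.leaf 0)) (.node 6835 (.leaf 0) (.leaf 0))) (.node 6838 (.node 6837 (.leaf 0) (.leaf 0)) (.node 6839 (.leaf 0) (.leaf 0)))) (.node 6844 (.node 6842 (.node 6841 (.leaf 0) (.leaf 0)) (.node 6843 (.leaf 0) (.leaf 0))) (.node 6846 (.node 6845 (.leaf 0) (.leaf 0)) (.node 6847 (.leaf 0) (.leaf 0))))))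

def regKPB214 : Bst := (.node 6864 (.node 6856 (.node 6852 (.node 6850 (.node 6849 (.leaf 0) (.leaf 0)) (.node 6851 (.leaf 0) (.leaf 0))) (.node 6854 (.node 6853 (.leaf 0) (.leaf 0)) (.node 6855 (.leaf 0) (.leaf 0)))) (.node 6860 (.node 6858 (.node 6857 (.leaf 0) (.leaf 0)) (.node 6859 (.leaf 0) (.leaf 0))) (.node 6862 (.node 6861 (.leaf 0) (.leaf 0)) (.node 6863 (.leaf 0) (.leaf 0))))) (.node 6872 (.node 6868 (.node 6866 (.node 6865 (.leaf 0) (.leaf 0)) (.node 6867 (.leaf 0) (.leaf 0))) (.node 6870 (.node 6869 (.leaf 0) (.leaf 0)) (.node 6871 (.leaf 0) (.leaf 0)))) (.node 6876 (.node 6874 (.node 6873 (.leaf 0) (.leaf 0)) (.node 6875 (.leaf 0) (.leaf 0))) (.node 6878 (.node 6877 (.leaf 0) (.leaf 0)) (.node 6879 (.leaf 0) (.leaf 0))))))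

def regKPB215 : Bst := (.node 6896 (.node 6888 (.node 6884 (.node 6882 (.node 6881 (.leaf 0) (.leaf 0)) (.node 6883 (.leaf 0) (.leaf 0))) (.node 6886 (.node 6885 (.leaf 0) (.leaf 0)) (.node 6887 (.leaf 0) (.leaf 0)))) (.node 6892 (.node 6890 (.node 6889 (.leaf 0) (.leaf 0)) (.node 6891 (.leaf 0) (.leaf 0))) (.node 6894 (.node 6893 (.leaf 0) (.leaf 0)) (.node 6895 (.leaf 0) (.leaf 0))))) (.node 6904 (.node 6900 (.node 6898 (.node 6897 (.leaf 0) (.leaf 0)) (.node 6899 (.leaf 0) (.leaf 0))) (.node 6902 (.node 6901 (.leaf 0) (.leaf 0)) (.node 6903 (.leaf 0) (.leaf 0)))) (.node 6908 (.node 6906 (.node 6905 (.leaf 0) (.leaf 0)) (.node 6907 (.leaf 0) (.leaf 0))) (.node 6910 (.node 6909 (.leaf 0) (.leaf 0)) (.node 6911 (.leaf 0) (.leaf 0))))))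

def regKPB216 : Bst := (.node 6928 (.node 6920 (.node 6916 (.node 6914 (.node 6913 (.leaf 0) (.leaf 0)) (.node 6915 (.leaf 0) (.leaf 0))) (.node 6918 (.node 6917 (.leaf 0) (.leaf 0)) (.node 6919 (.leaf 0) (.leaf 0)))) (.node 6924 (.node 6922 (.node 6921 (.leaf 0) (.leaf 0)) (.node 6923 (.leaf 0) (.leaf 0))) (.node 6926 (.node 6925 (.leaf 0) (.leaf 0)) (.node 6927 (.leaf 0) (.leaf 0))))) (.node 6936 (.node 6932 (.node 6930 (.node 6929 (.leaf 0) (.leaf 0)) (.node 6931 (.leaf 0) (.leaf 0))) (.node 6934 (.node 6933 (.leaf 0) (.leaf 0)) (.node 6935 (.leaf 0) (.leaf 0)))) (.node 6940 (.node 6938 (.node 6937 (.leaf 0) (.leaf 0)) (.node 6939 (.leaf 0) (.leaf 0))) (.node 6942 (.node 6941 (.leaf 0) (.leaf 0)) (.node 6943 (.leaf 0) (.leaf 0))))))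

def regKPB217 : Bst := (.node 6960 (.node 6952 (.node 6948 (.node 6946 (.node 6945 (.leaf 0) (.leaf 0)) (.node 6947 (.leaf 0) (.leaf 0))) (.node 6950 (.node 6949 (.leaf 0) (.leaf 0)) (.node 6951 (.leaf 0) (.leaf 0)))) (.node 6956 (.node 6954 (.node 6953 (.leaf 0x11b000000000000000) (.leaf 0x2680016a0024f00206)) (.node 6955 (.leaf 0) (.leaf 0))) (.node 6958 (.node 6957 (.leaf 0) (.leaf 0)) (.node 6959 (.leaf 0) (.leaf 0))))) (.node 6968 (.node 6964 (.node 6962 (.node 6961 (.leaf 0) (.leaf 0)) (.node 6963 (.leaf 0) (.leaf 0))) (.node 6966 (.node 6965 (.leaf 0) (.leaf 0)) (.node 6967 (.leaf 0) (.leaf 0)))) (.node 6972 (.node 6970 (.node 6969 (.leaf 0) (.leaf 0)) (.node 6971 (.leaf 0) (.leaf 0))) (.node 6974 (.node 6973 (.leaf 0) (.leaf 0)) (.node 6975 (.leaf 0) (.leaf 0))))))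

def regKPB218 : Bst := (.node 6992 (.node 6984 (.node 6980 (.node 6978 (.node 6977 (.leaf 0) (.leaf 0)) (.node 6979 (.leaf 0) (.leaf 0))) (.node 6982 (.node 6981 (.leaf 0) (.leaf 0)) (.node 6983 (.leaf 0) (.leaf 0)))) (.node 6988 (.node 6986 (.node 6985 (.leaf 0) (.leaf 0)) (.node 6987 (.leaf 0) (.leaf 0))) (.node 6990 (.node 6989 (.leaf 0) (.leaf 0)) (.node 6991 (.leaf 0) (.leaf 0))))) (.node 7000 (.node 6996 (.node 6994 (.node 6993 (.leaf 0) (.leaf 0)) (.node 6995 (.leaf 0) (.leaf 0))) (.node 6998 (.node 6997 (.leaf 0) (.leaf 0)) (.node 6999 (.leaf 0) (.leaf 0)))) (.node 7004 (.node 7002 (.node 7001 (.leaf 0) (.leaf 0)) (.node 7003 (.leaf 0) (.leaf 0))) (.node 7006 (.node 7005 (.leaf 0) (.leaf 0)) (.node 7007 (.leaf 0) (.leaf 0))))))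

def regKPB219 : Bst := (.node 7024 (.node 7016 (.node 7012 (.node 7010 (.node 7009 (.leaf 0) (.leaf 0)) (.node 7011 (.leaf 0) (.leaf 0))) (.node 7014 (.node 7013 (.leaf 0) (.leaf 0)) (.node 7015 (.leaf 0) (.leaf 0)))) (.node 7020 (.node 7018 (.node 7017 (.leaf 0) (.leaf 0)) (.node 7019 (.leaf 0) (.leaf 0))) (.node 7022 (.node 7021 (.leaf 0) (.leaf 0)) (.node 7023 (.leaf 0) (.leaf 0))))) (.node 7032 (.node 7028 (.node 7026 (.node 7025 (.leaf 0) (.leaf 0)) (.node 7027 (.leaf 0) (.leaf 0))) (.node 7030 (.node 7029 (.leaf 0) (.leaf 0)) (.node 7031 (.leaf 0) (.leaf 0)))) (.node 7036 (.node 7034 (.node 7033 (.leaf 0) (.leaf 0)) (.node 7035 (.leaf 0) (.leaf 0))) (.node 7038 (.node 7037 (.leaf 0) (.leaf 0)) (.node 7039 (.leaf 0) (.leaf 0))))))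

def regKPB220 : Bst := (.node 7056 (.node 7048 (.node 7044 (.node 7042 (.node 7041 (.leaf 0) (.leaf 0)) (.node 7043 (.leaf 0) (.leaf 0))) (.node 7046 (.node 7045 (.leaf 0) (.leaf 0)) (.node 7047 (.leaf 0) (.leaf 0)))) (.node 7052 (.node 7050 (.node 7049 (.leaf 0) (.leaf 0)) (.node 7051 (.leaf 0) (.leaf 0))) (.node 7054 (.node 7053 (.leaf 0) (.leaf 0)) (.node 7055 (.leaf 0) (.leaf 0))))) (.node 7064 (.node 7060 (.node 7058 (.node 7057 (.leaf 0) (.leaf 0)) (.node 7059 (.leaf 0) (.leaf 0))) (.node 7062 (.node 7061 (.leaf 0) (.leaf 0)) (.node 7063 (.leaf 0) (.leaf 0)))) (.node 7068 (.node 7066 (.node 7065 (.leaf 0) (.leaf 0)) (.node 7067 (.leaf 0) (.leaf 0))) (.node 7070 (.node 7069 (.leaf 0) (.leaf 0)) (.node 7071 (.leaf 0) (.leaf 0))))))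

def regKPB221 : Bst := (.node 7088 (.node 7080 (.node 7076 (.node 7074 (.node 7073 (.leaf 0) (.leaf 0)) (.node 7075 (.leaf 0) (.leaf 0))) (.node 7078 (.node 7077 (.leaf 0) (.leaf 0)) (.node 7079 (.leaf 0) (.leaf 0)))) (.node 7084 (.node 7082 (.node 7081 (.leaf 0) (.leaf 0)) (.node 7083 (.leaf 0) (.leaf 0))) (.node 7086 (.node 7085 (.leaf 0) (.leaf 0)) (.node 7087 (.leaf 0) (.leaf 0))))) (.node 7096 (.node 7092 (.node 7090 (.node 7089 (.leaf 0) (.leaf 0)) (.node 7091 (.leaf 0) (.leaf 0))) (.node 7094 (.node 7093 (.leaf 0) (.leaf 0)) (.node 7095 (.leaf 0) (.leaf 0)))) (.node 7100 (.node 7098 (.node 7097 (.leaf 0) (.leaf 0)) (.node 7099 (.leaf 0) (.leaf 0))) (.node 7102 (.node 7101 (.leaf 0) (.leaf 0)) (.node 7103 (.leaf 0) (.leaf 0))))))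

def regKPB222 : Bst := (.node 7120 (.node 7112 (.node 7108 (.node 7106 (.node 7105 (.leaf 0) (.leaf 0)) (.node 7107 (.leaf 0) (.leaf 0))) (.node 7110 (.node 7109 (.leaf 0) (.leaf 0)) (.node 7111 (.leaf 0) (.leaf 0)))) (.node 7116 (.node 7114 (.node 7113 (.leaf 0) (.leaf 0)) (.node 7115 (.leaf 0) (.leaf 0))) (.node 7118 (.node 7117 (.leaf 0) (.leaf 0)) (.node 7119 (.leaf 0) (.leaf 0))))) (.node 7128 (.node 7124 (.node 7122 (.node 7121 (.leaf 0) (.leaf 0)) (.node 7123 (.leaf 0) (.leaf 0))) (.node 7126 (.node 7125 (.leaf 0) (.leaf 0)) (.node 7127 (.leaf 0) (.leaf 0)))) (.node 7132 (.node 7130 (.node 7129 (.leaf 0) (.leaf 0)) (.node 7131 (.leaf 0) (.leaf 0))) (.node 7134 (.node 7133 (.leaf 0) (.leaf 0)) (.node 7135 (.leaf 0) (.leaf 0))))))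

def regKPB223 : Bst := (.node 7152 (.node 7144 (.node 7140 (.node 7138 (.node 7137 (.leaf 0) (.leaf 0)) (.node 7139 (.leaf 0) (.leaf 0))) (.node 7142 (.node 7141 (.leaf 0) (.leaf 0)) (.node 7143 (.leaf 0) (.leaf 0)))) (.node 7148 (.node 7146 (.node 7145 (.leaf 0) (.leaf 0)) (.node 7147 (.leaf 0) (.leaf 0))) (.node 7150 (.node 7149 (.leaf 0) (.leaf 0)) (.node 7151 (.leaf 0) (.leaf 0))))) (.node 7160 (.node 7156 (.node 7154 (.node 7153 (.leaf 0) (.leaf 0)) (.node 7155 (.leaf 0) (.leaf 0))) (.node 7158 (.node 7157 (.leaf 0) (.leaf 0)) (.node 7159 (.leaf 0) (.leaf 0)))) (.node 7164 (.node 7162 (.node 7161 (.leaf 0) (.leaf 0)) (.node 7163 (.leaf 0) (.leaf 0))) (.node 7166 (.node 7165 (.leaf 0) (.leaf 0)) (.node 7167 (.leaf 0) (.leaf 0))))))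

def regKPB224 : Bst := (.node 7184 (.node 7176 (.node 7172 (.node 7170 (.node 7169 (.leaf 0) (.leaf 0)) (.node 7171 (.leaf 0) (.leaf 0))) (.node 7174 (.node 7173 (.leaf 0) (.leaf 0)) (.node 7175 (.leaf 0) (.leaf 0)))) (.node 7180 (.node 7178 (.node 7177 (.leaf 0) (.leaf 0)) (.node 7179 (.leaf 0) (.leaf 0))) (.node 7182 (.node 7181 (.leaf 0) (.leaf 0)) (.node 7183 (.leaf 0) (.leaf 0))))) (.node 7192 (.node 7188 (.node 7186 (.node 7185 (.leaf 0) (.leaf 0)) (.node 7187 (.leaf 0) (.leaf 0))) (.node 7190 (.node 7189 (.leaf 0) (.leaf 0)) (.node 7191 (.leaf 0) (.leaf 0)))) (.node 7196 (.node 7194 (.node 7193 (.leaf 0) (.leaf 0)) (.node 7195 (.leaf 0) (.leaf 0))) (.node 7198 (.node 7197 (.leaf 0) (.leaf 0)) (.node 7199 (.leaf 0) (.leaf 0))))))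

def regKPB225 : Bst := (.node 7216 (.node 7208 (.node 7204 (.node 7202 (.node 7201 (.leaf 0) (.leaf 0)) (.node 7203 (.leaf 0) (.leaf 0))) (.node 7206 (.node 7205 (.leaf 0) (.leaf 0)) (.node 7207 (.leaf 0) (.leaf 0)))) (.node 7212 (.node 7210 (.node 7209 (.leaf 0) (.leaf 0)) (.node 7211 (.leaf 0) (.leaf 0))) (.node 7214 (.node 7213 (.leaf 0) (.leaf 0)) (.node 7215 (.leaf 0) (.leaf 0))))) (.node 7224 (.node 7220 (.node 7218 (.node 7217 (.leaf 0) (.leaf 0)) (.node 7219 (.leaf 0) (.leaf 0))) (.node 7222 (.node 7221 (.leaf 0) (.leaf 0)) (.node 7223 (.leaf 0) (.leaf 0)))) (.node 7228 (.node 7226 (.node 7225 (.leaf 0) (.leaf 0)) (.node 7227 (.leaf 0) (.leaf 0))) (.node 7230 (.node 7229 (.leaf 0) (.leaf 0)) (.node 7231 (.leaf 0) (.leaf 0))))))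

def regKPB226 : Bst := (.node 7248 (.node 7240 (.node 7236 (.node 7234 (.node 7233 (.leaf 0) (.leaf 0)) (.node 7235 (.leaf 0) (.leaf 0))) (.node 7238 (.node 7237 (.leaf 0) (.leaf 0)) (.node 7239 (.leaf 0) (.leaf 0)))) (.node 7244 (.node 7242 (.node 7241 (.leaf 0) (.leaf 0)) (.node 7243 (.leaf 0) (.leaf 0))) (.node 7246 (.node 7245 (.leaf 0) (.leaf 0)) (.node 7247 (.leaf 0) (.leaf 0))))) (.node 7256 (.node 7252 (.node 7250 (.node 7249 (.leaf 0) (.leaf 0)) (.node 7251 (.leaf 0) (.leaf 0))) (.node 7254 (.node 7253 (.leaf 0) (.leaf 0)) (.node 7255 (.leaf 0) (.leaf 0)))) (.node 7260 (.node 7258 (.node 7257 (.leaf 0) (.leaf 0)) (.node 7259 (.leaf 0) (.leaf 0))) (.node 7262 (.node 7261 (.leaf 0) (.leaf 0)) (.node 7263 (.leaf 0) (.leaf 0))))))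

def regKPB227 : Bst := (.node 7280 (.node 7272 (.node 7268 (.node 7266 (.node 7265 (.leaf 0) (.leaf 0)) (.node 7267 (.leaf 0) (.leaf 0))) (.node 7270 (.node 7269 (.leaf 0) (.leaf 0)) (.node 7271 (.leaf 0) (.leaf 0)))) (.node 7276 (.node 7274 (.node 7273 (.leaf 0) (.leaf 0)) (.node 7275 (.leaf 0) (.leaf 0))) (.node 7278 (.node 7277 (.leaf 0) (.leaf 0)) (.node 7279 (.leaf 0) (.leaf 0))))) (.node 7288 (.node 7284 (.node 7282 (.node 7281 (.leaf 0) (.leaf 0)) (.node 7283 (.leaf 0) (.leaf 0))) (.node 7286 (.node 7285 (.leaf 0) (.leaf 0)) (.node 7287 (.leaf 0) (.leaf 0)))) (.node 7292 (.node 7290 (.node 7289 (.leaf 0) (.leaf 0)) (.node 7291 (.leaf 0) (.leaf 0))) (.node 7294 (.node 7293 (.leaf 0) (.leaf 0)) (.node 7295 (.leaf 0) (.leaf 0))))))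

def regKPB228 : Bst := (.node 7312 (.node 7304 (.node 7300 (.node 7298 (.node 7297 (.leaf 0) (.leaf 0)) (.node 7299 (.leaf 0) (.leaf 0))) (.node 7302 (.node 7301 (.leaf 0) (.leaf 0)) (.node 7303 (.leaf 0) (.leaf 0)))) (.node 7308 (.node 7306 (.node 7305 (.leaf 0) (.leaf 0)) (.node 7307 (.leaf 0) (.leaf 0))) (.node 7310 (.node 7309 (.leaf 0) (.leaf 0)) (.node 7311 (.leaf 0) (.leaf 0))))) (.node 7320 (.node 7316 (.node 7314 (.node 7313 (.leaf 0) (.leaf 0)) (.node 7315 (.leaf 0) (.leaf 0))) (.node 7318 (.node 7317 (.leaf 0) (.leaf 0)) (.node 7319 (.leaf 0) (.leaf 0)))) (.node 7324 (.node 7322 (.node 7321 (.leaf 0) (.leaf 0)) (.node 7323 (.leaf 0) (.leaf 0))) (.node 7326 (.node 7325 (.leaf 0) (.leaf 0)) (.node 7327 (.leaf 0) (.leaf 0))))))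

def regKPB229 : Bst := (.node 7344 (.node 7336 (.node 7332 (.node 7330 (.node 7329 (.leaf 0) (.leaf 0)) (.node 7331 (.leaf 0) (.leaf 0))) (.node 7334 (.node 7333 (.leaf 0) (.leaf 0)) (.node 7335 (.leaf 0) (.leaf 0)))) (.node 7340 (.node 7338 (.node 7337 (.leaf 0) (.leaf 0)) (.node 7339 (.leaf 0) (.leaf 0))) (.node 7342 (.node 7341 (.leaf 0) (.leaf 0)) (.node 7343 (.leaf 0) (.leaf 0))))) (.node 7352 (.node 7348 (.node 7346 (.node 7345 (.leaf 0) (.leaf 0)) (.node 7347 (.leaf 0) (.leaf 0))) (.node 7350 (.node 7349 (.leaf 0) (.leaf 0)) (.node 7351 (.leaf 0) (.leaf 0)))) (.node 7356 (.node 7354 (.node 7353 (.leaf 0) (.leaf 0)) (.node 7355 (.leaf 0) (.leaf 0))) (.node 7358 (.node 7357 (.leaf 0) (.leaf 0)) (.node 7359 (.leaf 0) (.leaf 0))))))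

def regKPB230 : Bst := (.node 7376 (.node 7368 (.node 7364 (.node 7362 (.node 7361 (.leaf 0) (.leaf 0)) (.node 7363 (.leaf 0) (.leaf 0))) (.node 7366 (.node 7365 (.leaf 0) (.leaf 0)) (.node 7367 (.leaf 0) (.leaf 0)))) (.node 7372 (.node 7370 (.node 7369 (.leaf 0) (.leaf 0)) (.node 7371 (.leaf 0) (.leaf 0))) (.node 7374 (.node 7373 (.leaf 0) (.leaf 0)) (.node 7375 (.leaf 0) (.leaf 0))))) (.node 7384 (.node 7380 (.node 7378 (.node 7377 (.leaf 0) (.leaf 0)) (.node 7379 (.leaf 0) (.leaf 0))) (.node 7382 (.node 7381 (.leaf 0) (.leaf 0)) (.node 7383 (.leaf 0) (.leaf 0)))) (.node 7388 (.node 7386 (.node 7385 (.leaf 0) (.leaf 0)) (.node 7387 (.leaf 0) (.leaf 0))) (.node 7390 (.node 7389 (.leaf 0) (.leaf 0)) (.node 7391 (.leaf 0) (.leaf 0))))))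

def regKPB231 : Bst := (.node 7408 (.node 7400 (.node 7396 (.node 7394 (.node 7393 (.leaf 0) (.leaf 0)) (.node 7395 (.leaf 0) (.leaf 0))) (.node 7398 (.node 7397 (.leaf 0) (.leaf 0)) (.node 7399 (.leaf 0) (.leaf 0)))) (.node 7404 (.node 7402 (.node 7401 (.leaf 0) (.leaf 0)) (.node 7403 (.leaf 0) (.leaf 0))) (.node 7406 (.node 7405 (.leaf 0) (.leaf 0)) (.node 7407 (.leaf 0) (.leaf 0))))) (.node 7416 (.node 7412 (.node 7410 (.node 7409 (.leaf 0) (.leaf 0)) (.node 7411 (.leaf 0) (.leaf 0))) (.node 7414 (.node 7413 (.leaf 0) (.leaf 0)) (.node 7415 (.leaf 0) (.leaf 0)))) (.node 7420 (.node 7418 (.node 7417 (.leaf 0) (.leaf 0)) (.node 7419 (.leaf 0) (.leaf 0))) (.node 7422 (.node 7421 (.leaf 0) (.leaf 0)) (.node 7423 (.leaf 0) (.leaf 0))))))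

def regKPB232 : Bst := (.node 7440 (.node 7432 (.node 7428 (.node 7426 (.node 7425 (.leaf 0) (.leaf 0)) (.node 7427 (.leaf 0) (.leaf 0))) (.node 7430 (.node 7429 (.leaf 0) (.leaf 0)) (.node 7431 (.leaf 0) (.leaf 0)))) (.node 7436 (.node 7434 (.node 7433 (.leaf 0) (.leaf 0)) (.node 7435 (.leaf 0) (.leaf 0))) (.node 7438 (.node 7437 (.leaf 0) (.leaf 0)) (.node 7439 (.leaf 0) (.leaf 0))))) (.node 7448 (.node 7444 (.node 7442 (.node 7441 (.leaf 0) (.leaf 0)) (.node 7443 (.leaf 0) (.leaf 0))) (.node 7446 (.node 7445 (.leaf 0) (.leaf 0)) (.node 7447 (.leaf 0) (.leaf 0)))) (.node 7452 (.node 7450 (.node 7449 (.leaf 0) (.leaf 0)) (.node 7451 (.leaf 0) (.leaf 0))) (.node 7454 (.node 7453 (.leaf 0) (.leaf 0)) (.node 7455 (.leaf 0) (.leaf 0))))))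

def regKPB233 : Bst := (.node 7472 (.node 7464 (.node 7460 (.node 7458 (.node 7457 (.leaf 0) (.leaf 0)) (.node 7459 (.leaf 0) (.leaf 0))) (.node 7462 (.node 7461 (.leaf 0) (.leaf 0)) (.node 7463 (.leaf 0) (.leaf 0)))) (.node 7468 (.node 7466 (.node 7465 (.leaf 0) (.leaf 0)) (.node 7467 (.leaf 0) (.leaf 0))) (.node 7470 (.node 7469 (.leaf 0) (.leaf 0)) (.node 7471 (.leaf 0) (.leaf 0))))) (.node 7480 (.node 7476 (.node 7474 (.node 7473 (.leaf 0) (.leaf 0)) (.node 7475 (.leaf 0) (.leaf 0))) (.node 7478 (.node 7477 (.leaf 0) (.leaf 0)) (.node 7479 (.leaf 0) (.leaf 0)))) (.node 7484 (.node 7482 (.node 7481 (.leaf 0) (.leaf 0)) (.node 7483 (.leaf 0) (.leaf 0))) (.node 7486 (.node 7485 (.leaf 0) (.leaf 0)) (.node 7487 (.leaf 0) (.leaf 0))))))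

def regKPB234 : Bst := (.node 7504 (.node 7496 (.node 7492 (.node 7490 (.node 7489 (.leaf 0) (.leaf 0)) (.node 7491 (.leaf 0) (.leaf 0))) (.node 7494 (.node 7493 (.leaf 0) (.leaf 0)) (.node 7495 (.leaf 0) (.leaf 0)))) (.node 7500 (.node 7498 (.node 7497 (.leaf 0) (.leaf 0)) (.node 7499 (.leaf 0) (.leaf 0))) (.node 7502 (.node 7501 (.leaf 0) (.leaf 0)) (.node 7503 (.leaf 0) (.leaf 0))))) (.node 7512 (.node 7508 (.node 7506 (.node 7505 (.leaf 0) (.leaf 0)) (.node 7507 (.leaf 0) (.leaf 0))) (.node 7510 (.node 7509 (.leaf 0) (.leaf 0)) (.node 7511 (.leaf 0) (.leaf 0)))) (.node 7516 (.node 7514 (.node 7513 (.leaf 0) (.leaf 0)) (.node 7515 (.leaf 0) (.leaf 0))) (.node 7518 (.node 7517 (.leaf 0) (.leaf 0)) (.node 7519 (.leaf 0) (.leaf 0))))))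

def regKPB235 : Bst := (.node 7536 (.node 7528 (.node 7524 (.node 7522 (.node 7521 (.leaf 0) (.leaf 0)) (.node 7523 (.leaf 0) (.leaf 0))) (.node 7526 (.node 7525 (.leaf 0) (.leaf 0)) (.node 7527 (.leaf 0) (.leaf 0)))) (.node 7532 (.node 7530 (.node 7529 (.leaf 0) (.leaf 0)) (.node 7531 (.leaf 0) (.leaf 0))) (.node 7534 (.node 7533 (.leaf 0) (.leaf 0)) (.node 7535 (.leaf 0) (.leaf 0))))) (.node 7544 (.node 7540 (.node 7538 (.node 7537 (.leaf 0) (.leaf 0)) (.node 7539 (.leaf 0) (.leaf 0))) (.node 7542 (.node 7541 (.leaf 0) (.leaf 0)) (.node 7543 (.leaf 0) (.leaf 0)))) (.node 7548 (.node 7546 (.node 7545 (.leaf 0) (.leaf 0)) (.node 7547 (.leaf 0x1c2000000000000000) (.leaf 0))) (.node 7550 (.node 7549 (.leaf 0) (.leaf 0)) (.node 7551 (.leaf 0) (.leaf 0))))))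

def regKPB236 : Bst := (.node 7568 (.node 7560 (.node 7556 (.node 7554 (.node 7553 (.leaf 0) (.leaf 0)) (.node 7555 (.leaf 0) (.leaf 0))) (.node 7558 (.node 7557 (.leaf 0) (.leaf 0)) (.node 7559 (.leaf 0) (.leaf 0x25900000)))) (.node 7564 (.node 7562 (.node 7561 (.leaf 0x276002110000000000) (.leaf 0)) (.node 7563 (.leaf 0x18f001ce0000000000) (.leaf 0x101000000000000000))) (.node 7566 (.node 7565 (.leaf 0) (.leaf 0)) (.node 7567 (.leaf 0) (.leaf 0))))) (.node 7576 (.node 7572 (.node 7570 (.node 7569 (.leaf 0) (.leaf 0)) (.node 7571 (.leaf 0) (.leaf 0))) (.node 7574 (.node 7573 (.leaf 0) (.leaf 0)) (.node 7575 (.leaf 0) (.leaf 0)))) (.node 7580 (.node 7578 (.node 7577 (.leaf 0) (.leaf 0)) (.node 7579 (.leaf 0) (.leaf 0))) (.node 7582 (.node 7581 (.leaf 0) (.leaf 0)) (.node 7583 (.leaf 0) (.leaf 0))))))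

def regKPB237 : Bst := (.node 7600 (.node 7592 (.node 7588 (.node 7586 (.node 7585 (.leaf 0) (.leaf 0)) (.node 7587 (.leaf 0) (.leaf 0))) (.node 7590 (.node 7589 (.leaf 0) (.leaf 0)) (.node 7591 (.leaf 0) (.leaf 0)))) (.node 7596 (.node 7594 (.node 7593 (.leaf 0) (.leaf 0)) (.node 7595 (.leaf 0) (.leaf 0))) (.node 7598 (.node 7597 (.leaf 0) (.leaf 0)) (.node 7599 (.leaf 0) (.leaf 0))))) (.node 7608 (.node 7604 (.node 7602 (.node 7601 (.leaf 0) (.leaf 0)) (.node 7603 (.leaf 0) (.leaf 0))) (.node 7606 (.node 7605 (.leaf 0) (.leaf 0)) (.node 7607 (.leaf 0) (.leaf 0)))) (.node 7612 (.node 7610 (.node 7609 (.leaf 0) (.leaf 0)) (.node 7611 (.leaf 0) (.leaf 0))) (.node 7614 (.node 7613 (.leaf 0) (.leaf 0)) (.node 7615 (.leaf 0) (.leaf 0))))))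

def regKPB238 : Bst := (.node 7632 (.node 7624 (.node 7620 (.node 7618 (.node 7617 (.leaf 0) (.leaf 0)) (.node 7619 (.leaf 0) (.leaf 0))) (.node 7622 (.node 7621 (.leaf 0) (.leaf 0)) (.node 7623 (.leaf 0) (.leaf 0)))) (.node 7628 (.node 7626 (.node 7625 (.leaf 0) (.leaf 0)) (.node 7627 (.leaf 0) (.leaf 0))) (.node 7630 (.node 7629 (.leaf 0) (.leaf 0)) (.node 7631 (.leaf 0) (.leaf 0))))) (.node 7640 (.node 7636 (.node 7634 (.node 7633 (.leaf 0) (.leaf 0)) (.node 7635 (.leaf 0) (.leaf 0))) (.node 7638 (.node 7637 (.leaf 0) (.leaf 0)) (.node 7639 (.leaf 0) (.leaf 0)))) (.node 7644 (.node 7642 (.node 7641 (.leaf 0) (.leaf 0)) (.node 7643 (.leaf 0) (.leaf 0))) (.node 7646 (.node 7645 (.leaf 0) (.leaf 0)) (.node 7647 (.leaf 0) (.leaf 0))))))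

def regKPB239 : Bst := (.node 7664 (.node 7656 (.node 7652 (.node 7650 (.node 7649 (.leaf 0) (.leaf 0)) (.node 7651 (.leaf 0) (.leaf 0))) (.node 7654 (.node 7653 (.leaf 0) (.leaf 0)) (.node 7655 (.leaf 0) (.leaf 0)))) (.node 7660 (.node 7658 (.node 7657 (.leaf 0) (.leaf 0)) (.node 7659 (.leaf 0) (.leaf 0))) (.node 7662 (.node 7661 (.leaf 0) (.leaf 0)) (.node 7663 (.leaf 0) (.leaf 0))))) (.node 7672 (.node 7668 (.node 7666 (.node 7665 (.leaf 0) (.leaf 0)) (.node 7667 (.leaf 0) (.leaf 0))) (.node 7670 (.node 7669 (.leaf 0) (.leaf 0)) (.node 7671 (.leaf 0) (.leaf 0)))) (.node 7676 (.node 7674 (.node 7673 (.leaf 0) (.leaf 0)) (.node 7675 (.leaf 0) (.leaf 0))) (.node 7678 (.node 7677 (.leaf 0) (.leaf 0)) (.node 7679 (.leaf 0) (.leaf 0))))))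

def regKPB240 : Bst := (.node 7696 (.node 7688 (.node 7684 (.node 7682 (.node 7681 (.leaf 0) (.leaf 0)) (.node 7683 (.leaf 0) (.leaf 0))) (.node 7686 (.node 7685 (.leaf 0) (.leaf 0)) (.node 7687 (.leaf 0) (.leaf 0)))) (.node 7692 (.node 7690 (.node 7689 (.leaf 0x2320013a0000000000) (.leaf 0x221)) (.node 7691 (.leaf 0) (.leaf 0))) (.node 7694 (.node 7693 (.leaf 0) (.leaf 0)) (.node 7695 (.leaf 0x1db0025d0022a00000) (.leaf 0))))) (.node 7704 (.node 7700 (.node 7698 (.node 7697 (.leaf 0) (.leaf 0x13b001a2)) (.node 7699 (.leaf 0) (.leaf 0))) (.node 7702 (.node 7701 (.leaf 0) (.leaf 0)) (.node 7703 (.leaf 0) (.leaf 0)))) (.node 7708 (.node 7706 (.node 7705 (.leaf 0) (.leaf 0)) (.node 7707 (.leaf 0) (.leaf 0))) (.node 7710 (.node 7709 (.leaf 0) (.leaf 0)) (.node 7711 (.leaf 0) (.leaf 0))))))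

def regKPB241 : Bst := (.node 7728 (.node 7720 (.node 7716 (.node 7714 (.node 7713 (.leaf 0) (.leaf 0)) (.node 7715 (.leaf 0) (.leaf 0))) (.node 7718 (.node 7717 (.leaf 0) (.leaf 0)) (.node 7719 (.leaf 0) (.leaf 0)))) (.node 7724 (.node 7722 (.node 7721 (.leaf 0x1c) (.leaf 0)) (.node 7723 (.leaf 0) (.leaf 0))) (.node 7726 (.node 7725 (.leaf 0) (.leaf 0)) (.node 7727 (.leaf 0) (.leaf 0))))) (.node 7736 (.node 7732 (.node 7730 (.node 7729 (.leaf 0) (.leaf 0)) (.node 7731 (.leaf 0x34) (.leaf 0))) (.node 7734 (.node 7733 (.leaf 0) (.leaf 0)) (.node 7735 (.leaf 0) (.leaf 0)))) (.node 7740 (.node 7738 (.node 7737 (.leaf 0) (.leaf 0)) (.node 7739 (.leaf 0) (.leaf 0))) (.node 7742 (.node 7741 (.leaf 0) (.leaf 0)) (.node 7743 (.leaf 0x4d0000000000) (.leaf 0))))))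

def regKPB242 : Bst := (.node 7760 (.node 7752 (.node 7748 (.node 7746 (.node 7745 (.leaf 0) (.leaf 0)) (.node 7747 (.leaf 0) (.leaf 0))) (.node 7750 (.node 7749 (.leaf 0) (.leaf 0)) (.node 7751 (.leaf 0) (.leaf 0)))) (.node 7756 (.node 7754 (.node 7753 (.leaf 0) (.leaf 0)) (.node 7755 (.leaf 0) (.leaf 0))) (.node 7758 (.node 7757 (.leaf 0) (.leaf 0)) (.node 7759 (.leaf 0) (.leaf 0))))) (.node 7768 (.node 7764 (.node 7762 (.node 7761 (.leaf 0) (.leaf 0)) (.node 7763 (.leaf 0) (.leaf 0))) (.node 7766 (.node 7765 (.leaf 0) (.leaf 0)) (.node 7767 (.leaf 0) (.leaf 0)))) (.node 7772 (.node 7770 (.node 7769 (.leaf 0) (.leaf 0)) (.node 7771 (.leaf 0) (.leaf 0))) (.node 7774 (.node 7773 (.leaf 0) (.leaf 0)) (.node 7775 (.leaf 0x1d30000000000) (.leaf 0))))))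

def regKPB243 : Bst := (.node 7792 (.node 7784 (.node 7780 (.node 7778 (.node 7777 (.leaf 0) (.leaf 0)) (.node 7779 (.leaf 0) (.leaf 0))) (.node 7782 (.node 7781 (.leaf 0) (.leaf 0)) (.node 7783 (.leaf 0) (.leaf 0)))) (.node 7788 (.node 7786 (.node 7785 (.leaf 0) (.leaf 0)) (.node 7787 (.leaf 0) (.leaf 0))) (.node 7790 (.node 7789 (.leaf 0) (.leaf 0)) (.node 7791 (.leaf 0) (.leaf 0))))) (.node 7800 (.node 7796 (.node 7794 (.node 7793 (.leaf 0) (.leaf 0)) (.node 7795 (.leaf 0) (.leaf 0))) (.node 7798 (.node 7797 (.leaf 0) (.leaf 0)) (.node 7799 (.leaf 0) (.leaf 0)))) (.node 7804 (.node 7802 (.node 7801 (.leaf 0) (.leaf 0)) (.node 7803 (.leaf 0) (.leaf 0))) (.node 7806 (.node 7805 (.leaf 0) (.leaf 0)) (.node 7807 (.leaf 0) (.leaf 0))))))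

def regKPB244 : Bst := (.node 7824 (.node 7816 (.node 7812 (.node 7810 (.node 7809 (.leaf 0) (.leaf 0)) (.node 7811 (.leaf 0) (.leaf 0))) (.node 7814 (.node 7813 (.leaf 0) (.leaf 0)) (.node 7815 (.leaf 0) (.leaf 0)))) (.node 7820 (.node 7818 (.node 7817 (.leaf 0) (.leaf 0)) (.node 7819 (.leaf 0) (.leaf 0))) (.node 7822 (.node 7821 (.leaf 0x16f000000000000000) (.leaf 0xb0)) (.node 7823 (.leaf 0) (.leaf 0))))) (.node 7832 (.node 7828 (.node 7826 (.node 7825 (.leaf 0) (.leaf 0)) (.node 7827 (.leaf 0) (.leaf 0))) (.node 7830 (.node 7829 (.leaf 0) (.leaf 0x288002770000000000)) (.node 7831 (.leaf 0x271) (.leaf 0)))) (.node 7836 (.node 7834 (.node 7833 (.leaf 0) (.leaf 0)) (.node 7835 (.leaf 0) (.leaf 0))) (.node 7838 (.node 7837 (.leaf 0) (.leaf 0)) (.node 7839 (.leaf 0x18a000000000000000) (.leaf 0))))))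

def regKPB245 : Bst := (.node 7856 (.node 7848 (.node 7844 (.node 7842 (.node 7841 (.leaf 0) (.leaf 0)) (.node 7843 (.leaf 0) (.leaf 0))) (.node 7846 (.node 7845 (.leaf 0) (.leaf 0)) (.node 7847 (.leaf 0) (.leaf 0)))) (.node 7852 (.node 7850 (.node 7849 (.leaf 0) (.leaf 0)) (.node 7851 (.leaf 0) (.leaf 0))) (.node 7854 (.node 7853 (.leaf 0) (.leaf 0)) (.node 7855 (.leaf 0) (.leaf 0x1a70025300000))))) (.node 7864 (.node 7860 (.node 7858 (.node 7857 (.leaf 0) (.leaf 0)) (.node 7859 (.leaf 0) (.leaf 0))) (.node 7862 (.node 7861 (.leaf 0) (.leaf 0)) (.node 7863 (.leaf 0) (.leaf 0)))) (.node 7868 (.node 7866 (.node 7865 (.leaf 0) (.leaf 0)) (.node 7867 (.leaf 0) (.leaf 0))) (.node 7870 (.node 7869 (.leaf 0) (.leaf 0)) (.node 7871 (.leaf 0) (.leaf 0))))))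

def regKPB246 : Bst := (.node 7888 (.node 7880 (.node 7876 (.node 7874 (.node 7873 (.leaf 0) (.leaf 0)) (.node 7875 (.leaf 0) (.leaf 0))) (.node 7878 (.node 7877 (.leaf 0) (.leaf 0)) (.node 7879 (.leaf 0) (.leaf 0)))) (.node 7884 (.node 7882 (.node 7881 (.leaf 0) (.leaf 0)) (.node 7883 (.leaf 0) (.leaf 0))) (.node 7886 (.node 7885 (.leaf 0) (.leaf 0)) (.node 7887 (.leaf 0) (.leaf 0))))) (.node 7896 (.node 7892 (.node 7890 (.node 7889 (.leaf 0) (.leaf 0)) (.node 7891 (.leaf 0) (.leaf 0))) (.node 7894 (.node 7893 (.leaf 0) (.leaf 0)) (.node 7895 (.leaf 0) (.leaf 0)))) (.node 7900 (.node 7898 (.node 7897 (.leaf 0) (.leaf 0)) (.node 7899 (.leaf 0) (.leaf 0))) (.node 7902 (.node 7901 (.leaf 0) (.leaf 0)) (.node 7903 (.leaf 0) (.leaf 0))))))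

def regKPB247 : Bst := (.node 7920 (.node 7912 (.node 7908 (.node 7906 (.node 7905 (.leaf 0) (.leaf 0)) (.node 7907 (.leaf 0) (.leaf 0))) (.node 7910 (.node 7909 (.leaf 0) (.leaf 0)) (.node 7911 (.leaf 0) (.leaf 0)))) (.node 7916 (.node 7914 (.node 7913 (.leaf 0) (.leaf 0)) (.node 7915 (.leaf 0) (.leaf 0))) (.node 7918 (.node 7917 (.leaf 0) (.leaf 0)) (.node 7919 (.leaf 0) (.leaf 0))))) (.node 7928 (.node 7924 (.node 7922 (.node 7921 (.leaf 0) (.leaf 0)) (.node 7923 (.leaf 0x168001de0000000000) (.leaf 0xad))) (.node 7926 (.node 7925 (.leaf 0) (.leaf 0)) (.node 7927 (.leaf 0) (.leaf 0)))) (.node 7932 (.node 7930 (.node 7929 (.leaf 0) (.leaf 0)) (.node 7931 (.leaf 0) (.leaf 0))) (.node 7934 (.node 7933 (.leaf 0) (.leaf 0)) (.node 7935 (.leaf 0) (.leaf 0))))))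

def regKPB248 : Bst := (.node 7952 (.node 7944 (.node 7940 (.node 7938 (.node 7937 (.leaf 0) (.leaf 0)) (.node 7939 (.leaf 0) (.leaf 0))) (.node 7942 (.node 7941 (.leaf 0) (.leaf 0)) (.node 7943 (.leaf 0) (.leaf 0)))) (.node 7948 (.node 7946 (.node 7945 (.leaf 0) (.leaf 0)) (.node 7947 (.leaf 0) (.leaf 0))) (.node 7950 (.node 7949 (.leaf 0) (.leaf 0)) (.node 7951 (.leaf 0) (.leaf 0))))) (.node 7960 (.node 7956 (.node 7954 (.node 7953 (.leaf 0) (.leaf 0)) (.node 7955 (.leaf 0) (.leaf 0))) (.node 7958 (.node 7957 (.leaf 0) (.leaf 0)) (.node 7959 (.leaf 0) (.leaf 0)))) (.node 7964 (.node 7962 (.node 7961 (.leaf 0) (.leaf 0)) (.node 7963 (.leaf 0) (.leaf 0))) (.node 7966 (.node 7965 (.leaf 0) (.leaf 0)) (.node 7967 (.leaf 0) (.leaf 0))))))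

def regKPB249 : Bst := (.node 7984 (.node 7976 (.node 7972 (.node 7970 (.node 7969 (.leaf 0) (.leaf 0)) (.node 7971 (.leaf 0) (.leaf 0))) (.node 7974 (.node 7973 (.leaf 0) (.leaf 0)) (.node 7975 (.leaf 0) (.leaf 0)))) (.node 7980 (.node 7978 (.node 7977 (.leaf 0) (.leaf 0)) (.node 7979 (.leaf 0) (.leaf 0))) (.node 7982 (.node 7981 (.leaf 0) (.leaf 0)) (.node 7983 (.leaf 0) (.leaf 0))))) (.node 7992 (.node 7988 (.node 7986 (.node 7985 (.leaf 0) (.leaf 0)) (.node 7987 (.leaf 0) (.leaf 0))) (.node 7990 (.node 7989 (.leaf 0) (.leaf 0)) (.node 7991 (.leaf 0) (.leaf 0)))) (.node 7996 (.node 7994 (.node 7993 (.leaf 0) (.leaf 0)) (.node 7995 (.leaf 0) (.leaf 0))) (.node 7998 (.node 7997 (.leaf 0) (.leaf 0)) (.node 7999 (.leaf 0) (.leaf 0))))))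

def regKPB250 : Bst := (.node 8016 (.node 8008 (.node 8004 (.node 8002 (.node 8001 (.leaf 0) (.leaf 0)) (.node 8003 (.leaf 0) (.leaf 0))) (.node 8006 (.node 8005 (.leaf 0) (.leaf 0)) (.node 8007 (.leaf 0) (.leaf 0)))) (.node 8012 (.node 8010 (.node 8009 (.leaf 0) (.leaf 0)) (.node 8011 (.leaf 0) (.leaf 0))) (.node 8014 (.node 8013 (.leaf 0) (.leaf 0)) (.node 8015 (.leaf 0) (.leaf 0))))) (.node 8024 (.node 8020 (.node 8018 (.node 8017 (.leaf 0) (.leaf 0)) (.node 8019 (.leaf 0) (.leaf 0))) (.node 8022 (.node 8021 (.leaf 0x1710000000000) (.leaf 0)) (.node 8023 (.leaf 0) (.leaf 0xce001980000000000)))) (.node 8028 (.node 8026 (.node 8025 (.leaf 0x20b) (.leaf 0)) (.node 8027 (.leaf 0) (.leaf 0))) (.node 8030 (.node 8029 (.leaf 0) (.leaf 0)) (.node 8031 (.leaf 0) (.leaf 0))))))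

def regKPB251 : Bst := (.node 8048 (.node 8040 (.node 8036 (.node 8034 (.node 8033 (.leaf 0) (.leaf 0)) (.node 8035 (.leaf 0) (.leaf 0))) (.node 8038 (.node 8037 (.leaf 0) (.leaf 0)) (.node 8039 (.leaf 0) (.leaf 0)))) (.node 8044 (.node 8042 (.node 8041 (.leaf 0) (.leaf 0)) (.node 8043 (.leaf 0) (.leaf 0))) (.node 8046 (.node 8045 (.leaf 0) (.leaf 0)) (.node 8047 (.leaf 0) (.leaf 0))))) (.node 8056 (.node 8052 (.node 8050 (.node 8049 (.leaf 0) (.leaf 0)) (.node 8051 (.leaf 0) (.leaf 0))) (.node 8054 (.node 8053 (.leaf 0) (.leaf 0)) (.node 8055 (.leaf 0) (.leaf 0)))) (.node 8060 (.node 8058 (.node 8057 (.leaf 0) (.leaf 0)) (.node 8059 (.leaf 0) (.leaf 0))) (.node 8062 (.node 8061 (.leaf 0) (.leaf 0)) (.node 8063 (.leaf 0) (.leaf 0))))))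

def regKPB252 : Bst := (.node 8080 (.node 8072 (.node 8068 (.node 8066 (.node 8065 (.leaf 0) (.leaf 0)) (.node 8067 (.leaf 0) (.leaf 0))) (.node 8070 (.node 8069 (.leaf 0) (.leaf 0)) (.node 8071 (.leaf 0x127000000000000000) (.leaf 0x2840022400084)))) (.node 8076 (.node 8074 (.node 8073 (.leaf 0xa00000000000) (.leaf 0)) (.node 8075 (.leaf 0) (.leaf 0))) (.node 8078 (.node 8077 (.leaf 0x12d001310020900290) (.leaf 0)) (.node 8079 (.leaf 0) (.leaf 0))))) (.node 8088 (.node 8084 (.node 8082 (.node 8081 (.leaf 0) (.leaf 0)) (.node 8083 (.leaf 0) (.leaf 0))) (.node 8086 (.node 8085 (.leaf 0) (.leaf 0)) (.node 8087 (.leaf 0) (.leaf 0)))) (.node 8092 (.node 8090 (.node 8089 (.leaf 0) (.leaf 0)) (.node 8091 (.leaf 0) (.leaf 0))) (.node 8094 (.node 8093 (.leaf 0) (.leaf 0)) (.node 8095 (.leaf 0) (.leaf 0))))))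

def regKPB253 : Bst := (.node 8112 (.node 8104 (.node 8100 (.node 8098 (.node 8097 (.leaf 0) (.leaf 0)) (.node 8099 (.leaf 0) (.leaf 0))) (.node 8102 (.node 8101 (.leaf 0) (.leaf 0)) (.node 8103 (.leaf 0) (.leaf 0)))) (.node 8108 (.node 8106 (.node 8105 (.leaf 0) (.leaf 0)) (.node 8107 (.leaf 0) (.leaf 0))) (.node 8110 (.node 8109 (.leaf 0) (.leaf 0)) (.node 8111 (.leaf 0) (.leaf 0))))) (.node 8120 (.node 8116 (.node 8114 (.node 8113 (.leaf 0) (.leaf 0)) (.node 8115 (.leaf 0x1570000000000) (.leaf 0))) (.node 8118 (.node 8117 (.leaf 0) (.leaf 0)) (.node 8119 (.leaf 0) (.leaf 0)))) (.node 8124 (.node 8122 (.node 8121 (.leaf 0) (.leaf 0)) (.node 8123 (.leaf 0) (.leaf 0))) (.node 8126 (.node 8125 (.leaf 0) (.leaf 0)) (.node 8127 (.leaf 0) (.leaf 0))))))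

def regKPB254 : Bst := (.node 8144 (.node 8136 (.node 8132 (.node 8130 (.node 8129 (.leaf 0) (.leaf 0)) (.node 8131 (.leaf 0) (.leaf 0))) (.node 8134 (.node 8133 (.leaf 0) (.leaf 0)) (.node 8135 (.leaf 0) (.leaf 0)))) (.node 8140 (.node 8138 (.node 8137 (.leaf 0) (.leaf 0)) (.node 8139 (.leaf 0) (.leaf 0))) (.node 8142 (.node 8141 (.leaf 0) (.leaf 0)) (.node 8143 (.leaf 0) (.leaf 0))))) (.node 8152 (.node 8148 (.node 8146 (.node 8145 (.leaf 0) (.leaf 0)) (.node 8147 (.leaf 0) (.leaf 0))) (.node 8150 (.node 8149 (.leaf 0) (.leaf 0)) (.node 8151 (.leaf 0) (.leaf 0)))) (.node 8156 (.node 8154 (.node 8153 (.leaf 0) (.leaf 0)) (.node 8155 (.leaf 0) (.leaf 0))) (.node 8158 (.node 8157 (.leaf 0) (.leaf 0)) (.node 8159 (.leaf 0) (.leaf 0))))))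

def regKPB255 : Bst := (.node 8176 (.node 8168 (.node 8164 (.node 8162 (.node 8161 (.leaf 0) (.leaf 0)) (.node 8163 (.leaf 0) (.leaf 0))) (.node 8166 (.node 8165 (.leaf 0) (.leaf 0)) (.node 8167 (.leaf 0) (.leaf 0)))) (.node 8172 (.node 8170 (.node 8169 (.leaf 0) (.leaf 0)) (.node 8171 (.leaf 0) (.leaf 0))) (.node 8174 (.node 8173 (.leaf 0) (.leaf 0)) (.node 8175 (.leaf 0) (.leaf 0))))) (.node 8184 (.node 8180 (.node 8178 (.node 8177 (.leaf 0) (.leaf 0)) (.node 8179 (.leaf 0) (.leaf 0))) (.node 8182 (.node 8181 (.leaf 0) (.leaf 0)) (.node 8183 (.leaf 0) (.leaf 0)))) (.node 8188 (.node 8186 (.node 8185 (.leaf 0) (.leaf 0)) (.node 8187 (.leaf 0) (.leaf 0))) (.node 8190 (.node 8189 (.leaf 0) (.leaf 0)) (.node 8191 (.leaf 0) (.leaf 0))))))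

def regKPB256 : Bst := (.node 8208 (.node 8200 (.node 8196 (.node 8194 (.node 8193 (.leaf 0) (.leaf 0)) (.node 8195 (.leaf 0) (.leaf 0))) (.node 8198 (.node 8197 (.leaf 0) (.leaf 0)) (.node 8199 (.leaf 0) (.leaf 0)))) (.node 8204 (.node 8202 (.node 8201 (.leaf 0) (.leaf 0)) (.node 8203 (.leaf 0) (.leaf 0))) (.node 8206 (.node 8205 (.leaf 0) (.leaf 0)) (.node 8207 (.leaf 0) (.leaf 0))))) (.node 8216 (.node 8212 (.node 8210 (.node 8209 (.leaf 0) (.leaf 0)) (.node 8211 (.leaf 0) (.leaf 0xe200107))) (.node 8214 (.node 8213 (.leaf 0) (.leaf 0)) (.node 8215 (.leaf 0) (.leaf 0)))) (.node 8220 (.node 8218 (.node 8217 (.leaf 0) (.leaf 0)) (.node 8219 (.leaf 0) (.leaf 0))) (.node 8222 (.node 8221 (.leaf 0) (.leaf 0)) (.node 8223 (.leaf 0) (.leaf 0))))))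

def regKPB257 : Bst := (.node 8240 (.node 8232 (.node 8228 (.node 8226 (.node 8225 (.leaf 0) (.leaf 0)) (.node 8227 (.leaf 0) (.leaf 0))) (.node 8230 (.node 8229 (.leaf 0) (.leaf 0)) (.node 8231 (.leaf 0) (.leaf 0)))) (.node 8236 (.node 8234 (.node 8233 (.leaf 0) (.leaf 0)) (.node 8235 (.leaf 0) (.leaf 0))) (.node 8238 (.node 8237 (.leaf 0) (.leaf 0)) (.node 8239 (.leaf 0) (.leaf 0))))) (.node 8248 (.node 8244 (.node 8242 (.node 8241 (.leaf 0) (.leaf 0)) (.node 8243 (.leaf 0) (.leaf 0))) (.node 8246 (.node 8245 (.leaf 0) (.leaf 0)) (.node 8247 (.leaf 0) (.leaf 0)))) (.node 8252 (.node 8250 (.node 8249 (.leaf 0) (.leaf 0)) (.node 8251 (.leaf 0) (.leaf 0))) (.node 8254 (.node 8253 (.leaf 0) (.leaf 0)) (.node 8255 (.leaf 0) (.leaf 0))))))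

def regKPB258 : Bst := (.node 8272 (.node 8264 (.node 8260 (.node 8258 (.node 8257 (.leaf 0) (.leaf 0)) (.node 8259 (.leaf 0) (.leaf 0))) (.node 8262 (.node 8261 (.leaf 0) (.leaf 0)) (.node 8263 (.leaf 0) (.leaf 0)))) (.node 8268 (.node 8266 (.node 8265 (.leaf 0) (.leaf 0)) (.node 8267 (.leaf 0) (.leaf 0))) (.node 8270 (.node 8269 (.leaf 0) (.leaf 0)) (.node 8271 (.leaf 0) (.leaf 0))))) (.node 8280 (.node 8276 (.node 8274 (.node 8273 (.leaf 0) (.leaf 0)) (.node 8275 (.leaf 0) (.leaf 0))) (.node 8278 (.node 8277 (.leaf 0) (.leaf 0)) (.node 8279 (.leaf 0) (.leaf 0)))) (.node 8284 (.node 8282 (.node 8281 (.leaf 0) (.leaf 0)) (.node 8283 (.leaf 0) (.leaf 0))) (.node 8286 (.node 8285 (.leaf 0) (.leaf 0)) (.node 8287 (.leaf 0) (.leaf 0))))))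

def regKPB259 : Bst := (.node 8304 (.node 8296 (.node 8292 (.node 8290 (.node 8289 (.leaf 0) (.leaf 0)) (.node 8291 (.leaf 0) (.leaf 0))) (.node 8294 (.node 8293 (.leaf 0) (.leaf 0)) (.node 8295 (.leaf 0) (.leaf 0)))) (.node 8300 (.node 8298 (.node 8297 (.leaf 0) (.leaf 0)) (.node 8299 (.leaf 0) (.leaf 0))) (.node 8302 (.node 8301 (.leaf 0) (.leaf 0)) (.node 8303 (.leaf 0) (.leaf 0))))) (.node 8312 (.node 8308 (.node 8306 (.node 8305 (.leaf 0) (.leaf 0)) (.node 8307 (.leaf 0) (.leaf 0))) (.node 8310 (.node 8309 (.leaf 0) (.leaf 0)) (.node 8311 (.leaf 0) (.leaf 0)))) (.node 8316 (.node 8314 (.node 8313 (.leaf 0) (.leaf 0)) (.node 8315 (.leaf 0) (.leaf 0))) (.node 8318 (.node 8317 (.leaf 0) (.leaf 0)) (.node 8319 (.leaf 0) (.leaf 0))))))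

def regKPB260 : Bst := (.node 8336 (.node 8328 (.node 8324 (.node 8322 (.node 8321 (.leaf 0) (.leaf 0)) (.node 8323 (.leaf 0) (.leaf 0))) (.node 8326 (.node 8325 (.leaf 0) (.leaf 0)) (.node 8327 (.leaf 0) (.leaf 0)))) (.node 8332 (.node 8330 (.node 8329 (.leaf 0) (.leaf 0)) (.node 8331 (.leaf 0) (.leaf 0))) (.node 8334 (.node 8333 (.leaf 0) (.leaf 0)) (.node 8335 (.leaf 0) (.leaf 0))))) (.node 8344 (.node 8340 (.node 8338 (.node 8337 (.leaf 0) (.leaf 0)) (.node 8339 (.leaf 0) (.leaf 0))) (.node 8342 (.node 8341 (.leaf 0) (.leaf 0)) (.node 8343 (.leaf 0) (.leaf 0)))) (.node 8348 (.node 8346 (.node 8345 (.leaf 0) (.leaf 0)) (.node 8347 (.leaf 0) (.leaf 0))) (.node 8350 (.node 8349 (.leaf 0) (.leaf 0)) (.node 8351 (.leaf 0) (.leaf 0))))))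

def regKPB261 : Bst := (.node 8368 (.node 8360 (.node 8356 (.node 8354 (.node 8353 (.leaf 0) (.leaf 0)) (.node 8355 (.leaf 0) (.leaf 0))) (.node 8358 (.node 8357 (.leaf 0) (.leaf 0)) (.node 8359 (.leaf 0) (.leaf 0)))) (.node 8364 (.node 8362 (.node 8361 (.leaf 0) (.leaf 0)) (.node 8363 (.leaf 0) (.leaf 0))) (.node 8366 (.node 8365 (.leaf 0) (.leaf 0)) (.node 8367 (.leaf 0) (.leaf 0))))) (.node 8376 (.node 8372 (.node 8370 (.node 8369 (.leaf 0) (.leaf 0)) (.node 8371 (.leaf 0) (.leaf 0))) (.node 8374 (.node 8373 (.leaf 0) (.leaf 0)) (.node 8375 (.leaf 0) (.leaf 0)))) (.node 8380 (.node 8378 (.node 8377 (.leaf 0) (.leaf 0)) (.node 8379 (.leaf 0) (.leaf 0))) (.node 8382 (.node 8381 (.leaf 0xdf000000000000000) (.leaf 0x19b00059)) (.node 8383 (.leaf 0) (.leaf 0))))))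

def regKPB262 : Bst := (.node 8400 (.node 8392 (.node 8388 (.node 8386 (.node 8385 (.leaf 0) (.leaf 0)) (.node 8387 (.leaf 0) (.leaf 0))) (.node 8390 (.node 8389 (.leaf 0) (.leaf 0)) (.node 8391 (.leaf 0) (.leaf 0)))) (.node 8396 (.node 8394 (.node 8393 (.leaf 0) (.leaf 0)) (.node 8395 (.leaf 0) (.leaf 0x11d0008d0000000000))) (.node 8398 (.node 8397 (.leaf 0x163) (.leaf 0)) (.node 8399 (.leaf 0) (.leaf 0))))) (.node 8408 (.node 8404 (.node 8402 (.node 8401 (.leaf 0) (.leaf 0)) (.node 8403 (.leaf 0) (.leaf 0))) (.node 8406 (.node 8405 (.leaf 0) (.leaf 0x1bd000000000000000)) (.node 8407 (.leaf 0xf40011c000850012b) (.leaf 0x1a6)))) (.node 8412 (.node 8410 (.node 8409 (.leaf 0) (.leaf 0)) (.node 8411 (.leaf 0) (.leaf 0))) (.node 8414 (.node 8413 (.leaf 0) (.leaf 0)) (.node 8415 (.leaf 0) (.leaf 0))))))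

def regKPB263 : Bst := (.node 8432 (.node 8424 (.node 8420 (.node 8418 (.node 8417 (.leaf 0) (.leaf 0x1d8000cc0014000165)) (.node 8419 (.leaf 0) (.leaf 0))) (.node 8422 (.node 8421 (.leaf 0) (.leaf 0)) (.node 8423 (.leaf 0) (.leaf 0)))) (.node 8428 (.node 8426 (.node 8425 (.leaf 0) (.leaf 0)) (.node 8427 (.leaf 0) (.leaf 0))) (.node 8430 (.node 8429 (.leaf 0) (.leaf 0)) (.node 8431 (.leaf 0) (.leaf 0))))) (.node 8440 (.node 8436 (.node 8434 (.node 8433 (.leaf 0) (.leaf 0)) (.node 8435 (.leaf 0) (.leaf 0))) (.node 8438 (.node 8437 (.leaf 0) (.leaf 0)) (.node 8439 (.leaf 0) (.leaf 0)))) (.node 8444 (.node 8442 (.node 8441 (.leaf 0) (.leaf 0)) (.node 8443 (.leaf 0) (.leaf 0))) (.node 8446 (.node 8445 (.leaf 0) (.leaf 0)) (.node 8447 (.leaf 0) (.leaf 0))))))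

def regKPB264 : Bst := (.node 8464 (.node 8456 (.node 8452 (.node 8450 (.node 8449 (.leaf 0) (.leaf 0)) (.node 8451 (.leaf 0) (.leaf 0))) (.node 8454 (.node 8453 (.leaf 0) (.leaf 0)) (.node 8455 (.leaf 0) (.leaf 0)))) (.node 8460 (.node 8458 (.node 8457 (.leaf 0) (.leaf 0)) (.node 8459 (.leaf 0) (.leaf 0))) (.node 8462 (.node 8461 (.leaf 0) (.leaf 0)) (.node 8463 (.leaf 0) (.leaf 0))))) (.node 8472 (.node 8468 (.node 8466 (.node 8465 (.leaf 0) (.leaf 0)) (.node 8467 (.leaf 0) (.leaf 0))) (.node 8470 (.node 8469 (.leaf 0) (.leaf 0)) (.node 8471 (.leaf 0) (.leaf 0)))) (.node 8476 (.node 8474 (.node 8473 (.leaf 0) (.leaf 0)) (.node 8475 (.leaf 0) (.leaf 0))) (.node 8478 (.node 8477 (.leaf 0) (.leaf 0)) (.node 8479 (.leaf 0) (.leaf 0))))))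

def regKPB265 : Bst := (.node 8496 (.node 8488 (.node 8484 (.node 8482 (.node 8481 (.leaf 0) (.leaf 0)) (.node 8483 (.leaf 0) (.leaf 0))) (.node 8486 (.node 8485 (.leaf 0) (.leaf 0)) (.node 8487 (.leaf 0) (.leaf 0)))) (.node 8492 (.node 8490 (.node 8489 (.leaf 0) (.leaf 0)) (.node 8491 (.leaf 0) (.leaf 0))) (.node 8494 (.node 8493 (.leaf 0) (.leaf 0)) (.node 8495 (.leaf 0) (.leaf 0))))) (.node 8504 (.node 8500 (.node 8498 (.node 8497 (.leaf 0) (.leaf 0)) (.node 8499 (.leaf 0) (.leaf 0))) (.node 8502 (.node 8501 (.leaf 0) (.leaf 0)) (.node 8503 (.leaf 0) (.leaf 0)))) (.node 8508 (.node 8506 (.node 8505 (.leaf 0) (.leaf 0)) (.node 8507 (.leaf 0) (.leaf 0))) (.node 8510 (.node 8509 (.leaf 0) (.leaf 0)) (.node 8511 (.leaf 0) (.leaf 0))))))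

def regKPB266 : Bst := (.node 8528 (.node 8520 (.node 8516 (.node 8514 (.node 8513 (.leaf 0) (.leaf 0)) (.node 8515 (.leaf 0) (.leaf 0))) (.node 8518 (.node 8517 (.leaf 0) (.leaf 0)) (.node 8519 (.leaf 0) (.leaf 0)))) (.node 8524 (.node 8522 (.node 8521 (.leaf 0) (.leaf 0)) (.node 8523 (.leaf 0) (.leaf 0))) (.node 8526 (.node 8525 (.leaf 0) (.leaf 0)) (.node 8527 (.leaf 0) (.leaf 0))))) (.node 8536 (.node 8532 (.node 8530 (.node 8529 (.leaf 0) (.leaf 0)) (.node 8531 (.leaf 0) (.leaf 0))) (.node 8534 (.node 8533 (.leaf 0) (.leaf 0)) (.node 8535 (.leaf 0) (.leaf 0)))) (.node 8540 (.node 8538 (.node 8537 (.leaf 0) (.leaf 0)) (.node 8539 (.leaf 0) (.leaf 0))) (.node 8542 (.node 8541 (.leaf 0) (.leaf 0)) (.node 8543 (.leaf 0) (.leaf 0))))))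

def regKPB267 : Bst := (.node 8560 (.node 8552 (.node 8548 (.node 8546 (.node 8545 (.leaf 0) (.leaf 0)) (.node 8547 (.leaf 0) (.leaf 0))) (.node 8550 (.node 8549 (.leaf 0) (.leaf 0)) (.node 8551 (.leaf 0) (.leaf 0)))) (.node 8556 (.node 8554 (.node 8553 (.leaf 0) (.leaf 0)) (.node 8555 (.leaf 0) (.leaf 0))) (.node 8558 (.node 8557 (.leaf 0) (.leaf 0)) (.node 8559 (.leaf 0) (.leaf 0))))) (.node 8568 (.node 8564 (.node 8562 (.node 8561 (.leaf 0) (.leaf 0)) (.node 8563 (.leaf 0) (.leaf 0))) (.node 8566 (.node 8565 (.leaf 0xda00182000a300161) (.leaf 0x82)) (.node 8567 (.leaf 0x12e000000000000000) (.leaf 0)))) (.node 8572 (.node 8570 (.node 8569 (.leaf 0) (.leaf 0)) (.node 8571 (.leaf 0) (.leaf 0))) (.node 8574 (.node 8573 (.leaf 0) (.leaf 0)) (.node 8575 (.leaf 0) (.leaf 0))))))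

def regKPB268 : Bst := (.node 8592 (.node 8584 (.node 8580 (.node 8578 (.node 8577 (.leaf 0) (.leaf 0)) (.node 8579 (.leaf 0) (.leaf 0))) (.node 8582 (.node 8581 (.leaf 0) (.leaf 0)) (.node 8583 (.leaf 0) (.leaf 0)))) (.node 8588 (.node 8586 (.node 8585 (.leaf 0) (.leaf 0)) (.node 8587 (.leaf 0) (.leaf 0))) (.node 8590 (.node 8589 (.leaf 0) (.leaf 0)) (.node 8591 (.leaf 0) (.leaf 0))))) (.node 8600 (.node 8596 (.node 8594 (.node 8593 (.leaf 0) (.leaf 0)) (.node 8595 (.leaf 0) (.leaf 0))) (.node 8598 (.node 8597 (.leaf 0) (.leaf 0)) (.node 8599 (.leaf 0) (.leaf 0)))) (.node 8604 (.node 8602 (.node 8601 (.leaf 0) (.leaf 0)) (.node 8603 (.leaf 0) (.leaf 0))) (.node 8606 (.node 8605 (.leaf 0) (.leaf 0)) (.node 8607 (.leaf 0) (.leaf 0))))))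

def regKPB269 : Bst := (.node 8624 (.node 8616 (.node 8612 (.node 8610 (.node 8609 (.leaf 0) (.leaf 0)) (.node 8611 (.leaf 0) (.leaf 0))) (.node 8614 (.node 8613 (.leaf 0) (.leaf 0)) (.node 8615 (.leaf 0) (.leaf 0)))) (.node 8620 (.node 8618 (.node 8617 (.leaf 0) (.leaf 0)) (.node 8619 (.leaf 0) (.leaf 0))) (.node 8622 (.node 8621 (.leaf 0) (.leaf 0)) (.node 8623 (.leaf 0) (.leaf 0))))) (.node 8632 (.node 8628 (.node 8626 (.node 8625 (.leaf 0) (.leaf 0)) (.node 8627 (.leaf 0) (.leaf 0))) (.node 8630 (.node 8629 (.leaf 0) (.leaf 0)) (.node 8631 (.leaf 0) (.leaf 0)))) (.node 8636 (.node 8634 (.node 8633 (.leaf 0) (.leaf 0)) (.node 8635 (.leaf 0) (.leaf 0))) (.node 8638 (.node 8637 (.leaf 0) (.leaf 0)) (.node 8639 (.leaf 0) (.leaf 0))))))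

def regKPB270 : Bst := (.node 8656 (.node 8648 (.node 8644 (.node 8642 (.node 8641 (.leaf 0) (.leaf 0)) (.node 8643 (.leaf 0) (.leaf 0))) (.node 8646 (.node 8645 (.leaf 0) (.leaf 0)) (.node 8647 (.leaf 0) (.leaf 0)))) (.node 8652 (.node 8650 (.node 8649 (.leaf 0) (.leaf 0)) (.node 8651 (.leaf 0) (.leaf 0))) (.node 8654 (.node 8653 (.leaf 0) (.leaf 0)) (.node 8655 (.leaf 0) (.leaf 0))))) (.node 8664 (.node 8660 (.node 8658 (.node 8657 (.leaf 0) (.leaf 0)) (.node 8659 (.leaf 0) (.leaf 0))) (.node 8662 (.node 8661 (.leaf 0) (.leaf 0)) (.node 8663 (.leaf 0) (.leaf 0)))) (.node 8668 (.node 8666 (.node 8665 (.leaf 0) (.leaf 0)) (.node 8667 (.leaf 0) (.leaf 0))) (.node 8670 (.node 8669 (.leaf 0) (.leaf 0)) (.node 8671 (.leaf 0) (.leaf 0))))))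

def regKPB271 : Bst := (.node 8688 (.node 8680 (.node 8676 (.node 8674 (.node 8673 (.leaf 0) (.leaf 0)) (.node 8675 (.leaf 0) (.leaf 0))) (.node 8678 (.node 8677 (.leaf 0) (.leaf 0)) (.node 8679 (.leaf 0) (.leaf 0)))) (.node 8684 (.node 8682 (.node 8681 (.leaf 0) (.leaf 0)) (.node 8683 (.leaf 0) (.leaf 0))) (.node 8686 (.node 8685 (.leaf 0) (.leaf 0)) (.node 8687 (.leaf 0) (.leaf 0))))) (.node 8696 (.node 8692 (.node 8690 (.node 8689 (.leaf 0) (.leaf 0)) (.node 8691 (.leaf 0) (.leaf 0))) (.node 8694 (.node 8693 (.leaf 0) (.leaf 0)) (.node 8695 (.leaf 0) (.leaf 0)))) (.node 8700 (.node 8698 (.node 8697 (.leaf 0) (.leaf 0)) (.node 8699 (.leaf 0) (.leaf 0))) (.node 8702 (.node 8701 (.leaf 0) (.leaf 0)) (.node 8703 (.leaf 0) (.leaf 0))))))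

def regKPB272 : Bst := (.node 8720 (.node 8712 (.node 8708 (.node 8706 (.node 8705 (.leaf 0) (.leaf 0)) (.node 8707 (.leaf 0) (.leaf 0))) (.node 8710 (.node 8709 (.leaf 0) (.leaf 0)) (.node 8711 (.leaf 0) (.leaf 0)))) (.node 8716 (.node 8714 (.node 8713 (.leaf 0) (.leaf 0)) (.node 8715 (.leaf 0) (.leaf 0))) (.node 8718 (.node 8717 (.leaf 0) (.leaf 0)) (.node 8719 (.leaf 0) (.leaf 0))))) (.node 8728 (.node 8724 (.node 8722 (.node 8721 (.leaf 0) (.leaf 0)) (.node 8723 (.leaf 0) (.leaf 0))) (.node 8726 (.node 8725 (.leaf 0) (.leaf 0)) (.node 8727 (.leaf 0) (.leaf 0)))) (.node 8732 (.node 8730 (.node 8729 (.leaf 0) (.leaf 0)) (.node 8731 (.leaf 0) (.leaf 0))) (.node 8734 (.node 8733 (.leaf 0) (.leaf 0)) (.node 8735 (.leaf 0) (.leaf 0))))))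

def regKPB273 : Bst := (.node 8752 (.node 8744 (.node 8740 (.node 8738 (.node 8737 (.leaf 0) (.leaf 0)) (.node 8739 (.leaf 0) (.leaf 0))) (.node 8742 (.node 8741 (.leaf 0) (.leaf 0)) (.node 8743 (.leaf 0) (.leaf 0)))) (.node 8748 (.node 8746 (.node 8745 (.leaf 0) (.leaf 0)) (.node 8747 (.leaf 0) (.leaf 0))) (.node 8750 (.node 8749 (.leaf 0) (.leaf 0)) (.node 8751 (.leaf 0) (.leaf 0))))) (.node 8760 (.node 8756 (.node 8754 (.node 8753 (.leaf 0) (.leaf 0)) (.node 8755 (.leaf 0) (.leaf 0))) (.node 8758 (.node 8757 (.leaf 0) (.leaf 0)) (.node 8759 (.leaf 0) (.leaf 0)))) (.node 8764 (.node 8762 (.node 8761 (.leaf 0) (.leaf 0)) (.node 8763 (.leaf 0) (.leaf 0))) (.node 8766 (.node 8765 (.leaf 0) (.leaf 0)) (.node 8767 (.leaf 0) (.leaf 0))))))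

def regKPB274 : Bst := (.node 8784 (.node 8776 (.node 8772 (.node 8770 (.node 8769 (.leaf 0) (.leaf 0)) (.node 8771 (.leaf 0) (.leaf 0))) (.node 8774 (.node 8773 (.leaf 0) (.leaf 0)) (.node 8775 (.leaf 0) (.leaf 0)))) (.node 8780 (.node 8778 (.node 8777 (.leaf 0) (.leaf 0)) (.node 8779 (.leaf 0) (.leaf 0))) (.node 8782 (.node 8781 (.leaf 0) (.leaf 0)) (.node 8783 (.leaf 0) (.leaf 0))))) (.node 8792 (.node 8788 (.node 8786 (.node 8785 (.leaf 0) (.leaf 0)) (.node 8787 (.leaf 0) (.leaf 0))) (.node 8790 (.node 8789 (.leaf 0) (.leaf 0)) (.node 8791 (.leaf 0) (.leaf 0)))) (.node 8796 (.node 8794 (.node 8793 (.leaf 0) (.leaf 0)) (.node 8795 (.leaf 0) (.leaf 0))) (.node 8798 (.node 8797 (.leaf 0) (.leaf 0)) (.node 8799 (.leaf 0) (.leaf 0))))))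

def regKPB275 : Bst := (.node 8816 (.node 8808 (.node 8804 (.node 8802 (.node 8801 (.leaf 0) (.leaf 0)) (.node 8803 (.leaf 0) (.leaf 0))) (.node 8806 (.node 8805 (.leaf 0) (.leaf 0xb70010b0000000000)) (.node 8807 (.leaf 0xc50004b) (.leaf 0)))) (.node 8812 (.node 8810 (.node 8809 (.leaf 0) (.leaf 0)) (.node 8811 (.leaf 0x132000000000000000) (.leaf 0x810012600120))) (.node 8814 (.node 8813 (.leaf 0) (.leaf 0)) (.node 8815 (.leaf 0) (.leaf 0))))) (.node 8824 (.node 8820 (.node 8818 (.node 8817 (.leaf 0) (.leaf 0)) (.node 8819 (.leaf 0) (.leaf 0))) (.node 8822 (.node 8821 (.leaf 0) (.leaf 0)) (.node 8823 (.leaf 0) (.leaf 0)))) (.node 8828 (.node 8826 (.node 8825 (.leaf 0x900035001d1) (.leaf 0x25600176)) (.node 8827 (.leaf 0) (.leaf 0))) (.node 8830 (.node 8829 (.leaf 0) (.leaf 0)) (.node 8831 (.leaf 0) (.leaf 0))))))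

def regKPB276 : Bst := (.node 8848 (.node 8840 (.node 8836 (.node 8834 (.node 8833 (.leaf 0) (.leaf 0)) (.node 8835 (.leaf 0) (.leaf 0))) (.node 8838 (.node 8837 (.leaf 0) (.leaf 0)) (.node 8839 (.leaf 0) (.leaf 0)))) (.node 8844 (.node 8842 (.node 8841 (.leaf 0) (.leaf 0)) (.node 8843 (.leaf 0) (.leaf 0))) (.node 8846 (.node 8845 (.leaf 0) (.leaf 0)) (.node 8847 (.leaf 0) (.leaf 0))))) (.node 8856 (.node 8852 (.node 8850 (.node 8849 (.leaf 0) (.leaf 0)) (.node 8851 (.leaf 0) (.leaf 0))) (.node 8854 (.node 8853 (.leaf 0) (.leaf 0)) (.node 8855 (.leaf 0) (.leaf 0)))) (.node 8860 (.node 8858 (.node 8857 (.leaf 0) (.leaf 0)) (.node 8859 (.leaf 0) (.leaf 0))) (.node 8862 (.node 8861 (.leaf 0) (.leaf 0)) (.node 8863 (.leaf 0) (.leaf 0))))))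

def regKPB277 : Bst := (.node 8880 (.node 8872 (.node 8868 (.node 8866 (.node 8865 (.leaf 0) (.leaf 0)) (.node 8867 (.leaf 0) (.leaf 0))) (.node 8870 (.node 8869 (.leaf 0) (.leaf 0)) (.node 8871 (.leaf 0) (.leaf 0)))) (.node 8876 (.node 8874 (.node 8873 (.leaf 0) (.leaf 0)) (.node 8875 (.leaf 0) (.leaf 0))) (.node 8878 (.node 8877 (.leaf 0) (.leaf 0)) (.node 8879 (.leaf 0) (.leaf 0))))) (.node 8888 (.node 8884 (.node 8882 (.node 8881 (.leaf 0) (.leaf 0)) (.node 8883 (.leaf 0) (.leaf 0))) (.node 8886 (.node 8885 (.leaf 0) (.leaf 0)) (.node 8887 (.leaf 0) (.leaf 0)))) (.node 8892 (.node 8890 (.node 8889 (.leaf 0) (.leaf 0)) (.node 8891 (.leaf 0) (.leaf 0))) (.node 8894 (.node 8893 (.leaf 0) (.leaf 0)) (.node 8895 (.leaf 0) (.leaf 0))))))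

def regKPB278 : Bst := (.node 8912 (.node 8904 (.node 8900 (.node 8898 (.node 8897 (.leaf 0) (.leaf 0)) (.node 8899 (.leaf 0) (.leaf 0))) (.node 8902 (.node 8901 (.leaf 0) (.leaf 0)) (.node 8903 (.leaf 0) (.leaf 0)))) (.node 8908 (.node 8906 (.node 8905 (.leaf 0) (.leaf 0)) (.node 8907 (.leaf 0) (.leaf 0))) (.node 8910 (.node 8909 (.leaf 0) (.leaf 0)) (.node 8911 (.leaf 0) (.leaf 0))))) (.node 8920 (.node 8916 (.node 8914 (.node 8913 (.leaf 0) (.leaf 0)) (.node 8915 (.leaf 0) (.leaf 0))) (.node 8918 (.node 8917 (.leaf 0) (.leaf 0)) (.node 8919 (.leaf 0) (.leaf 0)))) (.node 8924 (.node 8922 (.node 8921 (.leaf 0) (.leaf 0)) (.node 8923 (.leaf 0) (.leaf 0))) (.node 8926 (.node 8925 (.leaf 0) (.leaf 0)) (.node 8927 (.leaf 0) (.leaf 0))))))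

def regKPB279 : Bst := (.node 8944 (.node 8936 (.node 8932 (.node 8930 (.node 8929 (.leaf 0) (.leaf 0)) (.node 8931 (.leaf 0) (.leaf 0))) (.node 8934 (.node 8933 (.leaf 0) (.leaf 0)) (.node 8935 (.leaf 0) (.leaf 0)))) (.node 8940 (.node 8938 (.node 8937 (.leaf 0) (.leaf 0)) (.node 8939 (.leaf 0) (.leaf 0))) (.node 8942 (.node 8941 (.leaf 0) (.leaf 0)) (.node 8943 (.leaf 0) (.leaf 0))))) (.node 8952 (.node 8948 (.node 8946 (.node 8945 (.leaf 0) (.leaf 0)) (.node 8947 (.leaf 0) (.leaf 0))) (.node 8950 (.node 8949 (.leaf 0) (.leaf 0)) (.node 8951 (.leaf 0) (.leaf 0)))) (.node 8956 (.node 8954 (.node 8953 (.leaf 0) (.leaf 0)) (.node 8955 (.leaf 0) (.leaf 0))) (.node 8958 (.node 8957 (.leaf 0) (.leaf 0)) (.node 8959 (.leaf 0) (.leaf 0))))))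

def regKPB280 : Bst := (.node 8976 (.node 8968 (.node 8964 (.node 8962 (.node 8961 (.leaf 0) (.leaf 0)) (.node 8963 (.leaf 0) (.leaf 0))) (.node 8966 (.node 8965 (.leaf 0) (.leaf 0)) (.node 8967 (.leaf 0) (.leaf 0)))) (.node 8972 (.node 8970 (.node 8969 (.leaf 0) (.leaf 0)) (.node 8971 (.leaf 0) (.leaf 0))) (.node 8974 (.node 8973 (.leaf 0) (.leaf 0)) (.node 8975 (.leaf 0) (.leaf 0))))) (.node 8984 (.node 8980 (.node 8978 (.node 8977 (.leaf 0) (.leaf 0)) (.node 8979 (.leaf 0) (.leaf 0))) (.node 8982 (.node 8981 (.leaf 0) (.leaf 0)) (.node 8983 (.leaf 0) (.leaf 0)))) (.node 8988 (.node 8986 (.node 8985 (.leaf 0) (.leaf 0)) (.node 8987 (.leaf 0) (.leaf 0))) (.node 8990 (.node 8989 (.leaf 0) (.leaf 0)) (.node 8991 (.leaf 0) (.leaf 0))))))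

def regKPB281 : Bst := (.node 9008 (.node 9000 (.node 8996 (.node 8994 (.node 8993 (.leaf 0) (.leaf 0)) (.node 8995 (.leaf 0) (.leaf 0))) (.node 8998 (.node 8997 (.leaf 0) (.leaf 0)) (.node 8999 (.leaf 0) (.leaf 0)))) (.node 9004 (.node 9002 (.node 9001 (.leaf 0) (.leaf 0)) (.node 9003 (.leaf 0) (.leaf 0))) (.node 9006 (.node 9005 (.leaf 0) (.leaf 0)) (.node 9007 (.leaf 0) (.leaf 0))))) (.node 9016 (.node 9012 (.node 9010 (.node 9009 (.leaf 0) (.leaf 0)) (.node 9011 (.leaf 0) (.leaf 0))) (.node 9014 (.node 9013 (.leaf 0) (.leaf 0)) (.node 9015 (.leaf 0) (.leaf 0)))) (.node 9020 (.node 9018 (.node 9017 (.leaf 0) (.leaf 0)) (.node 9019 (.leaf 0) (.leaf 0))) (.node 9022 (.node 9021 (.leaf 0) (.leaf 0)) (.node 9023 (.leaf 0) (.leaf 0))))))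

def regKPB282 : Bst := (.node 9040 (.node 9032 (.node 9028 (.node 9026 (.node 9025 (.leaf 0) (.leaf 0)) (.node 9027 (.leaf 0) (.leaf 0))) (.node 9030 (.node 9029 (.leaf 0) (.leaf 0)) (.node 9031 (.leaf 0) (.leaf 0)))) (.node 9036 (.node 9034 (.node 9033 (.leaf 0) (.leaf 0)) (.node 9035 (.leaf 0) (.leaf 0))) (.node 9038 (.node 9037 (.leaf 0) (.leaf 0)) (.node 9039 (.leaf 0) (.leaf 0))))) (.node 9048 (.node 9044 (.node 9042 (.node 9041 (.leaf 0) (.leaf 0)) (.node 9043 (.leaf 0) (.leaf 0))) (.node 9046 (.node 9045 (.leaf 0) (.leaf 0)) (.node 9047 (.leaf 0) (.leaf 0)))) (.node 9052 (.node 9050 (.node 9049 (.leaf 0) (.leaf 0)) (.node 9051 (.leaf 0) (.leaf 0))) (.node 9054 (.node 9053 (.leaf 0) (.leaf 0)) (.node 9055 (.leaf 0) (.leaf 0))))))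

def regKPB283 : Bst := (.node 9072 (.node 9064 (.node 9060 (.node 9058 (.node 9057 (.leaf 0) (.leaf 0)) (.node 9059 (.leaf 0) (.leaf 0))) (.node 9062 (.node 9061 (.leaf 0) (.leaf 0)) (.node 9063 (.leaf 0) (.leaf 0)))) (.node 9068 (.node 9066 (.node 9065 (.leaf 0) (.leaf 0)) (.node 9067 (.leaf 0) (.leaf 0))) (.node 9070 (.node 9069 (.leaf 0) (.leaf 0)) (.node 9071 (.leaf 0) (.leaf 0))))) (.node 9080 (.node 9076 (.node 9074 (.node 9073 (.leaf 0) (.leaf 0)) (.node 9075 (.leaf 0) (.leaf 0))) (.node 9078 (.node 9077 (.leaf 0) (.leaf 0)) (.node 9079 (.leaf 0) (.leaf 0)))) (.node 9084 (.node 9082 (.node 9081 (.leaf 0) (.leaf 0)) (.node 9083 (.leaf 0) (.leaf 0))) (.node 9086 (.node 9085 (.leaf 0) (.leaf 0)) (.node 9087 (.leaf 0) (.leaf 0))))))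

def regKPB284 : Bst := (.node 9104 (.node 9096 (.node 9092 (.node 9090 (.node 9089 (.leaf 0) (.leaf 0)) (.node 9091 (.leaf 0) (.leaf 0))) (.node 9094 (.node 9093 (.leaf 0) (.leaf 0)) (.node 9095 (.leaf 0) (.leaf 0)))) (.node 9100 (.node 9098 (.node 9097 (.leaf 0) (.leaf 0)) (.node 9099 (.leaf 0) (.leaf 0))) (.node 9102 (.node 9101 (.leaf 0) (.leaf 0)) (.node 9103 (.leaf 0) (.leaf 0))))) (.node 9112 (.node 9108 (.node 9106 (.node 9105 (.leaf 0) (.leaf 0)) (.node 9107 (.leaf 0) (.leaf 0))) (.node 9110 (.node 9109 (.leaf 0) (.leaf 0)) (.node 9111 (.leaf 0) (.leaf 0)))) (.node 9116 (.node 9114 (.node 9113 (.leaf 0) (.leaf 0)) (.node 9115 (.leaf 0) (.leaf 0))) (.node 9118 (.node 9117 (.leaf 0) (.leaf 0)) (.node 9119 (.leaf 0) (.leaf 0))))))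

def regKPB285 : Bst := (.node 9136 (.node 9128 (.node 9124 (.node 9122 (.node 9121 (.leaf 0x27c00000) (.leaf 0)) (.node 9123 (.leaf 0) (.leaf 0))) (.node 9126 (.node 9125 (.leaf 0x310007a00000) (.leaf 0)) (.node 9127 (.leaf 0) (.leaf 0)))) (.node 9132 (.node 9130 (.node 9129 (.leaf 0) (.leaf 0)) (.node 9131 (.leaf 0) (.leaf 0))) (.node 9134 (.node 9133 (.leaf 0) (.leaf 0)) (.node 9135 (.leaf 0) (.leaf 0))))) (.node 9144 (.node 9140 (.node 9138 (.node 9137 (.leaf 0) (.leaf 0)) (.node 9139 (.leaf 0) (.leaf 0))) (.node 9142 (.node 9141 (.leaf 0) (.leaf 0)) (.node 9143 (.leaf 0) (.leaf 0)))) (.node 9148 (.node 9146 (.node 9145 (.leaf 0) (.leaf 0)) (.node 9147 (.leaf 0) (.leaf 0))) (.node 9150 (.node 9149 (.leaf 0) (.leaf 0)) (.node 9151 (.leaf 0) (.leaf 0))))))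

def regKPB286 : Bst := (.node 9168 (.node 9160 (.node 9156 (.node 9154 (.node 9153 (.leaf 0) (.leaf 0)) (.node 9155 (.leaf 0) (.leaf 0))) (.node 9158 (.node 9157 (.leaf 0) (.leaf 0)) (.node 9159 (.leaf 0) (.leaf 0)))) (.node 9164 (.node 9162 (.node 9161 (.leaf 0) (.leaf 0)) (.node 9163 (.leaf 0) (.leaf 0))) (.node 9166 (.node 9165 (.leaf 0) (.leaf 0)) (.node 9167 (.leaf 0) (.leaf 0))))) (.node 9176 (.node 9172 (.node 9170 (.node 9169 (.leaf 0) (.leaf 0)) (.node 9171 (.leaf 0) (.leaf 0))) (.node 9174 (.node 9173 (.leaf 0) (.leaf 0)) (.node 9175 (.leaf 0) (.leaf 0)))) (.node 9180 (.node 9178 (.node 9177 (.leaf 0) (.leaf 0)) (.node 9179 (.leaf 0) (.leaf 0))) (.node 9182 (.node 9181 (.leaf 0) (.leaf 0)) (.node 9183 (.leaf 0) (.leaf 0))))))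

def regKPB287 : Bst := (.node 9200 (.node 9192 (.node 9188 (.node 9186 (.node 9185 (.leaf 0) (.leaf 0)) (.node 9187 (.leaf 0) (.leaf 0))) (.node 9190 (.node 9189 (.leaf 0) (.leaf 0)) (.node 9191 (.leaf 0) (.leaf 0)))) (.node 9196 (.node 9194 (.node 9193 (.leaf 0) (.leaf 0)) (.node 9195 (.leaf 0) (.leaf 0))) (.node 9198 (.node 9197 (.leaf 0) (.leaf 0)) (.node 9199 (.leaf 0) (.leaf 0))))) (.node 9208 (.node 9204 (.node 9202 (.node 9201 (.leaf 0) (.leaf 0)) (.node 9203 (.leaf 0) (.leaf 0))) (.node 9206 (.node 9205 (.leaf 0) (.leaf 0)) (.node 9207 (.leaf 0) (.leaf 0)))) (.node 9212 (.node 9210 (.node 9209 (.leaf 0) (.leaf 0)) (.node 9211 (.leaf 0) (.leaf 0))) (.node 9214 (.node 9213 (.leaf 0) (.leaf 0)) (.node 9215 (.leaf 0) (.leaf 0))))))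

def regKPB288 : Bst := (.node 9232 (.node 9224 (.node 9220 (.node 9218 (.node 9217 (.leaf 0) (.leaf 0)) (.node 9219 (.leaf 0) (.leaf 0))) (.node 9222 (.node 9221 (.leaf 0) (.leaf 0)) (.node 9223 (.leaf 0) (.leaf 0)))) (.node 9228 (.node 9226 (.node 9225 (.leaf 0) (.leaf 0)) (.node 9227 (.leaf 0) (.leaf 0))) (.node 9230 (.node 9229 (.leaf 0) (.leaf 0)) (.node 9231 (.leaf 0) (.leaf 0))))) (.node 9240 (.node 9236 (.node 9234 (.node 9233 (.leaf 0) (.leaf 0)) (.node 9235 (.leaf 0) (.leaf 0))) (.node 9238 (.node 9237 (.leaf 0) (.leaf 0)) (.node 9239 (.leaf 0) (.leaf 0)))) (.node 9244 (.node 9242 (.node 9241 (.leaf 0) (.leaf 0)) (.node 9243 (.leaf 0) (.leaf 0))) (.node 9246 (.node 9245 (.leaf 0) (.leaf 0)) (.node 9247 (.leaf 0) (.leaf 0))))))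

def regKPB289 : Bst := (.node 9264 (.node 9256 (.node 9252 (.node 9250 (.node 9249 (.leaf 0) (.leaf 0)) (.node 9251 (.leaf 0) (.leaf 0))) (.node 9254 (.node 9253 (.leaf 0) (.leaf 0)) (.node 9255 (.leaf 0) (.leaf 0)))) (.node 9260 (.node 9258 (.node 9257 (.leaf 0) (.leaf 0)) (.node 9259 (.leaf 0) (.leaf 0))) (.node 9262 (.node 9261 (.leaf 0) (.leaf 0)) (.node 9263 (.leaf 0) (.leaf 0))))) (.node 9272 (.node 9268 (.node 9266 (.node 9265 (.leaf 0) (.leaf 0)) (.node 9267 (.leaf 0) (.leaf 0))) (.node 9270 (.node 9269 (.leaf 0) (.leaf 0)) (.node 9271 (.leaf 0) (.leaf 0)))) (.node 9276 (.node 9274 (.node 9273 (.leaf 0) (.leaf 0)) (.node 9275 (.leaf 0) (.leaf 0))) (.node 9278 (.node 9277 (.leaf 0) (.leaf 0)) (.node 9279 (.leaf 0) (.leaf 0))))))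

def regKPB290 : Bst := (.node 9296 (.node 9288 (.node 9284 (.node 9282 (.node 9281 (.leaf 0) (.leaf 0)) (.node 9283 (.leaf 0) (.leaf 0))) (.node 9286 (.node 9285 (.leaf 0) (.leaf 0)) (.node 9287 (.leaf 0) (.leaf 0)))) (.node 9292 (.node 9290 (.node 9289 (.leaf 0) (.leaf 0)) (.node 9291 (.leaf 0) (.leaf 0))) (.node 9294 (.node 9293 (.leaf 0) (.leaf 0)) (.node 9295 (.leaf 0) (.leaf 0))))) (.node 9304 (.node 9300 (.node 9298 (.node 9297 (.leaf 0) (.leaf 0)) (.node 9299 (.leaf 0) (.leaf 0))) (.node 9302 (.node 9301 (.leaf 0) (.leaf 0)) (.node 9303 (.leaf 0) (.leaf 0)))) (.node 9308 (.node 9306 (.node 9305 (.leaf 0) (.leaf 0)) (.node 9307 (.leaf 0) (.leaf 0))) (.node 9310 (.node 9309 (.leaf 0) (.leaf 0)) (.node 9311 (.leaf 0) (.leaf 0))))))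

def regKPB291 : Bst := (.node 9328 (.node 9320 (.node 9316 (.node 9314 (.node 9313 (.leaf 0) (.leaf 0)) (.node 9315 (.leaf 0) (.leaf 0))) (.node 9318 (.node 9317 (.leaf 0) (.leaf 0)) (.node 9319 (.leaf 0) (.leaf 0)))) (.node 9324 (.node 9322 (.node 9321 (.leaf 0) (.leaf 0)) (.node 9323 (.leaf 0) (.leaf 0))) (.node 9326 (.node 9325 (.leaf 0) (.leaf 0)) (.node 9327 (.leaf 0) (.leaf 0))))) (.node 9336 (.node 9332 (.node 9330 (.node 9329 (.leaf 0) (.leaf 0)) (.node 9331 (.leaf 0) (.leaf 0))) (.node 9334 (.node 9333 (.leaf 0) (.leaf 0)) (.node 9335 (.leaf 0) (.leaf 0)))) (.node 9340 (.node 9338 (.node 9337 (.leaf 0) (.leaf 0)) (.node 9339 (.leaf 0) (.leaf 0))) (.node 9342 (.node 9341 (.leaf 0) (.leaf 0)) (.node 9343 (.leaf 0) (.leaf 0))))))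

def regKPB292 : Bst := (.node 9360 (.node 9352 (.node 9348 (.node 9346 (.node 9345 (.leaf 0) (.leaf 0)) (.node 9347 (.leaf 0) (.leaf 0))) (.node 9350 (.node 9349 (.leaf 0) (.leaf 0)) (.node 9351 (.leaf 0) (.leaf 0)))) (.node 9356 (.node 9354 (.node 9353 (.leaf 0) (.leaf 0)) (.node 9355 (.leaf 0) (.leaf 0))) (.node 9358 (.node 9357 (.leaf 0) (.leaf 0)) (.node 9359 (.leaf 0) (.leaf 0))))) (.node 9368 (.node 9364 (.node 9362 (.node 9361 (.leaf 0) (.leaf 0)) (.node 9363 (.leaf 0) (.leaf 0))) (.node 9366 (.node 9365 (.leaf 0) (.leaf 0)) (.node 9367 (.leaf 0) (.leaf 0)))) (.node 9372 (.node 9370 (.node 9369 (.leaf 0) (.leaf 0)) (.node 9371 (.leaf 0) (.leaf 0))) (.node 9374 (.node 9373 (.leaf 0) (.leaf 0)) (.node 9375 (.leaf 0) (.leaf 0))))))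

def regKPB293 : Bst := (.node 9392 (.node 9384 (.node 9380 (.node 9378 (.node 9377 (.leaf 0) (.leaf 0)) (.node 9379 (.leaf 0) (.leaf 0))) (.node 9382 (.node 9381 (.leaf 0) (.leaf 0)) (.node 9383 (.leaf 0) (.leaf 0)))) (.node 9388 (.node 9386 (.node 9385 (.leaf 0) (.leaf 0)) (.node 9387 (.leaf 0) (.leaf 0))) (.node 9390 (.node 9389 (.leaf 0) (.leaf 0)) (.node 9391 (.leaf 0) (.leaf 0))))) (.node 9400 (.node 9396 (.node 9394 (.node 9393 (.leaf 0) (.leaf 0)) (.node 9395 (.leaf 0) (.leaf 0))) (.node 9398 (.node 9397 (.leaf 0) (.leaf 0)) (.node 9399 (.leaf 0) (.leaf 0)))) (.node 9404 (.node 9402 (.node 9401 (.leaf 0) (.leaf 0)) (.node 9403 (.leaf 0) (.leaf 0))) (.node 9406 (.node 9405 (.leaf 0) (.leaf 0)) (.node 9407 (.leaf 0) (.leaf 0))))))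

def regKPB294 : Bst := (.node 9424 (.node 9416 (.node 9412 (.node 9410 (.node 9409 (.leaf 0) (.leaf 0)) (.node 9411 (.leaf 0) (.leaf 0))) (.node 9414 (.node 9413 (.leaf 0x21000000000000000) (.leaf 0x1970000000000)) (.node 9415 (.leaf 0) (.leaf 0)))) (.node 9420 (.node 9418 (.node 9417 (.leaf 0) (.leaf 0)) (.node 9419 (.leaf 0) (.leaf 0))) (.node 9422 (.node 9421 (.leaf 0) (.leaf 0)) (.node 9423 (.leaf 0) (.leaf 0))))) (.node 9432 (.node 9428 (.node 9426 (.node 9425 (.leaf 0) (.leaf 0)) (.node 9427 (.leaf 0) (.leaf 0))) (.node 9430 (.node 9429 (.leaf 0) (.leaf 0)) (.node 9431 (.leaf 0) (.leaf 0)))) (.node 9436 (.node 9434 (.node 9433 (.leaf 0) (.leaf 0)) (.node 9435 (.leaf 0) (.leaf 0))) (.node 9438 (.node 9437 (.leaf 0) (.leaf 0)) (.node 9439 (.leaf 0) (.leaf 0))))))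

def regKPB295 : Bst := (.node 9456 (.node 9448 (.node 9444 (.node 9442 (.node 9441 (.leaf 0) (.leaf 0)) (.node 9443 (.leaf 0) (.leaf 0))) (.node 9446 (.node 9445 (.leaf 0) (.leaf 0)) (.node 9447 (.leaf 0) (.leaf 0)))) (.node 9452 (.node 9450 (.node 9449 (.leaf 0) (.leaf 0x22200285)) (.node 9451 (.leaf 0) (.leaf 0))) (.node 9454 (.node 9453 (.leaf 0) (.leaf 0)) (.node 9455 (.leaf 0) (.leaf 0))))) (.node 9464 (.node 9460 (.node 9458 (.node 9457 (.leaf 0) (.leaf 0)) (.node 9459 (.leaf 0) (.leaf 0))) (.node 9462 (.node 9461 (.leaf 0) (.leaf 0)) (.node 9463 (.leaf 0) (.leaf 0)))) (.node 9468 (.node 9466 (.node 9465 (.leaf 0) (.leaf 0)) (.node 9467 (.leaf 0) (.leaf 0))) (.node 9470 (.node 9469 (.leaf 0) (.leaf 0)) (.node 9471 (.leaf 0) (.leaf 0))))))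

def regKPB296 : Bst := (.node 9488 (.node 9480 (.node 9476 (.node 9474 (.node 9473 (.leaf 0) (.leaf 0)) (.node 9475 (.leaf 0) (.leaf 0))) (.node 9478 (.node 9477 (.leaf 0) (.leaf 0)) (.node 9479 (.leaf 0) (.leaf 0)))) (.node 9484 (.node 9482 (.node 9481 (.leaf 0) (.leaf 0)) (.node 9483 (.leaf 0) (.leaf 0))) (.node 9486 (.node 9485 (.leaf 0) (.leaf 0)) (.node 9487 (.leaf 0) (.leaf 0))))) (.node 9496 (.node 9492 (.node 9490 (.node 9489 (.leaf 0) (.leaf 0)) (.node 9491 (.leaf 0) (.leaf 0))) (.node 9494 (.node 9493 (.leaf 0) (.leaf 0)) (.node 9495 (.leaf 0) (.leaf 0)))) (.node 9500 (.node 9498 (.node 9497 (.leaf 0) (.leaf 0x1e1000000000000000)) (.node 9499 (.leaf 0) (.leaf 0))) (.node 9502 (.node 9501 (.leaf 0) (.leaf 0)) (.node 9503 (.leaf 0) (.leaf 0))))))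

def regKPB297 : Bst := (.node 9520 (.node 9512 (.node 9508 (.node 9506 (.node 9505 (.leaf 0) (.leaf 0)) (.node 9507 (.leaf 0) (.leaf 0))) (.node 9510 (.node 9509 (.leaf 0) (.leaf 0)) (.node 9511 (.leaf 0) (.leaf 0)))) (.node 9516 (.node 9514 (.node 9513 (.leaf 0) (.leaf 0)) (.node 9515 (.leaf 0xed000000000000000) (.leaf 0x150))) (.node 9518 (.node 9517 (.leaf 0) (.leaf 0)) (.node 9519 (.leaf 0) (.leaf 0))))) (.node 9528 (.node 9524 (.node 9522 (.node 9521 (.leaf 0) (.leaf 0)) (.node 9523 (.leaf 0) (.leaf 0))) (.node 9526 (.node 9525 (.leaf 0) (.leaf 0)) (.node 9527 (.leaf 0) (.leaf 0)))) (.node 9532 (.node 9530 (.node 9529 (.leaf 0) (.leaf 0)) (.node 9531 (.leaf 0) (.leaf 0))) (.node 9534 (.node 9533 (.leaf 0) (.leaf 0)) (.node 9535 (.leaf 0) (.leaf 0))))))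

def regKPB298 : Bst := (.node 9552 (.node 9544 (.node 9540 (.node 9538 (.node 9537 (.leaf 0x15c0016c0028a0028e) (.leaf 0x10)) (.node 9539 (.leaf 0x23b000000000000000) (.leaf 0x19a))) (.node 9542 (.node 9541 (.leaf 0) (.leaf 0)) (.node 9543 (.leaf 0) (.leaf 0)))) (.node 9548 (.node 9546 (.node 9545 (.leaf 0) (.leaf 0)) (.node 9547 (.leaf 0) (.leaf 0))) (.node 9550 (.node 9549 (.leaf 0x1a000880002d00000) (.leaf 0)) (.node 9551 (.leaf 0x26e002820000000000) (.leaf 0x19e))))) (.node 9560 (.node 9556 (.node 9554 (.node 9553 (.leaf 0) (.leaf 0)) (.node 9555 (.leaf 0) (.leaf 0))) (.node 9558 (.node 9557 (.leaf 0) (.leaf 0)) (.node 9559 (.leaf 0) (.leaf 0)))) (.node 9564 (.node 9562 (.node 9561 (.leaf 0) (.leaf 0x14f0009c)) (.node 9563 (.leaf 0) (.leaf 0))) (.node 9566 (.node 9565 (.leaf 0) (.leaf 0)) (.node 9567 (.leaf 0x6b000000000000000) (.leaf 0))))))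

def regKPB299 : Bst := (.node 9584 (.node 9576 (.node 9572 (.node 9570 (.node 9569 (.leaf 0) (.leaf 0)) (.node 9571 (.leaf 0) (.leaf 0))) (.node 9574 (.node 9573 (.leaf 0) (.leaf 0)) (.node 9575 (.leaf 0) (.leaf 0)))) (.node 9580 (.node 9578 (.node 9577 (.leaf 0) (.leaf 0)) (.node 9579 (.leaf 0) (.leaf 0))) (.node 9582 (.node 9581 (.leaf 0) (.leaf 0)) (.node 9583 (.leaf 0) (.leaf 0))))) (.node 9592 (.node 9588 (.node 9586 (.node 9585 (.leaf 0) (.leaf 0)) (.node 9587 (.leaf 0) (.leaf 0))) (.node 9590 (.node 9589 (.leaf 0) (.leaf 0)) (.node 9591 (.leaf 0) (.leaf 0)))) (.node 9596 (.node 9594 (.node 9593 (.leaf 0) (.leaf 0)) (.node 9595 (.leaf 0) (.leaf 0))) (.node 9598 (.node 9597 (.leaf 0) (.leaf 0)) (.node 9599 (.leaf 0) (.leaf 0))))))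

def regKPB300 : Bst := (.node 9616 (.node 9608 (.node 9604 (.node 9602 (.node 9601 (.leaf 0) (.leaf 0)) (.node 9603 (.leaf 0) (.leaf 0))) (.node 9606 (.node 9605 (.leaf 0) (.leaf 0)) (.node 9607 (.leaf 0) (.leaf 0)))) (.node 9612 (.node 9610 (.node 9609 (.leaf 0) (.leaf 0)) (.node 9611 (.leaf 0) (.leaf 0))) (.node 9614 (.node 9613 (.leaf 0) (.leaf 0)) (.node 9615 (.leaf 0) (.leaf 0))))) (.node 9624 (.node 9620 (.node 9618 (.node 9617 (.leaf 0) (.leaf 0)) (.node 9619 (.leaf 0) (.leaf 0))) (.node 9622 (.node 9621 (.leaf 0) (.leaf 0)) (.node 9623 (.leaf 0) (.leaf 0)))) (.node 9628 (.node 9626 (.node 9625 (.leaf 0) (.leaf 0)) (.node 9627 (.leaf 0) (.leaf 0))) (.node 9630 (.node 9629 (.leaf 0) (.leaf 0)) (.node 9631 (.leaf 0) (.leaf 0))))))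

def regKPB301 : Bst := (.node 9648 (.node 9640 (.node 9636 (.node 9634 (.node 9633 (.leaf 0) (.leaf 0)) (.node 9635 (.leaf 0) (.leaf 0))) (.node 9638 (.node 9637 (.leaf 0) (.leaf 0)) (.node 9639 (.leaf 0) (.leaf 0)))) (.node 9644 (.node 9642 (.node 9641 (.leaf 0) (.leaf 0)) (.node 9643 (.leaf 0) (.leaf 0))) (.node 9646 (.node 9645 (.leaf 0) (.leaf 0)) (.node 9647 (.leaf 0) (.leaf 0))))) (.node 9656 (.node 9652 (.node 9650 (.node 9649 (.leaf 0) (.leaf 0)) (.node 9651 (.leaf 0) (.leaf 0))) (.node 9654 (.node 9653 (.leaf 0) (.leaf 0)) (.node 9655 (.leaf 0) (.leaf 0)))) (.node 9660 (.node 9658 (.node 9657 (.leaf 0) (.leaf 0)) (.node 9659 (.leaf 0) (.leaf 0))) (.node 9662 (.node 9661 (.leaf 0) (.leaf 0)) (.node 9663 (.leaf 0) (.leaf 0))))))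

def regKPB302 : Bst := (.node 9680 (.node 9672 (.node 9668 (.node 9666 (.node 9665 (.leaf 0) (.leaf 0)) (.node 9667 (.leaf 0) (.leaf 0))) (.node 9670 (.node 9669 (.leaf 0) (.leaf 0)) (.node 9671 (.leaf 0) (.leaf 0)))) (.node 9676 (.node 9674 (.node 9673 (.leaf 0) (.leaf 0)) (.node 9675 (.leaf 0) (.leaf 0))) (.node 9678 (.node 9677 (.leaf 0) (.leaf 0)) (.node 9679 (.leaf 0) (.leaf 0))))) (.node 9688 (.node 9684 (.node 9682 (.node 9681 (.leaf 0) (.leaf 0)) (.node 9683 (.leaf 0) (.leaf 0))) (.node 9686 (.node 9685 (.leaf 0) (.leaf 0)) (.node 9687 (.leaf 0) (.leaf 0)))) (.node 9692 (.node 9690 (.node 9689 (.leaf 0) (.leaf 0)) (.node 9691 (.leaf 0) (.leaf 0))) (.node 9694 (.node 9693 (.leaf 0) (.leaf 0)) (.node 9695 (.leaf 0) (.leaf 0))))))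

def regKPB303 : Bst := (.node 9712 (.node 9704 (.node 9700 (.node 9698 (.node 9697 (.leaf 0) (.leaf 0)) (.node 9699 (.leaf 0) (.leaf 0))) (.node 9702 (.node 9701 (.leaf 0) (.leaf 0)) (.node 9703 (.leaf 0) (.leaf 0)))) (.node 9708 (.node 9706 (.node 9705 (.leaf 0) (.leaf 0)) (.node 9707 (.leaf 0) (.leaf 0))) (.node 9710 (.node 9709 (.leaf 0) (.leaf 0)) (.node 9711 (.leaf 0) (.leaf 0))))) (.node 9720 (.node 9716 (.node 9714 (.node 9713 (.leaf 0) (.leaf 0)) (.node 9715 (.leaf 0) (.leaf 0))) (.node 9718 (.node 9717 (.leaf 0) (.leaf 0)) (.node 9719 (.leaf 0) (.leaf 0)))) (.node 9724 (.node 9722 (.node 9721 (.leaf 0) (.leaf 0)) (.node 9723 (.leaf 0) (.leaf 0))) (.node 9726 (.node 9725 (.leaf 0) (.leaf 0)) (.node 9727 (.leaf 0) (.leaf 0))))))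

def regKPB304 : Bst := (.node 9744 (.node 9736 (.node 9732 (.node 9730 (.node 9729 (.leaf 0) (.leaf 0)) (.node 9731 (.leaf 0) (.leaf 0))) (.node 9734 (.node 9733 (.leaf 0) (.leaf 0)) (.node 9735 (.leaf 0) (.leaf 0)))) (.node 9740 (.node 9738 (.node 9737 (.leaf 0) (.leaf 0)) (.node 9739 (.leaf 0) (.leaf 0))) (.node 9742 (.node 9741 (.leaf 0) (.leaf 0)) (.node 9743 (.leaf 0) (.leaf 0))))) (.node 9752 (.node 9748 (.node 9746 (.node 9745 (.leaf 0) (.leaf 0)) (.node 9747 (.leaf 0) (.leaf 0))) (.node 9750 (.node 9749 (.leaf 0) (.leaf 0)) (.node 9751 (.leaf 0) (.leaf 0)))) (.node 9756 (.node 9754 (.node 9753 (.leaf 0) (.leaf 0)) (.node 9755 (.leaf 0) (.leaf 0))) (.node 9758 (.node 9757 (.leaf 0) (.leaf 0)) (.node 9759 (.leaf 0) (.leaf 0))))))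

def regKPB305 : Bst := (.node 9776 (.node 9768 (.node 9764 (.node 9762 (.node 9761 (.leaf 0) (.leaf 0)) (.node 9763 (.leaf 0) (.leaf 0))) (.node 9766 (.node 9765 (.leaf 0) (.leaf 0)) (.node 9767 (.leaf 0) (.leaf 0)))) (.node 9772 (.node 9770 (.node 9769 (.leaf 0) (.leaf 0)) (.node 9771 (.leaf 0) (.leaf 0))) (.node 9774 (.node 9773 (.leaf 0) (.leaf 0)) (.node 9775 (.leaf 0) (.leaf 0))))) (.node 9784 (.node 9780 (.node 9778 (.node 9777 (.leaf 0) (.leaf 0)) (.node 9779 (.leaf 0) (.leaf 0))) (.node 9782 (.node 9781 (.leaf 0) (.leaf 0)) (.node 9783 (.leaf 0) (.leaf 0)))) (.node 9788 (.node 9786 (.node 9785 (.leaf 0) (.leaf 0)) (.node 9787 (.leaf 0) (.leaf 0))) (.node 9790 (.node 9789 (.leaf 0) (.leaf 0)) (.node 9791 (.leaf 0) (.leaf 0))))))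

def regKPB306 : Bst := (.node 9808 (.node 9800 (.node 9796 (.node 9794 (.node 9793 (.leaf 0) (.leaf 0)) (.node 9795 (.leaf 0) (.leaf 0))) (.node 9798 (.node 9797 (.leaf 0) (.leaf 0)) (.node 9799 (.leaf 0) (.leaf 0)))) (.node 9804 (.node 9802 (.node 9801 (.leaf 0) (.leaf 0)) (.node 9803 (.leaf 0) (.leaf 0))) (.node 9806 (.node 9805 (.leaf 0) (.leaf 0)) (.node 9807 (.leaf 0) (.leaf 0))))) (.node 9816 (.node 9812 (.node 9810 (.node 9809 (.leaf 0) (.leaf 0)) (.node 9811 (.leaf 0) (.leaf 0))) (.node 9814 (.node 9813 (.leaf 0) (.leaf 0)) (.node 9815 (.leaf 0xd3000000000000000) (.leaf 0xac0003c001b3)))) (.node 9820 (.node 9818 (.node 9817 (.leaf 0) (.leaf 0)) (.node 9819 (.leaf 0x2430000000000) (.leaf 0))) (.node 9822 (.node 9821 (.leaf 0) (.leaf 0)) (.node 9823 (.leaf 0) (.leaf 0))))))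

def regKPB307 : Bst := (.node 9840 (.node 9832 (.node 9828 (.node 9826 (.node 9825 (.leaf 0) (.leaf 0)) (.node 9827 (.leaf 0) (.leaf 0))) (.node 9830 (.node 9829 (.leaf 0) (.leaf 0)) (.node 9831 (.leaf 0) (.leaf 0)))) (.node 9836 (.node 9834 (.node 9833 (.leaf 0) (.leaf 0)) (.node 9835 (.leaf 0) (.leaf 0))) (.node 9838 (.node 9837 (.leaf 0) (.leaf 0)) (.node 9839 (.leaf 0x1d5000000000000000) (.leaf 0x1ad001c1001f5001d7))))) (.node 9848 (.node 9844 (.node 9842 (.node 9841 (.leaf 0x1fb) (.leaf 0x1350015b00055)) (.node 9843 (.leaf 0) (.leaf 0))) (.node 9846 (.node 9845 (.leaf 0) (.leaf 0)) (.node 9847 (.leaf 0x1f) (.leaf 0)))) (.node 9852 (.node 9850 (.node 9849 (.leaf 0) (.leaf 0)) (.node 9851 (.leaf 0) (.leaf 0))) (.node 9854 (.node 9853 (.leaf 0) (.leaf 0)) (.node 9855 (.leaf 0) (.leaf 0))))))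

def regKPB308 : Bst := (.node 9872 (.node 9864 (.node 9860 (.node 9858 (.node 9857 (.leaf 0) (.leaf 0)) (.node 9859 (.leaf 0) (.leaf 0))) (.node 9862 (.node 9861 (.leaf 0) (.leaf 0)) (.node 9863 (.leaf 0) (.leaf 0)))) (.node 9868 (.node 9866 (.node 9865 (.leaf 0) (.leaf 0)) (.node 9867 (.leaf 0) (.leaf 0))) (.node 9870 (.node 9869 (.leaf 0) (.leaf 0)) (.node 9871 (.leaf 0) (.leaf 0))))) (.node 9880 (.node 9876 (.node 9874 (.node 9873 (.leaf 0) (.leaf 0)) (.node 9875 (.leaf 0) (.leaf 0))) (.node 9878 (.node 9877 (.leaf 0) (.leaf 0)) (.node 9879 (.leaf 0) (.leaf 0)))) (.node 9884 (.node 9882 (.node 9881 (.leaf 0) (.leaf 0)) (.node 9883 (.leaf 0) (.leaf 0))) (.node 9886 (.node 9885 (.leaf 0) (.leaf 0)) (.node 9887 (.leaf 0) (.leaf 0))))))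

def regKPB309 : Bst := (.node 9904 (.node 9896 (.node 9892 (.node 9890 (.node 9889 (.leaf 0) (.leaf 0)) (.node 9891 (.leaf 0) (.leaf 0))) (.node 9894 (.node 9893 (.leaf 0) (.leaf 0)) (.node 9895 (.leaf 0) (.leaf 0)))) (.node 9900 (.node 9898 (.node 9897 (.leaf 0) (.leaf 0)) (.node 9899 (.leaf 0) (.leaf 0))) (.node 9902 (.node 9901 (.leaf 0) (.leaf 0)) (.node 9903 (.leaf 0) (.leaf 0))))) (.node 9912 (.node 9908 (.node 9906 (.node 9905 (.leaf 0) (.leaf 0)) (.node 9907 (.leaf 0) (.leaf 0))) (.node 9910 (.node 9909 (.leaf 0) (.leaf 0)) (.node 9911 (.leaf 0) (.leaf 0)))) (.node 9916 (.node 9914 (.node 9913 (.leaf 0) (.leaf 0)) (.node 9915 (.leaf 0) (.leaf 0))) (.node 9918 (.node 9917 (.leaf 0) (.leaf 0)) (.node 9919 (.leaf 0) (.leaf 0))))))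

def regKPB310 : Bst := (.node 9936 (.node 9928 (.node 9924 (.node 9922 (.node 9921 (.leaf 0) (.leaf 0)) (.node 9923 (.leaf 0) (.leaf 0))) (.node 9926 (.node 9925 (.leaf 0) (.leaf 0)) (.node 9927 (.leaf 0) (.leaf 0)))) (.node 9932 (.node 9930 (.node 9929 (.leaf 0) (.leaf 0)) (.node 9931 (.leaf 0) (.leaf 0))) (.node 9934 (.node 9933 (.leaf 0) (.leaf 0)) (.node 9935 (.leaf 0) (.leaf 0))))) (.node 9944 (.node 9940 (.node 9938 (.node 9937 (.leaf 0) (.leaf 0)) (.node 9939 (.leaf 0) (.leaf 0))) (.node 9942 (.node 9941 (.leaf 0) (.leaf 0)) (.node 9943 (.leaf 0) (.leaf 0)))) (.node 9948 (.node 9946 (.node 9945 (.leaf 0) (.leaf 0)) (.node 9947 (.leaf 0) (.leaf 0))) (.node 9950 (.node 9949 (.leaf 0) (.leaf 0)) (.node 9951 (.leaf 0) (.leaf 0))))))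

def regKPB311 : Bst := (.node 9968 (.node 9960 (.node 9956 (.node 9954 (.node 9953 (.leaf 0) (.leaf 0)) (.node 9955 (.leaf 0) (.leaf 0))) (.node 9958 (.node 9957 (.leaf 0) (.leaf 0)) (.node 9959 (.leaf 0) (.leaf 0)))) (.node 9964 (.node 9962 (.node 9961 (.leaf 0) (.leaf 0)) (.node 9963 (.leaf 0) (.leaf 0))) (.node 9966 (.node 9965 (.leaf 0) (.leaf 0)) (.node 9967 (.leaf 0) (.leaf 0))))) (.node 9976 (.node 9972 (.node 9970 (.node 9969 (.leaf 0) (.leaf 0)) (.node 9971 (.leaf 0) (.leaf 0))) (.node 9974 (.node 9973 (.leaf 0) (.leaf 0)) (.node 9975 (.leaf 0) (.leaf 0)))) (.node 9980 (.node 9978 (.node 9977 (.leaf 0) (.leaf 0)) (.node 9979 (.leaf 0) (.leaf 0))) (.node 9982 (.node 9981 (.leaf 0) (.leaf 0)) (.node 9983 (.leaf 0) (.leaf 0))))))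

def regKPB312 : Bst := (.node 10000 (.node 9992 (.node 9988 (.node 9986 (.node 9985 (.leaf 0) (.leaf 0)) (.node 9987 (.leaf 0) (.leaf 0))) (.node 9990 (.node 9989 (.leaf 0) (.leaf 0)) (.node 9991 (.leaf 0) (.leaf 0)))) (.node 9996 (.node 9994 (.node 9993 (.leaf 0) (.leaf 0)) (.node 9995 (.leaf 0) (.leaf 0))) (.node 9998 (.node 9997 (.leaf 0) (.leaf 0)) (.node 9999 (.leaf 0) (.leaf 0))))) (.node 10008 (.node 10004 (.node 10002 (.node 10001 (.leaf 0) (.leaf 0)) (.node 10003 (.leaf 0) (.leaf 0))) (.node 10006 (.node 10005 (.leaf 0) (.leaf 0)) (.node 10007 (.leaf 0) (.leaf 0)))) (.node 10012 (.node 10010 (.node 10009 (.leaf 0) (.leaf 0)) (.node 10011 (.leaf 0) (.leaf 0))) (.node 10014 (.node 10013 (.leaf 0) (.leaf 0)) (.node 10015 (.leaf 0) (.leaf 0))))))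

def regKPB313 : Bst := (.node 10032 (.node 10024 (.node 10020 (.node 10018 (.node 10017 (.leaf 0) (.leaf 0)) (.node 10019 (.leaf 0) (.leaf 0))) (.node 10022 (.node 10021 (.leaf 0) (.leaf 0)) (.node 10023 (.leaf 0) (.leaf 0)))) (.node 10028 (.node 10026 (.node 10025 (.leaf 0) (.leaf 0)) (.node 10027 (.leaf 0) (.leaf 0))) (.node 10030 (.node 10029 (.leaf 0) (.leaf 0)) (.node 10031 (.leaf 0) (.leaf 0))))) (.node 10040 (.node 10036 (.node 10034 (.node 10033 (.leaf 0) (.leaf 0)) (.node 10035 (.leaf 0) (.leaf 0))) (.node 10038 (.node 10037 (.leaf 0) (.leaf 0)) (.node 10039 (.leaf 0) (.leaf 0)))) (.node 10044 (.node 10042 (.node 10041 (.leaf 0) (.leaf 0)) (.node 10043 (.leaf 0) (.leaf 0))) (.node 10046 (.node 10045 (.leaf 0) (.leaf 0)) (.node 10047 (.leaf 0) (.leaf 0))))))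

def regKPB314 : Bst := (.node 10064 (.node 10056 (.node 10052 (.node 10050 (.node 10049 (.leaf 0) (.leaf 0)) (.node 10051 (.leaf 0) (.leaf 0))) (.node 10054 (.node 10053 (.leaf 0) (.leaf 0)) (.node 10055 (.leaf 0) (.leaf 0)))) (.node 10060 (.node 10058 (.node 10057 (.leaf 0) (.leaf 0)) (.node 10059 (.leaf 0) (.leaf 0))) (.node 10062 (.node 10061 (.leaf 0) (.leaf 0)) (.node 10063 (.leaf 0) (.leaf 0))))) (.node 10072 (.node 10068 (.node 10066 (.node 10065 (.leaf 0) (.leaf 0)) (.node 10067 (.leaf 0) (.leaf 0))) (.node 10070 (.node 10069 (.leaf 0) (.leaf 0)) (.node 10071 (.leaf 0) (.leaf 0)))) (.node 10076 (.node 10074 (.node 10073 (.leaf 0) (.leaf 0)) (.node 10075 (.leaf 0) (.leaf 0))) (.node 10078 (.node 10077 (.leaf 0) (.leaf 0)) (.node 10079 (.leaf 0) (.leaf 0))))))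

def regKPB315 : Bst := (.node 10096 (.node 10088 (.node 10084 (.node 10082 (.node 10081 (.leaf 0) (.leaf 0)) (.node 10083 (.leaf 0) (.leaf 0))) (.node 10086 (.node 10085 (.leaf 0) (.leaf 0)) (.node 10087 (.leaf 0) (.leaf 0)))) (.node 10092 (.node 10090 (.node 10089 (.leaf 0) (.leaf 0)) (.node 10091 (.leaf 0) (.leaf 0))) (.node 10094 (.node 10093 (.leaf 0) (.leaf 0)) (.node 10095 (.leaf 0) (.leaf 0))))) (.node 10104 (.node 10100 (.node 10098 (.node 10097 (.leaf 0) (.leaf 0)) (.node 10099 (.leaf 0) (.leaf 0))) (.node 10102 (.node 10101 (.leaf 0) (.leaf 0)) (.node 10103 (.leaf 0) (.leaf 0)))) (.node 10108 (.node 10106 (.node 10105 (.leaf 0) (.leaf 0)) (.node 10107 (.leaf 0) (.leaf 0))) (.node 10110 (.node 10109 (.leaf 0) (.leaf 0)) (.node 10111 (.leaf 0) (.leaf 0))))))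

def regKPB316 : Bst := (.node 10128 (.node 10120 (.node 10116 (.node 10114 (.node 10113 (.leaf 0) (.leaf 0)) (.node 10115 (.leaf 0) (.leaf 0))) (.node 10118 (.node 10117 (.leaf 0) (.leaf 0)) (.node 10119 (.leaf 0) (.leaf 0)))) (.node 10124 (.node 10122 (.node 10121 (.leaf 0) (.leaf 0)) (.node 10123 (.leaf 0) (.leaf 0))) (.node 10126 (.node 10125 (.leaf 0) (.leaf 0)) (.node 10127 (.leaf 0) (.leaf 0))))) (.node 10136 (.node 10132 (.node 10130 (.node 10129 (.leaf 0) (.leaf 0)) (.node 10131 (.leaf 0) (.leaf 0))) (.node 10134 (.node 10133 (.leaf 0) (.leaf 0)) (.node 10135 (.leaf 0) (.leaf 0)))) (.node 10140 (.node 10138 (.node 10137 (.leaf 0) (.leaf 0)) (.node 10139 (.leaf 0) (.leaf 0))) (.node 10142 (.node 10141 (.leaf 0) (.leaf 0)) (.node 10143 (.leaf 0) (.leaf 0))))))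

def regKPB317 : Bst := (.node 10160 (.node 10152 (.node 10148 (.node 10146 (.node 10145 (.leaf 0) (.leaf 0)) (.node 10147 (.leaf 0) (.leaf 0))) (.node 10150 (.node 10149 (.leaf 0) (.leaf 0)) (.node 10151 (.leaf 0) (.leaf 0)))) (.node 10156 (.node 10154 (.node 10153 (.leaf 0) (.leaf 0)) (.node 10155 (.leaf 0) (.leaf 0))) (.node 10158 (.node 10157 (.leaf 0) (.leaf 0)) (.node 10159 (.leaf 0) (.leaf 0))))) (.node 10168 (.node 10164 (.node 10162 (.node 10161 (.leaf 0) (.leaf 0)) (.node 10163 (.leaf 0) (.leaf 0))) (.node 10166 (.node 10165 (.leaf 0) (.leaf 0)) (.node 10167 (.leaf 0) (.leaf 0)))) (.node 10172 (.node 10170 (.node 10169 (.leaf 0) (.leaf 0)) (.node 10171 (.leaf 0) (.leaf 0))) (.node 10174 (.node 10173 (.leaf 0) (.leaf 0)) (.node 10175 (.leaf 0) (.leaf 0))))))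

def regKPB318 : Bst := (.node 10192 (.node 10184 (.node 10180 (.node 10178 (.node 10177 (.leaf 0) (.leaf 0)) (.node 10179 (.leaf 0) (.leaf 0))) (.node 10182 (.node 10181 (.leaf 0) (.leaf 0)) (.node 10183 (.leaf 0) (.leaf 0)))) (.node 10188 (.node 10186 (.node 10185 (.leaf 0) (.leaf 0)) (.node 10187 (.leaf 0) (.leaf 0))) (.node 10190 (.node 10189 (.leaf 0) (.leaf 0)) (.node 10191 (.leaf 0) (.leaf 0))))) (.node 10200 (.node 10196 (.node 10194 (.node 10193 (.leaf 0) (.leaf 0)) (.node 10195 (.leaf 0) (.leaf 0))) (.node 10198 (.node 10197 (.leaf 0) (.leaf 0)) (.node 10199 (.leaf 0) (.leaf 0)))) (.node 10204 (.node 10202 (.node 10201 (.leaf 0) (.leaf 0)) (.node 10203 (.leaf 0) (.leaf 0))) (.node 10206 (.node 10205 (.leaf 0) (.leaf 0)) (.node 10207 (.leaf 0) (.leaf 0))))))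

def regKPB319 : Bst := (.node 10224 (.node 10216 (.node 10212 (.node 10210 (.node 10209 (.leaf 0) (.leaf 0)) (.node 10211 (.leaf 0) (.leaf 0))) (.node 10214 (.node 10213 (.leaf 0) (.leaf 0)) (.node 10215 (.leaf 0) (.leaf 0)))) (.node 10220 (.node 10218 (.node 10217 (.leaf 0) (.leaf 0)) (.node 10219 (.leaf 0) (.leaf 0))) (.node 10222 (.node 10221 (.leaf 0) (.leaf 0)) (.node 10223 (.leaf 0) (.leaf 0))))) (.node 10232 (.node 10228 (.node 10226 (.node 10225 (.leaf 0) (.leaf 0)) (.node 10227 (.leaf 0) (.leaf 0))) (.node 10230 (.node 10229 (.leaf 0) (.leaf 0)) (.node 10231 (.leaf 0) (.leaf 0)))) (.node 10236 (.node 10234 (.node 10233 (.leaf 0) (.leaf 0)) (.node 10235 (.leaf 0) (.leaf 0))) (.node 10238 (.node 10237 (.leaf 0) (.leaf 0)) (.node 10239 (.leaf 0) (.leaf 0))))))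

def regKPB320 : Bst := (.node 10256 (.node 10248 (.node 10244 (.node 10242 (.node 10241 (.leaf 0) (.leaf 0)) (.node 10243 (.leaf 0) (.leaf 0))) (.node 10246 (.node 10245 (.leaf 0) (.leaf 0)) (.node 10247 (.leaf 0) (.leaf 0)))) (.node 10252 (.node 10250 (.node 10249 (.leaf 0) (.leaf 0)) (.node 10251 (.leaf 0) (.leaf 0))) (.node 10254 (.node 10253 (.leaf 0) (.leaf 0)) (.node 10255 (.leaf 0) (.leaf 0))))) (.node 10264 (.node 10260 (.node 10258 (.node 10257 (.leaf 0) (.leaf 0)) (.node 10259 (.leaf 0) (.leaf 0))) (.node 10262 (.node 10261 (.leaf 0) (.leaf 0)) (.node 10263 (.leaf 0) (.leaf 0)))) (.node 10268 (.node 10266 (.node 10265 (.leaf 0) (.leaf 0)) (.node 10267 (.leaf 0) (.leaf 0))) (.node 10270 (.node 10269 (.leaf 0) (.leaf 0)) (.node 10271 (.leaf 0) (.leaf 0))))))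

def regKPB321 : Bst := (.node 10288 (.node 10280 (.node 10276 (.node 10274 (.node 10273 (.leaf 0) (.leaf 0)) (.node 10275 (.leaf 0) (.leaf 0))) (.node 10278 (.node 10277 (.leaf 0) (.leaf 0)) (.node 10279 (.leaf 0) (.leaf 0)))) (.node 10284 (.node 10282 (.node 10281 (.leaf 0) (.leaf 0)) (.node 10283 (.leaf 0) (.leaf 0))) (.node 10286 (.node 10285 (.leaf 0) (.leaf 0)) (.node 10287 (.leaf 0) (.leaf 0))))) (.node 10296 (.node 10292 (.node 10290 (.node 10289 (.leaf 0) (.leaf 0)) (.node 10291 (.leaf 0) (.leaf 0x56000dc0000000000))) (.node 10294 (.node 10293 (.leaf 0) (.leaf 0)) (.node 10295 (.leaf 0) (.leaf 0)))) (.node 10300 (.node 10298 (.node 10297 (.leaf 0) (.leaf 0)) (.node 10299 (.leaf 0) (.leaf 0))) (.node 10302 (.node 10301 (.leaf 0) (.leaf 0)) (.node 10303 (.leaf 0) (.leaf 0))))))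

def regKPB322 : Bst := (.node 10320 (.node 10312 (.node 10308 (.node 10306 (.node 10305 (.leaf 0) (.leaf 0)) (.node 10307 (.leaf 0) (.leaf 0))) (.node 10310 (.node 10309 (.leaf 0) (.leaf 0)) (.node 10311 (.leaf 0) (.leaf 0)))) (.node 10316 (.node 10314 (.node 10313 (.leaf 0) (.leaf 0)) (.node 10315 (.leaf 0) (.leaf 0))) (.node 10318 (.node 10317 (.leaf 0) (.leaf 0)) (.node 10319 (.leaf 0) (.leaf 0))))) (.node 10328 (.node 10324 (.node 10322 (.node 10321 (.leaf 0) (.leaf 0)) (.node 10323 (.leaf 0) (.leaf 0))) (.node 10326 (.node 10325 (.leaf 0) (.leaf 0)) (.node 10327 (.leaf 0) (.leaf 0)))) (.node 10332 (.node 10330 (.node 10329 (.leaf 0) (.leaf 0)) (.node 10331 (.leaf 0) (.leaf 0))) (.node 10334 (.node 10333 (.leaf 0) (.leaf 0)) (.node 10335 (.leaf 0) (.leaf 0))))))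

def regKPB323 : Bst := (.node 10352 (.node 10344 (.node 10340 (.node 10338 (.node 10337 (.leaf 0) (.leaf 0)) (.node 10339 (.leaf 0) (.leaf 0))) (.node 10342 (.node 10341 (.leaf 0) (.leaf 0)) (.node 10343 (.leaf 0) (.leaf 0)))) (.node 10348 (.node 10346 (.node 10345 (.leaf 0) (.leaf 0)) (.node 10347 (.leaf 0) (.leaf 0))) (.node 10350 (.node 10349 (.leaf 0) (.leaf 0)) (.node 10351 (.leaf 0) (.leaf 0))))) (.node 10360 (.node 10356 (.node 10354 (.node 10353 (.leaf 0) (.leaf 0)) (.node 10355 (.leaf 0) (.leaf 0))) (.node 10358 (.node 10357 (.leaf 0) (.leaf 0)) (.node 10359 (.leaf 0) (.leaf 0)))) (.node 10364 (.node 10362 (.node 10361 (.leaf 0) (.leaf 0)) (.node 10363 (.leaf 0) (.leaf 0))) (.node 10366 (.node 10365 (.leaf 0) (.leaf 0)) (.node 10367 (.leaf 0) (.leaf 0))))))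

def regKPB324 : Bst := (.node 10384 (.node 10376 (.node 10372 (.node 10370 (.node 10369 (.leaf 0) (.leaf 0)) (.node 10371 (.leaf 0) (.leaf 0))) (.node 10374 (.node 10373 (.leaf 0) (.leaf 0)) (.node 10375 (.leaf 0) (.leaf 0)))) (.node 10380 (.node 10378 (.node 10377 (.leaf 0) (.leaf 0)) (.node 10379 (.leaf 0) (.leaf 0))) (.node 10382 (.node 10381 (.leaf 0) (.leaf 0)) (.node 10383 (.leaf 0) (.leaf 0))))) (.node 10392 (.node 10388 (.node 10386 (.node 10385 (.leaf 0) (.leaf 0)) (.node 10387 (.leaf 0) (.leaf 0))) (.node 10390 (.node 10389 (.leaf 0) (.leaf 0x7c0002a001b400000)) (.node 10391 (.leaf 0) (.leaf 0)))) (.node 10396 (.node 10394 (.node 10393 (.leaf 0) (.leaf 0)) (.node 10395 (.leaf 0) (.leaf 0))) (.node 10398 (.node 10397 (.leaf 0) (.leaf 0)) (.node 10399 (.leaf 0) (.leaf 0x28d001dc0000000000))))))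

def regKPB325 : Bst := (.node 10416 (.node 10408 (.node 10404 (.node 10402 (.node 10401 (.leaf 0x287) (.leaf 0)) (.node 10403 (.leaf 0) (.leaf 0))) (.node 10406 (.node 10405 (.leaf 0) (.leaf 0)) (.node 10407 (.leaf 0) (.leaf 0)))) (.node 10412 (.node 10410 (.node 10409 (.leaf 0) (.leaf 0)) (.node 10411 (.leaf 0) (.leaf 0))) (.node 10414 (.node 10413 (.leaf 0) (.leaf 0)) (.node 10415 (.leaf 0) (.leaf 0))))) (.node 10424 (.node 10420 (.node 10418 (.node 10417 (.leaf 0) (.leaf 0)) (.node 10419 (.leaf 0) (.leaf 0))) (.node 10422 (.node 10421 (.leaf 0) (.leaf 0)) (.node 10423 (.leaf 0) (.leaf 0)))) (.node 10428 (.node 10426 (.node 10425 (.leaf 0) (.leaf 0)) (.node 10427 (.leaf 0) (.leaf 0))) (.node 10430 (.node 10429 (.leaf 0) (.leaf 0)) (.node 10431 (.leaf 0) (.leaf 0))))))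

def regKPB326 : Bst := (.node 10448 (.node 10440 (.node 10436 (.node 10434 (.node 10433 (.leaf 0) (.leaf 0)) (.node 10435 (.leaf 0) (.leaf 0))) (.node 10438 (.node 10437 (.leaf 0) (.leaf 0)) (.node 10439 (.leaf 0) (.leaf 0)))) (.node 10444 (.node 10442 (.node 10441 (.leaf 0) (.leaf 0)) (.node 10443 (.leaf 0) (.leaf 0))) (.node 10446 (.node 10445 (.leaf 0) (.leaf 0)) (.node 10447 (.leaf 0) (.leaf 0))))) (.node 10456 (.node 10452 (.node 10450 (.node 10449 (.leaf 0) (.leaf 0)) (.node 10451 (.leaf 0) (.leaf 0))) (.node 10454 (.node 10453 (.leaf 0) (.leaf 0)) (.node 10455 (.leaf 0) (.leaf 0)))) (.node 10460 (.node 10458 (.node 10457 (.leaf 0) (.leaf 0)) (.node 10459 (.leaf 0) (.leaf 0))) (.node 10462 (.node 10461 (.leaf 0) (.leaf 0)) (.node 10463 (.leaf 0) (.leaf 0))))))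

def regKPB327 : Bst := (.node 10480 (.node 10472 (.node 10468 (.node 10466 (.node 10465 (.leaf 0) (.leaf 0)) (.node 10467 (.leaf 0) (.leaf 0))) (.node 10470 (.node 10469 (.leaf 0) (.leaf 0)) (.node 10471 (.leaf 0) (.leaf 0)))) (.node 10476 (.node 10474 (.node 10473 (.leaf 0) (.leaf 0)) (.node 10475 (.leaf 0) (.leaf 0))) (.node 10478 (.node 10477 (.leaf 0) (.leaf 0)) (.node 10479 (.leaf 0) (.leaf 0))))) (.node 10488 (.node 10484 (.node 10482 (.node 10481 (.leaf 0) (.leaf 0)) (.node 10483 (.leaf 0) (.leaf 0))) (.node 10486 (.node 10485 (.leaf 0) (.leaf 0)) (.node 10487 (.leaf 0) (.leaf 0)))) (.node 10492 (.node 10490 (.node 10489 (.leaf 0) (.leaf 0)) (.node 10491 (.leaf 0) (.leaf 0))) (.node 10494 (.node 10493 (.leaf 0) (.leaf 0)) (.node 10495 (.leaf 0) (.leaf 0))))))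

def regKPB328 : Bst := (.node 10512 (.node 10504 (.node 10500 (.node 10498 (.node 10497 (.leaf 0) (.leaf 0)) (.node 10499 (.leaf 0) (.leaf 0))) (.node 10502 (.node 10501 (.leaf 0) (.leaf 0)) (.node 10503 (.leaf 0) (.leaf 0)))) (.node 10508 (.node 10506 (.node 10505 (.leaf 0) (.leaf 0)) (.node 10507 (.leaf 0) (.leaf 0))) (.node 10510 (.node 10509 (.leaf 0) (.leaf 0)) (.node 10511 (.leaf 0) (.leaf 0))))) (.node 10520 (.node 10516 (.node 10514 (.node 10513 (.leaf 0) (.leaf 0)) (.node 10515 (.leaf 0) (.leaf 0))) (.node 10518 (.node 10517 (.leaf 0) (.leaf 0)) (.node 10519 (.leaf 0) (.leaf 0)))) (.node 10524 (.node 10522 (.node 10521 (.leaf 0) (.leaf 0)) (.node 10523 (.leaf 0) (.leaf 0))) (.node 10526 (.node 10525 (.leaf 0) (.leaf 0)) (.node 10527 (.leaf 0) (.leaf 0))))))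

def regKPB329 : Bst := (.node 10544 (.node 10536 (.node 10532 (.node 10530 (.node 10529 (.leaf 0) (.leaf 0)) (.node 10531 (.leaf 0) (.leaf 0))) (.node 10534 (.node 10533 (.leaf 0) (.leaf 0)) (.node 10535 (.leaf 0) (.leaf 0)))) (.node 10540 (.node 10538 (.node 10537 (.leaf 0) (.leaf 0)) (.node 10539 (.leaf 0) (.leaf 0))) (.node 10542 (.node 10541 (.leaf 0) (.leaf 0)) (.node 10543 (.leaf 0) (.leaf 0))))) (.node 10552 (.node 10548 (.node 10546 (.node 10545 (.leaf 0) (.leaf 0)) (.node 10547 (.leaf 0) (.leaf 0))) (.node 10550 (.node 10549 (.leaf 0) (.leaf 0)) (.node 10551 (.leaf 0) (.leaf 0)))) (.node 10556 (.node 10554 (.node 10553 (.leaf 0) (.leaf 0)) (.node 10555 (.leaf 0) (.leaf 0))) (.node 10558 (.node 10557 (.leaf 0) (.leaf 0)) (.node 10559 (.leaf 0) (.leaf 0))))))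

def regKPB330 : Bst := (.node 10576 (.node 10568 (.node 10564 (.node 10562 (.node 10561 (.leaf 0) (.leaf 0)) (.node 10563 (.leaf 0) (.leaf 0))) (.node 10566 (.node 10565 (.leaf 0) (.leaf 0)) (.node 10567 (.leaf 0) (.leaf 0)))) (.node 10572 (.node 10570 (.node 10569 (.leaf 0) (.leaf 0)) (.node 10571 (.leaf 0) (.leaf 0))) (.node 10574 (.node 10573 (.leaf 0) (.leaf 0)) (.node 10575 (.leaf 0) (.leaf 0))))) (.node 10584 (.node 10580 (.node 10578 (.node 10577 (.leaf 0) (.leaf 0)) (.node 10579 (.leaf 0) (.leaf 0))) (.node 10582 (.node 10581 (.leaf 0) (.leaf 0)) (.node 10583 (.leaf 0) (.leaf 0)))) (.node 10588 (.node 10586 (.node 10585 (.leaf 0) (.leaf 0)) (.node 10587 (.leaf 0) (.leaf 0))) (.node 10590 (.node 10589 (.leaf 0) (.leaf 0)) (.node 10591 (.leaf 0) (.leaf 0))))))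

def regKPB331 : Bst := (.node 10608 (.node 10600 (.node 10596 (.node 10594 (.node 10593 (.leaf 0) (.leaf 0)) (.node 10595 (.leaf 0) (.leaf 0))) (.node 10598 (.node 10597 (.leaf 0) (.leaf 0)) (.node 10599 (.leaf 0) (.leaf 0)))) (.node 10604 (.node 10602 (.node 10601 (.leaf 0) (.leaf 0)) (.node 10603 (.leaf 0) (.leaf 0))) (.node 10606 (.node 10605 (.leaf 0) (.leaf 0)) (.node 10607 (.leaf 0) (.leaf 0))))) (.node 10616 (.node 10612 (.node 10610 (.node 10609 (.leaf 0) (.leaf 0)) (.node 10611 (.leaf 0) (.leaf 0))) (.node 10614 (.node 10613 (.leaf 0) (.leaf 0)) (.node 10615 (.leaf 0) (.leaf 0)))) (.node 10620 (.node 10618 (.node 10617 (.leaf 0) (.leaf 0)) (.node 10619 (.leaf 0) (.leaf 0))) (.node 10622 (.node 10621 (.leaf 0) (.leaf 0)) (.node 10623 (.leaf 0) (.leaf 0))))))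

def regKPB332 : Bst := (.node 10640 (.node 10632 (.node 10628 (.node 10626 (.node 10625 (.leaf 0) (.leaf 0)) (.node 10627 (.leaf 0) (.leaf 0))) (.node 10630 (.node 10629 (.leaf 0) (.leaf 0)) (.node 10631 (.leaf 0) (.leaf 0)))) (.node 10636 (.node 10634 (.node 10633 (.leaf 0) (.leaf 0)) (.node 10635 (.leaf 0) (.leaf 0))) (.node 10638 (.node 10637 (.leaf 0) (.leaf 0)) (.node 10639 (.leaf 0) (.leaf 0))))) (.node 10648 (.node 10644 (.node 10642 (.node 10641 (.leaf 0) (.leaf 0)) (.node 10643 (.leaf 0) (.leaf 0))) (.node 10646 (.node 10645 (.leaf 0) (.leaf 0)) (.node 10647 (.leaf 0) (.leaf 0)))) (.node 10652 (.node 10650 (.node 10649 (.leaf 0) (.leaf 0)) (.node 10651 (.leaf 0) (.leaf 0))) (.node 10654 (.node 10653 (.leaf 0) (.leaf 0)) (.node 10655 (.leaf 0) (.leaf 0))))))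

def regKPB333 : Bst := (.node 10672 (.node 10664 (.node 10660 (.node 10658 (.node 10657 (.leaf 0) (.leaf 0)) (.node 10659 (.leaf 0) (.leaf 0))) (.node 10662 (.node 10661 (.leaf 0) (.leaf 0)) (.node 10663 (.leaf 0) (.leaf 0)))) (.node 10668 (.node 10666 (.node 10665 (.leaf 0) (.leaf 0)) (.node 10667 (.leaf 0) (.leaf 0))) (.node 10670 (.node 10669 (.leaf 0) (.leaf 0)) (.node 10671 (.leaf 0) (.leaf 0))))) (.node 10680 (.node 10676 (.node 10674 (.node 10673 (.leaf 0) (.leaf 0)) (.node 10675 (.leaf 0) (.leaf 0))) (.node 10678 (.node 10677 (.leaf 0) (.leaf 0x7f0014e0000000000)) (.node 10679 (.leaf 0x2b) (.leaf 0)))) (.node 10684 (.node 10682 (.node 10681 (.leaf 0) (.leaf 0)) (.node 10683 (.leaf 0) (.leaf 0))) (.node 10686 (.node 10685 (.leaf 0) (.leaf 0)) (.node 10687 (.leaf 0) (.leaf 0))))))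

def regKPB334 : Bst := (.node 10704 (.node 10696 (.node 10692 (.node 10690 (.node 10689 (.leaf 0x18d001f40000000000) (.leaf 0x104)) (.node 10691 (.leaf 0) (.leaf 0))) (.node 10694 (.node 10693 (.leaf 0) (.leaf 0)) (.node 10695 (.leaf 0) (.leaf 0)))) (.node 10700 (.node 10698 (.node 10697 (.leaf 0) (.leaf 0)) (.node 10699 (.leaf 0) (.leaf 0))) (.node 10702 (.node 10701 (.leaf 0) (.leaf 0)) (.node 10703 (.leaf 0) (.leaf 0))))) (.node 10712 (.node 10708 (.node 10706 (.node 10705 (.leaf 0) (.leaf 0)) (.node 10707 (.leaf 0) (.leaf 0))) (.node 10710 (.node 10709 (.leaf 0) (.leaf 0)) (.node 10711 (.leaf 0) (.leaf 0)))) (.node 10716 (.node 10714 (.node 10713 (.leaf 0) (.leaf 0)) (.node 10715 (.leaf 0) (.leaf 0))) (.node 10718 (.node 10717 (.leaf 0) (.leaf 0)) (.node 10719 (.leaf 0) (.leaf 0))))))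

def regKPB335 : Bst := (.node 10736 (.node 10728 (.node 10724 (.node 10722 (.node 10721 (.leaf 0) (.leaf 0)) (.node 10723 (.leaf 0) (.leaf 0))) (.node 10726 (.node 10725 (.leaf 0) (.leaf 0)) (.node 10727 (.leaf 0) (.leaf 0)))) (.node 10732 (.node 10730 (.node 10729 (.leaf 0) (.leaf 0)) (.node 10731 (.leaf 0) (.leaf 0))) (.node 10734 (.node 10733 (.leaf 0) (.leaf 0)) (.node 10735 (.leaf 0) (.leaf 0))))) (.node 10744 (.node 10740 (.node 10738 (.node 10737 (.leaf 0) (.leaf 0)) (.node 10739 (.leaf 0) (.leaf 0))) (.node 10742 (.node 10741 (.leaf 0) (.leaf 0)) (.node 10743 (.leaf 0) (.leaf 0)))) (.node 10748 (.node 10746 (.node 10745 (.leaf 0) (.leaf 0)) (.node 10747 (.leaf 0) (.leaf 0))) (.node 10750 (.node 10749 (.leaf 0) (.leaf 0xdd000d600000)) (.node 10751 (.leaf 0) (.leaf 0))))))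

def regKPB336 : Bst := (.node 10768 (.node 10760 (.node 10756 (.node 10754 (.node 10753 (.leaf 0) (.leaf 0)) (.node 10755 (.leaf 0) (.leaf 0))) (.node 10758 (.node 10757 (.leaf 0) (.leaf 0)) (.node 10759 (.leaf 0) (.leaf 0)))) (.node 10764 (.node 10762 (.node 10761 (.leaf 0) (.leaf 0)) (.node 10763 (.leaf 0) (.leaf 0))) (.node 10766 (.node 10765 (.leaf 0) (.leaf 0)) (.node 10767 (.leaf 0) (.leaf 0))))) (.node 10776 (.node 10772 (.node 10770 (.node 10769 (.leaf 0) (.leaf 0)) (.node 10771 (.leaf 0) (.leaf 0))) (.node 10774 (.node 10773 (.leaf 0) (.leaf 0)) (.node 10775 (.leaf 0) (.leaf 0)))) (.node 10780 (.node 10778 (.node 10777 (.leaf 0) (.leaf 0)) (.node 10779 (.leaf 0) (.leaf 0))) (.node 10782 (.node 10781 (.leaf 0) (.leaf 0)) (.node 10783 (.leaf 0) (.leaf 0))))))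

def regKPB337 : Bst := (.node 10800 (.node 10792 (.node 10788 (.node 10786 (.node 10785 (.leaf 0) (.leaf 0)) (.node 10787 (.leaf 0) (.leaf 0))) (.node 10790 (.node 10789 (.leaf 0) (.leaf 0)) (.node 10791 (.leaf 0) (.leaf 0)))) (.node 10796 (.node 10794 (.node 10793 (.leaf 0) (.leaf 0)) (.node 10795 (.leaf 0) (.leaf 0))) (.node 10798 (.node 10797 (.leaf 0) (.leaf 0)) (.node 10799 (.leaf 0) (.leaf 0))))) (.node 10808 (.node 10804 (.node 10802 (.node 10801 (.leaf 0) (.leaf 0)) (.node 10803 (.leaf 0) (.leaf 0))) (.node 10806 (.node 10805 (.leaf 0) (.leaf 0)) (.node 10807 (.leaf 0) (.leaf 0)))) (.node 10812 (.node 10810 (.node 10809 (.leaf 0) (.leaf 0)) (.node 10811 (.leaf 0) (.leaf 0))) (.node 10814 (.node 10813 (.leaf 0) (.leaf 0)) (.node 10815 (.leaf 0) (.leaf 0))))))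

def regKPB338 : Bst := (.node 10832 (.node 10824 (.node 10820 (.node 10818 (.node 10817 (.leaf 0) (.leaf 0)) (.node 10819 (.leaf 0) (.leaf 0))) (.node 10822 (.node 10821 (.leaf 0) (.leaf 0)) (.node 10823 (.leaf 0) (.leaf 0)))) (.node 10828 (.node 10826 (.node 10825 (.leaf 0) (.leaf 0)) (.node 10827 (.leaf 0) (.leaf 0))) (.node 10830 (.node 10829 (.leaf 0) (.leaf 0)) (.node 10831 (.leaf 0) (.leaf 0))))) (.node 10840 (.node 10836 (.node 10834 (.node 10833 (.leaf 0) (.leaf 0)) (.node 10835 (.leaf 0) (.leaf 0))) (.node 10838 (.node 10837 (.leaf 0) (.leaf 0)) (.node 10839 (.leaf 0) (.leaf 0)))) (.node 10844 (.node 10842 (.node 10841 (.leaf 0) (.leaf 0)) (.node 10843 (.leaf 0) (.leaf 0))) (.node 10846 (.node 10845 (.leaf 0) (.leaf 0)) (.node 10847 (.leaf 0) (.leaf 0))))))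

def regKPB339 : Bst := (.node 10864 (.node 10856 (.node 10852 (.node 10850 (.node 10849 (.leaf 0) (.leaf 0)) (.node 10851 (.leaf 0) (.leaf 0))) (.node 10854 (.node 10853 (.leaf 0) (.leaf 0)) (.node 10855 (.leaf 0) (.leaf 0)))) (.node 10860 (.node 10858 (.node 10857 (.leaf 0) (.leaf 0)) (.node 10859 (.leaf 0) (.leaf 0))) (.node 10862 (.node 10861 (.leaf 0) (.leaf 0)) (.node 10863 (.leaf 0) (.leaf 0))))) (.node 10872 (.node 10868 (.node 10866 (.node 10865 (.leaf 0) (.leaf 0)) (.node 10867 (.leaf 0) (.leaf 0))) (.node 10870 (.node 10869 (.leaf 0) (.leaf 0)) (.node 10871 (.leaf 0) (.leaf 0)))) (.node 10876 (.node 10874 (.node 10873 (.leaf 0) (.leaf 0)) (.node 10875 (.leaf 0) (.leaf 0))) (.node 10878 (.node 10877 (.leaf 0) (.leaf 0)) (.node 10879 (.leaf 0) (.leaf 0))))))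

def regKPB340 : Bst := (.node 10896 (.node 10888 (.node 10884 (.node 10882 (.node 10881 (.leaf 0) (.leaf 0)) (.node 10883 (.leaf 0) (.leaf 0))) (.node 10886 (.node 10885 (.leaf 0) (.leaf 0)) (.node 10887 (.leaf 0) (.leaf 0)))) (.node 10892 (.node 10890 (.node 10889 (.leaf 0) (.leaf 0)) (.node 10891 (.leaf 0) (.leaf 0))) (.node 10894 (.node 10893 (.leaf 0) (.leaf 0)) (.node 10895 (.leaf 0) (.leaf 0))))) (.node 10904 (.node 10900 (.node 10898 (.node 10897 (.leaf 0) (.leaf 0)) (.node 10899 (.leaf 0) (.leaf 0))) (.node 10902 (.node 10901 (.leaf 0) (.leaf 0)) (.node 10903 (.leaf 0) (.leaf 0)))) (.node 10908 (.node 10906 (.node 10905 (.leaf 0) (.leaf 0)) (.node 10907 (.leaf 0) (.leaf 0))) (.node 10910 (.node 10909 (.leaf 0) (.leaf 0)) (.node 10911 (.leaf 0) (.leaf 0))))))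

def regKPB341 : Bst := (.node 10928 (.node 10920 (.node 10916 (.node 10914 (.node 10913 (.leaf 0) (.leaf 0)) (.node 10915 (.leaf 0) (.leaf 0))) (.node 10918 (.node 10917 (.leaf 0) (.leaf 0)) (.node 10919 (.leaf 0) (.leaf 0)))) (.node 10924 (.node 10922 (.node 10921 (.leaf 0) (.leaf 0)) (.node 10923 (.leaf 0) (.leaf 0))) (.node 10926 (.node 10925 (.leaf 0) (.leaf 0)) (.node 10927 (.leaf 0) (.leaf 0))))) (.node 10936 (.node 10932 (.node 10930 (.node 10929 (.leaf 0) (.leaf 0)) (.node 10931 (.leaf 0) (.leaf 0))) (.node 10934 (.node 10933 (.leaf 0) (.leaf 0)) (.node 10935 (.leaf 0) (.leaf 0)))) (.node 10940 (.node 10938 (.node 10937 (.leaf 0) (.leaf 0)) (.node 10939 (.leaf 0) (.leaf 0))) (.node 10942 (.node 10941 (.leaf 0) (.leaf 0)) (.node 10943 (.leaf 0) (.leaf 0))))))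

def regKPB342 : Bst := (.node 10960 (.node 10952 (.node 10948 (.node 10946 (.node 10945 (.leaf 0) (.leaf 0)) (.node 10947 (.leaf 0) (.leaf 0))) (.node 10950 (.node 10949 (.leaf 0) (.leaf 0)) (.node 10951 (.leaf 0) (.leaf 0)))) (.node 10956 (.node 10954 (.node 10953 (.leaf 0) (.leaf 0)) (.node 10955 (.leaf 0) (.leaf 0))) (.node 10958 (.node 10957 (.leaf 0) (.leaf 0)) (.node 10959 (.leaf 0) (.leaf 0))))) (.node 10968 (.node 10964 (.node 10962 (.node 10961 (.leaf 0) (.leaf 0)) (.node 10963 (.leaf 0) (.leaf 0))) (.node 10966 (.node 10965 (.leaf 0) (.leaf 0)) (.node 10967 (.leaf 0) (.leaf 0)))) (.node 10972 (.node 10970 (.node 10969 (.leaf 0) (.leaf 0)) (.node 10971 (.leaf 0) (.leaf 0))) (.node 10974 (.node 10973 (.leaf 0) (.leaf 0)) (.node 10975 (.leaf 0) (.leaf 0))))))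

def regKPB343 : Bst := (.node 10992 (.node 10984 (.node 10980 (.node 10978 (.node 10977 (.leaf 0) (.leaf 0)) (.node 10979 (.leaf 0) (.leaf 0))) (.node 10982 (.node 10981 (.leaf 0) (.leaf 0)) (.node 10983 (.leaf 0) (.leaf 0)))) (.node 10988 (.node 10986 (.node 10985 (.leaf 0) (.leaf 0)) (.node 10987 (.leaf 0) (.leaf 0))) (.node 10990 (.node 10989 (.leaf 0) (.leaf 0)) (.node 10991 (.leaf 0) (.leaf 0))))) (.node 11000 (.node 10996 (.node 10994 (.node 10993 (.leaf 0) (.leaf 0)) (.node 10995 (.leaf 0) (.leaf 0))) (.node 10998 (.node 10997 (.leaf 0) (.leaf 0)) (.node 10999 (.leaf 0) (.leaf 0)))) (.node 11004 (.node 11002 (.node 11001 (.leaf 0) (.leaf 0)) (.node 11003 (.leaf 0) (.leaf 0))) (.node 11006 (.node 11005 (.leaf 0) (.leaf 0)) (.node 11007 (.leaf 0) (.leaf 0))))))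

def regKPB344 : Bst := (.node 11024 (.node 11016 (.node 11012 (.node 11010 (.node 11009 (.leaf 0) (.leaf 0)) (.node 11011 (.leaf 0) (.leaf 0))) (.node 11014 (.node 11013 (.leaf 0) (.leaf 0)) (.node 11015 (.leaf 0) (.leaf 0)))) (.node 11020 (.node 11018 (.node 11017 (.leaf 0) (.leaf 0)) (.node 11019 (.leaf 0) (.leaf 0))) (.node 11022 (.node 11021 (.leaf 0) (.leaf 0)) (.node 11023 (.leaf 0) (.leaf 0))))) (.node 11032 (.node 11028 (.node 11026 (.node 11025 (.leaf 0) (.leaf 0)) (.node 11027 (.leaf 0) (.leaf 0))) (.node 11030 (.node 11029 (.leaf 0) (.leaf 0)) (.node 11031 (.leaf 0) (.leaf 0)))) (.node 11036 (.node 11034 (.node 11033 (.leaf 0) (.leaf 0)) (.node 11035 (.leaf 0) (.leaf 0))) (.node 11038 (.node 11037 (.leaf 0) (.leaf 0)) (.node 11039 (.leaf 0) (.leaf 0))))))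

def regKPB345 : Bst := (.node 11056 (.node 11048 (.node 11044 (.node 11042 (.node 11041 (.leaf 0) (.leaf 0)) (.node 11043 (.leaf 0x1b000570000000000) (.leaf 0x58))) (.node 11046 (.node 11045 (.leaf 0) (.leaf 0)) (.node 11047 (.leaf 0) (.leaf 0)))) (.node 11052 (.node 11050 (.node 11049 (.leaf 0) (.leaf 0)) (.node 11051 (.leaf 0) (.leaf 0x18500000))) (.node 11054 (.node 11053 (.leaf 0) (.leaf 0)) (.node 11055 (.leaf 0) (.leaf 0))))) (.node 11064 (.node 11060 (.node 11058 (.node 11057 (.leaf 0x1ab001930000000000) (.leaf 0x26900264)) (.node 11059 (.leaf 0) (.leaf 0))) (.node 11062 (.node 11061 (.leaf 0) (.leaf 0)) (.node 11063 (.leaf 0) (.leaf 0)))) (.node 11068 (.node 11066 (.node 11065 (.leaf 0) (.leaf 0)) (.node 11067 (.leaf 0) (.leaf 0))) (.node 11070 (.node 11069 (.leaf 0) (.leaf 0)) (.node 11071 (.leaf 0) (.leaf 0))))))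

def regKPB346 : Bst := (.node 11088 (.node 11080 (.node 11076 (.node 11074 (.node 11073 (.leaf 0) (.leaf 0)) (.node 11075 (.leaf 0) (.leaf 0))) (.node 11078 (.node 11077 (.leaf 0) (.leaf 0)) (.node 11079 (.leaf 0) (.leaf 0)))) (.node 11084 (.node 11082 (.node 11081 (.leaf 0) (.leaf 0)) (.node 11083 (.leaf 0) (.leaf 0))) (.node 11086 (.node 11085 (.leaf 0) (.leaf 0)) (.node 11087 (.leaf 0) (.leaf 0))))) (.node 11096 (.node 11092 (.node 11090 (.node 11089 (.leaf 0) (.leaf 0)) (.node 11091 (.leaf 0) (.leaf 0))) (.node 11094 (.node 11093 (.leaf 0) (.leaf 0)) (.node 11095 (.leaf 0) (.leaf 0)))) (.node 11100 (.node 11098 (.node 11097 (.leaf 0) (.leaf 0)) (.node 11099 (.leaf 0) (.leaf 0))) (.node 11102 (.node 11101 (.leaf 0) (.leaf 0)) (.node 11103 (.leaf 0) (.leaf 0))))))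

def regKPB347 : Bst := (.node 11120 (.node 11112 (.node 11108 (.node 11106 (.node 11105 (.leaf 0) (.leaf 0)) (.node 11107 (.leaf 0) (.leaf 0))) (.node 11110 (.node 11109 (.leaf 0) (.leaf 0)) (.node 11111 (.leaf 0) (.leaf 0)))) (.node 11116 (.node 11114 (.node 11113 (.leaf 0) (.leaf 0)) (.node 11115 (.leaf 0) (.leaf 0))) (.node 11118 (.node 11117 (.leaf 0) (.leaf 0)) (.node 11119 (.leaf 0) (.leaf 0))))) (.node 11128 (.node 11124 (.node 11122 (.node 11121 (.leaf 0) (.leaf 0)) (.node 11123 (.leaf 0) (.leaf 0))) (.node 11126 (.node 11125 (.leaf 0) (.leaf 0)) (.node 11127 (.leaf 0) (.leaf 0)))) (.node 11132 (.node 11130 (.node 11129 (.leaf 0) (.leaf 0)) (.node 11131 (.leaf 0) (.leaf 0))) (.node 11134 (.node 11133 (.leaf 0) (.leaf 0)) (.node 11135 (.leaf 0) (.leaf 0))))))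

def regKPB348 : Bst := (.node 11152 (.node 11144 (.node 11140 (.node 11138 (.node 11137 (.leaf 0) (.leaf 0)) (.node 11139 (.leaf 0) (.leaf 0))) (.node 11142 (.node 11141 (.leaf 0) (.leaf 0)) (.node 11143 (.leaf 0) (.leaf 0)))) (.node 11148 (.node 11146 (.node 11145 (.leaf 0) (.leaf 0)) (.node 11147 (.leaf 0) (.leaf 0))) (.node 11150 (.node 11149 (.leaf 0) (.leaf 0)) (.node 11151 (.leaf 0) (.leaf 0))))) (.node 11160 (.node 11156 (.node 11154 (.node 11153 (.leaf 0) (.leaf 0)) (.node 11155 (.leaf 0) (.leaf 0))) (.node 11158 (.node 11157 (.leaf 0) (.leaf 0)) (.node 11159 (.leaf 0) (.leaf 0)))) (.node 11164 (.node 11162 (.node 11161 (.leaf 0) (.leaf 0)) (.node 11163 (.leaf 0) (.leaf 0))) (.node 11166 (.node 11165 (.leaf 0) (.leaf 0)) (.node 11167 (.leaf 0) (.leaf 0))))))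

def regKPB349 : Bst := (.node 11184 (.node 11176 (.node 11172 (.node 11170 (.node 11169 (.leaf 0) (.leaf 0)) (.node 11171 (.leaf 0) (.leaf 0))) (.node 11174 (.node 11173 (.leaf 0) (.leaf 0)) (.node 11175 (.leaf 0) (.leaf 0)))) (.node 11180 (.node 11178 (.node 11177 (.leaf 0) (.leaf 0)) (.node 11179 (.leaf 0) (.leaf 0))) (.node 11182 (.node 11181 (.leaf 0) (.leaf 0)) (.node 11183 (.leaf 0) (.leaf 0))))) (.node 11192 (.node 11188 (.node 11186 (.node 11185 (.leaf 0) (.leaf 0)) (.node 11187 (.leaf 0) (.leaf 0))) (.node 11190 (.node 11189 (.leaf 0) (.leaf 0)) (.node 11191 (.leaf 0) (.leaf 0)))) (.node 11196 (.node 11194 (.node 11193 (.leaf 0xbd0000000000) (.leaf 0xf20000000000)) (.node 11195 (.leaf 0) (.leaf 0))) (.node 11198 (.node 11197 (.leaf 0) (.leaf 0)) (.node 11199 (.leaf 0) (.leaf 0))))))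

def regKPB350 : Bst := (.node 11216 (.node 11208 (.node 11204 (.node 11202 (.node 11201 (.leaf 0) (.leaf 0)) (.node 11203 (.leaf 0) (.leaf 0))) (.node 11206 (.node 11205 (.leaf 0) (.leaf 0)) (.node 11207 (.leaf 0) (.leaf 0)))) (.node 11212 (.node 11210 (.node 11209 (.leaf 0) (.leaf 0)) (.node 11211 (.leaf 0) (.leaf 0))) (.node 11214 (.node 11213 (.leaf 0) (.leaf 0)) (.node 11215 (.leaf 0) (.leaf 0))))) (.node 11224 (.node 11220 (.node 11218 (.node 11217 (.leaf 0) (.leaf 0)) (.node 11219 (.leaf 0) (.leaf 0))) (.node 11222 (.node 11221 (.leaf 0) (.leaf 0)) (.node 11223 (.leaf 0) (.leaf 0)))) (.node 11228 (.node 11226 (.node 11225 (.leaf 0) (.leaf 0)) (.node 11227 (.leaf 0) (.leaf 0))) (.node 11230 (.node 11229 (.leaf 0) (.leaf 0)) (.node 11231 (.leaf 0) (.leaf 0))))))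

def regKPB351 : Bst := (.node 11248 (.node 11240 (.node 11236 (.node 11234 (.node 11233 (.leaf 0) (.leaf 0)) (.node 11235 (.leaf 0) (.leaf 0))) (.node 11238 (.node 11237 (.leaf 0) (.leaf 0)) (.node 11239 (.leaf 0) (.leaf 0)))) (.node 11244 (.node 11242 (.node 11241 (.leaf 0) (.leaf 0)) (.node 11243 (.leaf 0) (.leaf 0))) (.node 11246 (.node 11245 (.leaf 0) (.leaf 0)) (.node 11247 (.leaf 0) (.leaf 0))))) (.node 11256 (.node 11252 (.node 11250 (.node 11249 (.leaf 0) (.leaf 0)) (.node 11251 (.leaf 0) (.leaf 0))) (.node 11254 (.node 11253 (.leaf 0) (.leaf 0)) (.node 11255 (.leaf 0) (.leaf 0)))) (.node 11260 (.node 11258 (.node 11257 (.leaf 0) (.leaf 0)) (.node 11259 (.leaf 0) (.leaf 0))) (.node 11262 (.node 11261 (.leaf 0) (.leaf 0)) (.node 11263 (.leaf 0) (.leaf 0))))))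

def regKPB352 : Bst := (.node 11280 (.node 11272 (.node 11268 (.node 11266 (.node 11265 (.leaf 0) (.leaf 0)) (.node 11267 (.leaf 0) (.leaf 0))) (.node 11270 (.node 11269 (.leaf 0) (.leaf 0)) (.node 11271 (.leaf 0) (.leaf 0)))) (.node 11276 (.node 11274 (.node 11273 (.leaf 0) (.leaf 0)) (.node 11275 (.leaf 0) (.leaf 0))) (.node 11278 (.node 11277 (.leaf 0) (.leaf 0)) (.node 11279 (.leaf 0) (.leaf 0))))) (.node 11288 (.node 11284 (.node 11282 (.node 11281 (.leaf 0) (.leaf 0)) (.node 11283 (.leaf 0) (.leaf 0))) (.node 11286 (.node 11285 (.leaf 0) (.leaf 0)) (.node 11287 (.leaf 0) (.leaf 0)))) (.node 11292 (.node 11290 (.node 11289 (.leaf 0) (.leaf 0)) (.node 11291 (.leaf 0) (.leaf 0))) (.node 11294 (.node 11293 (.leaf 0) (.leaf 0)) (.node 11295 (.leaf 0) (.leaf 0))))))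

def regKPB353 : Bst := (.node 11312 (.node 11304 (.node 11300 (.node 11298 (.node 11297 (.leaf 0) (.leaf 0)) (.node 11299 (.leaf 0) (.leaf 0))) (.node 11302 (.node 11301 (.leaf 0) (.leaf 0)) (.node 11303 (.leaf 0) (.leaf 0)))) (.node 11308 (.node 11306 (.node 11305 (.leaf 0) (.leaf 0)) (.node 11307 (.leaf 0) (.leaf 0))) (.node 11310 (.node 11309 (.leaf 0) (.leaf 0x29c002790000000000)) (.node 11311 (.leaf 0) (.leaf 0))))) (.node 11320 (.node 11316 (.node 11314 (.node 11313 (.leaf 0) (.leaf 0)) (.node 11315 (.leaf 0) (.leaf 0))) (.node 11318 (.node 11317 (.leaf 0) (.leaf 0)) (.node 11319 (.leaf 0) (.leaf 0)))) (.node 11324 (.node 11322 (.node 11321 (.leaf 0) (.leaf 0)) (.node 11323 (.leaf 0) (.leaf 0))) (.node 11326 (.node 11325 (.leaf 0) (.leaf 0)) (.node 11327 (.leaf 0) (.leaf 0))))))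

def regKPB354 : Bst := (.node 11344 (.node 11336 (.node 11332 (.node 11330 (.node 11329 (.leaf 0) (.leaf 0)) (.node 11331 (.leaf 0) (.leaf 0))) (.node 11334 (.node 11333 (.leaf 0) (.leaf 0)) (.node 11335 (.leaf 0) (.leaf 0)))) (.node 11340 (.node 11338 (.node 11337 (.leaf 0) (.leaf 0)) (.node 11339 (.leaf 0) (.leaf 0))) (.node 11342 (.node 11341 (.leaf 0) (.leaf 0)) (.node 11343 (.leaf 0) (.leaf 0))))) (.node 11352 (.node 11348 (.node 11346 (.node 11345 (.leaf 0) (.leaf 0)) (.node 11347 (.leaf 0) (.leaf 0))) (.node 11350 (.node 11349 (.leaf 0xb000000000000000) (.leaf 0x1ea)) (.node 11351 (.leaf 0) (.leaf 0)))) (.node 11356 (.node 11354 (.node 11353 (.leaf 0) (.leaf 0)) (.node 11355 (.leaf 0) (.leaf 0))) (.node 11358 (.node 11357 (.leaf 0x1be0018c0026200000) (.leaf 0xde000d8)) (.node 11359 (.leaf 0) (.leaf 0))))))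

def regKPB355 : Bst := (.node 11376 (.node 11368 (.node 11364 (.node 11362 (.node 11361 (.leaf 0) (.leaf 0)) (.node 11363 (.leaf 0) (.leaf 0))) (.node 11366 (.node 11365 (.leaf 0) (.leaf 0)) (.node 11367 (.leaf 0) (.leaf 0)))) (.node 11372 (.node 11370 (.node 11369 (.leaf 0) (.leaf 0)) (.node 11371 (.leaf 0) (.leaf 0))) (.node 11374 (.node 11373 (.leaf 0) (.leaf 0)) (.node 11375 (.leaf 0) (.leaf 0))))) (.node 11384 (.node 11380 (.node 11378 (.node 11377 (.leaf 0) (.leaf 0)) (.node 11379 (.leaf 0) (.leaf 0))) (.node 11382 (.node 11381 (.leaf 0) (.leaf 0)) (.node 11383 (.leaf 0) (.leaf 0)))) (.node 11388 (.node 11386 (.node 11385 (.leaf 0) (.leaf 0)) (.node 11387 (.leaf 0) (.leaf 0))) (.node 11390 (.node 11389 (.leaf 0) (.leaf 0)) (.node 11391 (.leaf 0) (.leaf 0))))))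

def regKPB356 : Bst := (.node 11408 (.node 11400 (.node 11396 (.node 11394 (.node 11393 (.leaf 0) (.leaf 0)) (.node 11395 (.leaf 0) (.leaf 0))) (.node 11398 (.node 11397 (.leaf 0) (.leaf 0)) (.node 11399 (.leaf 0) (.leaf 0)))) (.node 11404 (.node 11402 (.node 11401 (.leaf 0) (.leaf 0)) (.node 11403 (.leaf 0) (.leaf 0))) (.node 11406 (.node 11405 (.leaf 0) (.leaf 0)) (.node 11407 (.leaf 0) (.leaf 0))))) (.node 11416 (.node 11412 (.node 11410 (.node 11409 (.leaf 0) (.leaf 0)) (.node 11411 (.leaf 0) (.leaf 0))) (.node 11414 (.node 11413 (.leaf 0x189001ec0026f00000) (.leaf 0x8a002080026c)) (.node 11415 (.leaf 0) (.leaf 0)))) (.node 11420 (.node 11418 (.node 11417 (.leaf 0) (.leaf 0)) (.node 11419 (.leaf 0) (.leaf 0))) (.node 11422 (.node 11421 (.leaf 0) (.leaf 0x540000000000)) (.node 11423 (.leaf 0) (.leaf 0))))))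

def regKPB357 : Bst := (.node 11440 (.node 11432 (.node 11428 (.node 11426 (.node 11425 (.leaf 0) (.leaf 0)) (.node 11427 (.leaf 0) (.leaf 0))) (.node 11430 (.node 11429 (.leaf 0) (.leaf 0)) (.node 11431 (.leaf 0) (.leaf 0)))) (.node 11436 (.node 11434 (.node 11433 (.leaf 0) (.leaf 0)) (.node 11435 (.leaf 0) (.leaf 0))) (.node 11438 (.node 11437 (.leaf 0x5e) (.leaf 0)) (.node 11439 (.leaf 0) (.leaf 0))))) (.node 11448 (.node 11444 (.node 11442 (.node 11441 (.leaf 0) (.leaf 0)) (.node 11443 (.leaf 0) (.leaf 0))) (.node 11446 (.node 11445 (.leaf 0) (.leaf 0)) (.node 11447 (.leaf 0) (.leaf 0x24d001560000000000)))) (.node 11452 (.node 11450 (.node 11449 (.leaf 0) (.leaf 0)) (.node 11451 (.leaf 0) (.leaf 0))) (.node 11454 (.node 11453 (.leaf 0) (.leaf 0)) (.node 11455 (.leaf 0) (.leaf 0))))))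

def regKPB358 : Bst := (.node 11472 (.node 11464 (.node 11460 (.node 11458 (.node 11457 (.leaf 0) (.leaf 0)) (.node 11459 (.leaf 0) (.leaf 0))) (.node 11462 (.node 11461 (.leaf 0) (.leaf 0)) (.node 11463 (.leaf 0) (.leaf 0)))) (.node 11468 (.node 11466 (.node 11465 (.leaf 0) (.leaf 0)) (.node 11467 (.leaf 0) (.leaf 0))) (.node 11470 (.node 11469 (.leaf 0) (.leaf 0)) (.node 11471 (.leaf 0) (.leaf 0))))) (.node 11480 (.node 11476 (.node 11474 (.node 11473 (.leaf 0) (.leaf 0)) (.node 11475 (.leaf 0) (.leaf 0))) (.node 11478 (.node 11477 (.leaf 0) (.leaf 0)) (.node 11479 (.leaf 0) (.leaf 0)))) (.node 11484 (.node 11482 (.node 11481 (.leaf 0) (.leaf 0)) (.node 11483 (.leaf 0) (.leaf 0))) (.node 11486 (.node 11485 (.leaf 0) (.leaf 0)) (.node 11487 (.leaf 0) (.leaf 0))))))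

def regKPB359 : Bst := (.node 11504 (.node 11496 (.node 11492 (.node 11490 (.node 11489 (.leaf 0) (.leaf 0)) (.node 11491 (.leaf 0) (.leaf 0))) (.node 11494 (.node 11493 (.leaf 0) (.leaf 0)) (.node 11495 (.leaf 0) (.leaf 0)))) (.node 11500 (.node 11498 (.node 11497 (.leaf 0) (.leaf 0)) (.node 11499 (.leaf 0) (.leaf 0))) (.node 11502 (.node 11501 (.leaf 0) (.leaf 0)) (.node 11503 (.leaf 0) (.leaf 0))))) (.node 11512 (.node 11508 (.node 11506 (.node 11505 (.leaf 0) (.leaf 0)) (.node 11507 (.leaf 0) (.leaf 0))) (.node 11510 (.node 11509 (.leaf 0) (.leaf 0)) (.node 11511 (.leaf 0) (.leaf 0)))) (.node 11516 (.node 11514 (.node 11513 (.leaf 0) (.leaf 0)) (.node 11515 (.leaf 0) (.leaf 0))) (.node 11518 (.node 11517 (.leaf 0) (.leaf 0)) (.node 11519 (.leaf 0) (.leaf 0))))))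

def regKPB360 : Bst := (.node 11536 (.node 11528 (.node 11524 (.node 11522 (.node 11521 (.leaf 0) (.leaf 0)) (.node 11523 (.leaf 0) (.leaf 0))) (.node 11526 (.node 11525 (.leaf 0) (.leaf 0)) (.node 11527 (.leaf 0) (.leaf 0)))) (.node 11532 (.node 11530 (.node 11529 (.leaf 0) (.leaf 0)) (.node 11531 (.leaf 0) (.leaf 0))) (.node 11534 (.node 11533 (.leaf 0) (.leaf 0)) (.node 11535 (.leaf 0) (.leaf 0))))) (.node 11544 (.node 11540 (.node 11538 (.node 11537 (.leaf 0) (.leaf 0)) (.node 11539 (.leaf 0) (.leaf 0))) (.node 11542 (.node 11541 (.leaf 0) (.leaf 0)) (.node 11543 (.leaf 0) (.leaf 0)))) (.node 11548 (.node 11546 (.node 11545 (.leaf 0) (.leaf 0)) (.node 11547 (.leaf 0) (.leaf 0))) (.node 11550 (.node 11549 (.leaf 0) (.leaf 0)) (.node 11551 (.leaf 0) (.leaf 0))))))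

def regKPB361 : Bst := (.node 11568 (.node 11560 (.node 11556 (.node 11554 (.node 11553 (.leaf 0) (.leaf 0)) (.node 11555 (.leaf 0) (.leaf 0))) (.node 11558 (.node 11557 (.leaf 0) (.leaf 0)) (.node 11559 (.leaf 0) (.leaf 0)))) (.node 11564 (.node 11562 (.node 11561 (.leaf 0) (.leaf 0)) (.node 11563 (.leaf 0) (.leaf 0))) (.node 11566 (.node 11565 (.leaf 0) (.leaf 0)) (.node 11567 (.leaf 0) (.leaf 0))))) (.node 11576 (.node 11572 (.node 11570 (.node 11569 (.leaf 0) (.leaf 0)) (.node 11571 (.leaf 0) (.leaf 0))) (.node 11574 (.node 11573 (.leaf 0) (.leaf 0)) (.node 11575 (.leaf 0) (.leaf 0)))) (.node 11580 (.node 11578 (.node 11577 (.leaf 0) (.leaf 0)) (.node 11579 (.leaf 0) (.leaf 0))) (.node 11582 (.node 11581 (.leaf 0) (.leaf 0)) (.node 11583 (.leaf 0) (.leaf 0))))))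

def regKPB362 : Bst := (.node 11600 (.node 11592 (.node 11588 (.node 11586 (.node 11585 (.leaf 0) (.leaf 0)) (.node 11587 (.leaf 0) (.leaf 0))) (.node 11590 (.node 11589 (.leaf 0) (.leaf 0)) (.node 11591 (.leaf 0) (.leaf 0)))) (.node 11596 (.node 11594 (.node 11593 (.leaf 0) (.leaf 0)) (.node 11595 (.leaf 0) (.leaf 0))) (.node 11598 (.node 11597 (.leaf 0) (.leaf 0)) (.node 11599 (.leaf 0) (.leaf 0))))) (.node 11608 (.node 11604 (.node 11602 (.node 11601 (.leaf 0) (.leaf 0)) (.node 11603 (.leaf 0) (.leaf 0))) (.node 11606 (.node 11605 (.leaf 0) (.leaf 0)) (.node 11607 (.leaf 0) (.leaf 0)))) (.node 11612 (.node 11610 (.node 11609 (.leaf 0) (.leaf 0)) (.node 11611 (.leaf 0) (.leaf 0))) (.node 11614 (.node 11613 (.leaf 0) (.leaf 0)) (.node 11615 (.leaf 0) (.leaf 0))))))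

def regKPB363 : Bst := (.node 11632 (.node 11624 (.node 11620 (.node 11618 (.node 11617 (.leaf 0) (.leaf 0)) (.node 11619 (.leaf 0) (.leaf 0))) (.node 11622 (.node 11621 (.leaf 0) (.leaf 0)) (.node 11623 (.leaf 0) (.leaf 0)))) (.node 11628 (.node 11626 (.node 11625 (.leaf 0) (.leaf 0)) (.node 11627 (.leaf 0) (.leaf 0))) (.node 11630 (.node 11629 (.leaf 0) (.leaf 0)) (.node 11631 (.leaf 0) (.leaf 0))))) (.node 11640 (.node 11636 (.node 11634 (.node 11633 (.leaf 0) (.leaf 0)) (.node 11635 (.leaf 0) (.leaf 0))) (.node 11638 (.node 11637 (.leaf 0) (.leaf 0)) (.node 11639 (.leaf 0) (.leaf 0)))) (.node 11644 (.node 11642 (.node 11641 (.leaf 0) (.leaf 0)) (.node 11643 (.leaf 0) (.leaf 0))) (.node 11646 (.node 11645 (.leaf 0) (.leaf 0)) (.node 11647 (.leaf 0) (.leaf 0))))))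

def regKPB364 : Bst := (.node 11664 (.node 11656 (.node 11652 (.node 11650 (.node 11649 (.leaf 0) (.leaf 0)) (.node 11651 (.leaf 0) (.leaf 0))) (.node 11654 (.node 11653 (.leaf 0) (.leaf 0)) (.node 11655 (.leaf 0) (.leaf 0)))) (.node 11660 (.node 11658 (.node 11657 (.leaf 0) (.leaf 0)) (.node 11659 (.leaf 0) (.leaf 0))) (.node 11662 (.node 11661 (.leaf 0) (.leaf 0)) (.node 11663 (.leaf 0) (.leaf 0))))) (.node 11672 (.node 11668 (.node 11666 (.node 11665 (.leaf 0) (.leaf 0)) (.node 11667 (.leaf 0) (.leaf 0))) (.node 11670 (.node 11669 (.leaf 0) (.leaf 0)) (.node 11671 (.leaf 0) (.leaf 0)))) (.node 11676 (.node 11674 (.node 11673 (.leaf 0) (.leaf 0)) (.node 11675 (.leaf 0) (.leaf 0))) (.node 11678 (.node 11677 (.leaf 0) (.leaf 0)) (.node 11679 (.leaf 0) (.leaf 0))))))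

def regKPB365 : Bst := (.node 11696 (.node 11688 (.node 11684 (.node 11682 (.node 11681 (.leaf 0) (.leaf 0)) (.node 11683 (.leaf 0) (.leaf 0))) (.node 11686 (.node 11685 (.leaf 0) (.leaf 0)) (.node 11687 (.leaf 0) (.leaf 0)))) (.node 11692 (.node 11690 (.node 11689 (.leaf 0) (.leaf 0)) (.node 11691 (.leaf 0) (.leaf 0))) (.node 11694 (.node 11693 (.leaf 0) (.leaf 0)) (.node 11695 (.leaf 0) (.leaf 0))))) (.node 11704 (.node 11700 (.node 11698 (.node 11697 (.leaf 0) (.leaf 0)) (.node 11699 (.leaf 0) (.leaf 0))) (.node 11702 (.node 11701 (.leaf 0x83000b90000000000) (.leaf 0x2c)) (.node 11703 (.leaf 0) (.leaf 0)))) (.node 11708 (.node 11706 (.node 11705 (.leaf 0) (.leaf 0)) (.node 11707 (.leaf 0x18b0000000000) (.leaf 0))) (.node 11710 (.node 11709 (.leaf 0) (.leaf 0)) (.node 11711 (.leaf 0) (.leaf 0))))))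

def regKPB366 : Bst := (.node 11728 (.node 11720 (.node 11716 (.node 11714 (.node 11713 (.leaf 0) (.leaf 0)) (.node 11715 (.leaf 0) (.leaf 0))) (.node 11718 (.node 11717 (.leaf 0) (.leaf 0)) (.node 11719 (.leaf 0) (.leaf 0)))) (.node 11724 (.node 11722 (.node 11721 (.leaf 0) (.leaf 0)) (.node 11723 (.leaf 0) (.leaf 0))) (.node 11726 (.node 11725 (.leaf 0) (.leaf 0)) (.node 11727 (.leaf 0) (.leaf 0))))) (.node 11736 (.node 11732 (.node 11730 (.node 11729 (.leaf 0) (.leaf 0)) (.node 11731 (.leaf 0) (.leaf 0))) (.node 11734 (.node 11733 (.leaf 0) (.leaf 0)) (.node 11735 (.leaf 0) (.leaf 0)))) (.node 11740 (.node 11738 (.node 11737 (.leaf 0) (.leaf 0)) (.node 11739 (.leaf 0) (.leaf 0))) (.node 11742 (.node 11741 (.leaf 0) (.leaf 0)) (.node 11743 (.leaf 0) (.leaf 0))))))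

def regKPB367 : Bst := (.node 11760 (.node 11752 (.node 11748 (.node 11746 (.node 11745 (.leaf 0) (.leaf 0)) (.node 11747 (.leaf 0) (.leaf 0))) (.node 11750 (.node 11749 (.leaf 0) (.leaf 0)) (.node 11751 (.leaf 0) (.leaf 0)))) (.node 11756 (.node 11754 (.node 11753 (.leaf 0) (.leaf 0)) (.node 11755 (.leaf 0) (.leaf 0))) (.node 11758 (.node 11757 (.leaf 0) (.leaf 0)) (.node 11759 (.leaf 0) (.leaf 0))))) (.node 11768 (.node 11764 (.node 11762 (.node 11761 (.leaf 0) (.leaf 0)) (.node 11763 (.leaf 0) (.leaf 0))) (.node 11766 (.node 11765 (.leaf 0) (.leaf 0x800000000000)) (.node 11767 (.leaf 0) (.leaf 0)))) (.node 11772 (.node 11770 (.node 11769 (.leaf 0) (.leaf 0)) (.node 11771 (.leaf 0) (.leaf 0))) (.node 11774 (.node 11773 (.leaf 0) (.leaf 0)) (.node 11775 (.leaf 0) (.leaf 0))))))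

def regKPB368 : Bst := (.node 11792 (.node 11784 (.node 11780 (.node 11778 (.node 11777 (.leaf 0) (.leaf 0)) (.node 11779 (.leaf 0) (.leaf 0))) (.node 11782 (.node 11781 (.leaf 0) (.leaf 0)) (.node 11783 (.leaf 0) (.leaf 0)))) (.node 11788 (.node 11786 (.node 11785 (.leaf 0) (.leaf 0)) (.node 11787 (.leaf 0) (.leaf 0))) (.node 11790 (.node 11789 (.leaf 0) (.leaf 0)) (.node 11791 (.leaf 0) (.leaf 0))))) (.node 11800 (.node 11796 (.node 11794 (.node 11793 (.leaf 0) (.leaf 0)) (.node 11795 (.leaf 0) (.leaf 0))) (.node 11798 (.node 11797 (.leaf 0) (.leaf 0)) (.node 11799 (.leaf 0) (.leaf 0)))) (.node 11804 (.node 11802 (.node 11801 (.leaf 0) (.leaf 0)) (.node 11803 (.leaf 0) (.leaf 0))) (.node 11806 (.node 11805 (.leaf 0) (.leaf 0)) (.node 11807 (.leaf 0) (.leaf 0))))))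

def regKPB369 : Bst := (.node 11824 (.node 11816 (.node 11812 (.node 11810 (.node 11809 (.leaf 0) (.leaf 0)) (.node 11811 (.leaf 0) (.leaf 0))) (.node 11814 (.node 11813 (.leaf 0) (.leaf 0)) (.node 11815 (.leaf 0) (.leaf 0)))) (.node 11820 (.node 11818 (.node 11817 (.leaf 0) (.leaf 0)) (.node 11819 (.leaf 0) (.leaf 0))) (.node 11822 (.node 11821 (.leaf 0) (.leaf 0)) (.node 11823 (.leaf 0) (.leaf 0))))) (.node 11832 (.node 11828 (.node 11826 (.node 11825 (.leaf 0) (.leaf 0)) (.node 11827 (.leaf 0) (.leaf 0))) (.node 11830 (.node 11829 (.leaf 0) (.leaf 0)) (.node 11831 (.leaf 0) (.leaf 0)))) (.node 11836 (.node 11834 (.node 11833 (.leaf 0) (.leaf 0)) (.node 11835 (.leaf 0) (.leaf 0))) (.node 11838 (.node 11837 (.leaf 0) (.leaf 0)) (.node 11839 (.leaf 0) (.leaf 0))))))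

def regKPB370 : Bst := (.node 11856 (.node 11848 (.node 11844 (.node 11842 (.node 11841 (.leaf 0) (.leaf 0)) (.node 11843 (.leaf 0) (.leaf 0))) (.node 11846 (.node 11845 (.leaf 0) (.leaf 0)) (.node 11847 (.leaf 0) (.leaf 0)))) (.node 11852 (.node 11850 (.node 11849 (.leaf 0) (.leaf 0)) (.node 11851 (.leaf 0) (.leaf 0))) (.node 11854 (.node 11853 (.leaf 0) (.leaf 0)) (.node 11855 (.leaf 0) (.leaf 0))))) (.node 11864 (.node 11860 (.node 11858 (.node 11857 (.leaf 0) (.leaf 0)) (.node 11859 (.leaf 0) (.leaf 0))) (.node 11862 (.node 11861 (.leaf 0) (.leaf 0)) (.node 11863 (.leaf 0) (.leaf 0)))) (.node 11868 (.node 11866 (.node 11865 (.leaf 0) (.leaf 0)) (.node 11867 (.leaf 0) (.leaf 0))) (.node 11870 (.node 11869 (.leaf 0) (.leaf 0)) (.node 11871 (.leaf 0) (.leaf 0))))))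

def regKPB371 : Bst := (.node 11888 (.node 11880 (.node 11876 (.node 11874 (.node 11873 (.leaf 0) (.leaf 0)) (.node 11875 (.leaf 0) (.leaf 0))) (.node 11878 (.node 11877 (.leaf 0) (.leaf 0)) (.node 11879 (.leaf 0) (.leaf 0)))) (.node 11884 (.node 11882 (.node 11881 (.leaf 0) (.leaf 0)) (.node 11883 (.leaf 0) (.leaf 0))) (.node 11886 (.node 11885 (.leaf 0) (.leaf 0)) (.node 11887 (.leaf 0) (.leaf 0))))) (.node 11896 (.node 11892 (.node 11890 (.node 11889 (.leaf 0) (.leaf 0)) (.node 11891 (.leaf 0) (.leaf 0))) (.node 11894 (.node 11893 (.leaf 0) (.leaf 0)) (.node 11895 (.leaf 0) (.leaf 0)))) (.node 11900 (.node 11898 (.node 11897 (.leaf 0) (.leaf 0)) (.node 11899 (.leaf 0) (.leaf 0))) (.node 11902 (.node 11901 (.leaf 0) (.leaf 0)) (.node 11903 (.leaf 0) (.leaf 0))))))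

def regKPB372 : Bst := (.node 11920 (.node 11912 (.node 11908 (.node 11906 (.node 11905 (.leaf 0) (.leaf 0)) (.node 11907 (.leaf 0) (.leaf 0))) (.node 11910 (.node 11909 (.leaf 0) (.leaf 0)) (.node 11911 (.leaf 0) (.leaf 0)))) (.node 11916 (.node 11914 (.node 11913 (.leaf 0) (.leaf 0)) (.node 11915 (.leaf 0) (.leaf 0))) (.node 11918 (.node 11917 (.leaf 0) (.leaf 0)) (.node 11919 (.leaf 0) (.leaf 0))))) (.node 11928 (.node 11924 (.node 11922 (.node 11921 (.leaf 0) (.leaf 0)) (.node 11923 (.leaf 0) (.leaf 0))) (.node 11926 (.node 11925 (.leaf 0) (.leaf 0)) (.node 11927 (.leaf 0) (.leaf 0)))) (.node 11932 (.node 11930 (.node 11929 (.leaf 0) (.leaf 0)) (.node 11931 (.leaf 0) (.leaf 0))) (.node 11934 (.node 11933 (.leaf 0) (.leaf 0)) (.node 11935 (.leaf 0) (.leaf 0))))))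

def regKPB373 : Bst := (.node 11952 (.node 11944 (.node 11940 (.node 11938 (.node 11937 (.leaf 0) (.leaf 0)) (.node 11939 (.leaf 0) (.leaf 0))) (.node 11942 (.node 11941 (.leaf 0) (.leaf 0)) (.node 11943 (.leaf 0) (.leaf 0)))) (.node 11948 (.node 11946 (.node 11945 (.leaf 0) (.leaf 0)) (.node 11947 (.leaf 0) (.leaf 0))) (.node 11950 (.node 11949 (.leaf 0) (.leaf 0)) (.node 11951 (.leaf 0) (.leaf 0))))) (.node 11960 (.node 11956 (.node 11954 (.node 11953 (.leaf 0) (.leaf 0)) (.node 11955 (.leaf 0) (.leaf 0))) (.node 11958 (.node 11957 (.leaf 0) (.leaf 0)) (.node 11959 (.leaf 0) (.leaf 0)))) (.node 11964 (.node 11962 (.node 11961 (.leaf 0) (.leaf 0)) (.node 11963 (.leaf 0) (.leaf 0))) (.node 11966 (.node 11965 (.leaf 0) (.leaf 0)) (.node 11967 (.leaf 0) (.leaf 0))))))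

def regKPB374 : Bst := (.node 11984 (.node 11976 (.node 11972 (.node 11970 (.node 11969 (.leaf 0) (.leaf 0)) (.node 11971 (.leaf 0) (.leaf 0))) (.node 11974 (.node 11973 (.leaf 0) (.leaf 0)) (.node 11975 (.leaf 0) (.leaf 0)))) (.node 11980 (.node 11978 (.node 11977 (.leaf 0) (.leaf 0)) (.node 11979 (.leaf 0) (.leaf 0))) (.node 11982 (.node 11981 (.leaf 0) (.leaf 0)) (.node 11983 (.leaf 0) (.leaf 0))))) (.node 11992 (.node 11988 (.node 11986 (.node 11985 (.leaf 0) (.leaf 0)) (.node 11987 (.leaf 0) (.leaf 0))) (.node 11990 (.node 11989 (.leaf 0) (.leaf 0)) (.node 11991 (.leaf 0) (.leaf 0)))) (.node 11996 (.node 11994 (.node 11993 (.leaf 0) (.leaf 0)) (.node 11995 (.leaf 0) (.leaf 0))) (.node 11998 (.node 11997 (.leaf 0) (.leaf 0)) (.node 11999 (.leaf 0) (.leaf 0))))))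

def regKPB375 : Bst := (.node 12016 (.node 12008 (.node 12004 (.node 12002 (.node 12001 (.leaf 0) (.leaf 0)) (.node 12003 (.leaf 0) (.leaf 0))) (.node 12006 (.node 12005 (.leaf 0) (.leaf 0)) (.node 12007 (.leaf 0) (.leaf 0)))) (.node 12012 (.node 12010 (.node 12009 (.leaf 0) (.leaf 0)) (.node 12011 (.leaf 0) (.leaf 0))) (.node 12014 (.node 12013 (.leaf 0) (.leaf 0)) (.node 12015 (.leaf 0) (.leaf 0))))) (.node 12024 (.node 12020 (.node 12018 (.node 12017 (.leaf 0) (.leaf 0)) (.node 12019 (.leaf 0) (.leaf 0))) (.node 12022 (.node 12021 (.leaf 0) (.leaf 0)) (.node 12023 (.leaf 0) (.leaf 0)))) (.node 12028 (.node 12026 (.node 12025 (.leaf 0) (.leaf 0)) (.node 12027 (.leaf 0) (.leaf 0))) (.node 12030 (.node 12029 (.leaf 0) (.leaf 0)) (.node 12031 (.leaf 0) (.leaf 0))))))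

def regKPB376 : Bst := (.node 12048 (.node 12040 (.node 12036 (.node 12034 (.node 12033 (.leaf 0) (.leaf 0)) (.node 12035 (.leaf 0) (.leaf 0))) (.node 12038 (.node 12037 (.leaf 0) (.leaf 0)) (.node 12039 (.leaf 0) (.leaf 0)))) (.node 12044 (.node 12042 (.node 12041 (.leaf 0) (.leaf 0)) (.node 12043 (.leaf 0) (.leaf 0))) (.node 12046 (.node 12045 (.leaf 0) (.leaf 0)) (.node 12047 (.leaf 0) (.leaf 0))))) (.node 12056 (.node 12052 (.node 12050 (.node 12049 (.leaf 0) (.leaf 0)) (.node 12051 (.leaf 0) (.leaf 0))) (.node 12054 (.node 12053 (.leaf 0) (.leaf 0)) (.node 12055 (.leaf 0) (.leaf 0)))) (.node 12060 (.node 12058 (.node 12057 (.leaf 0) (.leaf 0)) (.node 12059 (.leaf 0) (.leaf 0))) (.node 12062 (.node 12061 (.leaf 0) (.leaf 0)) (.node 12063 (.leaf 0) (.leaf 0))))))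

def regKPB377 : Bst := (.node 12080 (.node 12072 (.node 12068 (.node 12066 (.node 12065 (.leaf 0) (.leaf 0)) (.node 12067 (.leaf 0) (.leaf 0))) (.node 12070 (.node 12069 (.leaf 0) (.leaf 0)) (.node 12071 (.leaf 0) (.leaf 0)))) (.node 12076 (.node 12074 (.node 12073 (.leaf 0) (.leaf 0)) (.node 12075 (.leaf 0) (.leaf 0))) (.node 12078 (.node 12077 (.leaf 0) (.leaf 0)) (.node 12079 (.leaf 0) (.leaf 0))))) (.node 12088 (.node 12084 (.node 12082 (.node 12081 (.leaf 0) (.leaf 0)) (.node 12083 (.leaf 0) (.leaf 0))) (.node 12086 (.node 12085 (.leaf 0) (.leaf 0)) (.node 12087 (.leaf 0) (.leaf 0)))) (.node 12092 (.node 12090 (.node 12089 (.leaf 0) (.leaf 0)) (.node 12091 (.leaf 0) (.leaf 0))) (.node 12094 (.node 12093 (.leaf 0) (.leaf 0)) (.node 12095 (.leaf 0) (.leaf 0))))))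

def regKPB378 : Bst := (.node 12112 (.node 12104 (.node 12100 (.node 12098 (.node 12097 (.leaf 0) (.leaf 0)) (.node 12099 (.leaf 0) (.leaf 0))) (.node 12102 (.node 12101 (.leaf 0) (.leaf 0)) (.node 12103 (.leaf 0) (.leaf 0)))) (.node 12108 (.node 12106 (.node 12105 (.leaf 0) (.leaf 0)) (.node 12107 (.leaf 0) (.leaf 0))) (.node 12110 (.node 12109 (.leaf 0) (.leaf 0)) (.node 12111 (.leaf 0) (.leaf 0))))) (.node 12120 (.node 12116 (.node 12114 (.node 12113 (.leaf 0) (.leaf 0)) (.node 12115 (.leaf 0) (.leaf 0))) (.node 12118 (.node 12117 (.leaf 0) (.leaf 0)) (.node 12119 (.leaf 0) (.leaf 0)))) (.node 12124 (.node 12122 (.node 12121 (.leaf 0) (.leaf 0)) (.node 12123 (.leaf 0) (.leaf 0))) (.node 12126 (.node 12125 (.leaf 0) (.leaf 0)) (.node 12127 (.leaf 0) (.leaf 0))))))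

def regKPB379 : Bst := (.node 12144 (.node 12136 (.node 12132 (.node 12130 (.node 12129 (.leaf 0) (.leaf 0)) (.node 12131 (.leaf 0) (.leaf 0))) (.node 12134 (.node 12133 (.leaf 0) (.leaf 0)) (.node 12135 (.leaf 0) (.leaf 0)))) (.node 12140 (.node 12138 (.node 12137 (.leaf 0) (.leaf 0)) (.node 12139 (.leaf 0) (.leaf 0))) (.node 12142 (.node 12141 (.leaf 0) (.leaf 0)) (.node 12143 (.leaf 0) (.leaf 0))))) (.node 12152 (.node 12148 (.node 12146 (.node 12145 (.leaf 0) (.leaf 0)) (.node 12147 (.leaf 0) (.leaf 0))) (.node 12150 (.node 12149 (.leaf 0) (.leaf 0)) (.node 12151 (.leaf 0) (.leaf 0)))) (.node 12156 (.node 12154 (.node 12153 (.leaf 0) (.leaf 0)) (.node 12155 (.leaf 0) (.leaf 0))) (.node 12158 (.node 12157 (.leaf 0) (.leaf 0)) (.node 12159 (.leaf 0) (.leaf 0))))))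

def regKPB380 : Bst := (.node 12176 (.node 12168 (.node 12164 (.node 12162 (.node 12161 (.leaf 0) (.leaf 0)) (.node 12163 (.leaf 0) (.leaf 0))) (.node 12166 (.node 12165 (.leaf 0) (.leaf 0)) (.node 12167 (.leaf 0) (.leaf 0)))) (.node 12172 (.node 12170 (.node 12169 (.leaf 0) (.leaf 0)) (.node 12171 (.leaf 0) (.leaf 0))) (.node 12174 (.node 12173 (.leaf 0) (.leaf 0)) (.node 12175 (.leaf 0) (.leaf 0))))) (.node 12184 (.node 12180 (.node 12178 (.node 12177 (.leaf 0) (.leaf 0)) (.node 12179 (.leaf 0) (.leaf 0))) (.node 12182 (.node 12181 (.leaf 0) (.leaf 0)) (.node 12183 (.leaf 0) (.leaf 0)))) (.node 12188 (.node 12186 (.node 12185 (.leaf 0) (.leaf 0)) (.node 12187 (.leaf 0) (.leaf 0))) (.node 12190 (.node 12189 (.leaf 0) (.leaf 0)) (.node 12191 (.leaf 0) (.leaf 0))))))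

def regKPB381 : Bst := (.node 12208 (.node 12200 (.node 12196 (.node 12194 (.node 12193 (.leaf 0) (.leaf 0)) (.node 12195 (.leaf 0) (.leaf 0))) (.node 12198 (.node 12197 (.leaf 0) (.leaf 0)) (.node 12199 (.leaf 0) (.leaf 0)))) (.node 12204 (.node 12202 (.node 12201 (.leaf 0) (.leaf 0)) (.node 12203 (.leaf 0) (.leaf 0))) (.node 12206 (.node 12205 (.leaf 0) (.leaf 0)) (.node 12207 (.leaf 0) (.leaf 0))))) (.node 12216 (.node 12212 (.node 12210 (.node 12209 (.leaf 0) (.leaf 0)) (.node 12211 (.leaf 0) (.leaf 0))) (.node 12214 (.node 12213 (.leaf 0) (.leaf 0)) (.node 12215 (.leaf 0) (.leaf 0)))) (.node 12220 (.node 12218 (.node 12217 (.leaf 0) (.leaf 0)) (.node 12219 (.leaf 0) (.leaf 0))) (.node 12222 (.node 12221 (.leaf 0) (.leaf 0)) (.node 12223 (.leaf 0) (.leaf 0))))))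

def regKPB382 : Bst := (.node 12240 (.node 12232 (.node 12228 (.node 12226 (.node 12225 (.leaf 0) (.leaf 0)) (.node 12227 (.leaf 0) (.leaf 0))) (.node 12230 (.node 12229 (.leaf 0) (.leaf 0)) (.node 12231 (.leaf 0) (.leaf 0)))) (.node 12236 (.node 12234 (.node 12233 (.leaf 0) (.leaf 0)) (.node 12235 (.leaf 0) (.leaf 0))) (.node 12238 (.node 12237 (.leaf 0) (.leaf 0)) (.node 12239 (.leaf 0) (.leaf 0))))) (.node 12248 (.node 12244 (.node 12242 (.node 12241 (.leaf 0) (.leaf 0)) (.node 12243 (.leaf 0) (.leaf 0))) (.node 12246 (.node 12245 (.leaf 0) (.leaf 0)) (.node 12247 (.leaf 0) (.leaf 0)))) (.node 12252 (.node 12250 (.node 12249 (.leaf 0) (.leaf 0)) (.node 12251 (.leaf 0) (.leaf 0))) (.node 12254 (.node 12253 (.leaf 0) (.leaf 0)) (.node 12255 (.leaf 0) (.leaf 0))))))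

def regKPB383 : Bst := (.node 12272 (.node 12264 (.node 12260 (.node 12258 (.node 12257 (.leaf 0) (.leaf 0)) (.node 12259 (.leaf 0) (.leaf 0))) (.node 12262 (.node 12261 (.leaf 0) (.leaf 0)) (.node 12263 (.leaf 0) (.leaf 0)))) (.node 12268 (.node 12266 (.node 12265 (.leaf 0) (.leaf 0)) (.node 12267 (.leaf 0) (.leaf 0))) (.node 12270 (.node 12269 (.leaf 0) (.leaf 0)) (.node 12271 (.leaf 0) (.leaf 0))))) (.node 12280 (.node 12276 (.node 12274 (.node 12273 (.leaf 0) (.leaf 0)) (.node 12275 (.leaf 0) (.leaf 0))) (.node 12278 (.node 12277 (.leaf 0) (.leaf 0)) (.node 12279 (.leaf 0) (.leaf 0)))) (.node 12284 (.node 12282 (.node 12281 (.leaf 0) (.leaf 0)) (.node 12283 (.leaf 0) (.leaf 0))) (.node 12286 (.node 12285 (.leaf 0) (.leaf 0)) (.node 12287 (.leaf 0) (.leaf 0))))))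

def regKPB384 : Bst := (.node 12304 (.node 12296 (.node 12292 (.node 12290 (.node 12289 (.leaf 0) (.leaf 0)) (.node 12291 (.leaf 0) (.leaf 0))) (.node 12294 (.node 12293 (.leaf 0) (.leaf 0)) (.node 12295 (.leaf 0) (.leaf 0)))) (.node 12300 (.node 12298 (.node 12297 (.leaf 0) (.leaf 0)) (.node 12299 (.leaf 0) (.leaf 0))) (.node 12302 (.node 12301 (.leaf 0) (.leaf 0)) (.node 12303 (.leaf 0) (.leaf 0))))) (.node 12312 (.node 12308 (.node 12306 (.node 12305 (.leaf 0) (.leaf 0)) (.node 12307 (.leaf 0) (.leaf 0))) (.node 12310 (.node 12309 (.leaf 0) (.leaf 0)) (.node 12311 (.leaf 0) (.leaf 0)))) (.node 12316 (.node 12314 (.node 12313 (.leaf 0) (.leaf 0)) (.node 12315 (.leaf 0) (.leaf 0))) (.node 12318 (.node 12317 (.leaf 0) (.leaf 0)) (.node 12319 (.leaf 0) (.leaf 0))))))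

def regKPB385 : Bst := (.node 12336 (.node 12328 (.node 12324 (.node 12322 (.node 12321 (.leaf 0) (.leaf 0)) (.node 12323 (.leaf 0) (.leaf 0))) (.node 12326 (.node 12325 (.leaf 0) (.leaf 0)) (.node 12327 (.leaf 0) (.leaf 0)))) (.node 12332 (.node 12330 (.node 12329 (.leaf 0) (.leaf 0)) (.node 12331 (.leaf 0) (.leaf 0))) (.node 12334 (.node 12333 (.leaf 0) (.leaf 0)) (.node 12335 (.leaf 0) (.leaf 0))))) (.node 12344 (.node 12340 (.node 12338 (.node 12337 (.leaf 0) (.leaf 0)) (.node 12339 (.leaf 0) (.leaf 0))) (.node 12342 (.node 12341 (.leaf 0) (.leaf 0)) (.node 12343 (.leaf 0) (.leaf 0)))) (.node 12348 (.node 12346 (.node 12345 (.leaf 0) (.leaf 0)) (.node 12347 (.leaf 0) (.leaf 0))) (.node 12350 (.node 12349 (.leaf 0) (.leaf 0)) (.node 12351 (.leaf 0) (.leaf 0))))))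

def regKPB386 : Bst := (.node 12368 (.node 12360 (.node 12356 (.node 12354 (.node 12353 (.leaf 0) (.leaf 0)) (.node 12355 (.leaf 0) (.leaf 0))) (.node 12358 (.node 12357 (.leaf 0) (.leaf 0)) (.node 12359 (.leaf 0) (.leaf 0)))) (.node 12364 (.node 12362 (.node 12361 (.leaf 0) (.leaf 0)) (.node 12363 (.leaf 0) (.leaf 0))) (.node 12366 (.node 12365 (.leaf 0) (.leaf 0)) (.node 12367 (.leaf 0) (.leaf 0))))) (.node 12376 (.node 12372 (.node 12370 (.node 12369 (.leaf 0) (.leaf 0)) (.node 12371 (.leaf 0) (.leaf 0))) (.node 12374 (.node 12373 (.leaf 0) (.leaf 0)) (.node 12375 (.leaf 0) (.leaf 0)))) (.node 12380 (.node 12378 (.node 12377 (.leaf 0) (.leaf 0)) (.node 12379 (.leaf 0) (.leaf 0))) (.node 12382 (.node 12381 (.leaf 0) (.leaf 0)) (.node 12383 (.leaf 0) (.leaf 0))))))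

def regKPB387 : Bst := (.node 12400 (.node 12392 (.node 12388 (.node 12386 (.node 12385 (.leaf 0) (.leaf 0)) (.node 12387 (.leaf 0) (.leaf 0))) (.node 12390 (.node 12389 (.leaf 0) (.leaf 0)) (.node 12391 (.leaf 0) (.leaf 0)))) (.node 12396 (.node 12394 (.node 12393 (.leaf 0) (.leaf 0)) (.node 12395 (.leaf 0) (.leaf 0))) (.node 12398 (.node 12397 (.leaf 0) (.leaf 0)) (.node 12399 (.leaf 0) (.leaf 0))))) (.node 12408 (.node 12404 (.node 12402 (.node 12401 (.leaf 0) (.leaf 0)) (.node 12403 (.leaf 0) (.leaf 0))) (.node 12406 (.node 12405 (.leaf 0) (.leaf 0)) (.node 12407 (.leaf 0) (.leaf 0)))) (.node 12412 (.node 12410 (.node 12409 (.leaf 0) (.leaf 0)) (.node 12411 (.leaf 0) (.leaf 0))) (.node 12414 (.node 12413 (.leaf 0) (.leaf 0)) (.node 12415 (.leaf 0) (.leaf 0))))))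

def regKPB388 : Bst := (.node 12432 (.node 12424 (.node 12420 (.node 12418 (.node 12417 (.leaf 0) (.leaf 0)) (.node 12419 (.leaf 0) (.leaf 0))) (.node 12422 (.node 12421 (.leaf 0) (.leaf 0)) (.node 12423 (.leaf 0) (.leaf 0)))) (.node 12428 (.node 12426 (.node 12425 (.leaf 0) (.leaf 0)) (.node 12427 (.leaf 0) (.leaf 0))) (.node 12430 (.node 12429 (.leaf 0) (.leaf 0)) (.node 12431 (.leaf 0) (.leaf 0))))) (.node 12440 (.node 12436 (.node 12434 (.node 12433 (.leaf 0) (.leaf 0)) (.node 12435 (.leaf 0) (.leaf 0))) (.node 12438 (.node 12437 (.leaf 0) (.leaf 0)) (.node 12439 (.leaf 0) (.leaf 0)))) (.node 12444 (.node 12442 (.node 12441 (.leaf 0) (.leaf 0)) (.node 12443 (.leaf 0) (.leaf 0))) (.node 12446 (.node 12445 (.leaf 0) (.leaf 0)) (.node 12447 (.leaf 0) (.leaf 0))))))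

def regKPB389 : Bst := (.node 12464 (.node 12456 (.node 12452 (.node 12450 (.node 12449 (.leaf 0) (.leaf 0)) (.node 12451 (.leaf 0) (.leaf 0))) (.node 12454 (.node 12453 (.leaf 0) (.leaf 0)) (.node 12455 (.leaf 0) (.leaf 0)))) (.node 12460 (.node 12458 (.node 12457 (.leaf 0) (.leaf 0)) (.node 12459 (.leaf 0) (.leaf 0))) (.node 12462 (.node 12461 (.leaf 0) (.leaf 0)) (.node 12463 (.leaf 0) (.leaf 0))))) (.node 12472 (.node 12468 (.node 12466 (.node 12465 (.leaf 0) (.leaf 0)) (.node 12467 (.leaf 0) (.leaf 0))) (.node 12470 (.node 12469 (.leaf 0) (.leaf 0)) (.node 12471 (.leaf 0) (.leaf 0)))) (.node 12476 (.node 12474 (.node 12473 (.leaf 0) (.leaf 0)) (.node 12475 (.leaf 0) (.leaf 0))) (.node 12478 (.node 12477 (.leaf 0) (.leaf 0)) (.node 12479 (.leaf 0) (.leaf 0))))))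

def regKPB390 : Bst := (.node 12496 (.node 12488 (.node 12484 (.node 12482 (.node 12481 (.leaf 0) (.leaf 0)) (.node 12483 (.leaf 0) (.leaf 0))) (.node 12486 (.node 12485 (.leaf 0) (.leaf 0)) (.node 12487 (.leaf 0) (.leaf 0)))) (.node 12492 (.node 12490 (.node 12489 (.leaf 0) (.leaf 0)) (.node 12491 (.leaf 0) (.leaf 0))) (.node 12494 (.node 12493 (.leaf 0) (.leaf 0)) (.node 12495 (.leaf 0) (.leaf 0))))) (.node 12504 (.node 12500 (.node 12498 (.node 12497 (.leaf 0) (.leaf 0)) (.node 12499 (.leaf 0) (.leaf 0))) (.node 12502 (.node 12501 (.leaf 0) (.leaf 0)) (.node 12503 (.leaf 0) (.leaf 0)))) (.node 12508 (.node 12506 (.node 12505 (.leaf 0) (.leaf 0)) (.node 12507 (.leaf 0) (.leaf 0))) (.node 12510 (.node 12509 (.leaf 0) (.leaf 0)) (.node 12511 (.leaf 0) (.leaf 0))))))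

def regKPB391 : Bst := (.node 12528 (.node 12520 (.node 12516 (.node 12514 (.node 12513 (.leaf 0) (.leaf 0)) (.node 12515 (.leaf 0) (.leaf 0))) (.node 12518 (.node 12517 (.leaf 0) (.leaf 0)) (.node 12519 (.leaf 0) (.leaf 0)))) (.node 12524 (.node 12522 (.node 12521 (.leaf 0) (.leaf 0)) (.node 12523 (.leaf 0) (.leaf 0))) (.node 12526 (.node 12525 (.leaf 0) (.leaf 0)) (.node 12527 (.leaf 0) (.leaf 0))))) (.node 12536 (.node 12532 (.node 12530 (.node 12529 (.leaf 0) (.leaf 0)) (.node 12531 (.leaf 0) (.leaf 0))) (.node 12534 (.node 12533 (.leaf 0) (.leaf 0)) (.node 12535 (.leaf 0) (.leaf 0)))) (.node 12540 (.node 12538 (.node 12537 (.leaf 0) (.leaf 0)) (.node 12539 (.leaf 0) (.leaf 0))) (.node 12542 (.node 12541 (.leaf 0) (.leaf 0)) (.node 12543 (.leaf 0) (.leaf 0))))))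

def regKPB392 : Bst := (.node 12560 (.node 12552 (.node 12548 (.node 12546 (.node 12545 (.leaf 0) (.leaf 0)) (.node 12547 (.leaf 0) (.leaf 0))) (.node 12550 (.node 12549 (.leaf 0) (.leaf 0)) (.node 12551 (.leaf 0) (.leaf 0)))) (.node 12556 (.node 12554 (.node 12553 (.leaf 0) (.leaf 0)) (.node 12555 (.leaf 0) (.leaf 0))) (.node 12558 (.node 12557 (.leaf 0) (.leaf 0)) (.node 12559 (.leaf 0) (.leaf 0))))) (.node 12568 (.node 12564 (.node 12562 (.node 12561 (.leaf 0) (.leaf 0)) (.node 12563 (.leaf 0) (.leaf 0))) (.node 12566 (.node 12565 (.leaf 0) (.leaf 0)) (.node 12567 (.leaf 0) (.leaf 0)))) (.node 12572 (.node 12570 (.node 12569 (.leaf 0) (.leaf 0)) (.node 12571 (.leaf 0) (.leaf 0))) (.node 12574 (.node 12573 (.leaf 0) (.leaf 0)) (.node 12575 (.leaf 0) (.leaf 0))))))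

def regKPB393 : Bst := (.node 12592 (.node 12584 (.node 12580 (.node 12578 (.node 12577 (.leaf 0) (.leaf 0)) (.node 12579 (.leaf 0) (.leaf 0))) (.node 12582 (.node 12581 (.leaf 0) (.leaf 0)) (.node 12583 (.leaf 0) (.leaf 0)))) (.node 12588 (.node 12586 (.node 12585 (.leaf 0) (.leaf 0)) (.node 12587 (.leaf 0) (.leaf 0))) (.node 12590 (.node 12589 (.leaf 0) (.leaf 0)) (.node 12591 (.leaf 0) (.leaf 0))))) (.node 12600 (.node 12596 (.node 12594 (.node 12593 (.leaf 0) (.leaf 0)) (.node 12595 (.leaf 0) (.leaf 0))) (.node 12598 (.node 12597 (.leaf 0) (.leaf 0)) (.node 12599 (.leaf 0) (.leaf 0)))) (.node 12604 (.node 12602 (.node 12601 (.leaf 0) (.leaf 0)) (.node 12603 (.leaf 0) (.leaf 0))) (.node 12606 (.node 12605 (.leaf 0) (.leaf 0)) (.node 12607 (.leaf 0) (.leaf 0))))))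

def regKPB394 : Bst := (.node 12624 (.node 12616 (.node 12612 (.node 12610 (.node 12609 (.leaf 0) (.leaf 0)) (.node 12611 (.leaf 0) (.leaf 0))) (.node 12614 (.node 12613 (.leaf 0) (.leaf 0)) (.node 12615 (.leaf 0) (.leaf 0)))) (.node 12620 (.node 12618 (.node 12617 (.leaf 0) (.leaf 0)) (.node 12619 (.leaf 0) (.leaf 0))) (.node 12622 (.node 12621 (.leaf 0) (.leaf 0)) (.node 12623 (.leaf 0) (.leaf 0))))) (.node 12632 (.node 12628 (.node 12626 (.node 12625 (.leaf 0) (.leaf 0)) (.node 12627 (.leaf 0) (.leaf 0))) (.node 12630 (.node 12629 (.leaf 0) (.leaf 0)) (.node 12631 (.leaf 0) (.leaf 0)))) (.node 12636 (.node 12634 (.node 12633 (.leaf 0) (.leaf 0)) (.node 12635 (.leaf 0) (.leaf 0))) (.node 12638 (.node 12637 (.leaf 0) (.leaf 0)) (.node 12639 (.leaf 0) (.leaf 0))))))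

def regKPB395 : Bst := (.node 12656 (.node 12648 (.node 12644 (.node 12642 (.node 12641 (.leaf 0) (.leaf 0)) (.node 12643 (.leaf 0) (.leaf 0))) (.node 12646 (.node 12645 (.leaf 0) (.leaf 0)) (.node 12647 (.leaf 0) (.leaf 0)))) (.node 12652 (.node 12650 (.node 12649 (.leaf 0) (.leaf 0)) (.node 12651 (.leaf 0) (.leaf 0))) (.node 12654 (.node 12653 (.leaf 0) (.leaf 0)) (.node 12655 (.leaf 0) (.leaf 0))))) (.node 12664 (.node 12660 (.node 12658 (.node 12657 (.leaf 0) (.leaf 0)) (.node 12659 (.leaf 0) (.leaf 0))) (.node 12662 (.node 12661 (.leaf 0) (.leaf 0)) (.node 12663 (.leaf 0) (.leaf 0)))) (.node 12668 (.node 12666 (.node 12665 (.leaf 0) (.leaf 0)) (.node 12667 (.leaf 0) (.leaf 0))) (.node 12670 (.node 12669 (.leaf 0) (.leaf 0)) (.node 12671 (.leaf 0) (.leaf 0))))))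

def regKPB396 : Bst := (.node 12688 (.node 12680 (.node 12676 (.node 12674 (.node 12673 (.leaf 0) (.leaf 0)) (.node 12675 (.leaf 0) (.leaf 0))) (.node 12678 (.node 12677 (.leaf 0) (.leaf 0)) (.node 12679 (.leaf 0) (.leaf 0)))) (.node 12684 (.node 12682 (.node 12681 (.leaf 0) (.leaf 0)) (.node 12683 (.leaf 0) (.leaf 0))) (.node 12686 (.node 12685 (.leaf 0) (.leaf 0)) (.node 12687 (.leaf 0) (.leaf 0))))) (.node 12696 (.node 12692 (.node 12690 (.node 12689 (.leaf 0) (.leaf 0)) (.node 12691 (.leaf 0) (.leaf 0))) (.node 12694 (.node 12693 (.leaf 0) (.leaf 0)) (.node 12695 (.leaf 0) (.leaf 0)))) (.node 12700 (.node 12698 (.node 12697 (.leaf 0) (.leaf 0)) (.node 12699 (.leaf 0) (.leaf 0))) (.node 12702 (.node 12701 (.leaf 0) (.leaf 0)) (.node 12703 (.leaf 0) (.leaf 0))))))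

def regKPB397 : Bst := (.node 12720 (.node 12712 (.node 12708 (.node 12706 (.node 12705 (.leaf 0) (.leaf 0)) (.node 12707 (.leaf 0) (.leaf 0))) (.node 12710 (.node 12709 (.leaf 0) (.leaf 0)) (.node 12711 (.leaf 0) (.leaf 0)))) (.node 12716 (.node 12714 (.node 12713 (.leaf 0) (.leaf 0)) (.node 12715 (.leaf 0) (.leaf 0))) (.node 12718 (.node 12717 (.leaf 0) (.leaf 0)) (.node 12719 (.leaf 0) (.leaf 0))))) (.node 12728 (.node 12724 (.node 12722 (.node 12721 (.leaf 0) (.leaf 0)) (.node 12723 (.leaf 0) (.leaf 0))) (.node 12726 (.node 12725 (.leaf 0) (.leaf 0)) (.node 12727 (.leaf 0) (.leaf 0)))) (.node 12732 (.node 12730 (.node 12729 (.leaf 0) (.leaf 0)) (.node 12731 (.leaf 0) (.leaf 0))) (.node 12734 (.node 12733 (.leaf 0) (.leaf 0)) (.node 12735 (.leaf 0) (.leaf 0))))))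

def regKPB398 : Bst := (.node 12752 (.node 12744 (.node 12740 (.node 12738 (.node 12737 (.leaf 0) (.leaf 0)) (.node 12739 (.leaf 0) (.leaf 0))) (.node 12742 (.node 12741 (.leaf 0) (.leaf 0)) (.node 12743 (.leaf 0) (.leaf 0)))) (.node 12748 (.node 12746 (.node 12745 (.leaf 0) (.leaf 0)) (.node 12747 (.leaf 0) (.leaf 0))) (.node 12750 (.node 12749 (.leaf 0) (.leaf 0)) (.node 12751 (.leaf 0) (.leaf 0))))) (.node 12760 (.node 12756 (.node 12754 (.node 12753 (.leaf 0) (.leaf 0)) (.node 12755 (.leaf 0) (.leaf 0))) (.node 12758 (.node 12757 (.leaf 0) (.leaf 0)) (.node 12759 (.leaf 0) (.leaf 0)))) (.node 12764 (.node 12762 (.node 12761 (.leaf 0) (.leaf 0)) (.node 12763 (.leaf 0) (.leaf 0))) (.node 12766 (.node 12765 (.leaf 0) (.leaf 0)) (.node 12767 (.leaf 0) (.leaf 0))))))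

def regKPB399 : Bst := (.node 12784 (.node 12776 (.node 12772 (.node 12770 (.node 12769 (.leaf 0) (.leaf 0)) (.node 12771 (.leaf 0) (.leaf 0))) (.node 12774 (.node 12773 (.leaf 0) (.leaf 0)) (.node 12775 (.leaf 0) (.leaf 0)))) (.node 12780 (.node 12778 (.node 12777 (.leaf 0) (.leaf 0)) (.node 12779 (.leaf 0) (.leaf 0))) (.node 12782 (.node 12781 (.leaf 0) (.leaf 0)) (.node 12783 (.leaf 0) (.leaf 0))))) (.node 12792 (.node 12788 (.node 12786 (.node 12785 (.leaf 0) (.leaf 0)) (.node 12787 (.leaf 0) (.leaf 0))) (.node 12790 (.node 12789 (.leaf 0) (.leaf 0)) (.node 12791 (.leaf 0) (.leaf 0)))) (.node 12796 (.node 12794 (.node 12793 (.leaf 0) (.leaf 0)) (.node 12795 (.leaf 0) (.leaf 0))) (.node 12798 (.node 12797 (.leaf 0) (.leaf 0)) (.node 12799 (.leaf 0) (.leaf 0))))))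

def regKPB400 : Bst := (.node 12816 (.node 12808 (.node 12804 (.node 12802 (.node 12801 (.leaf 0) (.leaf 0)) (.node 12803 (.leaf 0) (.leaf 0))) (.node 12806 (.node 12805 (.leaf 0) (.leaf 0)) (.node 12807 (.leaf 0) (.leaf 0)))) (.node 12812 (.node 12810 (.node 12809 (.leaf 0) (.leaf 0)) (.node 12811 (.leaf 0) (.leaf 0))) (.node 12814 (.node 12813 (.leaf 0) (.leaf 0)) (.node 12815 (.leaf 0) (.leaf 0))))) (.node 12824 (.node 12820 (.node 12818 (.node 12817 (.leaf 0) (.leaf 0)) (.node 12819 (.leaf 0) (.leaf 0))) (.node 12822 (.node 12821 (.leaf 0) (.leaf 0)) (.node 12823 (.leaf 0) (.leaf 0)))) (.node 12828 (.node 12826 (.node 12825 (.leaf 0) (.leaf 0)) (.node 12827 (.leaf 0) (.leaf 0))) (.node 12830 (.node 12829 (.leaf 0) (.leaf 0)) (.node 12831 (.leaf 0) (.leaf 0))))))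

def regKPB401 : Bst := (.node 12848 (.node 12840 (.node 12836 (.node 12834 (.node 12833 (.leaf 0) (.leaf 0)) (.node 12835 (.leaf 0) (.leaf 0))) (.node 12838 (.node 12837 (.leaf 0) (.leaf 0)) (.node 12839 (.leaf 0) (.leaf 0)))) (.node 12844 (.node 12842 (.node 12841 (.leaf 0) (.leaf 0)) (.node 12843 (.leaf 0) (.leaf 0))) (.node 12846 (.node 12845 (.leaf 0) (.leaf 0)) (.node 12847 (.leaf 0) (.leaf 0))))) (.node 12856 (.node 12852 (.node 12850 (.node 12849 (.leaf 0) (.leaf 0)) (.node 12851 (.leaf 0) (.leaf 0))) (.node 12854 (.node 12853 (.leaf 0) (.leaf 0)) (.node 12855 (.leaf 0) (.leaf 0)))) (.node 12860 (.node 12858 (.node 12857 (.leaf 0) (.leaf 0)) (.node 12859 (.leaf 0) (.leaf 0))) (.node 12862 (.node 12861 (.leaf 0) (.leaf 0)) (.node 12863 (.leaf 0) (.leaf 0))))))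

def regKPB402 : Bst := (.node 12880 (.node 12872 (.node 12868 (.node 12866 (.node 12865 (.leaf 0) (.leaf 0)) (.node 12867 (.leaf 0) (.leaf 0))) (.node 12870 (.node 12869 (.leaf 0) (.leaf 0)) (.node 12871 (.leaf 0) (.leaf 0)))) (.node 12876 (.node 12874 (.node 12873 (.leaf 0) (.leaf 0)) (.node 12875 (.leaf 0) (.leaf 0))) (.node 12878 (.node 12877 (.leaf 0) (.leaf 0)) (.node 12879 (.leaf 0) (.leaf 0))))) (.node 12888 (.node 12884 (.node 12882 (.node 12881 (.leaf 0) (.leaf 0)) (.node 12883 (.leaf 0) (.leaf 0))) (.node 12886 (.node 12885 (.leaf 0) (.leaf 0)) (.node 12887 (.leaf 0) (.leaf 0)))) (.node 12892 (.node 12890 (.node 12889 (.leaf 0) (.leaf 0)) (.node 12891 (.leaf 0) (.leaf 0))) (.node 12894 (.node 12893 (.leaf 0) (.leaf 0)) (.node 12895 (.leaf 0) (.leaf 0))))))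

def regKPB403 : Bst := (.node 12912 (.node 12904 (.node 12900 (.node 12898 (.node 12897 (.leaf 0) (.leaf 0)) (.node 12899 (.leaf 0) (.leaf 0))) (.node 12902 (.node 12901 (.leaf 0) (.leaf 0)) (.node 12903 (.leaf 0) (.leaf 0)))) (.node 12908 (.node 12906 (.node 12905 (.leaf 0) (.leaf 0)) (.node 12907 (.leaf 0) (.leaf 0))) (.node 12910 (.node 12909 (.leaf 0) (.leaf 0)) (.node 12911 (.leaf 0) (.leaf 0))))) (.node 12920 (.node 12916 (.node 12914 (.node 12913 (.leaf 0) (.leaf 0)) (.node 12915 (.leaf 0) (.leaf 0))) (.node 12918 (.node 12917 (.leaf 0) (.leaf 0)) (.node 12919 (.leaf 0) (.leaf 0)))) (.node 12924 (.node 12922 (.node 12921 (.leaf 0) (.leaf 0)) (.node 12923 (.leaf 0) (.leaf 0))) (.node 12926 (.node 12925 (.leaf 0) (.leaf 0)) (.node 12927 (.leaf 0) (.leaf 0))))))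

def regKPB404 : Bst := (.node 12944 (.node 12936 (.node 12932 (.node 12930 (.node 12929 (.leaf 0) (.leaf 0)) (.node 12931 (.leaf 0) (.leaf 0))) (.node 12934 (.node 12933 (.leaf 0) (.leaf 0)) (.node 12935 (.leaf 0) (.leaf 0)))) (.node 12940 (.node 12938 (.node 12937 (.leaf 0) (.leaf 0)) (.node 12939 (.leaf 0) (.leaf 0))) (.node 12942 (.node 12941 (.leaf 0) (.leaf 0)) (.node 12943 (.leaf 0) (.leaf 0))))) (.node 12952 (.node 12948 (.node 12946 (.node 12945 (.leaf 0) (.leaf 0)) (.node 12947 (.leaf 0x1620000000000) (.leaf 0))) (.node 12950 (.node 12949 (.leaf 0) (.leaf 0)) (.node 12951 (.leaf 0) (.leaf 0)))) (.node 12956 (.node 12954 (.node 12953 (.leaf 0) (.leaf 0)) (.node 12955 (.leaf 0) (.leaf 0))) (.node 12958 (.node 12957 (.leaf 0) (.leaf 0)) (.node 12959 (.leaf 0) (.leaf 0))))))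

def regKPB405 : Bst := (.node 12976 (.node 12968 (.node 12964 (.node 12962 (.node 12961 (.leaf 0) (.leaf 0)) (.node 12963 (.leaf 0) (.leaf 0))) (.node 12966 (.node 12965 (.leaf 0) (.leaf 0)) (.node 12967 (.leaf 0) (.leaf 0)))) (.node 12972 (.node 12970 (.node 12969 (.leaf 0) (.leaf 0)) (.node 12971 (.leaf 0) (.leaf 0))) (.node 12974 (.node 12973 (.leaf 0) (.leaf 0)) (.node 12975 (.leaf 0) (.leaf 0))))) (.node 12984 (.node 12980 (.node 12978 (.node 12977 (.leaf 0) (.leaf 0)) (.node 12979 (.leaf 0) (.leaf 0))) (.node 12982 (.node 12981 (.leaf 0) (.leaf 0)) (.node 12983 (.leaf 0) (.leaf 0)))) (.node 12988 (.node 12986 (.node 12985 (.leaf 0) (.leaf 0)) (.node 12987 (.leaf 0) (.leaf 0))) (.node 12990 (.node 12989 (.leaf 0) (.leaf 0)) (.node 12991 (.leaf 0) (.leaf 0))))))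

def regKPB406 : Bst := (.node 13008 (.node 13000 (.node 12996 (.node 12994 (.node 12993 (.leaf 0) (.leaf 0)) (.node 12995 (.leaf 0) (.leaf 0))) (.node 12998 (.node 12997 (.leaf 0) (.leaf 0)) (.node 12999 (.leaf 0) (.leaf 0)))) (.node 13004 (.node 13002 (.node 13001 (.leaf 0) (.leaf 0)) (.node 13003 (.leaf 0) (.leaf 0))) (.node 13006 (.node 13005 (.leaf 0) (.leaf 0)) (.node 13007 (.leaf 0) (.leaf 0))))) (.node 13016 (.node 13012 (.node 13010 (.node 13009 (.leaf 0) (.leaf 0)) (.node 13011 (.leaf 0) (.leaf 0))) (.node 13014 (.node 13013 (.leaf 0) (.leaf 0)) (.node 13015 (.leaf 0) (.leaf 0)))) (.node 13020 (.node 13018 (.node 13017 (.leaf 0) (.leaf 0)) (.node 13019 (.leaf 0) (.leaf 0))) (.node 13022 (.node 13021 (.leaf 0) (.leaf 0)) (.node 13023 (.leaf 0) (.leaf 0))))))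

def regKPB407 : Bst := (.node 13040 (.node 13032 (.node 13028 (.node 13026 (.node 13025 (.leaf 0) (.leaf 0)) (.node 13027 (.leaf 0) (.leaf 0))) (.node 13030 (.node 13029 (.leaf 0) (.leaf 0)) (.node 13031 (.leaf 0) (.leaf 0)))) (.node 13036 (.node 13034 (.node 13033 (.leaf 0) (.leaf 0)) (.node 13035 (.leaf 0) (.leaf 0))) (.node 13038 (.node 13037 (.leaf 0) (.leaf 0)) (.node 13039 (.leaf 0) (.leaf 0))))) (.node 13048 (.node 13044 (.node 13042 (.node 13041 (.leaf 0) (.leaf 0)) (.node 13043 (.leaf 0) (.leaf 0))) (.node 13046 (.node 13045 (.leaf 0) (.leaf 0)) (.node 13047 (.leaf 0) (.leaf 0)))) (.node 13052 (.node 13050 (.node 13049 (.leaf 0) (.leaf 0)) (.node 13051 (.leaf 0) (.leaf 0))) (.node 13054 (.node 13053 (.leaf 0) (.leaf 0)) (.node 13055 (.leaf 0) (.leaf 0))))))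

def regKPB408 : Bst := (.node 13072 (.node 13064 (.node 13060 (.node 13058 (.node 13057 (.leaf 0) (.leaf 0)) (.node 13059 (.leaf 0) (.leaf 0))) (.node 13062 (.node 13061 (.leaf 0) (.leaf 0)) (.node 13063 (.leaf 0) (.leaf 0)))) (.node 13068 (.node 13066 (.node 13065 (.leaf 0) (.leaf 0)) (.node 13067 (.leaf 0) (.leaf 0))) (.node 13070 (.node 13069 (.leaf 0) (.leaf 0)) (.node 13071 (.leaf 0) (.leaf 0))))) (.node 13080 (.node 13076 (.node 13074 (.node 13073 (.leaf 0) (.leaf 0)) (.node 13075 (.leaf 0) (.leaf 0))) (.node 13078 (.node 13077 (.leaf 0) (.leaf 0)) (.node 13079 (.leaf 0) (.leaf 0)))) (.node 13084 (.node 13082 (.node 13081 (.leaf 0) (.leaf 0)) (.node 13083 (.leaf 0) (.leaf 0))) (.node 13086 (.node 13085 (.leaf 0) (.leaf 0)) (.node 13087 (.leaf 0) (.leaf 0))))))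

def regKPB409 : Bst := (.node 13104 (.node 13096 (.node 13092 (.node 13090 (.node 13089 (.leaf 0) (.leaf 0)) (.node 13091 (.leaf 0) (.leaf 0))) (.node 13094 (.node 13093 (.leaf 0) (.leaf 0)) (.node 13095 (.leaf 0) (.leaf 0)))) (.node 13100 (.node 13098 (.node 13097 (.leaf 0) (.leaf 0)) (.node 13099 (.leaf 0) (.leaf 0))) (.node 13102 (.node 13101 (.leaf 0) (.leaf 0)) (.node 13103 (.leaf 0) (.leaf 0))))) (.node 13112 (.node 13108 (.node 13106 (.node 13105 (.leaf 0) (.leaf 0)) (.node 13107 (.leaf 0) (.leaf 0))) (.node 13110 (.node 13109 (.leaf 0) (.leaf 0)) (.node 13111 (.leaf 0) (.leaf 0)))) (.node 13116 (.node 13114 (.node 13113 (.leaf 0) (.leaf 0)) (.node 13115 (.leaf 0) (.leaf 0))) (.node 13118 (.node 13117 (.leaf 0) (.leaf 0)) (.node 13119 (.leaf 0) (.leaf 0))))))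

def regKPB410 : Bst := (.node 13136 (.node 13128 (.node 13124 (.node 13122 (.node 13121 (.leaf 0) (.leaf 0)) (.node 13123 (.leaf 0) (.leaf 0))) (.node 13126 (.node 13125 (.leaf 0) (.leaf 0)) (.node 13127 (.leaf 0) (.leaf 0)))) (.node 13132 (.node 13130 (.node 13129 (.leaf 0) (.leaf 0)) (.node 13131 (.leaf 0) (.leaf 0))) (.node 13134 (.node 13133 (.leaf 0) (.leaf 0)) (.node 13135 (.leaf 0) (.leaf 0))))) (.node 13144 (.node 13140 (.node 13138 (.node 13137 (.leaf 0) (.leaf 0)) (.node 13139 (.leaf 0) (.leaf 0))) (.node 13142 (.node 13141 (.leaf 0) (.leaf 0)) (.node 13143 (.leaf 0) (.leaf 0)))) (.node 13148 (.node 13146 (.node 13145 (.leaf 0) (.leaf 0)) (.node 13147 (.leaf 0) (.leaf 0))) (.node 13150 (.node 13149 (.leaf 0) (.leaf 0)) (.node 13151 (.leaf 0) (.leaf 0))))))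

def regKPB411 : Bst := (.node 13168 (.node 13160 (.node 13156 (.node 13154 (.node 13153 (.leaf 0) (.leaf 0)) (.node 13155 (.leaf 0) (.leaf 0))) (.node 13158 (.node 13157 (.leaf 0) (.leaf 0)) (.node 13159 (.leaf 0) (.leaf 0)))) (.node 13164 (.node 13162 (.node 13161 (.leaf 0) (.leaf 0x20700250)) (.node 13163 (.leaf 0) (.leaf 0))) (.node 13166 (.node 13165 (.leaf 0) (.leaf 0)) (.node 13167 (.leaf 0) (.leaf 0))))) (.node 13176 (.node 13172 (.node 13170 (.node 13169 (.leaf 0) (.leaf 0)) (.node 13171 (.leaf 0) (.leaf 0))) (.node 13174 (.node 13173 (.leaf 0) (.leaf 0)) (.node 13175 (.leaf 0) (.leaf 0)))) (.node 13180 (.node 13178 (.node 13177 (.leaf 0) (.leaf 0)) (.node 13179 (.leaf 0) (.leaf 0))) (.node 13182 (.node 13181 (.leaf 0) (.leaf 0)) (.node 13183 (.leaf 0) (.leaf 0))))))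

def regKPB412 : Bst := (.node 13200 (.node 13192 (.node 13188 (.node 13186 (.node 13185 (.leaf 0) (.leaf 0)) (.node 13187 (.leaf 0) (.leaf 0))) (.node 13190 (.node 13189 (.leaf 0) (.leaf 0)) (.node 13191 (.leaf 0) (.leaf 0)))) (.node 13196 (.node 13194 (.node 13193 (.leaf 0) (.leaf 0)) (.node 13195 (.leaf 0) (.leaf 0))) (.node 13198 (.node 13197 (.leaf 0) (.leaf 0)) (.node 13199 (.leaf 0) (.leaf 0))))) (.node 13208 (.node 13204 (.node 13202 (.node 13201 (.leaf 0) (.leaf 0)) (.node 13203 (.leaf 0) (.leaf 0))) (.node 13206 (.node 13205 (.leaf 0) (.leaf 0)) (.node 13207 (.leaf 0) (.leaf 0)))) (.node 13212 (.node 13210 (.node 13209 (.leaf 0) (.leaf 0)) (.node 13211 (.leaf 0) (.leaf 0))) (.node 13214 (.node 13213 (.leaf 0) (.leaf 0)) (.node 13215 (.leaf 0) (.leaf 0))))))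

def regKPB413 : Bst := (.node 13232 (.node 13224 (.node 13220 (.node 13218 (.node 13217 (.leaf 0) (.leaf 0)) (.node 13219 (.leaf 0) (.leaf 0))) (.node 13222 (.node 13221 (.leaf 0) (.leaf 0)) (.node 13223 (.leaf 0) (.leaf 0)))) (.node 13228 (.node 13226 (.node 13225 (.leaf 0) (.leaf 0)) (.node 13227 (.leaf 0) (.leaf 0))) (.node 13230 (.node 13229 (.leaf 0) (.leaf 0)) (.node 13231 (.leaf 0) (.leaf 0))))) (.node 13240 (.node 13236 (.node 13234 (.node 13233 (.leaf 0) (.leaf 0)) (.node 13235 (.leaf 0) (.leaf 0))) (.node 13238 (.node 13237 (.leaf 0) (.leaf 0)) (.node 13239 (.leaf 0) (.leaf 0)))) (.node 13244 (.node 13242 (.node 13241 (.leaf 0) (.leaf 0)) (.node 13243 (.leaf 0) (.leaf 0))) (.node 13246 (.node 13245 (.leaf 0) (.leaf 0)) (.node 13247 (.leaf 0) (.leaf 0))))))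

def regKPB414 : Bst := (.node 13264 (.node 13256 (.node 13252 (.node 13250 (.node 13249 (.leaf 0) (.leaf 0)) (.node 13251 (.leaf 0) (.leaf 0))) (.node 13254 (.node 13253 (.leaf 0) (.leaf 0)) (.node 13255 (.leaf 0) (.leaf 0)))) (.node 13260 (.node 13258 (.node 13257 (.leaf 0) (.leaf 0)) (.node 13259 (.leaf 0) (.leaf 0))) (.node 13262 (.node 13261 (.leaf 0) (.leaf 0)) (.node 13263 (.leaf 0) (.leaf 0))))) (.node 13272 (.node 13268 (.node 13266 (.node 13265 (.leaf 0) (.leaf 0)) (.node 13267 (.leaf 0) (.leaf 0))) (.node 13270 (.node 13269 (.leaf 0) (.leaf 0)) (.node 13271 (.leaf 0) (.leaf 0)))) (.node 13276 (.node 13274 (.node 13273 (.leaf 0) (.leaf 0)) (.node 13275 (.leaf 0) (.leaf 0))) (.node 13278 (.node 13277 (.leaf 0) (.leaf 0)) (.node 13279 (.leaf 0) (.leaf 0))))))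

def regKPB415 : Bst := (.node 13296 (.node 13288 (.node 13284 (.node 13282 (.node 13281 (.leaf 0) (.leaf 0)) (.node 13283 (.leaf 0) (.leaf 0))) (.node 13286 (.node 13285 (.leaf 0) (.leaf 0)) (.node 13287 (.leaf 0) (.leaf 0)))) (.node 13292 (.node 13290 (.node 13289 (.leaf 0) (.leaf 0)) (.node 13291 (.leaf 0) (.leaf 0))) (.node 13294 (.node 13293 (.leaf 0) (.leaf 0)) (.node 13295 (.leaf 0) (.leaf 0))))) (.node 13304 (.node 13300 (.node 13298 (.node 13297 (.leaf 0) (.leaf 0)) (.node 13299 (.leaf 0) (.leaf 0))) (.node 13302 (.node 13301 (.leaf 0) (.leaf 0)) (.node 13303 (.leaf 0) (.leaf 0)))) (.node 13308 (.node 13306 (.node 13305 (.leaf 0) (.leaf 0)) (.node 13307 (.leaf 0) (.leaf 0))) (.node 13310 (.node 13309 (.leaf 0) (.leaf 0)) (.node 13311 (.leaf 0) (.leaf 0))))))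

def regKPB416 : Bst := (.node 13328 (.node 13320 (.node 13316 (.node 13314 (.node 13313 (.leaf 0) (.leaf 0)) (.node 13315 (.leaf 0) (.leaf 0))) (.node 13318 (.node 13317 (.leaf 0) (.leaf 0)) (.node 13319 (.leaf 0) (.leaf 0)))) (.node 13324 (.node 13322 (.node 13321 (.leaf 0) (.leaf 0)) (.node 13323 (.leaf 0) (.leaf 0))) (.node 13326 (.node 13325 (.leaf 0) (.leaf 0)) (.node 13327 (.leaf 0) (.leaf 0))))) (.node 13336 (.node 13332 (.node 13330 (.node 13329 (.leaf 0) (.leaf 0)) (.node 13331 (.leaf 0) (.leaf 0))) (.node 13334 (.node 13333 (.leaf 0) (.leaf 0)) (.node 13335 (.leaf 0) (.leaf 0)))) (.node 13340 (.node 13338 (.node 13337 (.leaf 0) (.leaf 0)) (.node 13339 (.leaf 0) (.leaf 0))) (.node 13342 (.node 13341 (.leaf 0) (.leaf 0)) (.node 13343 (.leaf 0) (.leaf 0))))))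

def regKPB417 : Bst := (.node 13360 (.node 13352 (.node 13348 (.node 13346 (.node 13345 (.leaf 0) (.leaf 0)) (.node 13347 (.leaf 0) (.leaf 0))) (.node 13350 (.node 13349 (.leaf 0) (.leaf 0)) (.node 13351 (.leaf 0) (.leaf 0)))) (.node 13356 (.node 13354 (.node 13353 (.leaf 0) (.leaf 0)) (.node 13355 (.leaf 0) (.leaf 0))) (.node 13358 (.node 13357 (.leaf 0) (.leaf 0)) (.node 13359 (.leaf 0) (.leaf 0))))) (.node 13368 (.node 13364 (.node 13362 (.node 13361 (.leaf 0) (.leaf 0)) (.node 13363 (.leaf 0) (.leaf 0))) (.node 13366 (.node 13365 (.leaf 0) (.leaf 0)) (.node 13367 (.leaf 0) (.leaf 0)))) (.node 13372 (.node 13370 (.node 13369 (.leaf 0) (.leaf 0)) (.node 13371 (.leaf 0) (.leaf 0))) (.node 13374 (.node 13373 (.leaf 0) (.leaf 0)) (.node 13375 (.leaf 0) (.leaf 0))))))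

def regKPB418 : Bst := (.node 13392 (.node 13384 (.node 13380 (.node 13378 (.node 13377 (.leaf 0) (.leaf 0)) (.node 13379 (.leaf 0) (.leaf 0))) (.node 13382 (.node 13381 (.leaf 0) (.leaf 0)) (.node 13383 (.leaf 0) (.leaf 0)))) (.node 13388 (.node 13386 (.node 13385 (.leaf 0) (.leaf 0)) (.node 13387 (.leaf 0) (.leaf 0))) (.node 13390 (.node 13389 (.leaf 0) (.leaf 0)) (.node 13391 (.leaf 0) (.leaf 0))))) (.node 13400 (.node 13396 (.node 13394 (.node 13393 (.leaf 0) (.leaf 0)) (.node 13395 (.leaf 0x7e0005300000) (.leaf 0))) (.node 13398 (.node 13397 (.leaf 0) (.leaf 0)) (.node 13399 (.leaf 0) (.leaf 0)))) (.node 13404 (.node 13402 (.node 13401 (.leaf 0) (.leaf 0)) (.node 13403 (.leaf 0) (.leaf 0))) (.node 13406 (.node 13405 (.leaf 0) (.leaf 0)) (.node 13407 (.leaf 0) (.leaf 0))))))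

def regKPB419 : Bst := (.node 13424 (.node 13416 (.node 13412 (.node 13410 (.node 13409 (.leaf 0) (.leaf 0)) (.node 13411 (.leaf 0) (.leaf 0))) (.node 13414 (.node 13413 (.leaf 0) (.leaf 0)) (.node 13415 (.leaf 0) (.leaf 0)))) (.node 13420 (.node 13418 (.node 13417 (.leaf 0) (.leaf 0)) (.node 13419 (.leaf 0) (.leaf 0))) (.node 13422 (.node 13421 (.leaf 0) (.leaf 0)) (.node 13423 (.leaf 0) (.leaf 0))))) (.node 13432 (.node 13428 (.node 13426 (.node 13425 (.leaf 0) (.leaf 0)) (.node 13427 (.leaf 0) (.leaf 0))) (.node 13430 (.node 13429 (.leaf 0) (.leaf 0)) (.node 13431 (.leaf 0) (.leaf 0)))) (.node 13436 (.node 13434 (.node 13433 (.leaf 0) (.leaf 0)) (.node 13435 (.leaf 0) (.leaf 0))) (.node 13438 (.node 13437 (.leaf 0) (.leaf 0)) (.node 13439 (.leaf 0) (.leaf 0))))))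

def regKPB420 : Bst := (.node 13456 (.node 13448 (.node 13444 (.node 13442 (.node 13441 (.leaf 0x1d4000000000000000) (.leaf 0x1d900154)) (.node 13443 (.leaf 0) (.leaf 0))) (.node 13446 (.node 13445 (.leaf 0) (.leaf 0)) (.node 13447 (.leaf 0) (.leaf 0)))) (.node 13452 (.node 13450 (.node 13449 (.leaf 0) (.leaf 0)) (.node 13451 (.leaf 0) (.leaf 0))) (.node 13454 (.node 13453 (.leaf 0) (.leaf 0)) (.node 13455 (.leaf 0) (.leaf 0))))) (.node 13464 (.node 13460 (.node 13458 (.node 13457 (.leaf 0) (.leaf 0)) (.node 13459 (.leaf 0) (.leaf 0))) (.node 13462 (.node 13461 (.leaf 0) (.leaf 0)) (.node 13463 (.leaf 0) (.leaf 0)))) (.node 13468 (.node 13466 (.node 13465 (.leaf 0) (.leaf 0)) (.node 13467 (.leaf 0) (.leaf 0))) (.node 13470 (.node 13469 (.leaf 0) (.leaf 0)) (.node 13471 (.leaf 0) (.leaf 0))))))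

def regKPB421 : Bst := (.node 13488 (.node 13480 (.node 13476 (.node 13474 (.node 13473 (.leaf 0) (.leaf 0)) (.node 13475 (.leaf 0) (.leaf 0))) (.node 13478 (.node 13477 (.leaf 0) (.leaf 0)) (.node 13479 (.leaf 0) (.leaf 0)))) (.node 13484 (.node 13482 (.node 13481 (.leaf 0) (.leaf 0)) (.node 13483 (.leaf 0) (.leaf 0))) (.node 13486 (.node 13485 (.leaf 0) (.leaf 0)) (.node 13487 (.leaf 0) (.leaf 0))))) (.node 13496 (.node 13492 (.node 13490 (.node 13489 (.leaf 0) (.leaf 0)) (.node 13491 (.leaf 0) (.leaf 0))) (.node 13494 (.node 13493 (.leaf 0) (.leaf 0)) (.node 13495 (.leaf 0) (.leaf 0)))) (.node 13500 (.node 13498 (.node 13497 (.leaf 0) (.leaf 0)) (.node 13499 (.leaf 0) (.leaf 0))) (.node 13502 (.node 13501 (.leaf 0) (.leaf 0)) (.node 13503 (.leaf 0) (.leaf 0))))))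

def regKPB422 : Bst := (.node 13520 (.node 13512 (.node 13508 (.node 13506 (.node 13505 (.leaf 0) (.leaf 0)) (.node 13507 (.leaf 0) (.leaf 0))) (.node 13510 (.node 13509 (.leaf 0) (.leaf 0)) (.node 13511 (.leaf 0x244000000000000000) (.leaf 0)))) (.node 13516 (.node 13514 (.node 13513 (.leaf 0) (.leaf 0)) (.node 13515 (.leaf 0) (.leaf 0))) (.node 13518 (.node 13517 (.leaf 0) (.leaf 0)) (.node 13519 (.leaf 0) (.leaf 0))))) (.node 13528 (.node 13524 (.node 13522 (.node 13521 (.leaf 0) (.leaf 0)) (.node 13523 (.leaf 0) (.leaf 0))) (.node 13526 (.node 13525 (.leaf 0) (.leaf 0)) (.node 13527 (.leaf 0) (.leaf 0)))) (.node 13532 (.node 13530 (.node 13529 (.leaf 0) (.leaf 0)) (.node 13531 (.leaf 0) (.leaf 0))) (.node 13534 (.node 13533 (.leaf 0) (.leaf 0)) (.node 13535 (.leaf 0) (.leaf 0))))))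

def regKPB423 : Bst := (.node 13552 (.node 13544 (.node 13540 (.node 13538 (.node 13537 (.leaf 0) (.leaf 0)) (.node 13539 (.leaf 0) (.leaf 0))) (.node 13542 (.node 13541 (.leaf 0) (.leaf 0)) (.node 13543 (.leaf 0) (.leaf 0)))) (.node 13548 (.node 13546 (.node 13545 (.leaf 0) (.leaf 0)) (.node 13547 (.leaf 0) (.leaf 0))) (.node 13550 (.node 13549 (.leaf 0) (.leaf 0)) (.node 13551 (.leaf 0) (.leaf 0))))) (.node 13560 (.node 13556 (.node 13554 (.node 13553 (.leaf 0) (.leaf 0)) (.node 13555 (.leaf 0) (.leaf 0))) (.node 13558 (.node 13557 (.leaf 0) (.leaf 0)) (.node 13559 (.leaf 0) (.leaf 0)))) (.node 13564 (.node 13562 (.node 13561 (.leaf 0) (.leaf 0)) (.node 13563 (.leaf 0) (.leaf 0))) (.node 13566 (.node 13565 (.leaf 0) (.leaf 0)) (.node 13567 (.leaf 0) (.leaf 0))))))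

def regKPB424 : Bst := (.node 13584 (.node 13576 (.node 13572 (.node 13570 (.node 13569 (.leaf 0) (.leaf 0)) (.node 13571 (.leaf 0) (.leaf 0))) (.node 13574 (.node 13573 (.leaf 0) (.leaf 0)) (.node 13575 (.leaf 0) (.leaf 0)))) (.node 13580 (.node 13578 (.node 13577 (.leaf 0) (.leaf 0)) (.node 13579 (.leaf 0) (.leaf 0))) (.node 13582 (.node 13581 (.leaf 0) (.leaf 0)) (.node 13583 (.leaf 0) (.leaf 0))))) (.node 13592 (.node 13588 (.node 13586 (.node 13585 (.leaf 0) (.leaf 0)) (.node 13587 (.leaf 0) (.leaf 0))) (.node 13590 (.node 13589 (.leaf 0) (.leaf 0)) (.node 13591 (.leaf 0) (.leaf 0)))) (.node 13596 (.node 13594 (.node 13593 (.leaf 0) (.leaf 0)) (.node 13595 (.leaf 0) (.leaf 0))) (.node 13598 (.node 13597 (.leaf 0) (.leaf 0)) (.node 13599 (.leaf 0) (.leaf 0))))))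

def regKPB425 : Bst := (.node 13616 (.node 13608 (.node 13604 (.node 13602 (.node 13601 (.leaf 0) (.leaf 0)) (.node 13603 (.leaf 0) (.leaf 0))) (.node 13606 (.node 13605 (.leaf 0) (.leaf 0)) (.node 13607 (.leaf 0) (.leaf 0)))) (.node 13612 (.node 13610 (.node 13609 (.leaf 0) (.leaf 0)) (.node 13611 (.leaf 0) (.leaf 0))) (.node 13614 (.node 13613 (.leaf 0) (.leaf 0)) (.node 13615 (.leaf 0) (.leaf 0))))) (.node 13624 (.node 13620 (.node 13618 (.node 13617 (.leaf 0) (.leaf 0)) (.node 13619 (.leaf 0) (.leaf 0))) (.node 13622 (.node 13621 (.leaf 0) (.leaf 0)) (.node 13623 (.leaf 0) (.leaf 0)))) (.node 13628 (.node 13626 (.node 13625 (.leaf 0) (.leaf 0)) (.node 13627 (.leaf 0) (.leaf 0))) (.node 13630 (.node 13629 (.leaf 0) (.leaf 0)) (.node 13631 (.leaf 0) (.leaf 0))))))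

def regKPB426 : Bst := (.node 13648 (.node 13640 (.node 13636 (.node 13634 (.node 13633 (.leaf 0) (.leaf 0)) (.node 13635 (.leaf 0) (.leaf 0))) (.node 13638 (.node 13637 (.leaf 0) (.leaf 0)) (.node 13639 (.leaf 0) (.leaf 0)))) (.node 13644 (.node 13642 (.node 13641 (.leaf 0) (.leaf 0)) (.node 13643 (.leaf 0) (.leaf 0))) (.node 13646 (.node 13645 (.leaf 0) (.leaf 0)) (.node 13647 (.leaf 0) (.leaf 0))))) (.node 13656 (.node 13652 (.node 13650 (.node 13649 (.leaf 0) (.leaf 0)) (.node 13651 (.leaf 0) (.leaf 0))) (.node 13654 (.node 13653 (.leaf 0) (.leaf 0)) (.node 13655 (.leaf 0) (.leaf 0)))) (.node 13660 (.node 13658 (.node 13657 (.leaf 0) (.leaf 0)) (.node 13659 (.leaf 0) (.leaf 0))) (.node 13662 (.node 13661 (.leaf 0) (.leaf 0)) (.node 13663 (.leaf 0) (.leaf 0))))))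

def regKPB427 : Bst := (.node 13680 (.node 13672 (.node 13668 (.node 13666 (.node 13665 (.leaf 0) (.leaf 0)) (.node 13667 (.leaf 0) (.leaf 0))) (.node 13670 (.node 13669 (.leaf 0) (.leaf 0)) (.node 13671 (.leaf 0) (.leaf 0)))) (.node 13676 (.node 13674 (.node 13673 (.leaf 0) (.leaf 0)) (.node 13675 (.leaf 0) (.leaf 0))) (.node 13678 (.node 13677 (.leaf 0) (.leaf 0)) (.node 13679 (.leaf 0) (.leaf 0))))) (.node 13688 (.node 13684 (.node 13682 (.node 13681 (.leaf 0) (.leaf 0)) (.node 13683 (.leaf 0) (.leaf 0))) (.node 13686 (.node 13685 (.leaf 0) (.leaf 0)) (.node 13687 (.leaf 0) (.leaf 0)))) (.node 13692 (.node 13690 (.node 13689 (.leaf 0) (.leaf 0)) (.node 13691 (.leaf 0) (.leaf 0))) (.node 13694 (.node 13693 (.leaf 0) (.leaf 0)) (.node 13695 (.leaf 0) (.leaf 0))))))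

def regKPB428 : Bst := (.node 13712 (.node 13704 (.node 13700 (.node 13698 (.node 13697 (.leaf 0) (.leaf 0)) (.node 13699 (.leaf 0) (.leaf 0))) (.node 13702 (.node 13701 (.leaf 0) (.leaf 0)) (.node 13703 (.leaf 0) (.leaf 0)))) (.node 13708 (.node 13706 (.node 13705 (.leaf 0) (.leaf 0)) (.node 13707 (.leaf 0) (.leaf 0))) (.node 13710 (.node 13709 (.leaf 0) (.leaf 0)) (.node 13711 (.leaf 0) (.leaf 0))))) (.node 13720 (.node 13716 (.node 13714 (.node 13713 (.leaf 0) (.leaf 0)) (.node 13715 (.leaf 0) (.leaf 0))) (.node 13718 (.node 13717 (.leaf 0) (.leaf 0)) (.node 13719 (.leaf 0) (.leaf 0)))) (.node 13724 (.node 13722 (.node 13721 (.leaf 0) (.leaf 0)) (.node 13723 (.leaf 0) (.leaf 0))) (.node 13726 (.node 13725 (.leaf 0) (.leaf 0)) (.node 13727 (.leaf 0) (.leaf 0))))))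

def regKPB429 : Bst := (.node 13744 (.node 13736 (.node 13732 (.node 13730 (.node 13729 (.leaf 0) (.leaf 0)) (.node 13731 (.leaf 0) (.leaf 0))) (.node 13734 (.node 13733 (.leaf 0) (.leaf 0)) (.node 13735 (.leaf 0) (.leaf 0)))) (.node 13740 (.node 13738 (.node 13737 (.leaf 0) (.leaf 0)) (.node 13739 (.leaf 0) (.leaf 0))) (.node 13742 (.node 13741 (.leaf 0) (.leaf 0)) (.node 13743 (.leaf 0) (.leaf 0))))) (.node 13752 (.node 13748 (.node 13746 (.node 13745 (.leaf 0) (.leaf 0)) (.node 13747 (.leaf 0) (.leaf 0))) (.node 13750 (.node 13749 (.leaf 0) (.leaf 0)) (.node 13751 (.leaf 0) (.leaf 0)))) (.node 13756 (.node 13754 (.node 13753 (.leaf 0) (.leaf 0)) (.node 13755 (.leaf 0) (.leaf 0))) (.node 13758 (.node 13757 (.leaf 0) (.leaf 0)) (.node 13759 (.leaf 0) (.leaf 0))))))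

def regKPB430 : Bst := (.node 13776 (.node 13768 (.node 13764 (.node 13762 (.node 13761 (.leaf 0) (.leaf 0)) (.node 13763 (.leaf 0) (.leaf 0))) (.node 13766 (.node 13765 (.leaf 0) (.leaf 0)) (.node 13767 (.leaf 0) (.leaf 0)))) (.node 13772 (.node 13770 (.node 13769 (.leaf 0) (.leaf 0)) (.node 13771 (.leaf 0) (.leaf 0))) (.node 13774 (.node 13773 (.leaf 0) (.leaf 0)) (.node 13775 (.leaf 0) (.leaf 0))))) (.node 13784 (.node 13780 (.node 13778 (.node 13777 (.leaf 0) (.leaf 0)) (.node 13779 (.leaf 0) (.leaf 0))) (.node 13782 (.node 13781 (.leaf 0) (.leaf 0)) (.node 13783 (.leaf 0) (.leaf 0)))) (.node 13788 (.node 13786 (.node 13785 (.leaf 0) (.leaf 0)) (.node 13787 (.leaf 0) (.leaf 0))) (.node 13790 (.node 13789 (.leaf 0) (.leaf 0)) (.node 13791 (.leaf 0) (.leaf 0))))))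

def regKPB431 : Bst := (.node 13808 (.node 13800 (.node 13796 (.node 13794 (.node 13793 (.leaf 0) (.leaf 0)) (.node 13795 (.leaf 0) (.leaf 0))) (.node 13798 (.node 13797 (.leaf 0) (.leaf 0)) (.node 13799 (.leaf 0) (.leaf 0)))) (.node 13804 (.node 13802 (.node 13801 (.leaf 0) (.leaf 0)) (.node 13803 (.leaf 0) (.leaf 0))) (.node 13806 (.node 13805 (.leaf 0) (.leaf 0)) (.node 13807 (.leaf 0) (.leaf 0))))) (.node 13816 (.node 13812 (.node 13810 (.node 13809 (.leaf 0) (.leaf 0)) (.node 13811 (.leaf 0) (.leaf 0))) (.node 13814 (.node 13813 (.leaf 0) (.leaf 0)) (.node 13815 (.leaf 0) (.leaf 0)))) (.node 13820 (.node 13818 (.node 13817 (.leaf 0) (.leaf 0)) (.node 13819 (.leaf 0) (.leaf 0))) (.node 13822 (.node 13821 (.leaf 0) (.leaf 0)) (.node 13823 (.leaf 0) (.leaf 0))))))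

def regKPB432 : Bst := (.node 13840 (.node 13832 (.node 13828 (.node 13826 (.node 13825 (.leaf 0) (.leaf 0)) (.node 13827 (.leaf 0) (.leaf 0))) (.node 13830 (.node 13829 (.leaf 0) (.leaf 0)) (.node 13831 (.leaf 0) (.leaf 0)))) (.node 13836 (.node 13834 (.node 13833 (.leaf 0) (.leaf 0)) (.node 13835 (.leaf 0) (.leaf 0))) (.node 13838 (.node 13837 (.leaf 0) (.leaf 0)) (.node 13839 (.leaf 0) (.leaf 0))))) (.node 13848 (.node 13844 (.node 13842 (.node 13841 (.leaf 0) (.leaf 0)) (.node 13843 (.leaf 0) (.leaf 0))) (.node 13846 (.node 13845 (.leaf 0) (.leaf 0)) (.node 13847 (.leaf 0) (.leaf 0)))) (.node 13852 (.node 13850 (.node 13849 (.leaf 0) (.leaf 0)) (.node 13851 (.leaf 0) (.leaf 0))) (.node 13854 (.node 13853 (.leaf 0) (.leaf 0)) (.node 13855 (.leaf 0) (.leaf 0))))))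

def regKPB433 : Bst := (.node 13872 (.node 13864 (.node 13860 (.node 13858 (.node 13857 (.leaf 0) (.leaf 0)) (.node 13859 (.leaf 0) (.leaf 0))) (.node 13862 (.node 13861 (.leaf 0) (.leaf 0)) (.node 13863 (.leaf 0) (.leaf 0)))) (.node 13868 (.node 13866 (.node 13865 (.leaf 0) (.leaf 0)) (.node 13867 (.leaf 0) (.leaf 0))) (.node 13870 (.node 13869 (.leaf 0) (.leaf 0)) (.node 13871 (.leaf 0) (.leaf 0))))) (.node 13880 (.node 13876 (.node 13874 (.node 13873 (.leaf 0) (.leaf 0)) (.node 13875 (.leaf 0) (.leaf 0))) (.node 13878 (.node 13877 (.leaf 0) (.leaf 0)) (.node 13879 (.leaf 0) (.leaf 0)))) (.node 13884 (.node 13882 (.node 13881 (.leaf 0) (.leaf 0)) (.node 13883 (.leaf 0) (.leaf 0))) (.node 13886 (.node 13885 (.leaf 0) (.leaf 0)) (.node 13887 (.leaf 0) (.leaf 0))))))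

def regKPB434 : Bst := (.node 13904 (.node 13896 (.node 13892 (.node 13890 (.node 13889 (.leaf 0) (.leaf 0)) (.node 13891 (.leaf 0) (.leaf 0))) (.node 13894 (.node 13893 (.leaf 0) (.leaf 0)) (.node 13895 (.leaf 0) (.leaf 0)))) (.node 13900 (.node 13898 (.node 13897 (.leaf 0) (.leaf 0)) (.node 13899 (.leaf 0) (.leaf 0))) (.node 13902 (.node 13901 (.leaf 0) (.leaf 0)) (.node 13903 (.leaf 0) (.leaf 0))))) (.node 13912 (.node 13908 (.node 13906 (.node 13905 (.leaf 0) (.leaf 0)) (.node 13907 (.leaf 0) (.leaf 0))) (.node 13910 (.node 13909 (.leaf 0) (.leaf 0)) (.node 13911 (.leaf 0) (.leaf 0)))) (.node 13916 (.node 13914 (.node 13913 (.leaf 0) (.leaf 0)) (.node 13915 (.leaf 0) (.leaf 0))) (.node 13918 (.node 13917 (.leaf 0) (.leaf 0)) (.node 13919 (.leaf 0) (.leaf 0))))))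

def regKPB435 : Bst := (.node 13936 (.node 13928 (.node 13924 (.node 13922 (.node 13921 (.leaf 0) (.leaf 0)) (.node 13923 (.leaf 0) (.leaf 0))) (.node 13926 (.node 13925 (.leaf 0) (.leaf 0)) (.node 13927 (.leaf 0) (.leaf 0)))) (.node 13932 (.node 13930 (.node 13929 (.leaf 0) (.leaf 0)) (.node 13931 (.leaf 0) (.leaf 0))) (.node 13934 (.node 13933 (.leaf 0) (.leaf 0)) (.node 13935 (.leaf 0) (.leaf 0))))) (.node 13944 (.node 13940 (.node 13938 (.node 13937 (.leaf 0) (.leaf 0)) (.node 13939 (.leaf 0) (.leaf 0))) (.node 13942 (.node 13941 (.leaf 0) (.leaf 0)) (.node 13943 (.leaf 0) (.leaf 0)))) (.node 13948 (.node 13946 (.node 13945 (.leaf 0) (.leaf 0)) (.node 13947 (.leaf 0) (.leaf 0))) (.node 13950 (.node 13949 (.leaf 0) (.leaf 0)) (.node 13951 (.leaf 0) (.leaf 0))))))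

def regKPB436 : Bst := (.node 13968 (.node 13960 (.node 13956 (.node 13954 (.node 13953 (.leaf 0) (.leaf 0)) (.node 13955 (.leaf 0) (.leaf 0))) (.node 13958 (.node 13957 (.leaf 0) (.leaf 0)) (.node 13959 (.leaf 0) (.leaf 0)))) (.node 13964 (.node 13962 (.node 13961 (.leaf 0) (.leaf 0)) (.node 13963 (.leaf 0) (.leaf 0))) (.node 13966 (.node 13965 (.leaf 0) (.leaf 0)) (.node 13967 (.leaf 0) (.leaf 0))))) (.node 13976 (.node 13972 (.node 13970 (.node 13969 (.leaf 0) (.leaf 0)) (.node 13971 (.leaf 0) (.leaf 0))) (.node 13974 (.node 13973 (.leaf 0) (.leaf 0)) (.node 13975 (.leaf 0) (.leaf 0)))) (.node 13980 (.node 13978 (.node 13977 (.leaf 0) (.leaf 0)) (.node 13979 (.leaf 0) (.leaf 0))) (.node 13982 (.node 13981 (.leaf 0) (.leaf 0)) (.node 13983 (.leaf 0) (.leaf 0))))))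

def regKPB437 : Bst := (.node 14000 (.node 13992 (.node 13988 (.node 13986 (.node 13985 (.leaf 0) (.leaf 0)) (.node 13987 (.leaf 0) (.leaf 0))) (.node 13990 (.node 13989 (.leaf 0) (.leaf 0)) (.node 13991 (.leaf 0) (.leaf 0)))) (.node 13996 (.node 13994 (.node 13993 (.leaf 0) (.leaf 0)) (.node 13995 (.leaf 0) (.leaf 0))) (.node 13998 (.node 13997 (.leaf 0) (.leaf 0)) (.node 13999 (.leaf 0) (.leaf 0))))) (.node 14008 (.node 14004 (.node 14002 (.node 14001 (.leaf 0) (.leaf 0)) (.node 14003 (.leaf 0) (.leaf 0))) (.node 14006 (.node 14005 (.leaf 0) (.leaf 0)) (.node 14007 (.leaf 0) (.leaf 0)))) (.node 14012 (.node 14010 (.node 14009 (.leaf 0) (.leaf 0)) (.node 14011 (.leaf 0) (.leaf 0))) (.node 14014 (.node 14013 (.leaf 0) (.leaf 0)) (.node 14015 (.leaf 0) (.leaf 0))))))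

def regKPB438 : Bst := (.node 14032 (.node 14024 (.node 14020 (.node 14018 (.node 14017 (.leaf 0) (.leaf 0)) (.node 14019 (.leaf 0) (.leaf 0))) (.node 14022 (.node 14021 (.leaf 0) (.leaf 0)) (.node 14023 (.leaf 0) (.leaf 0)))) (.node 14028 (.node 14026 (.node 14025 (.leaf 0) (.leaf 0)) (.node 14027 (.leaf 0) (.leaf 0))) (.node 14030 (.node 14029 (.leaf 0) (.leaf 0)) (.node 14031 (.leaf 0) (.leaf 0))))) (.node 14040 (.node 14036 (.node 14034 (.node 14033 (.leaf 0) (.leaf 0)) (.node 14035 (.leaf 0) (.leaf 0))) (.node 14038 (.node 14037 (.leaf 0) (.leaf 0)) (.node 14039 (.leaf 0) (.leaf 0)))) (.node 14044 (.node 14042 (.node 14041 (.leaf 0) (.leaf 0)) (.node 14043 (.leaf 0) (.leaf 0))) (.node 14046 (.node 14045 (.leaf 0) (.leaf 0)) (.node 14047 (.leaf 0) (.leaf 0))))))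

def regKPB439 : Bst := (.node 14064 (.node 14056 (.node 14052 (.node 14050 (.node 14049 (.leaf 0) (.leaf 0)) (.node 14051 (.leaf 0) (.leaf 0))) (.node 14054 (.node 14053 (.leaf 0) (.leaf 0)) (.node 14055 (.leaf 0) (.leaf 0)))) (.node 14060 (.node 14058 (.node 14057 (.leaf 0) (.leaf 0)) (.node 14059 (.leaf 0) (.leaf 0))) (.node 14062 (.node 14061 (.leaf 0) (.leaf 0)) (.node 14063 (.leaf 0) (.leaf 0))))) (.node 14072 (.node 14068 (.node 14066 (.node 14065 (.leaf 0) (.leaf 0)) (.node 14067 (.leaf 0) (.leaf 0))) (.node 14070 (.node 14069 (.leaf 0) (.leaf 0)) (.node 14071 (.leaf 0) (.leaf 0)))) (.node 14076 (.node 14074 (.node 14073 (.leaf 0) (.leaf 0)) (.node 14075 (.leaf 0) (.leaf 0))) (.node 14078 (.node 14077 (.leaf 0) (.leaf 0)) (.node 14079 (.leaf 0) (.leaf 0))))))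

def regKPB440 : Bst := (.node 14096 (.node 14088 (.node 14084 (.node 14082 (.node 14081 (.leaf 0) (.leaf 0)) (.node 14083 (.leaf 0) (.leaf 0))) (.node 14086 (.node 14085 (.leaf 0) (.leaf 0)) (.node 14087 (.leaf 0) (.leaf 0)))) (.node 14092 (.node 14090 (.node 14089 (.leaf 0) (.leaf 0)) (.node 14091 (.leaf 0) (.leaf 0))) (.node 14094 (.node 14093 (.leaf 0) (.leaf 0)) (.node 14095 (.leaf 0) (.leaf 0))))) (.node 14104 (.node 14100 (.node 14098 (.node 14097 (.leaf 0) (.leaf 0)) (.node 14099 (.leaf 0) (.leaf 0))) (.node 14102 (.node 14101 (.leaf 0) (.leaf 0)) (.node 14103 (.leaf 0) (.leaf 0)))) (.node 14108 (.node 14106 (.node 14105 (.leaf 0) (.leaf 0)) (.node 14107 (.leaf 0) (.leaf 0))) (.node 14110 (.node 14109 (.leaf 0) (.leaf 0)) (.node 14111 (.leaf 0) (.leaf 0))))))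

def regKPB441 : Bst := (.node 14128 (.node 14120 (.node 14116 (.node 14114 (.node 14113 (.leaf 0) (.leaf 0)) (.node 14115 (.leaf 0) (.leaf 0))) (.node 14118 (.node 14117 (.leaf 0) (.leaf 0)) (.node 14119 (.leaf 0) (.leaf 0)))) (.node 14124 (.node 14122 (.node 14121 (.leaf 0) (.leaf 0)) (.node 14123 (.leaf 0) (.leaf 0))) (.node 14126 (.node 14125 (.leaf 0) (.leaf 0)) (.node 14127 (.leaf 0) (.leaf 0))))) (.node 14136 (.node 14132 (.node 14130 (.node 14129 (.leaf 0) (.leaf 0)) (.node 14131 (.leaf 0) (.leaf 0))) (.node 14134 (.node 14133 (.leaf 0) (.leaf 0)) (.node 14135 (.leaf 0) (.leaf 0)))) (.node 14140 (.node 14138 (.node 14137 (.leaf 0) (.leaf 0)) (.node 14139 (.leaf 0) (.leaf 0))) (.node 14142 (.node 14141 (.leaf 0) (.leaf 0)) (.node 14143 (.leaf 0) (.leaf 0))))))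

def regKPB442 : Bst := (.node 14160 (.node 14152 (.node 14148 (.node 14146 (.node 14145 (.leaf 0) (.leaf 0)) (.node 14147 (.leaf 0) (.leaf 0))) (.node 14150 (.node 14149 (.leaf 0) (.leaf 0)) (.node 14151 (.leaf 0) (.leaf 0)))) (.node 14156 (.node 14154 (.node 14153 (.leaf 0) (.leaf 0)) (.node 14155 (.leaf 0) (.leaf 0))) (.node 14158 (.node 14157 (.leaf 0) (.leaf 0)) (.node 14159 (.leaf 0) (.leaf 0))))) (.node 14168 (.node 14164 (.node 14162 (.node 14161 (.leaf 0) (.leaf 0)) (.node 14163 (.leaf 0) (.leaf 0))) (.node 14166 (.node 14165 (.leaf 0) (.leaf 0)) (.node 14167 (.leaf 0) (.leaf 0)))) (.node 14172 (.node 14170 (.node 14169 (.leaf 0) (.leaf 0)) (.node 14171 (.leaf 0) (.leaf 0))) (.node 14174 (.node 14173 (.leaf 0) (.leaf 0)) (.node 14175 (.leaf 0) (.leaf 0x25800000))))))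

def regKPB443 : Bst := (.node 14192 (.node 14184 (.node 14180 (.node 14178 (.node 14177 (.leaf 0) (.leaf 0)) (.node 14179 (.leaf 0) (.leaf 0))) (.node 14182 (.node 14181 (.leaf 0) (.leaf 0)) (.node 14183 (.leaf 0) (.leaf 0)))) (.node 14188 (.node 14186 (.node 14185 (.leaf 0) (.leaf 0)) (.node 14187 (.leaf 0) (.leaf 0))) (.node 14190 (.node 14189 (.leaf 0) (.leaf 0)) (.node 14191 (.leaf 0) (.leaf 0))))) (.node 14200 (.node 14196 (.node 14194 (.node 14193 (.leaf 0) (.leaf 0)) (.node 14195 (.leaf 0) (.leaf 0))) (.node 14198 (.node 14197 (.leaf 0) (.leaf 0)) (.node 14199 (.leaf 0) (.leaf 0)))) (.node 14204 (.node 14202 (.node 14201 (.leaf 0) (.leaf 0)) (.node 14203 (.leaf 0) (.leaf 0))) (.node 14206 (.node 14205 (.leaf 0) (.leaf 0)) (.node 14207 (.leaf 0) (.leaf 0))))))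

def regKPB444 : Bst := (.node 14224 (.node 14216 (.node 14212 (.node 14210 (.node 14209 (.leaf 0) (.leaf 0)) (.node 14211 (.leaf 0) (.leaf 0))) (.node 14214 (.node 14213 (.leaf 0) (.leaf 0)) (.node 14215 (.leaf 0) (.leaf 0)))) (.node 14220 (.node 14218 (.node 14217 (.leaf 0) (.leaf 0)) (.node 14219 (.leaf 0) (.leaf 0))) (.node 14222 (.node 14221 (.leaf 0) (.leaf 0)) (.node 14223 (.leaf 0) (.leaf 0))))) (.node 14232 (.node 14228 (.node 14226 (.node 14225 (.leaf 0) (.leaf 0)) (.node 14227 (.leaf 0) (.leaf 0))) (.node 14230 (.node 14229 (.leaf 0) (.leaf 0)) (.node 14231 (.leaf 0) (.leaf 0)))) (.node 14236 (.node 14234 (.node 14233 (.leaf 0) (.leaf 0)) (.node 14235 (.leaf 0) (.leaf 0))) (.node 14238 (.node 14237 (.leaf 0) (.leaf 0)) (.node 14239 (.leaf 0) (.leaf 0))))))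

def regKPB445 : Bst := (.node 14256 (.node 14248 (.node 14244 (.node 14242 (.node 14241 (.leaf 0) (.leaf 0)) (.node 14243 (.leaf 0) (.leaf 0))) (.node 14246 (.node 14245 (.leaf 0) (.leaf 0)) (.node 14247 (.leaf 0) (.leaf 0)))) (.node 14252 (.node 14250 (.node 14249 (.leaf 0) (.leaf 0)) (.node 14251 (.leaf 0) (.leaf 0))) (.node 14254 (.node 14253 (.leaf 0) (.leaf 0)) (.node 14255 (.leaf 0) (.leaf 0))))) (.node 14264 (.node 14260 (.node 14258 (.node 14257 (.leaf 0) (.leaf 0)) (.node 14259 (.leaf 0) (.leaf 0))) (.node 14262 (.node 14261 (.leaf 0) (.leaf 0)) (.node 14263 (.leaf 0) (.leaf 0)))) (.node 14268 (.node 14266 (.node 14265 (.leaf 0) (.leaf 0)) (.node 14267 (.leaf 0) (.leaf 0))) (.node 14270 (.node 14269 (.leaf 0) (.leaf 0)) (.node 14271 (.leaf 0) (.leaf 0))))))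

def regKPB446 : Bst := (.node 14288 (.node 14280 (.node 14276 (.node 14274 (.node 14273 (.leaf 0) (.leaf 0)) (.node 14275 (.leaf 0) (.leaf 0))) (.node 14278 (.node 14277 (.leaf 0) (.leaf 0)) (.node 14279 (.leaf 0) (.leaf 0)))) (.node 14284 (.node 14282 (.node 14281 (.leaf 0) (.leaf 0)) (.node 14283 (.leaf 0) (.leaf 0))) (.node 14286 (.node 14285 (.leaf 0) (.leaf 0)) (.node 14287 (.leaf 0) (.leaf 0))))) (.node 14296 (.node 14292 (.node 14290 (.node 14289 (.leaf 0) (.leaf 0)) (.node 14291 (.leaf 0) (.leaf 0))) (.node 14294 (.node 14293 (.leaf 0) (.leaf 0)) (.node 14295 (.leaf 0) (.leaf 0)))) (.node 14300 (.node 14298 (.node 14297 (.leaf 0) (.leaf 0)) (.node 14299 (.leaf 0) (.leaf 0))) (.node 14302 (.node 14301 (.leaf 0) (.leaf 0)) (.node 14303 (.leaf 0) (.leaf 0))))))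

def regKPB447 : Bst := (.node 14320 (.node 14312 (.node 14308 (.node 14306 (.node 14305 (.leaf 0) (.leaf 0)) (.node 14307 (.leaf 0) (.leaf 0))) (.node 14310 (.node 14309 (.leaf 0) (.leaf 0)) (.node 14311 (.leaf 0) (.leaf 0)))) (.node 14316 (.node 14314 (.node 14313 (.leaf 0) (.leaf 0)) (.node 14315 (.leaf 0) (.leaf 0))) (.node 14318 (.node 14317 (.leaf 0) (.leaf 0)) (.node 14319 (.leaf 0) (.leaf 0))))) (.node 14328 (.node 14324 (.node 14322 (.node 14321 (.leaf 0) (.leaf 0)) (.node 14323 (.leaf 0) (.leaf 0))) (.node 14326 (.node 14325 (.leaf 0) (.leaf 0)) (.node 14327 (.leaf 0) (.leaf 0)))) (.node 14332 (.node 14330 (.node 14329 (.leaf 0) (.leaf 0)) (.node 14331 (.leaf 0) (.leaf 0))) (.node 14334 (.node 14333 (.leaf 0) (.leaf 0)) (.node 14335 (.leaf 0) (.leaf 0))))))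

def regKPB448 : Bst := (.node 14352 (.node 14344 (.node 14340 (.node 14338 (.node 14337 (.leaf 0) (.leaf 0)) (.node 14339 (.leaf 0) (.leaf 0))) (.node 14342 (.node 14341 (.leaf 0) (.leaf 0)) (.node 14343 (.leaf 0) (.leaf 0)))) (.node 14348 (.node 14346 (.node 14345 (.leaf 0) (.leaf 0)) (.node 14347 (.leaf 0) (.leaf 0))) (.node 14350 (.node 14349 (.leaf 0) (.leaf 0)) (.node 14351 (.leaf 0) (.leaf 0))))) (.node 14360 (.node 14356 (.node 14354 (.node 14353 (.leaf 0) (.leaf 0)) (.node 14355 (.leaf 0) (.leaf 0))) (.node 14358 (.node 14357 (.leaf 0) (.leaf 0)) (.node 14359 (.leaf 0) (.leaf 0)))) (.node 14364 (.node 14362 (.node 14361 (.leaf 0) (.leaf 0)) (.node 14363 (.leaf 0) (.leaf 0))) (.node 14366 (.node 14365 (.leaf 0) (.leaf 0)) (.node 14367 (.leaf 0) (.leaf 0))))))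

def regKPB449 : Bst := (.node 14384 (.node 14376 (.node 14372 (.node 14370 (.node 14369 (.leaf 0) (.leaf 0)) (.node 14371 (.leaf 0) (.leaf 0))) (.node 14374 (.node 14373 (.leaf 0) (.leaf 0)) (.node 14375 (.leaf 0) (.leaf 0)))) (.node 14380 (.node 14378 (.node 14377 (.leaf 0) (.leaf 0)) (.node 14379 (.leaf 0) (.leaf 0))) (.node 14382 (.node 14381 (.leaf 0) (.leaf 0)) (.node 14383 (.leaf 0) (.leaf 0))))) (.node 14392 (.node 14388 (.node 14386 (.node 14385 (.leaf 0) (.leaf 0)) (.node 14387 (.leaf 0) (.leaf 0))) (.node 14390 (.node 14389 (.leaf 0) (.leaf 0)) (.node 14391 (.leaf 0) (.leaf 0)))) (.node 14396 (.node 14394 (.node 14393 (.leaf 0) (.leaf 0)) (.node 14395 (.leaf 0) (.leaf 0))) (.node 14398 (.node 14397 (.leaf 0) (.leaf 0)) (.node 14399 (.leaf 0) (.leaf 0))))))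

def regKPB450 : Bst := (.node 14416 (.node 14408 (.node 14404 (.node 14402 (.node 14401 (.leaf 0) (.leaf 0)) (.node 14403 (.leaf 0) (.leaf 0))) (.node 14406 (.node 14405 (.leaf 0) (.leaf 0)) (.node 14407 (.leaf 0) (.leaf 0)))) (.node 14412 (.node 14410 (.node 14409 (.leaf 0) (.leaf 0)) (.node 14411 (.leaf 0) (.leaf 0))) (.node 14414 (.node 14413 (.leaf 0) (.leaf 0)) (.node 14415 (.leaf 0) (.leaf 0))))) (.node 14424 (.node 14420 (.node 14418 (.node 14417 (.leaf 0) (.leaf 0)) (.node 14419 (.leaf 0) (.leaf 0))) (.node 14422 (.node 14421 (.leaf 0) (.leaf 0)) (.node 14423 (.leaf 0) (.leaf 0)))) (.node 14428 (.node 14426 (.node 14425 (.leaf 0) (.leaf 0)) (.node 14427 (.leaf 0) (.leaf 0))) (.node 14430 (.node 14429 (.leaf 0) (.leaf 0)) (.node 14431 (.leaf 0) (.leaf 0))))))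

def regKPB451 : Bst := (.node 14448 (.node 14440 (.node 14436 (.node 14434 (.node 14433 (.leaf 0) (.leaf 0)) (.node 14435 (.leaf 0) (.leaf 0))) (.node 14438 (.node 14437 (.leaf 0) (.leaf 0)) (.node 14439 (.leaf 0) (.leaf 0)))) (.node 14444 (.node 14442 (.node 14441 (.leaf 0) (.leaf 0)) (.node 14443 (.leaf 0) (.leaf 0))) (.node 14446 (.node 14445 (.leaf 0) (.leaf 0)) (.node 14447 (.leaf 0) (.leaf 0))))) (.node 14456 (.node 14452 (.node 14450 (.node 14449 (.leaf 0) (.leaf 0)) (.node 14451 (.leaf 0) (.leaf 0))) (.node 14454 (.node 14453 (.leaf 0) (.leaf 0)) (.node 14455 (.leaf 0) (.leaf 0)))) (.node 14460 (.node 14458 (.node 14457 (.leaf 0) (.leaf 0)) (.node 14459 (.leaf 0) (.leaf 0))) (.node 14462 (.node 14461 (.leaf 0) (.leaf 0)) (.node 14463 (.leaf 0) (.leaf 0))))))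

def regKPB452 : Bst := (.node 14480 (.node 14472 (.node 14468 (.node 14466 (.node 14465 (.leaf 0) (.leaf 0)) (.node 14467 (.leaf 0) (.leaf 0))) (.node 14470 (.node 14469 (.leaf 0) (.leaf 0)) (.node 14471 (.leaf 0) (.leaf 0)))) (.node 14476 (.node 14474 (.node 14473 (.leaf 0) (.leaf 0)) (.node 14475 (.leaf 0) (.leaf 0))) (.node 14478 (.node 14477 (.leaf 0) (.leaf 0)) (.node 14479 (.leaf 0) (.leaf 0))))) (.node 14488 (.node 14484 (.node 14482 (.node 14481 (.leaf 0) (.leaf 0)) (.node 14483 (.leaf 0) (.leaf 0))) (.node 14486 (.node 14485 (.leaf 0) (.leaf 0)) (.node 14487 (.leaf 0) (.leaf 0)))) (.node 14492 (.node 14490 (.node 14489 (.leaf 0) (.leaf 0)) (.node 14491 (.leaf 0) (.leaf 0))) (.node 14494 (.node 14493 (.leaf 0) (.leaf 0)) (.node 14495 (.leaf 0) (.leaf 0))))))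

def regKPB453 : Bst := (.node 14512 (.node 14504 (.node 14500 (.node 14498 (.node 14497 (.leaf 0) (.leaf 0)) (.node 14499 (.leaf 0) (.leaf 0))) (.node 14502 (.node 14501 (.leaf 0) (.leaf 0)) (.node 14503 (.leaf 0) (.leaf 0)))) (.node 14508 (.node 14506 (.node 14505 (.leaf 0) (.leaf 0)) (.node 14507 (.leaf 0) (.leaf 0))) (.node 14510 (.node 14509 (.leaf 0) (.leaf 0)) (.node 14511 (.leaf 0) (.leaf 0))))) (.node 14520 (.node 14516 (.node 14514 (.node 14513 (.leaf 0) (.leaf 0)) (.node 14515 (.leaf 0) (.leaf 0))) (.node 14518 (.node 14517 (.leaf 0) (.leaf 0)) (.node 14519 (.leaf 0) (.leaf 0)))) (.node 14524 (.node 14522 (.node 14521 (.leaf 0) (.leaf 0)) (.node 14523 (.leaf 0) (.leaf 0))) (.node 14526 (.node 14525 (.leaf 0) (.leaf 0)) (.node 14527 (.leaf 0) (.leaf 0))))))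

def regKPB454 : Bst := (.node 14544 (.node 14536 (.node 14532 (.node 14530 (.node 14529 (.leaf 0) (.leaf 0)) (.node 14531 (.leaf 0) (.leaf 0))) (.node 14534 (.node 14533 (.leaf 0) (.leaf 0)) (.node 14535 (.leaf 0) (.leaf 0)))) (.node 14540 (.node 14538 (.node 14537 (.leaf 0) (.leaf 0)) (.node 14539 (.leaf 0) (.leaf 0))) (.node 14542 (.node 14541 (.leaf 0) (.leaf 0)) (.node 14543 (.leaf 0) (.leaf 0))))) (.node 14552 (.node 14548 (.node 14546 (.node 14545 (.leaf 0) (.leaf 0)) (.node 14547 (.leaf 0) (.leaf 0))) (.node 14550 (.node 14549 (.leaf 0) (.leaf 0)) (.node 14551 (.leaf 0) (.leaf 0)))) (.node 14556 (.node 14554 (.node 14553 (.leaf 0) (.leaf 0)) (.node 14555 (.leaf 0) (.leaf 0))) (.node 14558 (.node 14557 (.leaf 0) (.leaf 0)) (.node 14559 (.leaf 0) (.leaf 0))))))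

def regKPB455 : Bst := (.node 14576 (.node 14568 (.node 14564 (.node 14562 (.node 14561 (.leaf 0) (.leaf 0)) (.node 14563 (.leaf 0) (.leaf 0))) (.node 14566 (.node 14565 (.leaf 0) (.leaf 0)) (.node 14567 (.leaf 0) (.leaf 0)))) (.node 14572 (.node 14570 (.node 14569 (.leaf 0) (.leaf 0)) (.node 14571 (.leaf 0) (.leaf 0))) (.node 14574 (.node 14573 (.leaf 0) (.leaf 0)) (.node 14575 (.leaf 0) (.leaf 0))))) (.node 14584 (.node 14580 (.node 14578 (.node 14577 (.leaf 0) (.leaf 0)) (.node 14579 (.leaf 0) (.leaf 0))) (.node 14582 (.node 14581 (.leaf 0) (.leaf 0)) (.node 14583 (.leaf 0) (.leaf 0)))) (.node 14588 (.node 14586 (.node 14585 (.leaf 0) (.leaf 0)) (.node 14587 (.leaf 0) (.leaf 0))) (.node 14590 (.node 14589 (.leaf 0) (.leaf 0)) (.node 14591 (.leaf 0) (.leaf 0))))))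

def regKPB456 : Bst := (.node 14608 (.node 14600 (.node 14596 (.node 14594 (.node 14593 (.leaf 0) (.leaf 0)) (.node 14595 (.leaf 0) (.leaf 0))) (.node 14598 (.node 14597 (.leaf 0) (.leaf 0)) (.node 14599 (.leaf 0) (.leaf 0)))) (.node 14604 (.node 14602 (.node 14601 (.leaf 0) (.leaf 0)) (.node 14603 (.leaf 0) (.leaf 0))) (.node 14606 (.node 14605 (.leaf 0) (.leaf 0)) (.node 14607 (.leaf 0) (.leaf 0))))) (.node 14616 (.node 14612 (.node 14610 (.node 14609 (.leaf 0) (.leaf 0)) (.node 14611 (.leaf 0) (.leaf 0))) (.node 14614 (.node 14613 (.leaf 0) (.leaf 0)) (.node 14615 (.leaf 0) (.leaf 0)))) (.node 14620 (.node 14618 (.node 14617 (.leaf 0) (.leaf 0)) (.node 14619 (.leaf 0) (.leaf 0))) (.node 14622 (.node 14621 (.leaf 0) (.leaf 0)) (.node 14623 (.leaf 0) (.leaf 0))))))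

def regKPB457 : Bst := (.node 14640 (.node 14632 (.node 14628 (.node 14626 (.node 14625 (.leaf 0) (.leaf 0)) (.node 14627 (.leaf 0) (.leaf 0))) (.node 14630 (.node 14629 (.leaf 0) (.leaf 0)) (.node 14631 (.leaf 0) (.leaf 0)))) (.node 14636 (.node 14634 (.node 14633 (.leaf 0) (.leaf 0)) (.node 14635 (.leaf 0) (.leaf 0))) (.node 14638 (.node 14637 (.leaf 0) (.leaf 0)) (.node 14639 (.leaf 0) (.leaf 0))))) (.node 14648 (.node 14644 (.node 14642 (.node 14641 (.leaf 0) (.leaf 0)) (.node 14643 (.leaf 0) (.leaf 0))) (.node 14646 (.node 14645 (.leaf 0) (.leaf 0)) (.node 14647 (.leaf 0) (.leaf 0)))) (.node 14652 (.node 14650 (.node 14649 (.leaf 0) (.leaf 0)) (.node 14651 (.leaf 0) (.leaf 0))) (.node 14654 (.node 14653 (.leaf 0) (.leaf 0)) (.node 14655 (.leaf 0) (.leaf 0))))))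

def regKPB458 : Bst := (.node 14672 (.node 14664 (.node 14660 (.node 14658 (.node 14657 (.leaf 0) (.leaf 0)) (.node 14659 (.leaf 0) (.leaf 0))) (.node 14662 (.node 14661 (.leaf 0) (.leaf 0)) (.node 14663 (.leaf 0) (.leaf 0)))) (.node 14668 (.node 14666 (.node 14665 (.leaf 0) (.leaf 0)) (.node 14667 (.leaf 0) (.leaf 0))) (.node 14670 (.node 14669 (.leaf 0) (.leaf 0)) (.node 14671 (.leaf 0) (.leaf 0))))) (.node 14680 (.node 14676 (.node 14674 (.node 14673 (.leaf 0) (.leaf 0)) (.node 14675 (.leaf 0) (.leaf 0))) (.node 14678 (.node 14677 (.leaf 0) (.leaf 0)) (.node 14679 (.leaf 0) (.leaf 0)))) (.node 14684 (.node 14682 (.node 14681 (.leaf 0) (.leaf 0)) (.node 14683 (.leaf 0) (.leaf 0))) (.node 14686 (.node 14685 (.leaf 0) (.leaf 0)) (.node 14687 (.leaf 0) (.leaf 0))))))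

def regKPB459 : Bst := (.node 14704 (.node 14696 (.node 14692 (.node 14690 (.node 14689 (.leaf 0) (.leaf 0)) (.node 14691 (.leaf 0) (.leaf 0))) (.node 14694 (.node 14693 (.leaf 0) (.leaf 0)) (.node 14695 (.leaf 0) (.leaf 0)))) (.node 14700 (.node 14698 (.node 14697 (.leaf 0) (.leaf 0)) (.node 14699 (.leaf 0) (.leaf 0))) (.node 14702 (.node 14701 (.leaf 0) (.leaf 0)) (.node 14703 (.leaf 0) (.leaf 0))))) (.node 14712 (.node 14708 (.node 14706 (.node 14705 (.leaf 0) (.leaf 0)) (.node 14707 (.leaf 0) (.leaf 0))) (.node 14710 (.node 14709 (.leaf 0) (.leaf 0)) (.node 14711 (.leaf 0) (.leaf 0)))) (.node 14716 (.node 14714 (.node 14713 (.leaf 0) (.leaf 0)) (.node 14715 (.leaf 0) (.leaf 0))) (.node 14718 (.node 14717 (.leaf 0) (.leaf 0)) (.node 14719 (.leaf 0) (.leaf 0))))))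

def regKPB460 : Bst := (.node 14736 (.node 14728 (.node 14724 (.node 14722 (.node 14721 (.leaf 0) (.leaf 0)) (.node 14723 (.leaf 0) (.leaf 0))) (.node 14726 (.node 14725 (.leaf 0) (.leaf 0)) (.node 14727 (.leaf 0) (.leaf 0)))) (.node 14732 (.node 14730 (.node 14729 (.leaf 0) (.leaf 0)) (.node 14731 (.leaf 0) (.leaf 0))) (.node 14734 (.node 14733 (.leaf 0) (.leaf 0)) (.node 14735 (.leaf 0) (.leaf 0))))) (.node 14744 (.node 14740 (.node 14738 (.node 14737 (.leaf 0) (.leaf 0)) (.node 14739 (.leaf 0) (.leaf 0))) (.node 14742 (.node 14741 (.leaf 0) (.leaf 0)) (.node 14743 (.leaf 0) (.leaf 0)))) (.node 14748 (.node 14746 (.node 14745 (.leaf 0) (.leaf 0)) (.node 14747 (.leaf 0) (.leaf 0))) (.node 14750 (.node 14749 (.leaf 0) (.leaf 0)) (.node 14751 (.leaf 0) (.leaf 0))))))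

def regKPB461 : Bst := (.node 14768 (.node 14760 (.node 14756 (.node 14754 (.node 14753 (.leaf 0) (.leaf 0)) (.node 14755 (.leaf 0) (.leaf 0))) (.node 14758 (.node 14757 (.leaf 0) (.leaf 0)) (.node 14759 (.leaf 0) (.leaf 0)))) (.node 14764 (.node 14762 (.node 14761 (.leaf 0) (.leaf 0)) (.node 14763 (.leaf 0) (.leaf 0))) (.node 14766 (.node 14765 (.leaf 0) (.leaf 0)) (.node 14767 (.leaf 0) (.leaf 0))))) (.node 14776 (.node 14772 (.node 14770 (.node 14769 (.leaf 0) (.leaf 0)) (.node 14771 (.leaf 0) (.leaf 0))) (.node 14774 (.node 14773 (.leaf 0) (.leaf 0)) (.node 14775 (.leaf 0) (.leaf 0)))) (.node 14780 (.node 14778 (.node 14777 (.leaf 0) (.leaf 0)) (.node 14779 (.leaf 0) (.leaf 0))) (.node 14782 (.node 14781 (.leaf 0) (.leaf 0)) (.node 14783 (.leaf 0) (.leaf 0))))))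

def regKPB462 : Bst := (.node 14800 (.node 14792 (.node 14788 (.node 14786 (.node 14785 (.leaf 0) (.leaf 0)) (.node 14787 (.leaf 0) (.leaf 0))) (.node 14790 (.node 14789 (.leaf 0) (.leaf 0)) (.node 14791 (.leaf 0) (.leaf 0)))) (.node 14796 (.node 14794 (.node 14793 (.leaf 0) (.leaf 0)) (.node 14795 (.leaf 0) (.leaf 0))) (.node 14798 (.node 14797 (.leaf 0) (.leaf 0)) (.node 14799 (.leaf 0) (.leaf 0))))) (.node 14808 (.node 14804 (.node 14802 (.node 14801 (.leaf 0) (.leaf 0)) (.node 14803 (.leaf 0) (.leaf 0))) (.node 14806 (.node 14805 (.leaf 0) (.leaf 0)) (.node 14807 (.leaf 0) (.leaf 0)))) (.node 14812 (.node 14810 (.node 14809 (.leaf 0) (.leaf 0)) (.node 14811 (.leaf 0) (.leaf 0))) (.node 14814 (.node 14813 (.leaf 0) (.leaf 0)) (.node 14815 (.leaf 0) (.leaf 0))))))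

def regKPB463 : Bst := (.node 14832 (.node 14824 (.node 14820 (.node 14818 (.node 14817 (.leaf 0) (.leaf 0)) (.node 14819 (.leaf 0) (.leaf 0))) (.node 14822 (.node 14821 (.leaf 0) (.leaf 0)) (.node 14823 (.leaf 0) (.leaf 0)))) (.node 14828 (.node 14826 (.node 14825 (.leaf 0) (.leaf 0)) (.node 14827 (.leaf 0) (.leaf 0))) (.node 14830 (.node 14829 (.leaf 0) (.leaf 0)) (.node 14831 (.leaf 0) (.leaf 0))))) (.node 14840 (.node 14836 (.node 14834 (.node 14833 (.leaf 0) (.leaf 0)) (.node 14835 (.leaf 0) (.leaf 0))) (.node 14838 (.node 14837 (.leaf 0) (.leaf 0)) (.node 14839 (.leaf 0) (.leaf 0)))) (.node 14844 (.node 14842 (.node 14841 (.leaf 0) (.leaf 0)) (.node 14843 (.leaf 0) (.leaf 0))) (.node 14846 (.node 14845 (.leaf 0) (.leaf 0)) (.node 14847 (.leaf 0) (.leaf 0))))))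

def regKPB464 : Bst := (.node 14864 (.node 14856 (.node 14852 (.node 14850 (.node 14849 (.leaf 0) (.leaf 0)) (.node 14851 (.leaf 0) (.leaf 0))) (.node 14854 (.node 14853 (.leaf 0) (.leaf 0)) (.node 14855 (.leaf 0) (.leaf 0)))) (.node 14860 (.node 14858 (.node 14857 (.leaf 0) (.leaf 0)) (.node 14859 (.leaf 0) (.leaf 0))) (.node 14862 (.node 14861 (.leaf 0) (.leaf 0)) (.node 14863 (.leaf 0) (.leaf 0))))) (.node 14872 (.node 14868 (.node 14866 (.node 14865 (.leaf 0) (.leaf 0)) (.node 14867 (.leaf 0) (.leaf 0))) (.node 14870 (.node 14869 (.leaf 0) (.leaf 0)) (.node 14871 (.leaf 0) (.leaf 0)))) (.node 14876 (.node 14874 (.node 14873 (.leaf 0) (.leaf 0)) (.node 14875 (.leaf 0) (.leaf 0))) (.node 14878 (.node 14877 (.leaf 0) (.leaf 0)) (.node 14879 (.leaf 0) (.leaf 0))))))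

def regKPB465 : Bst := (.node 14896 (.node 14888 (.node 14884 (.node 14882 (.node 14881 (.leaf 0) (.leaf 0)) (.node 14883 (.leaf 0) (.leaf 0))) (.node 14886 (.node 14885 (.leaf 0) (.leaf 0)) (.node 14887 (.leaf 0) (.leaf 0)))) (.node 14892 (.node 14890 (.node 14889 (.leaf 0) (.leaf 0)) (.node 14891 (.leaf 0) (.leaf 0))) (.node 14894 (.node 14893 (.leaf 0) (.leaf 0)) (.node 14895 (.leaf 0) (.leaf 0))))) (.node 14904 (.node 14900 (.node 14898 (.node 14897 (.leaf 0) (.leaf 0)) (.node 14899 (.leaf 0) (.leaf 0))) (.node 14902 (.node 14901 (.leaf 0) (.leaf 0)) (.node 14903 (.leaf 0) (.leaf 0)))) (.node 14908 (.node 14906 (.node 14905 (.leaf 0) (.leaf 0)) (.node 14907 (.leaf 0) (.leaf 0))) (.node 14910 (.node 14909 (.leaf 0) (.leaf 0)) (.node 14911 (.leaf 0) (.leaf 0))))))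

def regKPB466 : Bst := (.node 14928 (.node 14920 (.node 14916 (.node 14914 (.node 14913 (.leaf 0) (.leaf 0)) (.node 14915 (.leaf 0) (.leaf 0))) (.node 14918 (.node 14917 (.leaf 0) (.leaf 0)) (.node 14919 (.leaf 0) (.leaf 0)))) (.node 14924 (.node 14922 (.node 14921 (.leaf 0) (.leaf 0)) (.node 14923 (.leaf 0) (.leaf 0))) (.node 14926 (.node 14925 (.leaf 0) (.leaf 0)) (.node 14927 (.leaf 0) (.leaf 0))))) (.node 14936 (.node 14932 (.node 14930 (.node 14929 (.leaf 0) (.leaf 0)) (.node 14931 (.leaf 0) (.leaf 0))) (.node 14934 (.node 14933 (.leaf 0) (.leaf 0)) (.node 14935 (.leaf 0) (.leaf 0)))) (.node 14940 (.node 14938 (.node 14937 (.leaf 0) (.leaf 0)) (.node 14939 (.leaf 0) (.leaf 0))) (.node 14942 (.node 14941 (.leaf 0) (.leaf 0)) (.node 14943 (.leaf 0) (.leaf 0))))))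

def regKPB467 : Bst := (.node 14960 (.node 14952 (.node 14948 (.node 14946 (.node 14945 (.leaf 0) (.leaf 0)) (.node 14947 (.leaf 0) (.leaf 0))) (.node 14950 (.node 14949 (.leaf 0) (.leaf 0)) (.node 14951 (.leaf 0) (.leaf 0)))) (.node 14956 (.node 14954 (.node 14953 (.leaf 0) (.leaf 0)) (.node 14955 (.leaf 0) (.leaf 0))) (.node 14958 (.node 14957 (.leaf 0) (.leaf 0)) (.node 14959 (.leaf 0) (.leaf 0))))) (.node 14968 (.node 14964 (.node 14962 (.node 14961 (.leaf 0) (.leaf 0)) (.node 14963 (.leaf 0) (.leaf 0))) (.node 14966 (.node 14965 (.leaf 0) (.leaf 0)) (.node 14967 (.leaf 0) (.leaf 0)))) (.node 14972 (.node 14970 (.node 14969 (.leaf 0) (.leaf 0)) (.node 14971 (.leaf 0) (.leaf 0))) (.node 14974 (.node 14973 (.leaf 0) (.leaf 0)) (.node 14975 (.leaf 0) (.leaf 0))))))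

def regKPB468 : Bst := (.node 14992 (.node 14984 (.node 14980 (.node 14978 (.node 14977 (.leaf 0) (.leaf 0)) (.node 14979 (.leaf 0) (.leaf 0))) (.node 14982 (.node 14981 (.leaf 0) (.leaf 0)) (.node 14983 (.leaf 0) (.leaf 0)))) (.node 14988 (.node 14986 (.node 14985 (.leaf 0) (.leaf 0)) (.node 14987 (.leaf 0) (.leaf 0))) (.node 14990 (.node 14989 (.leaf 0) (.leaf 0)) (.node 14991 (.leaf 0) (.leaf 0))))) (.node 15000 (.node 14996 (.node 14994 (.node 14993 (.leaf 0) (.leaf 0)) (.node 14995 (.leaf 0) (.leaf 0))) (.node 14998 (.node 14997 (.leaf 0) (.leaf 0)) (.node 14999 (.leaf 0) (.leaf 0)))) (.node 15004 (.node 15002 (.node 15001 (.leaf 0) (.leaf 0)) (.node 15003 (.leaf 0) (.leaf 0))) (.node 15006 (.node 15005 (.leaf 0) (.leaf 0)) (.node 15007 (.leaf 0) (.leaf 0))))))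

def regKPB469 : Bst := (.node 15024 (.node 15016 (.node 15012 (.node 15010 (.node 15009 (.leaf 0) (.leaf 0)) (.node 15011 (.leaf 0) (.leaf 0))) (.node 15014 (.node 15013 (.leaf 0) (.leaf 0)) (.node 15015 (.leaf 0) (.leaf 0)))) (.node 15020 (.node 15018 (.node 15017 (.leaf 0) (.leaf 0)) (.node 15019 (.leaf 0) (.leaf 0))) (.node 15022 (.node 15021 (.leaf 0) (.leaf 0)) (.node 15023 (.leaf 0) (.leaf 0))))) (.node 15032 (.node 15028 (.node 15026 (.node 15025 (.leaf 0) (.leaf 0)) (.node 15027 (.leaf 0) (.leaf 0))) (.node 15030 (.node 15029 (.leaf 0) (.leaf 0)) (.node 15031 (.leaf 0) (.leaf 0)))) (.node 15036 (.node 15034 (.node 15033 (.leaf 0) (.leaf 0)) (.node 15035 (.leaf 0) (.leaf 0))) (.node 15038 (.node 15037 (.leaf 0) (.leaf 0)) (.node 15039 (.leaf 0) (.leaf 0))))))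

def regKPB470 : Bst := (.node 15056 (.node 15048 (.node 15044 (.node 15042 (.node 15041 (.leaf 0) (.leaf 0)) (.node 15043 (.leaf 0) (.leaf 0))) (.node 15046 (.node 15045 (.leaf 0) (.leaf 0)) (.node 15047 (.leaf 0) (.leaf 0)))) (.node 15052 (.node 15050 (.node 15049 (.leaf 0) (.leaf 0)) (.node 15051 (.leaf 0) (.leaf 0))) (.node 15054 (.node 15053 (.leaf 0) (.leaf 0)) (.node 15055 (.leaf 0) (.leaf 0))))) (.node 15064 (.node 15060 (.node 15058 (.node 15057 (.leaf 0) (.leaf 0)) (.node 15059 (.leaf 0) (.leaf 0))) (.node 15062 (.node 15061 (.leaf 0) (.leaf 0)) (.node 15063 (.leaf 0) (.leaf 0)))) (.node 15068 (.node 15066 (.node 15065 (.leaf 0) (.leaf 0)) (.node 15067 (.leaf 0) (.leaf 0))) (.node 15070 (.node 15069 (.leaf 0) (.leaf 0)) (.node 15071 (.leaf 0) (.leaf 0))))))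

def regKPB471 : Bst := (.node 15088 (.node 15080 (.node 15076 (.node 15074 (.node 15073 (.leaf 0) (.leaf 0)) (.node 15075 (.leaf 0) (.leaf 0))) (.node 15078 (.node 15077 (.leaf 0) (.leaf 0)) (.node 15079 (.leaf 0) (.leaf 0)))) (.node 15084 (.node 15082 (.node 15081 (.leaf 0) (.leaf 0)) (.node 15083 (.leaf 0) (.leaf 0))) (.node 15086 (.node 15085 (.leaf 0) (.leaf 0)) (.node 15087 (.leaf 0) (.leaf 0))))) (.node 15096 (.node 15092 (.node 15090 (.node 15089 (.leaf 0) (.leaf 0)) (.node 15091 (.leaf 0) (.leaf 0))) (.node 15094 (.node 15093 (.leaf 0) (.leaf 0)) (.node 15095 (.leaf 0) (.leaf 0)))) (.node 15100 (.node 15098 (.node 15097 (.leaf 0) (.leaf 0)) (.node 15099 (.leaf 0) (.leaf 0))) (.node 15102 (.node 15101 (.leaf 0) (.leaf 0)) (.node 15103 (.leaf 0) (.leaf 0))))))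

def regKPB472 : Bst := (.node 15120 (.node 15112 (.node 15108 (.node 15106 (.node 15105 (.leaf 0) (.leaf 0)) (.node 15107 (.leaf 0) (.leaf 0))) (.node 15110 (.node 15109 (.leaf 0) (.leaf 0)) (.node 15111 (.leaf 0) (.leaf 0)))) (.node 15116 (.node 15114 (.node 15113 (.leaf 0) (.leaf 0)) (.node 15115 (.leaf 0) (.leaf 0))) (.node 15118 (.node 15117 (.leaf 0) (.leaf 0)) (.node 15119 (.leaf 0) (.leaf 0))))) (.node 15128 (.node 15124 (.node 15122 (.node 15121 (.leaf 0) (.leaf 0)) (.node 15123 (.leaf 0) (.leaf 0))) (.node 15126 (.node 15125 (.leaf 0) (.leaf 0)) (.node 15127 (.leaf 0) (.leaf 0)))) (.node 15132 (.node 15130 (.node 15129 (.leaf 0) (.leaf 0)) (.node 15131 (.leaf 0) (.leaf 0))) (.node 15134 (.node 15133 (.leaf 0) (.leaf 0)) (.node 15135 (.leaf 0) (.leaf 0))))))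

def regKPB473 : Bst := (.node 15152 (.node 15144 (.node 15140 (.node 15138 (.node 15137 (.leaf 0) (.leaf 0)) (.node 15139 (.leaf 0) (.leaf 0))) (.node 15142 (.node 15141 (.leaf 0) (.leaf 0)) (.node 15143 (.leaf 0) (.leaf 0)))) (.node 15148 (.node 15146 (.node 15145 (.leaf 0) (.leaf 0)) (.node 15147 (.leaf 0) (.leaf 0))) (.node 15150 (.node 15149 (.leaf 0) (.leaf 0)) (.node 15151 (.leaf 0) (.leaf 0))))) (.node 15160 (.node 15156 (.node 15154 (.node 15153 (.leaf 0) (.leaf 0)) (.node 15155 (.leaf 0) (.leaf 0))) (.node 15158 (.node 15157 (.leaf 0) (.leaf 0)) (.node 15159 (.leaf 0) (.leaf 0)))) (.node 15164 (.node 15162 (.node 15161 (.leaf 0) (.leaf 0)) (.node 15163 (.leaf 0) (.leaf 0))) (.node 15166 (.node 15165 (.leaf 0) (.leaf 0)) (.node 15167 (.leaf 0) (.leaf 0))))))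

def regKPB474 : Bst := (.node 15184 (.node 15176 (.node 15172 (.node 15170 (.node 15169 (.leaf 0) (.leaf 0)) (.node 15171 (.leaf 0) (.leaf 0))) (.node 15174 (.node 15173 (.leaf 0) (.leaf 0)) (.node 15175 (.leaf 0) (.leaf 0)))) (.node 15180 (.node 15178 (.node 15177 (.leaf 0) (.leaf 0)) (.node 15179 (.leaf 0) (.leaf 0))) (.node 15182 (.node 15181 (.leaf 0) (.leaf 0)) (.node 15183 (.leaf 0) (.leaf 0))))) (.node 15192 (.node 15188 (.node 15186 (.node 15185 (.leaf 0) (.leaf 0)) (.node 15187 (.leaf 0) (.leaf 0))) (.node 15190 (.node 15189 (.leaf 0) (.leaf 0)) (.node 15191 (.leaf 0) (.leaf 0)))) (.node 15196 (.node 15194 (.node 15193 (.leaf 0) (.leaf 0)) (.node 15195 (.leaf 0) (.leaf 0))) (.node 15198 (.node 15197 (.leaf 0) (.leaf 0)) (.node 15199 (.leaf 0) (.leaf 0))))))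

def regKPB475 : Bst := (.node 15216 (.node 15208 (.node 15204 (.node 15202 (.node 15201 (.leaf 0) (.leaf 0)) (.node 15203 (.leaf 0) (.leaf 0))) (.node 15206 (.node 15205 (.leaf 0) (.leaf 0)) (.node 15207 (.leaf 0) (.leaf 0)))) (.node 15212 (.node 15210 (.node 15209 (.leaf 0) (.leaf 0)) (.node 15211 (.leaf 0) (.leaf 0))) (.node 15214 (.node 15213 (.leaf 0) (.leaf 0)) (.node 15215 (.leaf 0) (.leaf 0))))) (.node 15224 (.node 15220 (.node 15218 (.node 15217 (.leaf 0) (.leaf 0)) (.node 15219 (.leaf 0) (.leaf 0))) (.node 15222 (.node 15221 (.leaf 0) (.leaf 0)) (.node 15223 (.leaf 0) (.leaf 0)))) (.node 15228 (.node 15226 (.node 15225 (.leaf 0) (.leaf 0)) (.node 15227 (.leaf 0) (.leaf 0))) (.node 15230 (.node 15229 (.leaf 0) (.leaf 0)) (.node 15231 (.leaf 0) (.leaf 0))))))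

def regKPB476 : Bst := (.node 15248 (.node 15240 (.node 15236 (.node 15234 (.node 15233 (.leaf 0) (.leaf 0)) (.node 15235 (.leaf 0) (.leaf 0))) (.node 15238 (.node 15237 (.leaf 0) (.leaf 0)) (.node 15239 (.leaf 0) (.leaf 0)))) (.node 15244 (.node 15242 (.node 15241 (.leaf 0) (.leaf 0)) (.node 15243 (.leaf 0) (.leaf 0))) (.node 15246 (.node 15245 (.leaf 0) (.leaf 0)) (.node 15247 (.leaf 0) (.leaf 0))))) (.node 15256 (.node 15252 (.node 15250 (.node 15249 (.leaf 0) (.leaf 0)) (.node 15251 (.leaf 0) (.leaf 0))) (.node 15254 (.node 15253 (.leaf 0) (.leaf 0)) (.node 15255 (.leaf 0) (.leaf 0)))) (.node 15260 (.node 15258 (.node 15257 (.leaf 0) (.leaf 0)) (.node 15259 (.leaf 0) (.leaf 0))) (.node 15262 (.node 15261 (.leaf 0) (.leaf 0)) (.node 15263 (.leaf 0) (.leaf 0))))))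

def regKPB477 : Bst := (.node 15280 (.node 15272 (.node 15268 (.node 15266 (.node 15265 (.leaf 0) (.leaf 0)) (.node 15267 (.leaf 0) (.leaf 0))) (.node 15270 (.node 15269 (.leaf 0) (.leaf 0)) (.node 15271 (.leaf 0) (.leaf 0)))) (.node 15276 (.node 15274 (.node 15273 (.leaf 0) (.leaf 0)) (.node 15275 (.leaf 0) (.leaf 0))) (.node 15278 (.node 15277 (.leaf 0) (.leaf 0)) (.node 15279 (.leaf 0) (.leaf 0))))) (.node 15288 (.node 15284 (.node 15282 (.node 15281 (.leaf 0) (.leaf 0)) (.node 15283 (.leaf 0) (.leaf 0))) (.node 15286 (.node 15285 (.leaf 0) (.leaf 0)) (.node 15287 (.leaf 0) (.leaf 0)))) (.node 15292 (.node 15290 (.node 15289 (.leaf 0) (.leaf 0)) (.node 15291 (.leaf 0) (.leaf 0))) (.node 15294 (.node 15293 (.leaf 0) (.leaf 0)) (.node 15295 (.leaf 0) (.leaf 0))))))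

def regKPB478 : Bst := (.node 15312 (.node 15304 (.node 15300 (.node 15298 (.node 15297 (.leaf 0) (.leaf 0)) (.node 15299 (.leaf 0) (.leaf 0))) (.node 15302 (.node 15301 (.leaf 0) (.leaf 0)) (.node 15303 (.leaf 0) (.leaf 0)))) (.node 15308 (.node 15306 (.node 15305 (.leaf 0) (.leaf 0)) (.node 15307 (.leaf 0) (.leaf 0))) (.node 15310 (.node 15309 (.leaf 0) (.leaf 0)) (.node 15311 (.leaf 0) (.leaf 0))))) (.node 15320 (.node 15316 (.node 15314 (.node 15313 (.leaf 0) (.leaf 0)) (.node 15315 (.leaf 0) (.leaf 0))) (.node 15318 (.node 15317 (.leaf 0) (.leaf 0)) (.node 15319 (.leaf 0) (.leaf 0)))) (.node 15324 (.node 15322 (.node 15321 (.leaf 0) (.leaf 0)) (.node 15323 (.leaf 0) (.leaf 0))) (.node 15326 (.node 15325 (.leaf 0) (.leaf 0)) (.node 15327 (.leaf 0) (.leaf 0))))))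

def regKPB479 : Bst := (.node 15344 (.node 15336 (.node 15332 (.node 15330 (.node 15329 (.leaf 0) (.leaf 0)) (.node 15331 (.leaf 0) (.leaf 0))) (.node 15334 (.node 15333 (.leaf 0) (.leaf 0)) (.node 15335 (.leaf 0) (.leaf 0)))) (.node 15340 (.node 15338 (.node 15337 (.leaf 0) (.leaf 0)) (.node 15339 (.leaf 0) (.leaf 0))) (.node 15342 (.node 15341 (.leaf 0) (.leaf 0)) (.node 15343 (.leaf 0) (.leaf 0))))) (.node 15352 (.node 15348 (.node 15346 (.node 15345 (.leaf 0) (.leaf 0)) (.node 15347 (.leaf 0) (.leaf 0))) (.node 15350 (.node 15349 (.leaf 0) (.leaf 0)) (.node 15351 (.leaf 0) (.leaf 0)))) (.node 15356 (.node 15354 (.node 15353 (.leaf 0) (.leaf 0)) (.node 15355 (.leaf 0) (.leaf 0))) (.node 15358 (.node 15357 (.leaf 0) (.leaf 0)) (.node 15359 (.leaf 0) (.leaf 0))))))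

def regKPB480 : Bst := (.node 15376 (.node 15368 (.node 15364 (.node 15362 (.node 15361 (.leaf 0) (.leaf 0)) (.node 15363 (.leaf 0) (.leaf 0))) (.node 15366 (.node 15365 (.leaf 0) (.leaf 0)) (.node 15367 (.leaf 0) (.leaf 0)))) (.node 15372 (.node 15370 (.node 15369 (.leaf 0) (.leaf 0)) (.node 15371 (.leaf 0) (.leaf 0))) (.node 15374 (.node 15373 (.leaf 0) (.leaf 0)) (.node 15375 (.leaf 0) (.leaf 0))))) (.node 15384 (.node 15380 (.node 15378 (.node 15377 (.leaf 0) (.leaf 0)) (.node 15379 (.leaf 0) (.leaf 0))) (.node 15382 (.node 15381 (.leaf 0) (.leaf 0)) (.node 15383 (.leaf 0) (.leaf 0)))) (.node 15388 (.node 15386 (.node 15385 (.leaf 0) (.leaf 0)) (.node 15387 (.leaf 0) (.leaf 0))) (.node 15390 (.node 15389 (.leaf 0) (.leaf 0)) (.node 15391 (.leaf 0) (.leaf 0))))))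

def regKPB481 : Bst := (.node 15408 (.node 15400 (.node 15396 (.node 15394 (.node 15393 (.leaf 0) (.leaf 0)) (.node 15395 (.leaf 0) (.leaf 0))) (.node 15398 (.node 15397 (.leaf 0) (.leaf 0)) (.node 15399 (.leaf 0) (.leaf 0)))) (.node 15404 (.node 15402 (.node 15401 (.leaf 0) (.leaf 0)) (.node 15403 (.leaf 0) (.leaf 0))) (.node 15406 (.node 15405 (.leaf 0) (.leaf 0)) (.node 15407 (.leaf 0) (.leaf 0))))) (.node 15416 (.node 15412 (.node 15410 (.node 15409 (.leaf 0) (.leaf 0)) (.node 15411 (.leaf 0) (.leaf 0))) (.node 15414 (.node 15413 (.leaf 0) (.leaf 0)) (.node 15415 (.leaf 0) (.leaf 0)))) (.node 15420 (.node 15418 (.node 15417 (.leaf 0) (.leaf 0)) (.node 15419 (.leaf 0) (.leaf 0))) (.node 15422 (.node 15421 (.leaf 0) (.leaf 0)) (.node 15423 (.leaf 0) (.leaf 0))))))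

def regKPB482 : Bst := (.node 15440 (.node 15432 (.node 15428 (.node 15426 (.node 15425 (.leaf 0) (.leaf 0)) (.node 15427 (.leaf 0) (.leaf 0))) (.node 15430 (.node 15429 (.leaf 0) (.leaf 0)) (.node 15431 (.leaf 0) (.leaf 0)))) (.node 15436 (.node 15434 (.node 15433 (.leaf 0) (.leaf 0)) (.node 15435 (.leaf 0) (.leaf 0))) (.node 15438 (.node 15437 (.leaf 0) (.leaf 0)) (.node 15439 (.leaf 0) (.leaf 0))))) (.node 15448 (.node 15444 (.node 15442 (.node 15441 (.leaf 0) (.leaf 0)) (.node 15443 (.leaf 0) (.leaf 0))) (.node 15446 (.node 15445 (.leaf 0) (.leaf 0)) (.node 15447 (.leaf 0) (.leaf 0)))) (.node 15452 (.node 15450 (.node 15449 (.leaf 0) (.leaf 0)) (.node 15451 (.leaf 0) (.leaf 0))) (.node 15454 (.node 15453 (.leaf 0) (.leaf 0)) (.node 15455 (.leaf 0) (.leaf 0))))))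

def regKPB483 : Bst := (.node 15472 (.node 15464 (.node 15460 (.node 15458 (.node 15457 (.leaf 0) (.leaf 0)) (.node 15459 (.leaf 0) (.leaf 0))) (.node 15462 (.node 15461 (.leaf 0) (.leaf 0)) (.node 15463 (.leaf 0) (.leaf 0)))) (.node 15468 (.node 15466 (.node 15465 (.leaf 0) (.leaf 0)) (.node 15467 (.leaf 0) (.leaf 0))) (.node 15470 (.node 15469 (.leaf 0) (.leaf 0)) (.node 15471 (.leaf 0) (.leaf 0))))) (.node 15480 (.node 15476 (.node 15474 (.node 15473 (.leaf 0) (.leaf 0)) (.node 15475 (.leaf 0) (.leaf 0))) (.node 15478 (.node 15477 (.leaf 0) (.leaf 0)) (.node 15479 (.leaf 0) (.leaf 0)))) (.node 15484 (.node 15482 (.node 15481 (.leaf 0) (.leaf 0)) (.node 15483 (.leaf 0) (.leaf 0))) (.node 15486 (.node 15485 (.leaf 0) (.leaf 0)) (.node 15487 (.leaf 0) (.leaf 0))))))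

def regKPB484 : Bst := (.node 15504 (.node 15496 (.node 15492 (.node 15490 (.node 15489 (.leaf 0) (.leaf 0)) (.node 15491 (.leaf 0) (.leaf 0))) (.node 15494 (.node 15493 (.leaf 0) (.leaf 0)) (.node 15495 (.leaf 0) (.leaf 0)))) (.node 15500 (.node 15498 (.node 15497 (.leaf 0) (.leaf 0)) (.node 15499 (.leaf 0) (.leaf 0))) (.node 15502 (.node 15501 (.leaf 0) (.leaf 0)) (.node 15503 (.leaf 0) (.leaf 0))))) (.node 15512 (.node 15508 (.node 15506 (.node 15505 (.leaf 0) (.leaf 0)) (.node 15507 (.leaf 0) (.leaf 0))) (.node 15510 (.node 15509 (.leaf 0) (.leaf 0)) (.node 15511 (.leaf 0) (.leaf 0)))) (.node 15516 (.node 15514 (.node 15513 (.leaf 0) (.leaf 0)) (.node 15515 (.leaf 0) (.leaf 0))) (.node 15518 (.node 15517 (.leaf 0) (.leaf 0)) (.node 15519 (.leaf 0) (.leaf 0))))))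

def regKPB485 : Bst := (.node 15536 (.node 15528 (.node 15524 (.node 15522 (.node 15521 (.leaf 0) (.leaf 0)) (.node 15523 (.leaf 0) (.leaf 0))) (.node 15526 (.node 15525 (.leaf 0) (.leaf 0)) (.node 15527 (.leaf 0) (.leaf 0)))) (.node 15532 (.node 15530 (.node 15529 (.leaf 0) (.leaf 0)) (.node 15531 (.leaf 0) (.leaf 0))) (.node 15534 (.node 15533 (.leaf 0) (.leaf 0)) (.node 15535 (.leaf 0) (.leaf 0))))) (.node 15544 (.node 15540 (.node 15538 (.node 15537 (.leaf 0) (.leaf 0)) (.node 15539 (.leaf 0) (.leaf 0))) (.node 15542 (.node 15541 (.leaf 0) (.leaf 0)) (.node 15543 (.leaf 0) (.leaf 0)))) (.node 15548 (.node 15546 (.node 15545 (.leaf 0) (.leaf 0)) (.node 15547 (.leaf 0) (.leaf 0))) (.node 15550 (.node 15549 (.leaf 0) (.leaf 0)) (.node 15551 (.leaf 0) (.leaf 0))))))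

def regKPB486 : Bst := (.node 15568 (.node 15560 (.node 15556 (.node 15554 (.node 15553 (.leaf 0) (.leaf 0)) (.node 15555 (.leaf 0) (.leaf 0))) (.node 15558 (.node 15557 (.leaf 0) (.leaf 0)) (.node 15559 (.leaf 0) (.leaf 0)))) (.node 15564 (.node 15562 (.node 15561 (.leaf 0) (.leaf 0)) (.node 15563 (.leaf 0) (.leaf 0))) (.node 15566 (.node 15565 (.leaf 0) (.leaf 0)) (.node 15567 (.leaf 0) (.leaf 0))))) (.node 15576 (.node 15572 (.node 15570 (.node 15569 (.leaf 0) (.leaf 0)) (.node 15571 (.leaf 0) (.leaf 0))) (.node 15574 (.node 15573 (.leaf 0) (.leaf 0)) (.node 15575 (.leaf 0) (.leaf 0)))) (.node 15580 (.node 15578 (.node 15577 (.leaf 0) (.leaf 0)) (.node 15579 (.leaf 0) (.leaf 0))) (.node 15582 (.node 15581 (.leaf 0) (.leaf 0)) (.node 15583 (.leaf 0) (.leaf 0))))))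

def regKPB487 : Bst := (.node 15600 (.node 15592 (.node 15588 (.node 15586 (.node 15585 (.leaf 0) (.leaf 0)) (.node 15587 (.leaf 0) (.leaf 0))) (.node 15590 (.node 15589 (.leaf 0) (.leaf 0)) (.node 15591 (.leaf 0) (.leaf 0)))) (.node 15596 (.node 15594 (.node 15593 (.leaf 0) (.leaf 0)) (.node 15595 (.leaf 0) (.leaf 0))) (.node 15598 (.node 15597 (.leaf 0) (.leaf 0)) (.node 15599 (.leaf 0) (.leaf 0))))) (.node 15608 (.node 15604 (.node 15602 (.node 15601 (.leaf 0) (.leaf 0)) (.node 15603 (.leaf 0) (.leaf 0))) (.node 15606 (.node 15605 (.leaf 0) (.leaf 0)) (.node 15607 (.leaf 0) (.leaf 0)))) (.node 15612 (.node 15610 (.node 15609 (.leaf 0) (.leaf 0)) (.node 15611 (.leaf 0) (.leaf 0))) (.node 15614 (.node 15613 (.leaf 0) (.leaf 0)) (.node 15615 (.leaf 0) (.leaf 0))))))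

def regKPB488 : Bst := (.node 15632 (.node 15624 (.node 15620 (.node 15618 (.node 15617 (.leaf 0) (.leaf 0)) (.node 15619 (.leaf 0) (.leaf 0))) (.node 15622 (.node 15621 (.leaf 0) (.leaf 0)) (.node 15623 (.leaf 0) (.leaf 0)))) (.node 15628 (.node 15626 (.node 15625 (.leaf 0) (.leaf 0)) (.node 15627 (.leaf 0) (.leaf 0))) (.node 15630 (.node 15629 (.leaf 0) (.leaf 0)) (.node 15631 (.leaf 0) (.leaf 0))))) (.node 15640 (.node 15636 (.node 15634 (.node 15633 (.leaf 0) (.leaf 0)) (.node 15635 (.leaf 0) (.leaf 0))) (.node 15638 (.node 15637 (.leaf 0) (.leaf 0)) (.node 15639 (.leaf 0) (.leaf 0)))) (.node 15644 (.node 15642 (.node 15641 (.leaf 0) (.leaf 0)) (.node 15643 (.leaf 0) (.leaf 0))) (.node 15646 (.node 15645 (.leaf 0) (.leaf 0)) (.node 15647 (.leaf 0) (.leaf 0))))))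

def regKPB489 : Bst := (.node 15664 (.node 15656 (.node 15652 (.node 15650 (.node 15649 (.leaf 0) (.leaf 0)) (.node 15651 (.leaf 0) (.leaf 0))) (.node 15654 (.node 15653 (.leaf 0) (.leaf 0)) (.node 15655 (.leaf 0) (.leaf 0)))) (.node 15660 (.node 15658 (.node 15657 (.leaf 0) (.leaf 0)) (.node 15659 (.leaf 0) (.leaf 0))) (.node 15662 (.node 15661 (.leaf 0) (.leaf 0)) (.node 15663 (.leaf 0) (.leaf 0))))) (.node 15672 (.node 15668 (.node 15666 (.node 15665 (.leaf 0) (.leaf 0)) (.node 15667 (.leaf 0) (.leaf 0))) (.node 15670 (.node 15669 (.leaf 0) (.leaf 0)) (.node 15671 (.leaf 0) (.leaf 0)))) (.node 15676 (.node 15674 (.node 15673 (.leaf 0) (.leaf 0)) (.node 15675 (.leaf 0) (.leaf 0))) (.node 15678 (.node 15677 (.leaf 0) (.leaf 0)) (.node 15679 (.leaf 0) (.leaf 0))))))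

def regKPB490 : Bst := (.node 15696 (.node 15688 (.node 15684 (.node 15682 (.node 15681 (.leaf 0) (.leaf 0)) (.node 15683 (.leaf 0) (.leaf 0))) (.node 15686 (.node 15685 (.leaf 0) (.leaf 0)) (.node 15687 (.leaf 0) (.leaf 0)))) (.node 15692 (.node 15690 (.node 15689 (.leaf 0) (.leaf 0)) (.node 15691 (.leaf 0) (.leaf 0))) (.node 15694 (.node 15693 (.leaf 0) (.leaf 0)) (.node 15695 (.leaf 0) (.leaf 0))))) (.node 15704 (.node 15700 (.node 15698 (.node 15697 (.leaf 0) (.leaf 0)) (.node 15699 (.leaf 0) (.leaf 0))) (.node 15702 (.node 15701 (.leaf 0) (.leaf 0)) (.node 15703 (.leaf 0) (.leaf 0)))) (.node 15708 (.node 15706 (.node 15705 (.leaf 0) (.leaf 0)) (.node 15707 (.leaf 0) (.leaf 0))) (.node 15710 (.node 15709 (.leaf 0) (.leaf 0)) (.node 15711 (.leaf 0) (.leaf 0))))))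

def regKPB491 : Bst := (.node 15728 (.node 15720 (.node 15716 (.node 15714 (.node 15713 (.leaf 0) (.leaf 0)) (.node 15715 (.leaf 0) (.leaf 0))) (.node 15718 (.node 15717 (.leaf 0) (.leaf 0)) (.node 15719 (.leaf 0) (.leaf 0)))) (.node 15724 (.node 15722 (.node 15721 (.leaf 0) (.leaf 0)) (.node 15723 (.leaf 0) (.leaf 0))) (.node 15726 (.node 15725 (.leaf 0) (.leaf 0)) (.node 15727 (.leaf 0) (.leaf 0))))) (.node 15736 (.node 15732 (.node 15730 (.node 15729 (.leaf 0) (.leaf 0)) (.node 15731 (.leaf 0) (.leaf 0))) (.node 15734 (.node 15733 (.leaf 0) (.leaf 0)) (.node 15735 (.leaf 0) (.leaf 0)))) (.node 15740 (.node 15738 (.node 15737 (.leaf 0) (.leaf 0)) (.node 15739 (.leaf 0) (.leaf 0))) (.node 15742 (.node 15741 (.leaf 0) (.leaf 0)) (.node 15743 (.leaf 0) (.leaf 0))))))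

def regKPB492 : Bst := (.node 15760 (.node 15752 (.node 15748 (.node 15746 (.node 15745 (.leaf 0) (.leaf 0)) (.node 15747 (.leaf 0) (.leaf 0))) (.node 15750 (.node 15749 (.leaf 0) (.leaf 0)) (.node 15751 (.leaf 0) (.leaf 0)))) (.node 15756 (.node 15754 (.node 15753 (.leaf 0) (.leaf 0)) (.node 15755 (.leaf 0) (.leaf 0))) (.node 15758 (.node 15757 (.leaf 0) (.leaf 0)) (.node 15759 (.leaf 0) (.leaf 0))))) (.node 15768 (.node 15764 (.node 15762 (.node 15761 (.leaf 0) (.leaf 0)) (.node 15763 (.leaf 0) (.leaf 0))) (.node 15766 (.node 15765 (.leaf 0) (.leaf 0)) (.node 15767 (.leaf 0) (.leaf 0)))) (.node 15772 (.node 15770 (.node 15769 (.leaf 0) (.leaf 0)) (.node 15771 (.leaf 0) (.leaf 0))) (.node 15774 (.node 15773 (.leaf 0) (.leaf 0)) (.node 15775 (.leaf 0) (.leaf 0))))))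

def regKPB493 : Bst := (.node 15792 (.node 15784 (.node 15780 (.node 15778 (.node 15777 (.leaf 0) (.leaf 0)) (.node 15779 (.leaf 0) (.leaf 0))) (.node 15782 (.node 15781 (.leaf 0) (.leaf 0)) (.node 15783 (.leaf 0) (.leaf 0)))) (.node 15788 (.node 15786 (.node 15785 (.leaf 0) (.leaf 0)) (.node 15787 (.leaf 0) (.leaf 0))) (.node 15790 (.node 15789 (.leaf 0) (.leaf 0)) (.node 15791 (.leaf 0) (.leaf 0))))) (.node 15800 (.node 15796 (.node 15794 (.node 15793 (.leaf 0) (.leaf 0)) (.node 15795 (.leaf 0) (.leaf 0))) (.node 15798 (.node 15797 (.leaf 0) (.leaf 0)) (.node 15799 (.leaf 0) (.leaf 0)))) (.node 15804 (.node 15802 (.node 15801 (.leaf 0) (.leaf 0)) (.node 15803 (.leaf 0) (.leaf 0))) (.node 15806 (.node 15805 (.leaf 0) (.leaf 0)) (.node 15807 (.leaf 0) (.leaf 0))))))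

def regKPB494 : Bst := (.node 15824 (.node 15816 (.node 15812 (.node 15810 (.node 15809 (.leaf 0) (.leaf 0)) (.node 15811 (.leaf 0) (.leaf 0))) (.node 15814 (.node 15813 (.leaf 0) (.leaf 0)) (.node 15815 (.leaf 0) (.leaf 0)))) (.node 15820 (.node 15818 (.node 15817 (.leaf 0) (.leaf 0)) (.node 15819 (.leaf 0) (.leaf 0))) (.node 15822 (.node 15821 (.leaf 0) (.leaf 0)) (.node 15823 (.leaf 0) (.leaf 0))))) (.node 15832 (.node 15828 (.node 15826 (.node 15825 (.leaf 0) (.leaf 0)) (.node 15827 (.leaf 0) (.leaf 0))) (.node 15830 (.node 15829 (.leaf 0) (.leaf 0)) (.node 15831 (.leaf 0) (.leaf 0)))) (.node 15836 (.node 15834 (.node 15833 (.leaf 0) (.leaf 0)) (.node 15835 (.leaf 0) (.leaf 0))) (.node 15838 (.node 15837 (.leaf 0) (.leaf 0)) (.node 15839 (.leaf 0) (.leaf 0))))))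

def regKPB495 : Bst := (.node 15856 (.node 15848 (.node 15844 (.node 15842 (.node 15841 (.leaf 0) (.leaf 0)) (.node 15843 (.leaf 0) (.leaf 0))) (.node 15846 (.node 15845 (.leaf 0) (.leaf 0)) (.node 15847 (.leaf 0) (.leaf 0)))) (.node 15852 (.node 15850 (.node 15849 (.leaf 0) (.leaf 0)) (.node 15851 (.leaf 0) (.leaf 0))) (.node 15854 (.node 15853 (.leaf 0) (.leaf 0)) (.node 15855 (.leaf 0) (.leaf 0))))) (.node 15864 (.node 15860 (.node 15858 (.node 15857 (.leaf 0) (.leaf 0)) (.node 15859 (.leaf 0) (.leaf 0))) (.node 15862 (.node 15861 (.leaf 0) (.leaf 0)) (.node 15863 (.leaf 0) (.leaf 0)))) (.node 15868 (.node 15866 (.node 15865 (.leaf 0) (.leaf 0)) (.node 15867 (.leaf 0) (.leaf 0))) (.node 15870 (.node 15869 (.leaf 0) (.leaf 0)) (.node 15871 (.leaf 0) (.leaf 0))))))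

def regKPB496 : Bst := (.node 15888 (.node 15880 (.node 15876 (.node 15874 (.node 15873 (.leaf 0) (.leaf 0)) (.node 15875 (.leaf 0) (.leaf 0))) (.node 15878 (.node 15877 (.leaf 0) (.leaf 0)) (.node 15879 (.leaf 0) (.leaf 0)))) (.node 15884 (.node 15882 (.node 15881 (.leaf 0) (.leaf 0)) (.node 15883 (.leaf 0) (.leaf 0))) (.node 15886 (.node 15885 (.leaf 0) (.leaf 0)) (.node 15887 (.leaf 0) (.leaf 0))))) (.node 15896 (.node 15892 (.node 15890 (.node 15889 (.leaf 0) (.leaf 0)) (.node 15891 (.leaf 0) (.leaf 0))) (.node 15894 (.node 15893 (.leaf 0) (.leaf 0)) (.node 15895 (.leaf 0) (.leaf 0)))) (.node 15900 (.node 15898 (.node 15897 (.leaf 0) (.leaf 0)) (.node 15899 (.leaf 0) (.leaf 0))) (.node 15902 (.node 15901 (.leaf 0) (.leaf 0)) (.node 15903 (.leaf 0) (.leaf 0))))))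

def regKPB497 : Bst := (.node 15920 (.node 15912 (.node 15908 (.node 15906 (.node 15905 (.leaf 0) (.leaf 0)) (.node 15907 (.leaf 0) (.leaf 0))) (.node 15910 (.node 15909 (.leaf 0) (.leaf 0)) (.node 15911 (.leaf 0) (.leaf 0)))) (.node 15916 (.node 15914 (.node 15913 (.leaf 0) (.leaf 0)) (.node 15915 (.leaf 0) (.leaf 0))) (.node 15918 (.node 15917 (.leaf 0) (.leaf 0)) (.node 15919 (.leaf 0) (.leaf 0))))) (.node 15928 (.node 15924 (.node 15922 (.node 15921 (.leaf 0) (.leaf 0)) (.node 15923 (.leaf 0) (.leaf 0))) (.node 15926 (.node 15925 (.leaf 0) (.leaf 0)) (.node 15927 (.leaf 0) (.leaf 0)))) (.node 15932 (.node 15930 (.node 15929 (.leaf 0) (.leaf 0)) (.node 15931 (.leaf 0) (.leaf 0))) (.node 15934 (.node 15933 (.leaf 0) (.leaf 0)) (.node 15935 (.leaf 0) (.leaf 0))))))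

def regKPB498 : Bst := (.node 15952 (.node 15944 (.node 15940 (.node 15938 (.node 15937 (.leaf 0) (.leaf 0)) (.node 15939 (.leaf 0) (.leaf 0))) (.node 15942 (.node 15941 (.leaf 0) (.leaf 0)) (.node 15943 (.leaf 0) (.leaf 0)))) (.node 15948 (.node 15946 (.node 15945 (.leaf 0) (.leaf 0)) (.node 15947 (.leaf 0) (.leaf 0))) (.node 15950 (.node 15949 (.leaf 0) (.leaf 0)) (.node 15951 (.leaf 0) (.leaf 0))))) (.node 15960 (.node 15956 (.node 15954 (.node 15953 (.leaf 0) (.leaf 0)) (.node 15955 (.leaf 0) (.leaf 0))) (.node 15958 (.node 15957 (.leaf 0) (.leaf 0)) (.node 15959 (.leaf 0) (.leaf 0)))) (.node 15964 (.node 15962 (.node 15961 (.leaf 0) (.leaf 0)) (.node 15963 (.leaf 0) (.leaf 0))) (.node 15966 (.node 15965 (.leaf 0) (.leaf 0)) (.node 15967 (.leaf 0) (.leaf 0))))))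

def regKPB499 : Bst := (.node 15984 (.node 15976 (.node 15972 (.node 15970 (.node 15969 (.leaf 0) (.leaf 0)) (.node 15971 (.leaf 0) (.leaf 0))) (.node 15974 (.node 15973 (.leaf 0) (.leaf 0)) (.node 15975 (.leaf 0) (.leaf 0)))) (.node 15980 (.node 15978 (.node 15977 (.leaf 0) (.leaf 0)) (.node 15979 (.leaf 0) (.leaf 0))) (.node 15982 (.node 15981 (.leaf 0) (.leaf 0)) (.node 15983 (.leaf 0) (.leaf 0))))) (.node 15992 (.node 15988 (.node 15986 (.node 15985 (.leaf 0) (.leaf 0)) (.node 15987 (.leaf 0) (.leaf 0))) (.node 15990 (.node 15989 (.leaf 0) (.leaf 0)) (.node 15991 (.leaf 0) (.leaf 0)))) (.node 15996 (.node 15994 (.node 15993 (.leaf 0) (.leaf 0)) (.node 15995 (.leaf 0) (.leaf 0))) (.node 15998 (.node 15997 (.leaf 0) (.leaf 0)) (.node 15999 (.leaf 0) (.leaf 0))))))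

def regKPB500 : Bst := (.node 16016 (.node 16008 (.node 16004 (.node 16002 (.node 16001 (.leaf 0) (.leaf 0)) (.node 16003 (.leaf 0) (.leaf 0))) (.node 16006 (.node 16005 (.leaf 0) (.leaf 0)) (.node 16007 (.leaf 0) (.leaf 0)))) (.node 16012 (.node 16010 (.node 16009 (.leaf 0) (.leaf 0)) (.node 16011 (.leaf 0) (.leaf 0))) (.node 16014 (.node 16013 (.leaf 0) (.leaf 0)) (.node 16015 (.leaf 0) (.leaf 0))))) (.node 16024 (.node 16020 (.node 16018 (.node 16017 (.leaf 0) (.leaf 0)) (.node 16019 (.leaf 0) (.leaf 0))) (.node 16022 (.node 16021 (.leaf 0) (.leaf 0)) (.node 16023 (.leaf 0) (.leaf 0)))) (.node 16028 (.node 16026 (.node 16025 (.leaf 0) (.leaf 0)) (.node 16027 (.leaf 0) (.leaf 0))) (.node 16030 (.node 16029 (.leaf 0) (.leaf 0)) (.node 16031 (.leaf 0) (.leaf 0))))))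

def regKPB501 : Bst := (.node 16048 (.node 16040 (.node 16036 (.node 16034 (.node 16033 (.leaf 0) (.leaf 0)) (.node 16035 (.leaf 0) (.leaf 0))) (.node 16038 (.node 16037 (.leaf 0) (.leaf 0)) (.node 16039 (.leaf 0) (.leaf 0)))) (.node 16044 (.node 16042 (.node 16041 (.leaf 0) (.leaf 0)) (.node 16043 (.leaf 0) (.leaf 0))) (.node 16046 (.node 16045 (.leaf 0) (.leaf 0)) (.node 16047 (.leaf 0) (.leaf 0))))) (.node 16056 (.node 16052 (.node 16050 (.node 16049 (.leaf 0) (.leaf 0)) (.node 16051 (.leaf 0) (.leaf 0))) (.node 16054 (.node 16053 (.leaf 0) (.leaf 0)) (.node 16055 (.leaf 0) (.leaf 0)))) (.node 16060 (.node 16058 (.node 16057 (.leaf 0) (.leaf 0)) (.node 16059 (.leaf 0) (.leaf 0))) (.node 16062 (.node 16061 (.leaf 0) (.leaf 0)) (.node 16063 (.leaf 0) (.leaf 0))))))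

def regKPB502 : Bst := (.node 16080 (.node 16072 (.node 16068 (.node 16066 (.node 16065 (.leaf 0) (.leaf 0)) (.node 16067 (.leaf 0) (.leaf 0))) (.node 16070 (.node 16069 (.leaf 0) (.leaf 0)) (.node 16071 (.leaf 0) (.leaf 0)))) (.node 16076 (.node 16074 (.node 16073 (.leaf 0) (.leaf 0)) (.node 16075 (.leaf 0) (.leaf 0))) (.node 16078 (.node 16077 (.leaf 0) (.leaf 0)) (.node 16079 (.leaf 0) (.leaf 0))))) (.node 16088 (.node 16084 (.node 16082 (.node 16081 (.leaf 0) (.leaf 0)) (.node 16083 (.leaf 0) (.leaf 0))) (.node 16086 (.node 16085 (.leaf 0) (.leaf 0)) (.node 16087 (.leaf 0) (.leaf 0)))) (.node 16092 (.node 16090 (.node 16089 (.leaf 0) (.leaf 0)) (.node 16091 (.leaf 0) (.leaf 0))) (.node 16094 (.node 16093 (.leaf 0) (.leaf 0)) (.node 16095 (.leaf 0) (.leaf 0))))))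

def regKPB503 : Bst := (.node 16112 (.node 16104 (.node 16100 (.node 16098 (.node 16097 (.leaf 0) (.leaf 0)) (.node 16099 (.leaf 0) (.leaf 0))) (.node 16102 (.node 16101 (.leaf 0) (.leaf 0)) (.node 16103 (.leaf 0) (.leaf 0)))) (.node 16108 (.node 16106 (.node 16105 (.leaf 0) (.leaf 0)) (.node 16107 (.leaf 0) (.leaf 0))) (.node 16110 (.node 16109 (.leaf 0) (.leaf 0)) (.node 16111 (.leaf 0) (.leaf 0))))) (.node 16120 (.node 16116 (.node 16114 (.node 16113 (.leaf 0) (.leaf 0)) (.node 16115 (.leaf 0) (.leaf 0))) (.node 16118 (.node 16117 (.leaf 0) (.leaf 0)) (.node 16119 (.leaf 0) (.leaf 0)))) (.node 16124 (.node 16122 (.node 16121 (.leaf 0) (.leaf 0)) (.node 16123 (.leaf 0) (.leaf 0))) (.node 16126 (.node 16125 (.leaf 0) (.leaf 0)) (.node 16127 (.leaf 0) (.leaf 0))))))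

def regKPB504 : Bst := (.node 16144 (.node 16136 (.node 16132 (.node 16130 (.node 16129 (.leaf 0) (.leaf 0)) (.node 16131 (.leaf 0) (.leaf 0))) (.node 16134 (.node 16133 (.leaf 0) (.leaf 0)) (.node 16135 (.leaf 0) (.leaf 0)))) (.node 16140 (.node 16138 (.node 16137 (.leaf 0) (.leaf 0)) (.node 16139 (.leaf 0) (.leaf 0))) (.node 16142 (.node 16141 (.leaf 0) (.leaf 0)) (.node 16143 (.leaf 0) (.leaf 0))))) (.node 16152 (.node 16148 (.node 16146 (.node 16145 (.leaf 0) (.leaf 0)) (.node 16147 (.leaf 0) (.leaf 0))) (.node 16150 (.node 16149 (.leaf 0) (.leaf 0)) (.node 16151 (.leaf 0) (.leaf 0)))) (.node 16156 (.node 16154 (.node 16153 (.leaf 0) (.leaf 0)) (.node 16155 (.leaf 0) (.leaf 0))) (.node 16158 (.node 16157 (.leaf 0) (.leaf 0)) (.node 16159 (.leaf 0) (.leaf 0))))))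

def regKPB505 : Bst := (.node 16176 (.node 16168 (.node 16164 (.node 16162 (.node 16161 (.leaf 0) (.leaf 0)) (.node 16163 (.leaf 0) (.leaf 0))) (.node 16166 (.node 16165 (.leaf 0) (.leaf 0)) (.node 16167 (.leaf 0) (.leaf 0)))) (.node 16172 (.node 16170 (.node 16169 (.leaf 0) (.leaf 0)) (.node 16171 (.leaf 0) (.leaf 0))) (.node 16174 (.node 16173 (.leaf 0) (.leaf 0)) (.node 16175 (.leaf 0) (.leaf 0))))) (.node 16184 (.node 16180 (.node 16178 (.node 16177 (.leaf 0) (.leaf 0)) (.node 16179 (.leaf 0) (.leaf 0))) (.node 16182 (.node 16181 (.leaf 0) (.leaf 0)) (.node 16183 (.leaf 0) (.leaf 0)))) (.node 16188 (.node 16186 (.node 16185 (.leaf 0) (.leaf 0)) (.node 16187 (.leaf 0) (.leaf 0))) (.node 16190 (.node 16189 (.leaf 0) (.leaf 0)) (.node 16191 (.leaf 0) (.leaf 0))))))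

def regKPB506 : Bst := (.node 16208 (.node 16200 (.node 16196 (.node 16194 (.node 16193 (.leaf 0) (.leaf 0)) (.node 16195 (.leaf 0) (.leaf 0))) (.node 16198 (.node 16197 (.leaf 0) (.leaf 0)) (.node 16199 (.leaf 0) (.leaf 0)))) (.node 16204 (.node 16202 (.node 16201 (.leaf 0) (.leaf 0)) (.node 16203 (.leaf 0) (.leaf 0))) (.node 16206 (.node 16205 (.leaf 0) (.leaf 0)) (.node 16207 (.leaf 0) (.leaf 0))))) (.node 16216 (.node 16212 (.node 16210 (.node 16209 (.leaf 0) (.leaf 0)) (.node 16211 (.leaf 0) (.leaf 0))) (.node 16214 (.node 16213 (.leaf 0) (.leaf 0)) (.node 16215 (.leaf 0) (.leaf 0)))) (.node 16220 (.node 16218 (.node 16217 (.leaf 0) (.leaf 0)) (.node 16219 (.leaf 0) (.leaf 0))) (.node 16222 (.node 16221 (.leaf 0) (.leaf 0)) (.node 16223 (.leaf 0) (.leaf 0))))))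

def regKPB507 : Bst := (.node 16240 (.node 16232 (.node 16228 (.node 16226 (.node 16225 (.leaf 0) (.leaf 0)) (.node 16227 (.leaf 0) (.leaf 0))) (.node 16230 (.node 16229 (.leaf 0) (.leaf 0)) (.node 16231 (.leaf 0) (.leaf 0)))) (.node 16236 (.node 16234 (.node 16233 (.leaf 0) (.leaf 0)) (.node 16235 (.leaf 0) (.leaf 0))) (.node 16238 (.node 16237 (.leaf 0) (.leaf 0)) (.node 16239 (.leaf 0) (.leaf 0))))) (.node 16248 (.node 16244 (.node 16242 (.node 16241 (.leaf 0) (.leaf 0)) (.node 16243 (.leaf 0) (.leaf 0))) (.node 16246 (.node 16245 (.leaf 0) (.leaf 0)) (.node 16247 (.leaf 0) (.leaf 0)))) (.node 16252 (.node 16250 (.node 16249 (.leaf 0) (.leaf 0)) (.node 16251 (.leaf 0) (.leaf 0))) (.node 16254 (.node 16253 (.leaf 0) (.leaf 0)) (.node 16255 (.leaf 0) (.leaf 0))))))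

def regKPB508 : Bst := (.node 16272 (.node 16264 (.node 16260 (.node 16258 (.node 16257 (.leaf 0) (.leaf 0)) (.node 16259 (.leaf 0) (.leaf 0))) (.node 16262 (.node 16261 (.leaf 0) (.leaf 0)) (.node 16263 (.leaf 0) (.leaf 0)))) (.node 16268 (.node 16266 (.node 16265 (.leaf 0) (.leaf 0)) (.node 16267 (.leaf 0) (.leaf 0))) (.node 16270 (.node 16269 (.leaf 0) (.leaf 0)) (.node 16271 (.leaf 0) (.leaf 0))))) (.node 16280 (.node 16276 (.node 16274 (.node 16273 (.leaf 0) (.leaf 0)) (.node 16275 (.leaf 0) (.leaf 0))) (.node 16278 (.node 16277 (.leaf 0) (.leaf 0)) (.node 16279 (.leaf 0) (.leaf 0)))) (.node 16284 (.node 16282 (.node 16281 (.leaf 0) (.leaf 0)) (.node 16283 (.leaf 0) (.leaf 0))) (.node 16286 (.node 16285 (.leaf 0) (.leaf 0)) (.node 16287 (.leaf 0) (.leaf 0))))))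

def regKPB509 : Bst := (.node 16304 (.node 16296 (.node 16292 (.node 16290 (.node 16289 (.leaf 0) (.leaf 0)) (.node 16291 (.leaf 0) (.leaf 0))) (.node 16294 (.node 16293 (.leaf 0) (.leaf 0)) (.node 16295 (.leaf 0) (.leaf 0)))) (.node 16300 (.node 16298 (.node 16297 (.leaf 0) (.leaf 0)) (.node 16299 (.leaf 0) (.leaf 0))) (.node 16302 (.node 16301 (.leaf 0) (.leaf 0)) (.node 16303 (.leaf 0) (.leaf 0))))) (.node 16312 (.node 16308 (.node 16306 (.node 16305 (.leaf 0) (.leaf 0)) (.node 16307 (.leaf 0) (.leaf 0))) (.node 16310 (.node 16309 (.leaf 0) (.leaf 0)) (.node 16311 (.leaf 0) (.leaf 0)))) (.node 16316 (.node 16314 (.node 16313 (.leaf 0) (.leaf 0)) (.node 16315 (.leaf 0) (.leaf 0))) (.node 16318 (.node 16317 (.leaf 0) (.leaf 0)) (.node 16319 (.leaf 0) (.leaf 0))))))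

def regKPB510 : Bst := (.node 16336 (.node 16328 (.node 16324 (.node 16322 (.node 16321 (.leaf 0) (.leaf 0)) (.node 16323 (.leaf 0) (.leaf 0))) (.node 16326 (.node 16325 (.leaf 0) (.leaf 0)) (.node 16327 (.leaf 0) (.leaf 0)))) (.node 16332 (.node 16330 (.node 16329 (.leaf 0) (.leaf 0)) (.node 16331 (.leaf 0) (.leaf 0))) (.node 16334 (.node 16333 (.leaf 0) (.leaf 0)) (.node 16335 (.leaf 0) (.leaf 0))))) (.node 16344 (.node 16340 (.node 16338 (.node 16337 (.leaf 0) (.leaf 0)) (.node 16339 (.leaf 0) (.leaf 0))) (.node 16342 (.node 16341 (.leaf 0) (.leaf 0)) (.node 16343 (.leaf 0) (.leaf 0)))) (.node 16348 (.node 16346 (.node 16345 (.leaf 0) (.leaf 0)) (.node 16347 (.leaf 0) (.leaf 0))) (.node 16350 (.node 16349 (.leaf 0) (.leaf 0)) (.node 16351 (.leaf 0) (.leaf 0))))))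

def regKPB511 : Bst := (.node 16368 (.node 16360 (.node 16356 (.node 16354 (.node 16353 (.leaf 0) (.leaf 0)) (.node 16355 (.leaf 0) (.leaf 0))) (.node 16358 (.node 16357 (.leaf 0) (.leaf 0)) (.node 16359 (.leaf 0) (.leaf 0)))) (.node 16364 (.node 16362 (.node 16361 (.leaf 0) (.leaf 0)) (.node 16363 (.leaf 0) (.leaf 0))) (.node 16366 (.node 16365 (.leaf 0) (.leaf 0)) (.node 16367 (.leaf 0) (.leaf 0))))) (.node 16376 (.node 16372 (.node 16370 (.node 16369 (.leaf 0) (.leaf 0)) (.node 16371 (.leaf 0) (.leaf 0))) (.node 16374 (.node 16373 (.leaf 0) (.leaf 0)) (.node 16375 (.leaf 0) (.leaf 0)))) (.node 16380 (.node 16378 (.node 16377 (.leaf 0) (.leaf 0)) (.node 16379 (.leaf 0) (.leaf 0))) (.node 16382 (.node 16381 (.leaf 0) (.leaf 0)) (.node 16383 (.leaf 0) (.leaf 0))))))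

def regKPB512 : Bst := (.node 16400 (.node 16392 (.node 16388 (.node 16386 (.node 16385 (.leaf 0) (.leaf 0)) (.node 16387 (.leaf 0) (.leaf 0))) (.node 16390 (.node 16389 (.leaf 0) (.leaf 0)) (.node 16391 (.leaf 0) (.leaf 0)))) (.node 16396 (.node 16394 (.node 16393 (.leaf 0) (.leaf 0)) (.node 16395 (.leaf 0) (.leaf 0))) (.node 16398 (.node 16397 (.leaf 0) (.leaf 0)) (.node 16399 (.leaf 0x20e000000000000000) (.leaf 0))))) (.node 16408 (.node 16404 (.node 16402 (.node 16401 (.leaf 0) (.leaf 0)) (.node 16403 (.leaf 0) (.leaf 0))) (.node 16406 (.node 16405 (.leaf 0) (.leaf 0)) (.node 16407 (.leaf 0) (.leaf 0)))) (.node 16412 (.node 16410 (.node 16409 (.leaf 0) (.leaf 0)) (.node 16411 (.leaf 0) (.leaf 0))) (.node 16414 (.node 16413 (.leaf 0) (.leaf 0)) (.node 16415 (.leaf 0) (.leaf 0))))))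

def regKPB513 : Bst := (.node 16432 (.node 16424 (.node 16420 (.node 16418 (.node 16417 (.leaf 0) (.leaf 0)) (.node 16419 (.leaf 0) (.leaf 0))) (.node 16422 (.node 16421 (.leaf 0) (.leaf 0)) (.node 16423 (.leaf 0) (.leaf 0)))) (.node 16428 (.node 16426 (.node 16425 (.leaf 0) (.leaf 0)) (.node 16427 (.leaf 0) (.leaf 0))) (.node 16430 (.node 16429 (.leaf 0) (.leaf 0)) (.node 16431 (.leaf 0) (.leaf 0))))) (.node 16440 (.node 16436 (.node 16434 (.node 16433 (.leaf 0) (.leaf 0)) (.node 16435 (.leaf 0) (.leaf 0))) (.node 16438 (.node 16437 (.leaf 0) (.leaf 0)) (.node 16439 (.leaf 0) (.leaf 0)))) (.node 16444 (.node 16442 (.node 16441 (.leaf 0) (.leaf 0)) (.node 16443 (.leaf 0) (.leaf 0))) (.node 16446 (.node 16445 (.leaf 0) (.leaf 0)) (.node 16447 (.leaf 0) (.leaf 0))))))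

def regKPB514 : Bst := (.node 16464 (.node 16456 (.node 16452 (.node 16450 (.node 16449 (.leaf 0) (.leaf 0)) (.node 16451 (.leaf 0) (.leaf 0))) (.node 16454 (.node 16453 (.leaf 0) (.leaf 0)) (.node 16455 (.leaf 0) (.leaf 0)))) (.node 16460 (.node 16458 (.node 16457 (.leaf 0) (.leaf 0)) (.node 16459 (.leaf 0) (.leaf 0))) (.node 16462 (.node 16461 (.leaf 0) (.leaf 0)) (.node 16463 (.leaf 0) (.leaf 0))))) (.node 16472 (.node 16468 (.node 16466 (.node 16465 (.leaf 0) (.leaf 0)) (.node 16467 (.leaf 0) (.leaf 0))) (.node 16470 (.node 16469 (.leaf 0) (.leaf 0)) (.node 16471 (.leaf 0) (.leaf 0)))) (.node 16476 (.node 16474 (.node 16473 (.leaf 0) (.leaf 0)) (.node 16475 (.leaf 0) (.leaf 0))) (.node 16478 (.node 16477 (.leaf 0) (.leaf 0)) (.node 16479 (.leaf 0) (.leaf 0))))))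

def regKPB515 : Bst := (.node 16496 (.node 16488 (.node 16484 (.node 16482 (.node 16481 (.leaf 0) (.leaf 0)) (.node 16483 (.leaf 0) (.leaf 0))) (.node 16486 (.node 16485 (.leaf 0) (.leaf 0)) (.node 16487 (.leaf 0) (.leaf 0)))) (.node 16492 (.node 16490 (.node 16489 (.leaf 0) (.leaf 0)) (.node 16491 (.leaf 0) (.leaf 0))) (.node 16494 (.node 16493 (.leaf 0) (.leaf 0)) (.node 16495 (.leaf 0) (.leaf 0))))) (.node 16504 (.node 16500 (.node 16498 (.node 16497 (.leaf 0) (.leaf 0)) (.node 16499 (.leaf 0) (.leaf 0))) (.node 16502 (.node 16501 (.leaf 0) (.leaf 0)) (.node 16503 (.leaf 0) (.leaf 0)))) (.node 16508 (.node 16506 (.node 16505 (.leaf 0) (.leaf 0)) (.node 16507 (.leaf 0) (.leaf 0))) (.node 16510 (.node 16509 (.leaf 0) (.leaf 0)) (.node 16511 (.leaf 0) (.leaf 0))))))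

def regKPB516 : Bst := (.node 16528 (.node 16520 (.node 16516 (.node 16514 (.node 16513 (.leaf 0) (.leaf 0)) (.node 16515 (.leaf 0) (.leaf 0))) (.node 16518 (.node 16517 (.leaf 0) (.leaf 0)) (.node 16519 (.leaf 0) (.leaf 0)))) (.node 16524 (.node 16522 (.node 16521 (.leaf 0) (.leaf 0)) (.node 16523 (.leaf 0) (.leaf 0))) (.node 16526 (.node 16525 (.leaf 0) (.leaf 0)) (.node 16527 (.leaf 0) (.leaf 0))))) (.node 16536 (.node 16532 (.node 16530 (.node 16529 (.leaf 0) (.leaf 0)) (.node 16531 (.leaf 0) (.leaf 0))) (.node 16534 (.node 16533 (.leaf 0) (.leaf 0)) (.node 16535 (.leaf 0) (.leaf 0)))) (.node 16540 (.node 16538 (.node 16537 (.leaf 0) (.leaf 0)) (.node 16539 (.leaf 0) (.leaf 0))) (.node 16542 (.node 16541 (.leaf 0) (.leaf 0)) (.node 16543 (.leaf 0) (.leaf 0))))))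

def regKPB517 : Bst := (.node 16560 (.node 16552 (.node 16548 (.node 16546 (.node 16545 (.leaf 0) (.leaf 0)) (.node 16547 (.leaf 0) (.leaf 0))) (.node 16550 (.node 16549 (.leaf 0) (.leaf 0)) (.node 16551 (.leaf 0) (.leaf 0)))) (.node 16556 (.node 16554 (.node 16553 (.leaf 0) (.leaf 0)) (.node 16555 (.leaf 0) (.leaf 0))) (.node 16558 (.node 16557 (.leaf 0) (.leaf 0)) (.node 16559 (.leaf 0) (.leaf 0))))) (.node 16568 (.node 16564 (.node 16562 (.node 16561 (.leaf 0) (.leaf 0)) (.node 16563 (.leaf 0) (.leaf 0))) (.node 16566 (.node 16565 (.leaf 0) (.leaf 0)) (.node 16567 (.leaf 0) (.leaf 0)))) (.node 16572 (.node 16570 (.node 16569 (.leaf 0) (.leaf 0)) (.node 16571 (.leaf 0) (.leaf 0))) (.node 16574 (.node 16573 (.leaf 0) (.leaf 0)) (.node 16575 (.leaf 0) (.leaf 0))))))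

def regKPB518 : Bst := (.node 16592 (.node 16584 (.node 16580 (.node 16578 (.node 16577 (.leaf 0) (.leaf 0)) (.node 16579 (.leaf 0) (.leaf 0))) (.node 16582 (.node 16581 (.leaf 0) (.leaf 0)) (.node 16583 (.leaf 0) (.leaf 0)))) (.node 16588 (.node 16586 (.node 16585 (.leaf 0) (.leaf 0)) (.node 16587 (.leaf 0) (.leaf 0))) (.node 16590 (.node 16589 (.leaf 0) (.leaf 0)) (.node 16591 (.leaf 0) (.leaf 0))))) (.node 16600 (.node 16596 (.node 16594 (.node 16593 (.leaf 0) (.leaf 0)) (.node 16595 (.leaf 0) (.leaf 0))) (.node 16598 (.node 16597 (.leaf 0) (.leaf 0)) (.node 16599 (.leaf 0) (.leaf 0)))) (.node 16604 (.node 16602 (.node 16601 (.leaf 0) (.leaf 0)) (.node 16603 (.leaf 0) (.leaf 0))) (.node 16606 (.node 16605 (.leaf 0) (.leaf 0)) (.node 16607 (.leaf 0) (.leaf 0))))))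

def regKPB519 : Bst := (.node 16624 (.node 16616 (.node 16612 (.node 16610 (.node 16609 (.leaf 0) (.leaf 0)) (.node 16611 (.leaf 0) (.leaf 0))) (.node 16614 (.node 16613 (.leaf 0) (.leaf 0)) (.node 16615 (.leaf 0) (.leaf 0)))) (.node 16620 (.node 16618 (.node 16617 (.leaf 0) (.leaf 0)) (.node 16619 (.leaf 0) (.leaf 0))) (.node 16622 (.node 16621 (.leaf 0) (.leaf 0)) (.node 16623 (.leaf 0) (.leaf 0))))) (.node 16632 (.node 16628 (.node 16626 (.node 16625 (.leaf 0) (.leaf 0)) (.node 16627 (.leaf 0) (.leaf 0))) (.node 16630 (.node 16629 (.leaf 0) (.leaf 0)) (.node 16631 (.leaf 0) (.leaf 0)))) (.node 16636 (.node 16634 (.node 16633 (.leaf 0) (.leaf 0)) (.node 16635 (.leaf 0) (.leaf 0))) (.node 16638 (.node 16637 (.leaf 0) (.leaf 0)) (.node 16639 (.leaf 0) (.leaf 0))))))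

def regKPB520 : Bst := (.node 16656 (.node 16648 (.node 16644 (.node 16642 (.node 16641 (.leaf 0) (.leaf 0)) (.node 16643 (.leaf 0) (.leaf 0))) (.node 16646 (.node 16645 (.leaf 0) (.leaf 0)) (.node 16647 (.leaf 0) (.leaf 0)))) (.node 16652 (.node 16650 (.node 16649 (.leaf 0) (.leaf 0)) (.node 16651 (.leaf 0) (.leaf 0))) (.node 16654 (.node 16653 (.leaf 0) (.leaf 0)) (.node 16655 (.leaf 0) (.leaf 0))))) (.node 16664 (.node 16660 (.node 16658 (.node 16657 (.leaf 0) (.leaf 0)) (.node 16659 (.leaf 0) (.leaf 0))) (.node 16662 (.node 16661 (.leaf 0) (.leaf 0)) (.node 16663 (.leaf 0) (.leaf 0)))) (.node 16668 (.node 16666 (.node 16665 (.leaf 0) (.leaf 0)) (.node 16667 (.leaf 0) (.leaf 0))) (.node 16670 (.node 16669 (.leaf 0) (.leaf 0)) (.node 16671 (.leaf 0) (.leaf 0))))))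

def regKPB521 : Bst := (.node 16683 (.node 16677 (.node 16674 (.node 16673 (.leaf 0) (.leaf 0)) (.node 16675 (.leaf 0) (.node 16676 (.leaf 0) (.leaf 0)))) (.node 16680 (.node 16678 (.leaf 0) (.node 16679 (.leaf 0) (.leaf 0))) (.node 16681 (.leaf 0) (.node 16682 (.leaf 0) (.leaf 0))))) (.node 16689 (.node 16686 (.node 16684 (.leaf 0) (.node 16685 (.leaf 0) (.leaf 0))) (.node 16687 (.leaf 0) (.node 16688 (.leaf 0) (.leaf 0)))) (.node 16692 (.node 16690 (.leaf 0) (.node 16691 (.leaf 0) (.leaf 0))) (.node 16693 (.leaf 0) (.node 16694 (.leaf 0) (.leaf 0x2390000000000))))))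

/-- A regular orbit (positions) -/
def regKP : Tab := ⟨(.node 8352 (.node 4160 (.node 2080 (.node 1024 (.node 512 (.node 256 (.node 128 (.node 64 (.node 32 regKPB0 regKPB1) (.node 96 regKPB2 regKPB3)) (.node 192 (.node 160 regKPB4 regKPB5) (.node 224 regKPB6 regKPB7))) (.node 384 (.node 320 (.node 288 regKPB8 regKPB9) (.node 352 regKPB10 regKPB11)) (.node 448 (.node 416 regKPB12 regKPB13) (.node 480 regKPB14 regKPB15)))) (.node 768 (.node 640 (.node 576 (.node 544 regKPB16 regKPB17) (.node 608 regKPB18 regKPB19)) (.node 704 (.node 672 regKPB20 regKPB21) (.node 736 regKPB22 regKPB23))) (.node 896 (.node 832 (.node 800 regKPB24 regKPB25) (.node 864 regKPB26 regKPB27)) (.node 960 (.node 928 regKPB28 regKPB29) (.node 992 regKPB30 regKPB31))))) (.node 1536 (.node 1280 (.node 1152 (.node 1088 (.node 1056 regKPB32 regKPB33) (.node 1120 regKPB34 regKPB35)) (.node 1216 (.node 1184 regKPB36 regKPB37) (.node 1248 regKPB38 regKPB39))) (.node 1408 (.node 1344 (.node 1312 regKPB40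 regKPB41) (.node 1376 regKPB42 regKPB43)) (.node 1472 (.node 1440 regKPB44 regKPB45) (.node 1504 regKPB46 regKPB47)))) (.node 1792 (.node 1664 (.node 1600 (.node 1568 regKPB48 regKPB49) (.node 1632 regKPB50 regKPB51)) (.node 1728 (.node 1696 regKPB52 regKPB53) (.node 1760 regKPB54 regKPB55))) (.node 1920 (.node 1856 (.node 1824 regKPB56 regKPB57) (.node 1888 regKPB58 regKPB59)) (.node 1984 (.node 1952 regKPB60 regKPB61) (.node 2016 regKPB62 (.node 2048 regKPB63 regKPB64))))))) (.node 3104 (.node 2592 (.node 2336 (.node 2208 (.node 2144 (.node 2112 regKPB65 regKPB66) (.node 2176 regKPB67 regKPB68)) (.node 2272 (.node 2240 regKPB69 regKPB70) (.node 2304 regKPB71 regKPB72))) (.node 2464 (.node 2400 (.node 2368 regKPB73 regKPB74) (.node 2432 regKPB75 regKPB76)) (.node 2528 (.node 2496 regKPB77 regKPB78) (.node 2560 regKPB79 regKPB80)))) (.node 2848 (.node 2720 (.node 2656 (.node 2624 regKPB81 regKPB82) (.node 2688 regKPB83 regKPB84)) (.node 2784 (.node 2752 regKPB85 regKPB86)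 (.node 2816 regKPB87 regKPB88))) (.node 2976 (.node 2912 (.node 2880 regKPB89 regKPB90) (.node 2944 regKPB91 regKPB92)) (.node 3040 (.node 3008 regKPB93 regKPB94) (.node 3072 regKPB95 regKPB96))))) (.node 3616 (.node 3360 (.node 3232 (.node 3168 (.node 3136 regKPB97 regKPB98) (.node 3200 regKPB99 regKPB100)) (.node 3296 (.node 3264 regKPB101 regKPB102) (.node 3328 regKPB103 regKPB104))) (.node 3488 (.node 3424 (.node 3392 regKPB105 regKPB106) (.node 3456 regKPB107 regKPB108)) (.node 3552 (.node 3520 regKPB109 regKPB110) (.node 3584 regKPB111 regKPB112)))) (.node 3872 (.node 3744 (.node 3680 (.node 3648 regKPB113 regKPB114) (.node 3712 regKPB115 regKPB116)) (.node 3808 (.node 3776 regKPB117 regKPB118) (.node 3840 regKPB119 regKPB120))) (.node 4000 (.node 3936 (.node 3904 regKPB121 regKPB122) (.node 3968 regKPB123 regKPB124)) (.node 4064 (.node 4032 regKPB125 regKPB126) (.node 4096 regKPB127 (.node 4128 regKPB128 regKPB129)))))))) (.node 6240 (.node 5184 (.node 4672 (.node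 4416 (.node 4288 (.node 4224 (.node 4192 regKPB130 regKPB131) (.node 4256 regKPB132 regKPB133)) (.node 4352 (.node 4320 regKPB134 regKPB135) (.node 4384 regKPB136 regKPB137))) (.node 4544 (.node 4480 (.node 4448 regKPB138 regKPB139) (.node 4512 regKPB140 regKPB141)) (.node 4608 (.node 4576 regKPB142 regKPB143) (.node 4640 regKPB144 regKPB145)))) (.node 4928 (.node 4800 (.node 4736 (.node 4704 regKPB146 regKPB147) (.node 4768 regKPB148 regKPB149)) (.node 4864 (.node 4832 regKPB150 regKPB151) (.node 4896 regKPB152 regKPB153))) (.node 5056 (.node 4992 (.node 4960 regKPB154 regKPB155) (.node 5024 regKPB156 regKPB157)) (.node 5120 (.node 5088 regKPB158 regKPB159) (.node 5152 regKPB160 regKPB161))))) (.node 5696 (.node 5440 (.node 5312 (.node 5248 (.node 5216 regKPB162 regKPB163) (.node 5280 regKPB164 regKPB165)) (.node 5376 (.node 5344 regKPB166 regKPB167) (.node 5408 regKPB168 regKPB169))) (.node 5568 (.node 5504 (.node 5472 regKPB170 regKPB171) (.node 5536 regKPB172 regKPB173))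 (.node 5632 (.node 5600 regKPB174 regKPB175) (.node 5664 regKPB176 regKPB177)))) (.node 5952 (.node 5824 (.node 5760 (.node 5728 regKPB178 regKPB179) (.node 5792 regKPB180 regKPB181)) (.node 5888 (.node 5856 regKPB182 regKPB183) (.node 5920 regKPB184 regKPB185))) (.node 6080 (.node 6016 (.node 5984 regKPB186 regKPB187) (.node 6048 regKPB188 regKPB189)) (.node 6144 (.node 6112 regKPB190 regKPB191) (.node 6176 regKPB192 (.node 6208 regKPB193 regKPB194))))))) (.node 7296 (.node 6752 (.node 6496 (.node 6368 (.node 6304 (.node 6272 regKPB195 regKPB196) (.node 6336 regKPB197 regKPB198)) (.node 6432 (.node 6400 regKPB199 regKPB200) (.node 6464 regKPB201 regKPB202))) (.node 6624 (.node 6560 (.node 6528 regKPB203 regKPB204) (.node 6592 regKPB205 regKPB206)) (.node 6688 (.node 6656 regKPB207 regKPB208) (.node 6720 regKPB209 regKPB210)))) (.node 7008 (.node 6880 (.node 6816 (.node 6784 regKPB211 regKPB212) (.node 6848 regKPB213 regKPB214)) (.node 6944 (.node 6912 regKPB215 regKPB216)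 (.node 6976 regKPB217 regKPB218))) (.node 7136 (.node 7072 (.node 7040 regKPB219 regKPB220) (.node 7104 regKPB221 regKPB222)) (.node 7200 (.node 7168 regKPB223 regKPB224) (.node 7232 regKPB225 (.node 7264 regKPB226 regKPB227)))))) (.node 7808 (.node 7552 (.node 7424 (.node 7360 (.node 7328 regKPB228 regKPB229) (.node 7392 regKPB230 regKPB231)) (.node 7488 (.node 7456 regKPB232 regKPB233) (.node 7520 regKPB234 regKPB235))) (.node 7680 (.node 7616 (.node 7584 regKPB236 regKPB237) (.node 7648 regKPB238 regKPB239)) (.node 7744 (.node 7712 regKPB240 regKPB241) (.node 7776 regKPB242 regKPB243)))) (.node 8064 (.node 7936 (.node 7872 (.node 7840 regKPB244 regKPB245) (.node 7904 regKPB246 regKPB247)) (.node 8000 (.node 7968 regKPB248 regKPB249) (.node 8032 regKPB250 regKPB251))) (.node 8192 (.node 8128 (.node 8096 regKPB252 regKPB253) (.node 8160 regKPB254 regKPB255)) (.node 8256 (.node 8224 regKPB256 regKPB257) (.node 8288 regKPB258 (.node 8320 regKPB259 regKPB260))))))))) (.node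 12512 (.node 10432 (.node 9376 (.node 8864 (.node 8608 (.node 8480 (.node 8416 (.node 8384 regKPB261 regKPB262) (.node 8448 regKPB263 regKPB264)) (.node 8544 (.node 8512 regKPB265 regKPB266) (.node 8576 regKPB267 regKPB268))) (.node 8736 (.node 8672 (.node 8640 regKPB269 regKPB270) (.node 8704 regKPB271 regKPB272)) (.node 8800 (.node 8768 regKPB273 regKPB274) (.node 8832 regKPB275 regKPB276)))) (.node 9120 (.node 8992 (.node 8928 (.node 8896 regKPB277 regKPB278) (.node 8960 regKPB279 regKPB280)) (.node 9056 (.node 9024 regKPB281 regKPB282) (.node 9088 regKPB283 regKPB284))) (.node 9248 (.node 9184 (.node 9152 regKPB285 regKPB286) (.node 9216 regKPB287 regKPB288)) (.node 9312 (.node 9280 regKPB289 regKPB290) (.node 9344 regKPB291 regKPB292))))) (.node 9888 (.node 9632 (.node 9504 (.node 9440 (.node 9408 regKPB293 regKPB294) (.node 9472 regKPB295 regKPB296)) (.node 9568 (.node 9536 regKPB297 regKPB298) (.node 9600 regKPB299 regKPB300))) (.node 9760 (.node 9696 (.node 9664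 regKPB301 regKPB302) (.node 9728 regKPB303 regKPB304)) (.node 9824 (.node 9792 regKPB305 regKPB306) (.node 9856 regKPB307 regKPB308)))) (.node 10144 (.node 10016 (.node 9952 (.node 9920 regKPB309 regKPB310) (.node 9984 regKPB311 regKPB312)) (.node 10080 (.node 10048 regKPB313 regKPB314) (.node 10112 regKPB315 regKPB316))) (.node 10272 (.node 10208 (.node 10176 regKPB317 regKPB318) (.node 10240 regKPB319 regKPB320)) (.node 10336 (.node 10304 regKPB321 regKPB322) (.node 10368 regKPB323 (.node 10400 regKPB324 regKPB325))))))) (.node 11456 (.node 10944 (.node 10688 (.node 10560 (.node 10496 (.node 10464 regKPB326 regKPB327) (.node 10528 regKPB328 regKPB329)) (.node 10624 (.node 10592 regKPB330 regKPB331) (.node 10656 regKPB332 regKPB333))) (.node 10816 (.node 10752 (.node 10720 regKPB334 regKPB335) (.node 10784 regKPB336 regKPB337)) (.node 10880 (.node 10848 regKPB338 regKPB339) (.node 10912 regKPB340 regKPB341)))) (.node 11200 (.node 11072 (.node 11008 (.node 10976 regKPB342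 regKPB343) (.node 11040 regKPB344 regKPB345)) (.node 11136 (.node 11104 regKPB346 regKPB347) (.node 11168 regKPB348 regKPB349))) (.node 11328 (.node 11264 (.node 11232 regKPB350 regKPB351) (.node 11296 regKPB352 regKPB353)) (.node 11392 (.node 11360 regKPB354 regKPB355) (.node 11424 regKPB356 regKPB357))))) (.node 11968 (.node 11712 (.node 11584 (.node 11520 (.node 11488 regKPB358 regKPB359) (.node 11552 regKPB360 regKPB361)) (.node 11648 (.node 11616 regKPB362 regKPB363) (.node 11680 regKPB364 regKPB365))) (.node 11840 (.node 11776 (.node 11744 regKPB366 regKPB367) (.node 11808 regKPB368 regKPB369)) (.node 11904 (.node 11872 regKPB370 regKPB371) (.node 11936 regKPB372 regKPB373)))) (.node 12224 (.node 12096 (.node 12032 (.node 12000 regKPB374 regKPB375) (.node 12064 regKPB376 regKPB377)) (.node 12160 (.node 12128 regKPB378 regKPB379) (.node 12192 regKPB380 regKPB381))) (.node 12352 (.node 12288 (.node 12256 regKPB382 regKPB383) (.node 12320 regKPB384 regKPB385)) (.node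 12416 (.node 12384 regKPB386 regKPB387) (.node 12448 regKPB388 (.node 12480 regKPB389 regKPB390)))))))) (.node 14592 (.node 13536 (.node 13024 (.node 12768 (.node 12640 (.node 12576 (.node 12544 regKPB391 regKPB392) (.node 12608 regKPB393 regKPB394)) (.node 12704 (.node 12672 regKPB395 regKPB396) (.node 12736 regKPB397 regKPB398))) (.node 12896 (.node 12832 (.node 12800 regKPB399 regKPB400) (.node 12864 regKPB401 regKPB402)) (.node 12960 (.node 12928 regKPB403 regKPB404) (.node 12992 regKPB405 regKPB406)))) (.node 13280 (.node 13152 (.node 13088 (.node 13056 regKPB407 regKPB408) (.node 13120 regKPB409 regKPB410)) (.node 13216 (.node 13184 regKPB411 regKPB412) (.node 13248 regKPB413 regKPB414))) (.node 13408 (.node 13344 (.node 13312 regKPB415 regKPB416) (.node 13376 regKPB417 regKPB418)) (.node 13472 (.node 13440 regKPB419 regKPB420) (.node 13504 regKPB421 regKPB422))))) (.node 14048 (.node 13792 (.node 13664 (.node 13600 (.node 13568 regKPB423 regKPB424) (.node 13632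 regKPB425 regKPB426)) (.node 13728 (.node 13696 regKPB427 regKPB428) (.node 13760 regKPB429 regKPB430))) (.node 13920 (.node 13856 (.node 13824 regKPB431 regKPB432) (.node 13888 regKPB433 regKPB434)) (.node 13984 (.node 13952 regKPB435 regKPB436) (.node 14016 regKPB437 regKPB438)))) (.node 14304 (.node 14176 (.node 14112 (.node 14080 regKPB439 regKPB440) (.node 14144 regKPB441 regKPB442)) (.node 14240 (.node 14208 regKPB443 regKPB444) (.node 14272 regKPB445 regKPB446))) (.node 14432 (.node 14368 (.node 14336 regKPB447 regKPB448) (.node 14400 regKPB449 regKPB450)) (.node 14496 (.node 14464 regKPB451 regKPB452) (.node 14528 regKPB453 (.node 14560 regKPB454 regKPB455))))))) (.node 15648 (.node 15104 (.node 14848 (.node 14720 (.node 14656 (.node 14624 regKPB456 regKPB457) (.node 14688 regKPB458 regKPB459)) (.node 14784 (.node 14752 regKPB460 regKPB461) (.node 14816 regKPB462 regKPB463))) (.node 14976 (.node 14912 (.node 14880 regKPB464 regKPB465) (.node 14944 regKPB466 regKPB467))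 (.node 15040 (.node 15008 regKPB468 regKPB469) (.node 15072 regKPB470 regKPB471)))) (.node 15360 (.node 15232 (.node 15168 (.node 15136 regKPB472 regKPB473) (.node 15200 regKPB474 regKPB475)) (.node 15296 (.node 15264 regKPB476 regKPB477) (.node 15328 regKPB478 regKPB479))) (.node 15488 (.node 15424 (.node 15392 regKPB480 regKPB481) (.node 15456 regKPB482 regKPB483)) (.node 15552 (.node 15520 regKPB484 regKPB485) (.node 15584 regKPB486 (.node 15616 regKPB487 regKPB488)))))) (.node 16160 (.node 15904 (.node 15776 (.node 15712 (.node 15680 regKPB489 regKPB490) (.node 15744 regKPB491 regKPB492)) (.node 15840 (.node 15808 regKPB493 regKPB494) (.node 15872 regKPB495 regKPB496))) (.node 16032 (.node 15968 (.node 15936 regKPB497 regKPB498) (.node 16000 regKPB499 regKPB500)) (.node 16096 (.node 16064 regKPB501 regKPB502) (.node 16128 regKPB503 regKPB504)))) (.node 16416 (.node 16288 (.node 16224 (.node 16192 regKPB505 regKPB506) (.node 16256 regKPB507 regKPB508)) (.node 16352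 (.node 16320 regKPB509 regKPB510) (.node 16384 regKPB511 regKPB512))) (.node 16544 (.node 16480 (.node 16448 regKPB513 regKPB514) (.node 16512 regKPB515 regKPB516)) (.node 16608 (.node 16576 regKPB517 regKPB518) (.node 16640 regKPB519 (.node 16672 regKPB520 regKPB521)))))))))), 20, 2⟩

/-- A regular orbit -/
def regK : Wide.Orb := ⟨672, regKE, regKP⟩

/-- The generators of the centraliser. -/
def cenW : List (List ℕ) := [[3], [4], [6]]

/-- The generators of the Sylow subgroup, by index. -/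
def sylW : List (List ℕ) := [
  [2, 1, 0, 2, 1, 0],
  [1, 0, 2, 0, 1, 2, 1, 0],
  [1, 2, 1, 2, 1, 0, 2, 0, 2, 1, 2, 1, 2, 0, 2, 1]]

/-- The generators of a stabiliser in the centraliser. -/
def kW : List (List ℕ) := [
  [3],
  [4],
  [6, 3, 6, 3, 6, 3, 6],
  [6, 4, 3, 6, 3, 6, 4, 3, 6],
  [6, 4, 6, 4, 6, 3, 6, 3, 6, 3, 4, 3, 6, 3, 4, 3, 6]]

/-- The images under an outer automorphism. -/
def sigW : List (List ℕ) := [
  [0],
  [2, 3, 4, 6, 4, 6, 1, 4, 2, 6, 1, 2, 0, 1, 6, 0, 1, 4, 3, 6, 3, 6, 4, 6, 4, 6, 4, 6, 3, 6, 3, 4, 3, 6, 3, 4, 3, 6, 3, 1, 0, 6, 1, 0, 2, 1, 6, 2, 4, 1, 6, 4, 6, 4, 3, 2],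
  [6, 4, 3, 6, 3, 6, 3, 4, 6, 3, 6, 3, 6, 4, 6, 4, 6, 3, 6, 3, 6, 4, 6, 3],
  [3],
  [4],
  [6, 3, 6, 3, 6, 3, 6, 3],
  [6, 4, 6, 4, 3, 6, 3, 6, 4, 6, 4, 3, 6, 4, 6, 4, 6, 3, 4, 6, 3, 6, 3, 6, 4]]

/-- Relators in three generators of the centraliser. -/
def relW : List (List ℕ) := [
  [0, 2, 0, 2, 0, 2, 0, 2, 0, 2, 0, 2, 0, 2, 0, 2],
  [1, 2, 0, 1, 2, 0, 1, 2, 0, 1, 2, 0],
  [0, 1, 2, 0, 2, 0, 1, 2, 0, 2, 0, 1, 2, 0, 2, 0, 1, 2, 0, 2],
  [1, 2, 1, 2, 1, 2, 1, 2, 0, 2, 0, 2, 0, 1, 2, 1, 2, 1, 0, 2, 0, 2, 0, 2, 1, 2],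
  [2, 0, 2, 0, 2, 0, 1, 0, 2, 0, 2, 0, 2, 0, 2, 1, 0, 2, 0, 2, 0, 2, 0, 2, 1, 2, 0]]

/-- The classes of pairs. -/
def eReps : List ℕ := [7, 23, 140]

/-- The classes of triples. -/
def uNodes : List (ℕ × ℕ) := [(0, 418), (0, 156), (0, 320), (0, 524)]

/-- Conjugates the first generator to the fourth. -/
def adW : List ℕ := [2, 3, 4, 6, 4, 6, 1, 4, 2, 6, 1, 2, 0, 1, 6, 0, 1]

/-- The third generator. -/
def cWord : List ℕ := [0, 2, 1, 2, 1, 2, 1, 2, 1, 0, 2, 0, 1, 2, 0, 2, 1, 2, 1, 2, 0]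

/-- The sixth generator. -/
def fWord : List ℕ := [2, 0, 2, 0, 2, 0, 2, 0]

/-- Moves a point of the other orbit to the base point. -/
def moveW : List ℕ := [6, 3, 1, 2, 6, 1]

/-- An even conjugate of the first generator. -/
def evenW : List ℕ := [0, 3, 2, 1, 3, 2, 3, 0, 1, 2, 3, 0]

/-- A fixed point in the suborbit of 5586. -/
def ptQ : ℕ := 6

/-- Words to the other fixed points of the suborbit. -/
def moveQ : List (ℕ × List ℕ) := [(5, [4, 3, 2, 1, 0, 3, 5, 4, 3, 2, 1, 3, 2, 1, 4, 3, 2, 1, 0, 3, 5, 4, 3, 2, 3, 2, 1, 0, 4, 3, 2, 1, 3, 2, 4, 3, 2, 1]),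
  (59, [3, 2, 1, 0, 3, 5, 4, 3, 2, 1, 3, 2, 1, 4, 3, 2, 1, 0, 3, 5, 4, 3, 2, 3, 2, 1, 0, 4, 3, 2, 1, 3, 2, 4, 3, 2, 1]),
  (58, [2, 1, 0, 3, 5, 4, 3, 2, 1, 3, 2, 1, 4, 3, 2, 1, 0, 3, 5, 4, 3, 2, 3, 2, 1, 0, 4, 3, 2, 1, 3, 2, 4, 3, 2, 1]),
  (41, [5, 3, 2, 1, 0, 3, 5, 4, 3, 2, 1, 3, 2, 1, 4, 3, 2, 1, 0, 3, 5, 4, 3, 2, 3, 2, 1, 0, 4, 3, 2, 1, 3, 2, 4, 3, 2, 1]),
  (36, [1, 0, 3, 5, 4, 3, 2, 1, 3, 2, 1, 4, 3, 2, 1, 0, 3, 5, 4, 3, 2, 3, 2, 1, 0, 4, 3, 2, 1, 3, 2, 4, 3, 2, 1]),
  (40, [5, 2, 1, 0, 3, 5, 4, 3, 2, 1, 3, 2, 1, 4, 3, 2, 1, 0, 3, 5, 4, 3, 2, 3, 2, 1, 0, 4, 3, 2, 1, 3, 2, 4, 3, 2, 1]),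
  (37, [3, 1, 0, 3, 5, 4, 3, 2, 1, 3, 2, 1, 4, 3, 2, 1, 0, 3, 5, 4, 3, 2, 3, 2, 1, 0, 4, 3, 2, 1, 3, 2, 4, 3, 2, 1]),
  (39, [5, 1, 0, 3, 5, 4, 3, 2, 1, 3, 2, 1, 4, 3, 2, 1, 0, 3, 5, 4, 3, 2, 3, 2, 1, 0, 4, 3, 2, 1, 3, 2, 4, 3, 2, 1]),
  (648, [4, 5, 2, 1, 0, 3, 5, 4, 3, 2, 1, 3, 2, 1, 4, 3, 2, 1, 0, 3, 5, 4, 3, 2, 3, 2, 1, 0, 4, 3, 2, 1, 3, 2, 4, 3, 2, 1]),
  (38, [2, 3, 1, 0, 3, 5, 4, 3, 2, 1, 3, 2, 1, 4, 3, 2, 1, 0, 3, 5, 4, 3, 2, 3, 2, 1, 0, 4, 3, 2, 1, 3, 2, 4, 3, 2, 1]),
  (662, [4, 3, 1, 0, 3, 5, 4, 3, 2, 1, 3, 2, 1, 4, 3, 2, 1, 0, 3, 5, 4, 3, 2, 3, 2, 1, 0, 4, 3, 2, 1, 3, 2, 4, 3, 2, 1]),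
  (649, [4, 5, 1, 0, 3, 5, 4, 3, 2, 1, 3, 2, 1, 4, 3, 2, 1, 0, 3, 5, 4, 3, 2, 3, 2, 1, 0, 4, 3, 2, 1, 3, 2, 4, 3, 2, 1]),
  (707, [4, 2, 3, 1, 0, 3, 5, 4, 3, 2, 1, 3, 2, 1, 4, 3, 2, 1, 0, 3, 5, 4, 3, 2, 3, 2, 1, 0, 4, 3, 2, 1, 3, 2, 4, 3, 2, 1]),
  (708, [5, 4, 3, 1, 0, 3, 5, 4, 3, 2, 1, 3, 2, 1, 4, 3, 2, 1, 0, 3, 5, 4, 3, 2, 3, 2, 1, 0, 4, 3, 2, 1, 3, 2, 4, 3, 2, 1]),
  (650, [3, 4, 5, 1, 0, 3, 5, 4, 3, 2, 1, 3, 2, 1, 4, 3, 2, 1, 0, 3, 5, 4, 3, 2, 3, 2, 1, 0, 4, 3, 2, 1, 3, 2, 4, 3, 2, 1]),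
  (756, [3, 4, 2, 3, 1, 0, 3, 5, 4, 3, 2, 1, 3, 2, 1, 4, 3, 2, 1, 0, 3, 5, 4, 3, 2, 3, 2, 1, 0, 4, 3, 2, 1, 3, 2, 4, 3, 2, 1]),
  (709, [5, 4, 2, 3, 1, 0, 3, 5, 4, 3, 2, 1, 3, 2, 1, 4, 3, 2, 1, 0, 3, 5, 4, 3, 2, 3, 2, 1, 0, 4, 3, 2, 1, 3, 2, 4, 3, 2, 1]),
  (651, [2, 3, 4, 5, 1, 0, 3, 5, 4, 3, 2, 1, 3, 2, 1, 4, 3, 2, 1, 0, 3, 5, 4, 3, 2, 3, 2, 1, 0, 4, 3, 2, 1, 3, 2, 4, 3, 2, 1]),
  (652, [2, 3, 4, 2, 3, 1, 0, 3, 5, 4, 3, 2, 1, 3, 2, 1, 4, 3, 2, 1, 0, 3, 5, 4, 3, 2, 3, 2, 1, 0, 4, 3, 2, 1, 3, 2, 4, 3, 2, 1]),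
  (1098, [5, 3, 4, 2, 3, 1, 0, 3, 5, 4, 3, 2, 1, 3, 2, 1, 4, 3, 2, 1, 0, 3, 5, 4, 3, 2, 3, 2, 1, 0, 4, 3, 2, 1, 3, 2, 4, 3, 2, 1]),
  (1099, [3, 2, 3, 4, 2, 3, 1, 0, 3, 5, 4, 3, 2, 1, 3, 2, 1, 4, 3, 2, 1, 0, 3, 5, 4, 3, 2, 3, 2, 1, 0, 4, 3, 2, 1, 3, 2, 4, 3, 2, 1]),
  (7321, [1, 2, 3, 4, 2, 3, 1, 2, 3, 0, 1, 2, 3, 4, 5, 2, 3, 4, 2, 3, 0, 3, 5, 4, 3, 2, 1, 3, 2, 1, 4, 3, 2, 1, 0, 3, 5, 4, 3, 2, 3, 2, 1, 0, 4, 3, 2, 1, 3, 2, 4, 3, 2, 1]),
  (7469, [1, 2, 3, 4, 2, 3, 2, 3, 1, 2, 3, 4, 5, 0, 1, 2, 3, 4, 1, 2, 3, 0, 3, 5, 4, 3, 2, 1, 3, 2, 1, 4, 3, 2, 1, 0, 3, 5, 4, 3, 2, 3, 2, 1, 0, 4, 3, 2, 1, 3, 2, 4, 3, 2, 1]),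
  (7322, [3, 1, 2, 3, 4, 2, 3, 1, 2, 3, 0, 1, 2, 3, 4, 5, 2, 3, 4, 2, 3, 0, 3, 5, 4, 3, 2, 1, 3, 2, 1, 4, 3, 2, 1, 0, 3, 5, 4, 3, 2, 3, 2, 1, 0, 4, 3, 2, 1, 3, 2, 4, 3, 2, 1]),
  (7454, [3, 1, 2, 3, 4, 2, 3, 2, 3, 1, 2, 3, 4, 5, 0, 1, 2, 3, 4, 1, 2, 3, 0, 3, 5, 4, 3, 2, 1, 3, 2, 1, 4, 3, 2, 1, 0, 3, 5, 4, 3, 2, 3, 2, 1, 0, 4, 3, 2, 1, 3, 2, 4, 3, 2, 1]),
  (7279, [5, 1, 2, 3, 4, 2, 3, 2, 3, 1, 2, 3, 4, 5, 0, 1, 2, 3, 4, 1, 2, 3, 0, 3, 5, 4, 3, 2, 1, 3, 2, 1, 4, 3, 2, 1, 0, 3, 5, 4, 3, 2, 3, 2, 1, 0, 4, 3, 2, 1, 3, 2, 4, 3, 2, 1]),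
  (386, [4, 3, 1, 2, 3, 4, 2, 3, 1, 2, 3, 0, 1, 2, 3, 4, 5, 2, 3, 4, 2, 3, 0, 3, 5, 4, 3, 2, 1, 3, 2, 1, 4, 3, 2, 1, 0, 3, 5, 4, 3, 2, 3, 2, 1, 0, 4, 3, 2, 1, 3, 2, 4, 3, 2, 1]),
  (7323, [1, 2, 3, 2, 3, 4, 3, 2, 3, 0, 1, 2, 3, 4, 5, 0, 1, 2, 3, 4, 1, 2, 3, 0, 3, 5, 4, 3, 2, 1, 3, 2, 1, 4, 3, 2, 1, 0, 3, 5, 4, 3, 2, 3, 2, 1, 0, 4, 3, 2, 1, 3, 2, 4, 3, 2, 1]),
  (7262, [2, 3, 1, 2, 3, 4, 2, 3, 2, 3, 1, 2, 3, 4, 5, 0, 1, 2, 3, 4, 1, 2, 3, 0, 3, 5, 4, 3, 2, 1, 3, 2, 1, 4, 3, 2, 1, 0, 3, 5, 4, 3, 2, 3, 2, 1, 0, 4, 3, 2, 1, 3, 2, 4, 3, 2, 1]),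
  (385, [4, 3, 1, 2, 3, 4, 2, 3, 2, 3, 1, 2, 3, 4, 5, 0, 1, 2, 3, 4, 1, 2, 3, 0, 3, 5, 4, 3, 2, 1, 3, 2, 1, 4, 3, 2, 1, 0, 3, 5, 4, 3, 2, 3, 2, 1, 0, 4, 3, 2, 1, 3, 2, 4, 3, 2, 1]),
  (387, [4, 5, 1, 2, 3, 4, 2, 3, 2, 3, 1, 2, 3, 4, 5, 0, 1, 2, 3, 4, 1, 2, 3, 0, 3, 5, 4, 3, 2, 1, 3, 2, 1, 4, 3, 2, 1, 0, 3, 5, 4, 3, 2, 3, 2, 1, 0, 4, 3, 2, 1, 3, 2, 4, 3, 2, 1]),
  (1768, [1, 2, 3, 4, 5, 2, 3, 4, 2, 3, 1, 2, 3, 4, 0, 1, 2, 3, 1, 3, 2, 1, 4, 3, 2, 1, 0, 3, 5, 4, 3, 2, 3, 2, 1, 0, 4, 3, 2, 1, 3, 2, 4, 3, 2, 1]),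
  (7263, [1, 2, 3, 1, 2, 3, 4, 3, 2, 3, 0, 1, 2, 3, 4, 5, 0, 1, 2, 3, 4, 1, 2, 3, 0, 3, 5, 4, 3, 2, 1, 3, 2, 1, 4, 3, 2, 1, 0, 3, 5, 4, 3, 2, 3, 2, 1, 0, 4, 3, 2, 1, 3, 2, 4, 3, 2, 1]),
  (724, [4, 2, 3, 1, 2, 3, 4, 2, 3, 2, 3, 1, 2, 3, 4, 5, 0, 1, 2, 3, 4, 1, 2, 3, 0, 3, 5, 4, 3, 2, 1, 3, 2, 1, 4, 3, 2, 1, 0, 3, 5, 4, 3, 2, 3, 2, 1, 0, 4, 3, 2, 1, 3, 2, 4, 3, 2, 1]),
  (388, [5, 4, 3, 1, 2, 3, 4, 2, 3, 2, 3, 1, 2, 3, 4, 5, 0, 1, 2, 3, 4, 1, 2, 3, 0, 3, 5, 4, 3, 2, 1, 3, 2, 1, 4, 3, 2, 1, 0, 3, 5, 4, 3, 2, 3, 2, 1, 0, 4, 3, 2, 1, 3, 2, 4, 3, 2, 1]),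
  (1769, [1, 2, 3, 4, 5, 2, 3, 4, 3, 2, 3, 1, 2, 3, 4, 0, 1, 2, 3, 1, 3, 2, 1, 4, 3, 2, 1, 0, 3, 5, 4, 3, 2, 3, 2, 1, 0, 4, 3, 2, 1, 3, 2, 4, 3, 2, 1]),
  (2394, [1, 2, 3, 4, 5, 1, 2, 3, 4, 2, 3, 1, 2, 3, 4, 0, 1, 2, 3, 1, 3, 2, 1, 4, 3, 2, 1, 0, 3, 5, 4, 3, 2, 3, 2, 1, 0, 4, 3, 2, 1, 3, 2, 4, 3, 2, 1]),
  (725, [3, 4, 2, 3, 1, 2, 3, 4, 2, 3, 2, 3, 1, 2, 3, 4, 5, 0, 1, 2, 3, 4, 1, 2, 3, 0, 3, 5, 4, 3, 2, 1, 3, 2, 1, 4, 3, 2, 1, 0, 3, 5, 4, 3, 2, 3, 2, 1, 0, 4, 3, 2, 1, 3, 2, 4, 3, 2, 1]),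
  (389, [5, 4, 2, 3, 1, 2, 3, 4, 2, 3, 2, 3, 1, 2, 3, 4, 5, 0, 1, 2, 3, 4, 1, 2, 3, 0, 3, 5, 4, 3, 2, 1, 3, 2, 1, 4, 3, 2, 1, 0, 3, 5, 4, 3, 2, 3, 2, 1, 0, 4, 3, 2, 1, 3, 2, 4, 3, 2, 1]),
  (349, [1, 2, 3, 4, 5, 1, 2, 3, 4, 3, 2, 3, 1, 2, 3, 4, 0, 1, 2, 3, 1, 3, 2, 1, 4, 3, 2, 1, 0, 3, 5, 4, 3, 2, 3, 2, 1, 0, 4, 3, 2, 1, 3, 2, 4, 3, 2, 1]),
  (1760, [3, 1, 2, 3, 4, 5, 1, 2, 3, 4, 2, 3, 1, 2, 3, 4, 0, 1, 2, 3, 1, 3, 2, 1, 4, 3, 2, 1, 0, 3, 5, 4, 3, 2, 3, 2, 1, 0, 4, 3, 2, 1, 3, 2, 4, 3, 2, 1]),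
  (390, [5, 3, 4, 2, 3, 1, 2, 3, 4, 2, 3, 2, 3, 1, 2, 3, 4, 5, 0, 1, 2, 3, 4, 1, 2, 3, 0, 3, 5, 4, 3, 2, 1, 3, 2, 1, 4, 3, 2, 1, 0, 3, 5, 4, 3, 2, 3, 2, 1, 0, 4, 3, 2, 1, 3, 2, 4, 3, 2, 1]),
  (348, [3, 1, 2, 3, 4, 5, 1, 2, 3, 4, 3, 2, 3, 1, 2, 3, 4, 0, 1, 2, 3, 1, 3, 2, 1, 4, 3, 2, 1, 0, 3, 5, 4, 3, 2, 3, 2, 1, 0, 4, 3, 2, 1, 3, 2, 4, 3, 2, 1]),
  (1753, [2, 3, 1, 2, 3, 4, 5, 1, 2, 3, 4, 2, 3, 1, 2, 3, 4, 0, 1, 2, 3, 1, 3, 2, 1, 4, 3, 2, 1, 0, 3, 5, 4, 3, 2, 3, 2, 1, 0, 4, 3, 2, 1, 3, 2, 4, 3, 2, 1]),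
  (108, [4, 5, 3, 4, 2, 3, 1, 2, 3, 4, 2, 3, 2, 3, 1, 2, 3, 4, 5, 0, 1, 2, 3, 4, 1, 2, 3, 0, 3, 5, 4, 3, 2, 1, 3, 2, 1, 4, 3, 2, 1, 0, 3, 5, 4, 3, 2, 3, 2, 1, 0, 4, 3, 2, 1, 3, 2, 4, 3, 2, 1]),
  (371, [2, 3, 1, 2, 3, 4, 5, 1, 2, 3, 4, 3, 2, 3, 1, 2, 3, 4, 0, 1, 2, 3, 1, 3, 2, 1, 4, 3, 2, 1, 0, 3, 5, 4, 3, 2, 3, 2, 1, 0, 4, 3, 2, 1, 3, 2, 4, 3, 2, 1]),
  (107, [4, 3, 1, 2, 3, 4, 5, 1, 2, 3, 4, 3, 2, 3, 1, 2, 3, 4, 0, 1, 2, 3, 1, 3, 2, 1, 4, 3, 2, 1, 0, 3, 5, 4, 3, 2, 3, 2, 1, 0, 4, 3, 2, 1, 3, 2, 4, 3, 2, 1]),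
  (106, [4, 2, 3, 1, 2, 3, 4, 5, 1, 2, 3, 4, 3, 2, 3, 1, 2, 3, 4, 0, 1, 2, 3, 1, 3, 2, 1, 4, 3, 2, 1, 0, 3, 5, 4, 3, 2, 3, 2, 1, 0, 4, 3, 2, 1, 3, 2, 4, 3, 2, 1]),
  (109, [3, 4, 2, 3, 1, 2, 3, 4, 5, 1, 2, 3, 4, 3, 2, 3, 1, 2, 3, 4, 0, 1, 2, 3, 1, 3, 2, 1, 4, 3, 2, 1, 0, 3, 5, 4, 3, 2, 3, 2, 1, 0, 4, 3, 2, 1, 3, 2, 4, 3, 2, 1])]

/-- The index of the fourth generator. -/
def iD : ℕ := 140

/-- The index of the fifth generator. -/
def iE : ℕ := 7

/-- The index of the seventh generator. -/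
def iU : ℕ := 418

/-- The index of the first generator conjugated into the centraliser. -/
def iA : ℕ := 469

end Cfsg.Agent.Fus.ONOut
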