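import Cfsg.Agent.Lib.Fus.ONOut.Data
import Cfsg.Agent.Lib.Spor.Cos.ON.ActAData
import Cfsg.Agent.Lib.Spor.Cos.ON.Lv1Data
import Cfsg.Agent.Lib.Spor.Cos.ON.Sa1Data
import Cfsg.Agent.Lib.Spor.Cos.ON.Words
import Cfsg.Agent.Lib.Spor.Cos.Act

/-!
The checks behind the classification of the automorphisms of the O'Nan group.
-/

set_option autoImplicit false
set_option maxRecDepth 100000

open Cfsg.Agent.Spor.Cos
open Cfsg.Agent.Spor.Cos.ON (actA lv1W sa1)

namespace Cfsg.Agent.Fus.ONOut

/-- The points forcing the identity. -/
def baseP : List ℕ := [0, 1, 65, 34]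

/-- Words agree at the points. -/
noncomputable def agr (v w : List ℕ) : Bool :=
  baseP.all fun p => force (actA.go v p) fun a => Nat.beq a (actA.go w p)

/-- Words give the same element. -/
noncomputable def same (v w : List ℕ) : Bool :=
  (v.all fun s => Nat.blt s 7) && (w.all fun s => Nat.blt s 7) && agr v w

/-- Words give different elements. -/
noncomputable def diff (v w : List ℕ) : Bool :=
  (v.all fun s => Nat.blt s 7) && (w.all fun s => Nat.blt s 7) && !agr v w

/-- Letters packed two bits each. -/
noncomputable def decW (E : ℕ) : List ℕ :=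
  Nat.rec (motive := fun _ => ℕ → List ℕ) (fun _ => [])
    (fun _ r E => bif Nat.beq E 0 then [] else (E % 4 - 1) :: r (E >>> 2)) 32 E

/-- A word in the generators of the centraliser, in the seven letters. -/
noncomputable def toG (w : List ℕ) : List ℕ := w.map fun t => bif Nat.beq t 0 then 3 else bif Nat.beq t 1 then 4 else 6

/-- An involution of the centraliser, as a word in its generators. -/
noncomputable def fI (i : ℕ) : List ℕ := decW (fT.at i)

/-- An involution of the centraliser. -/
noncomputable def fW (i : ℕ) : List ℕ := toG (fI i)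

/-- The conjugation action on them. -/
noncomputable def actF : Act := ⟨3, 1750, conjT⟩

/-- The images of the base as a number. -/
noncomputable def key (w : List ℕ) : ℕ :=
  actA.go w 0 + (actA.go w 1 <<< 20) + (actA.go w 65 <<< 40) + (actA.go w 34 <<< 60)

/-- A word in some involutions of the list, substituted. -/
noncomputable def subI (is : List ℕ) (r : List ℕ) : List ℕ := (r.map fun t => fI (is.getD t 0)).flatten

/-- A word in some involutions of the list, substituted, in the seven letters. -/
noncomputable def subG (is : List ℕ) (r : List ℕ) : List ℕ := (r.map fun t => fW (is.getD t 0)).flatten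

/-- The root of a class. -/
noncomputable def root (l : ℕ) : ℕ := bif Nat.beq l 0 then iD else iU

/-- An involution of the list: closure, order, class. -/
noncomputable def chkF (i : ℕ) : Bool :=
  force (fT.at i) fun _ =>
    ((fI i).all fun t => Nat.blt t 3) && diff (fW i) [] && diff (fW i) [0] &&
      (Nat.beq (i + 1) 1750 || Nat.blt (key (fW i)) (key (fW (i + 1)))) &&
      ((List.range 3).all fun t => force (actF.im i t) fun j =>
        Nat.blt j 1750 && Nat.beq (actF.im j t) i && Nat.beq (labT.at j) (labT.at i) &&
          same (toG [t] ++ (fW i ++ toG [t])) (fW j)) &&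
      Nat.blt (labT.at i) 2 &&
      (fun w : List ℕ => (w.all fun t => Nat.blt t 3) && Nat.beq (actF.go w (root (labT.at i))) i) (decW (pathT.at i))

/-- An element of the Sylow subgroup. -/
noncomputable def chkSyl (i : ℕ) : Bool :=
  (fun w : List ℕ =>
    (w.all fun s => Nat.blt s 7) &&
    (Nat.beq (i + 1) 512 || Nat.blt (key w) (key (toG (decW (sylT.at (i + 1)))))) &&
    ((List.range sylW.length).all fun t => force ((stepT.at i >>> (16 * t)) % 65536) fun j =>
      Nat.blt j 512 && same (toG (sylW.getD t []) ++ w) (toG (decW (sylT.at j)))) &&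
    (fun L : List ℕ => (L.all fun t => Nat.blt t sylW.length) && same w (toG (L.map fun t => sylW.getD t []).flatten))
      (decW (sylPathT.at i)) &&
    force (kindT.at i) fun K =>
      bif Nat.beq K 0 then same w []
      else bif Nat.beq K 1 then same w [0]
      else (fun c : List ℕ => diff (w ++ c) (c ++ w)) (toG (sylW.getD ((K >>> 2) % 4) [])) &&
        bif Nat.beq (K % 4) 2 then Nat.blt (K >>> 4) 1750 && same w (fW (K >>> 4))
        else diff (w ++ w) [])
    (toG (decW (sylT.at i)))

/-- The list of classes of the second generator. -/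
noncomputable def eRep (k : ℕ) : ℕ := eReps.getD k 0

/-- The node of a triple. -/
noncomputable def uRep (k : ℕ) : ℕ := (uNodes.getD k (0, 0)).2

/-- The verdict on a candidate for the second generator. -/
noncomputable def chkE (j : ℕ) : Bool :=
  !(Nat.beq (labT.at j) 0) || force (eT.at j) fun E =>
    bif Nat.beq (E % 4) 0 then Nat.blt (E >>> 2) 1750 &&
      !(Nat.beq (actF.go (subI [iD, j] [0, 1, 0, 1, 0, 1]) (E >>> 2)) (E >>> 2))
    else bif Nat.beq (E % 4) 1 then diff (subG [iD, j] [0, 1, 0, 1, 0, 1]) []
    else (fun k : ℕ => (fun c : List ℕ => (c.all fun t => Nat.blt t 3) && Nat.blt k eReps.length &&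
      Nat.beq (actF.go c iD) iD && Nat.beq (actF.go c j) (eRep k)) (decW (E >>> 18))) ((E >>> 2) % 65536)

/-- The verdict on a candidate for the third generator. -/
noncomputable def chkU (n : ℕ) : Bool :=
  (fun ei j : ℕ => !(Nat.beq (labT.at j) 1) || force (uT.at n) fun E =>
    bif Nat.beq (E % 4) 0 then Nat.blt ((E >>> 2) % 65536) relW.length && Nat.blt (E >>> 18) 1750 &&
      !(Nat.beq (actF.go (subI [iD, eRep ei, j] (relW.getD ((E >>> 2) % 65536) [])) (E >>> 18)) (E >>> 18))
    else bif Nat.beq (E % 4) 1 then Nat.blt (E >>> 2) relW.length &&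
      diff (subG [iD, eRep ei, j] (relW.getD (E >>> 2) [])) []
    else (fun k : ℕ => (fun c : List ℕ => (c.all fun t => Nat.blt t 3) && Nat.blt k uNodes.length &&
      Nat.beq (uNodes.getD k (0, 0)).1 ei &&
      Nat.beq (actF.go c iD) iD && Nat.beq (actF.go c (eRep ei)) (eRep ei) && Nat.beq (actF.go c j) (uRep k))
        (decW (E >>> 18))) ((E >>> 2) % 65536)) (n / 1750) (n % 1750)

/-- The images of the seven generators for a node and a candidate. -/
noncomputable def imgs (k z : ℕ) : List (List ℕ) :=
  (fun is : List ℕ => [[0], adW ++ (fW z ++ adW.reverse), subG is cWord, fW iD, fW (is.getD 1 0), subG is fWord,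
    fW (is.getD 2 0)]) [iD, eRep (uNodes.getD k (0, 0)).1, uRep k]

/-- The verdict on a candidate for the last generator. -/
noncomputable def chkB (n : ℕ) : Bool :=
  (fun k z : ℕ => force (bT.at n) fun E =>
    bif Nat.beq (E % 4) 0 then Nat.blt (E >>> 2) 1750 &&
      !(Nat.beq (actF.go (subI [iA, z] [0, 1, 0, 1, 0, 1]) (E >>> 2)) (E >>> 2))
    else bif Nat.beq (E % 4) 1 then Nat.blt (E >>> 2) ON.words.length &&
      diff ((ON.words.getD (E >>> 2) []).map fun s => (imgs k z).getD s []).flatten []
    else (fun pre : List ℕ => (List.range 7).all fun s =>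
      same ((imgs k z).getD s []) (pre ++ ((bif Nat.beq ((E >>> 3) % 2) 1 then sigW.getD s [] else [s]) ++ pre)))
        (bif Nat.beq ((E >>> 2) % 2) 1 then [0] else [])) (n / 1750) (n % 1750)

/-- A point: the fixed points of the first generator and their fixers. -/
noncomputable def chkFixed (p : ℕ) : Bool :=
  !(Nat.beq (actA.im p 0) p) ||
    ((fix240.mem p || fix120.mem p) &&
      (List.range 6).any fun s => !(Nat.beq (actA.go (sigW.getD s []) p) p))

/-- A point of the suborbit. -/
noncomputable def chkSub (j : ℕ) : Bool :=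
  force (sa1.pt j) fun q => !(Nat.beq (actA.im q 0) q) || Nat.beq q ptQ ||
    moveQ.any fun o => Nat.beq o.1 q && (o.2.all fun s => Nat.blt s 6) && Nat.beq (actA.go o.2 ptQ) q &&
      diff (o.2 ++ [0]) (0 :: o.2)

/-- The outer automorphism on the relations. -/
noncomputable def chkPsi : Bool :=
  Nat.beq sigW.length 7 && ((List.range 7).all fun s => same (sigW.getD s [] ++ sigW.getD s []) []) &&
    same (sigW.getD 0 []) [0] &&
    ON.words.all fun w => same (w.map fun s => sigW.getD s []).flatten []

end Cfsg.Agent.Fus.ONOut
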