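import Cfsg.Agent.Lib.Spor.Cos.OutCentral
import Cfsg.Agent.Lib.Fus.ONOut.Cent
import Cfsg.Agent.Lib.Fus.ONOut.ChkF
import Cfsg.Agent.Lib.Fus.ONOut.ChkSyl

/-!
The involutions of the centraliser, and the class of the first generator under automorphisms.
-/

set_option autoImplicit false
set_option maxRecDepth 100000
set_option maxHeartbeats 1000000

open Cfsg.Agent.Spor.Cos
open Cfsg.Agent.Spor.Cos.ON

namespace Cfsg.Agent.Fus.ONOut

/-- An involution of the centraliser. -/
noncomputable def F (i : ℕ) : Spor.ON := ev gc (fI i)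

theorem F_eq (i : ℕ) : F i = ev g (fW i) := (ev_toG _).symm

theorem toG_lt (w : List ℕ) : ∀ s ∈ toG w, s < 7 := by
  intro s hs
  obtain ⟨t, -, rfl⟩ := List.mem_map.1 hs
  rcases t with _ | _ | t
  exacts [show (3 : ℕ) < 7 by norm_num, show (4 : ℕ) < 7 by norm_num, show (6 : ℕ) < 7 by norm_num]

theorem gc_sq (t : ℕ) : gc t * gc t = 1 := g_sq _

theorem toG_single (t : ℕ) : ev g (toG [t]) = gc t := by rw [ev_toG]; exact mul_one _

structure FFacts (i : ℕ) : Prop where
  letters : ∀ t ∈ fI i, t < 3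
  ne_one : F i ≠ 1
  ne_zero : F i ≠ g 0
  lt : ∀ t < 3, actF.im i t < 1750
  lab_step : ∀ t < 3, labT.at (actF.im i t) = labT.at i
  conj : ∀ t < 3, gc t * F i * (gc t)⁻¹ = F (actF.im i t)
  lab : labT.at i < 2
  path : (∀ t ∈ decW (pathT.at i), t < 3) ∧ actF.go (decW (pathT.at i)) (root (labT.at i)) = i

theorem facts {i : ℕ} (hi : i < 1750) : FFacts i := by
  have h := f_ok i hi
  simp only [chkF, force_eq, Bool.and_eq_true, List.all_eq_true, List.mem_range, Nat.blt_eq, Nat.beq_eq] at h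
  obtain ⟨⟨⟨⟨⟨⟨h1, h2⟩, h3⟩, -⟩, h5⟩, h6⟩, h7⟩ := h
  refine ⟨h1, fun e => ne_of_diff h2 (by rw [← F_eq, e]; rfl), fun e => ne_of_diff h3 (by rw [← F_eq, e, ev_one]),
    fun t ht => (h5 t ht).1.1.1, fun t ht => (h5 t ht).1.2, fun t ht => ?_, h6, h7⟩
  have e := eq_of_same (h5 t ht).2
  rw [ev_append, ev_append, toG_single, ← F_eq, ← F_eq, ← mul_assoc] at e
  rw [inv_eq_of_mul_eq_one_left (gc_sq t)]
  exact e

theorem go_spec : ∀ w : List ℕ, (∀ t ∈ w, t < 3) → ∀ {i : ℕ}, i < 1750 →
    actF.go w i < 1750 ∧ labT.at (actF.go w i) = labT.at i ∧ ev gc w * F i * (ev gc w)⁻¹ = F (actF.go w i)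
  | [], _, i, hi => ⟨hi, rfl, by simp [ev, Act.go_nil]⟩
  | t :: w, h, i, hi => by
    obtain ⟨h1, h2, h3⟩ := go_spec w (fun u hu => h u (List.mem_cons_of_mem _ hu)) hi
    have ht := h t (List.mem_cons_self ..)
    rw [Act.go_cons]
    refine ⟨(facts h1).lt t ht, ((facts h1).lab_step t ht).trans h2, ?_⟩
    rw [ev, ← (facts h1).conj t ht, ← h3]
    group

theorem key_mono : ∀ j i, i < j → j < 1750 → key (fW i) < key (fW j) := by
  intro j
  induction j with
  | zero => intro i hi; omega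
  | succ j ih =>
    intro i hi hj
    have h := f_ok j (by omega)
    simp only [chkF, force_eq, Bool.and_eq_true, Bool.or_eq_true, Nat.blt_eq, Nat.beq_eq] at h
    have hs : key (fW j) < key (fW (j + 1)) := h.1.1.1.2.resolve_left (by omega)
    rcases Nat.lt_succ_iff_lt_or_eq.1 hi with k | rfl
    · exact (ih i k (by omega)).trans hs
    · exact hs

theorem key_eq {v w : List ℕ} (hv : ∀ s ∈ v, s < 7) (hw : ∀ s ∈ w, s < 7) (e : ev g v = ev g w) : key v = key w := by
  have h : ∀ p ∈ baseP, actA.go v p = actA.go w p := fun p hp => by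
    have := congrArg (fun y : Spor.ON => (piA y ⟨p, baseP_lt p hp⟩ : ℕ)) e
    rw [homA.apply_ev v hv, homA.apply_ev w hw] at this
    exact this
  unfold key
  rw [h 0 (List.Mem.head _), h 1 (List.Mem.tail _ (List.Mem.head _)),
    h 65 (List.Mem.tail _ (List.Mem.tail _ (List.Mem.head _))),
    h 34 (List.Mem.tail _ (List.Mem.tail _ (List.Mem.tail _ (List.Mem.head _))))]

theorem F_inj {i j : ℕ} (hi : i < 1750) (hj : j < 1750) (e : F i = F j) : i = j := by
  have hk : key (fW i) = key (fW j) := key_eq (toG_lt _) (toG_lt _) (by rw [← F_eq, ← F_eq, e])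
  rcases lt_trichotomy i j with h | h | h
  · exact absurd hk (key_mono _ _ h hj).ne
  · exact h
  · exact absurd hk.symm (key_mono _ _ h hi).ne

/-- A word that moves a listed involution is not trivial. -/
theorem ev_ne_one {w : List ℕ} (hw : ∀ t ∈ w, t < 3) {p : ℕ} (hp : p < 1750) (h : actF.go w p ≠ p) : ev gc w ≠ 1 := by
  intro e
  obtain ⟨h1, -, h3⟩ := go_spec w hw hp
  rw [e] at h3
  exact h (F_inj h1 hp (by rw [← h3]; group))

theorem mem_cen_induct {P : Spor.ON → Prop} {c : Spor.ON} (hc : c ∈ C) (one : P 1)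
    (step : ∀ t < 3, ∀ y, P y → P (gc t * y)) : P c := by
  have := ON.finite
  rw [C_eq] at hc
  replace hc : c ∈ Subgroup.closure {x | ∃ w ∈ cenW, ev g w = x} := hc
  rw [← Subgroup.mem_toSubmonoid, Subgroup.closure_toSubmonoid_of_finite] at hc
  induction hc using Submonoid.closure_induction_left with
  | one => exact one
  | mul_left x hx y _ ih =>
    obtain ⟨w, hw, rfl⟩ := hx
    fin_cases hw <;> rw [ev_one]
    exacts [step 0 (by norm_num) y ih, step 1 (by norm_num) y ih, step 2 (by norm_num) y ih]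

theorem exists_word {c : Spor.ON} (hc : c ∈ C) : ∃ w : List ℕ, (∀ t ∈ w, t < 3) ∧ ev gc w = c :=
  mem_cen_induct (P := fun c => ∃ w : List ℕ, (∀ t ∈ w, t < 3) ∧ ev gc w = c) hc ⟨[], by simp, rfl⟩
    fun t ht y ⟨w, hw, e⟩ => ⟨t :: w, List.forall_mem_cons.2 ⟨ht, hw⟩, by rw [ev, e]⟩

/-! ### The Sylow subgroup -/

/-- An element of the Sylow subgroup. -/
noncomputable def sW (i : ℕ) : List ℕ := toG (decW (sylT.at i))

/-- The Sylow subgroup. -/
noncomputable def S0 : Subgroup Spor.ON := Subgroup.closure {x | ∃ w ∈ sylW, ev gc w = x}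

theorem syl_facts {i : ℕ} (hi : i < 512) :
    (i + 1 = 512 ∨ key (sW i) < key (sW (i + 1))) ∧
    (∀ t < sylW.length, ∃ j < 512, ev gc (sylW.getD t []) * ev g (sW i) = ev g (sW j)) ∧
    ev g (sW i) ∈ S0 ∧
    (ev g (sW i) = 1 ∨ ev g (sW i) = g 0 ∨
      ((∃ c ∈ S0, ev g (sW i) * c ≠ c * ev g (sW i)) ∧
        ((∃ j < 1750, ev g (sW i) = F j) ∨ ev g (sW i) * ev g (sW i) ≠ 1))) := by
  have h := syl_ok i hi
  simp only [chkSyl, force_eq, Bool.and_eq_true, Bool.or_eq_true, List.all_eq_true, List.mem_range, Nat.blt_eq,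
    Nat.beq_eq] at h
  obtain ⟨⟨⟨⟨-, h2⟩, h3⟩, ⟨h4, h4'⟩⟩, h5⟩ := h
  have hgen : ∀ t, ev gc (sylW.getD t []) ∈ S0 := fun t => by
    rcases Nat.lt_or_ge t sylW.length with ht | ht
    · exact Subgroup.subset_closure ⟨_, by rw [List.getD_eq_getElem _ _ ht]; exact List.getElem_mem _, rfl⟩
    · rw [List.getD_eq_default _ _ ht]; exact one_mem _
  refine ⟨h2, fun t ht => ?_, ?_, ?_⟩
  · obtain ⟨hj, e⟩ := h3 t ht
    have e' := eq_of_same e
    rw [ev_append, ev_toG] at e'
    exact ⟨_, hj, e'⟩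
  · show ev g (toG (decW (sylT.at i))) ∈ S0
    rw [eq_of_same h4', ev_toG, ev_subst]
    exact ev_mem _ fun t _ => hgen t
  · by_cases k0 : kindT.at i = 0
    · rw [k0] at h5
      simp only [Nat.beq_refl, cond_true] at h5
      exact Or.inl (eq_of_same h5)
    rw [show Nat.beq (kindT.at i) 0 = false from Bool.eq_false_iff.2 fun e => k0 (Nat.eq_of_beq_eq_true e),
      cond_false] at h5
    by_cases k1 : kindT.at i = 1
    · rw [k1] at h5
      simp only [Nat.beq_refl, cond_true] at h5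
      exact Or.inr (Or.inl ((eq_of_same h5).trans (ev_one 0)))
    rw [show Nat.beq (kindT.at i) 1 = false from Bool.eq_false_iff.2 fun e => k1 (Nat.eq_of_beq_eq_true e),
      cond_false, Bool.and_eq_true] at h5
    obtain ⟨h6, h7⟩ := h5
    refine Or.inr (Or.inr ⟨⟨_, hgen _, fun e => ne_of_diff h6 (by simpa only [ev_append, sW, ev_toG] using e)⟩, ?_⟩)
    rcases hb : Nat.beq (kindT.at i % 4) 2 with _ | _
    · rw [hb, cond_false] at h7
      exact Or.inr fun e => ne_of_diff h7 (by rw [ev_append]; exact e)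
    · rw [hb, cond_true, Bool.and_eq_true, Nat.blt_eq] at h7
      exact Or.inl ⟨_, h7.1, (eq_of_same h7.2).trans (F_eq _).symm⟩

theorem S0_listed {y : Spor.ON} (hy : y ∈ S0) : ∃ i < 512, ev g (sW i) = y := by
  have := ON.finite
  have hone : ∃ i < 512, ev g (sW i) = (1 : Spor.ON) := by
    have h : ∃ i < 512, Nat.beq (kindT.at i) 0 = true ∧ same (sW i) [] = true := by decide +kernel
    obtain ⟨i, hi, -, h⟩ := h
    exact ⟨i, hi, eq_of_same h⟩
  replace hy : y ∈ Subgroup.closure {x | ∃ w ∈ sylW, ev gc w = x} := hy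
  rw [← Subgroup.mem_toSubmonoid, Subgroup.closure_toSubmonoid_of_finite] at hy
  induction hy using Submonoid.closure_induction_left with
  | one => exact hone
  | mul_left x hx z _ ih =>
    obtain ⟨w, hw, rfl⟩ := hx
    obtain ⟨i, hi, rfl⟩ := ih
    obtain ⟨t, ht, rfl⟩ := List.getElem_of_mem hw
    obtain ⟨j, hj, e⟩ := (syl_facts hi).2.1 t ht
    rw [List.getD_eq_getElem _ _ ht] at e
    exact ⟨j, hj, e.symm⟩

theorem card_S0 : Nat.card S0 = 2 ^ 9 := by
  have := ON.finite
  have hmono : ∀ j i, i < j → j < 512 → key (sW i) < key (sW j) := by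
    intro j
    induction j with
    | zero => intro i hi; omega
    | succ j ih =>
      intro i hi hj
      have hs := (syl_facts (show j < 512 by omega)).1.resolve_left (by omega)
      rcases Nat.lt_succ_iff_lt_or_eq.1 hi with k | rfl
      · exact (ih i k (by omega)).trans hs
      · exact hs
  let f : Fin 512 → S0 := fun i => ⟨ev g (sW i), (syl_facts i.2).2.2.1⟩
  have hf : Function.Bijective f := by
    refine ⟨fun a b e => ?_, fun y => ?_⟩
    · have hk := key_eq (toG_lt _) (toG_lt _) (congrArg Subtype.val e : ev g (sW a) = ev g (sW b))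
      rcases lt_trichotomy (a : ℕ) b with h | h | h
      · exact absurd hk (hmono _ _ h b.2).ne
      · exact Fin.ext h
      · exact absurd hk.symm (hmono _ _ h a.2).ne
    · obtain ⟨i, hi, e⟩ := S0_listed y.2
      exact ⟨⟨i, hi⟩, Subtype.ext e⟩
  rw [← Nat.card_eq_of_bijective f hf, Nat.card_fin]
  norm_num

theorem S0_le : S0 ≤ C := by
  refine (Subgroup.closure_le _).2 ?_
  rintro _ ⟨w, hw, rfl⟩
  exact ev_mem w fun t _ => gc_mem t

theorem card_two : (Nat.card Spor.ON).factorization 2 = 9 := by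
  rw [card_eq, show (460815505920 : ℕ) = 2 ^ 9 * 900030285 by norm_num,
    Nat.factorization_mul (by norm_num) (by norm_num), Finsupp.add_apply,
    Nat.Prime.factorization_pow Nat.prime_two, Finsupp.single_eq_same,
    Nat.factorization_eq_zero_of_not_dvd (by norm_num)]

/-- Automorphisms keep the class of the first generator. -/
theorem cls (φ : MulAut Spor.ON) : IsConj (g 0) (φ (g 0)) := by
  have := ON.finite
  refine Central.cls_core (S0 := S0) (by rw [card_S0, card_two]) (fun u hu => (mem_C.1 (S0_le hu)).symm)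
    (fun y hy h1 hc => ?_) (g_sq 0) (fun e => ne_of_diff gen_diff.2.2.2.2.2.1 (by rw [ev_one, e]; rfl)) φ
  obtain ⟨i, hi, rfl⟩ := S0_listed hy
  rcases (syl_facts hi).2.2.2 with h | h | ⟨⟨c, hc', hne⟩, -⟩
  exacts [absurd h h1, h, absurd (hc c hc') hne]

/-- The involutions of the centraliser are listed. -/
theorem invol {x : Spor.ON} (hC : x ∈ C) (hx : x * x = 1) (h1 : x ≠ 1) (h0 : x ≠ g 0) : ∃ i < 1750, x = F i := by
  have := ON.finite
  have : Fact (Nat.Prime 2) := ⟨Nat.prime_two⟩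
  have hval : (Nat.card C).factorization 2 = 9 := by
    refine le_antisymm ?_ ?_
    · rw [← card_two]
      exact (Nat.factorization_le_iff_dvd Nat.card_pos.ne' Nat.card_pos.ne').2 C.card_subgroup_dvd_card 2
    · refine (Nat.Prime.pow_dvd_iff_le_factorization Nat.prime_two Nat.card_pos.ne').1 ?_
      rw [← card_S0]
      exact Subgroup.card_dvd_of_le S0_le
  let S : Sylow 2 C := Sylow.ofCard (S0.subgroupOf C)
    (by rw [Nat.card_congr (Subgroup.subgroupOfEquivOfLe S0_le).toEquiv, card_S0, hval])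
  let xC : C := ⟨x, hC⟩
  have hx2 : orderOf xC = 2 :=
    orderOf_eq_prime (by rw [sq]; exact Subtype.ext hx) fun e => h1 (congrArg Subtype.val e)
  obtain ⟨R, hR⟩ := (IsPGroup.of_card (n := 1) (by rw [Nat.card_zpowers, hx2, pow_one]) :
    IsPGroup 2 (Subgroup.zpowers xC)).exists_le_sylow
  obtain ⟨c, hc⟩ := MulAction.exists_smul_eq C R S
  have hm : (c : Spor.ON) * x * (c : Spor.ON)⁻¹ ∈ S0 := by
    have : MulAut.conj c xC ∈ (c • R : Sylow 2 C) := ⟨xC, hR (Subgroup.mem_zpowers xC), rfl⟩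
    rw [hc] at this
    exact this
  obtain ⟨i, hi, e⟩ := S0_listed hm
  rcases (syl_facts hi).2.2.2 with h | h | ⟨-, ⟨j, hj, h⟩ | h⟩
  · exact absurd (by rw [show x = (c : Spor.ON)⁻¹ * (c * x * (c : Spor.ON)⁻¹) * c by group, ← e, h]; group) h1
  · refine absurd ?_ h0
    rw [show x = (c : Spor.ON)⁻¹ * (c * x * (c : Spor.ON)⁻¹) * c by group, ← e, h, mul_assoc, ← mem_C.1 c.2,
      inv_mul_cancel_left]
  · obtain ⟨w, hw, hwc⟩ := exists_word (inv_mem c.2)
    obtain ⟨h2, -, h3⟩ := go_spec w hw hj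
    refine ⟨_, h2, ?_⟩
    rw [← h3, ← h, e, hwc]
    group
  · refine absurd ?_ h
    rw [e, show (c : Spor.ON) * x * (c : Spor.ON)⁻¹ * (c * x * (c : Spor.ON)⁻¹) = c * (x * x) * (c : Spor.ON)⁻¹ by
      group, hx]
    group

/-! ### Classes in the centraliser -/

/-- A class in the centraliser. -/
def classC (x : Spor.ON) : Set Spor.ON := {y | ∃ c ∈ C, c * x * c⁻¹ = y}

theorem classC_root {l : ℕ} (hr : root l < 1750) (hl : labT.at (root l) = l) :
    classC (F (root l)) = F '' {i | i < 1750 ∧ labT.at i = l} := by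
  ext y
  constructor
  · rintro ⟨c, hc, rfl⟩
    obtain ⟨w, hw, rfl⟩ := exists_word hc
    obtain ⟨h1, h2, h3⟩ := go_spec w hw hr
    exact ⟨_, ⟨h1, h2.trans hl⟩, h3.symm⟩
  · rintro ⟨i, ⟨hi, hli⟩, rfl⟩
    obtain ⟨hw, he⟩ := (facts hi).path
    rw [hli] at he
    obtain ⟨-, -, h3⟩ := go_spec _ hw hr
    exact ⟨_, ev_mem _ fun t _ => gc_mem t, by rw [h3, he]⟩

theorem ncard_class {l : ℕ} (hr : root l < 1750) (hl : labT.at (root l) = l) :
    (classC (F (root l))).ncard = ((Finset.range 1750).filter fun i => labT.at i = l).card := by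
  rw [classC_root hr hl, Set.InjOn.ncard_image (fun i hi j hj e => F_inj hi.1 hj.1 e),
    ← Set.ncard_coe_finset]
  congr 1
  ext i
  simp

theorem classC_conj {x : Spor.ON} {c : Spor.ON} (hc : c ∈ C) : classC (c * x * c⁻¹) = classC x := by
  ext y
  constructor
  · rintro ⟨d, hd, rfl⟩
    exact ⟨d * c, mul_mem hd hc, by group⟩
  · rintro ⟨d, hd, rfl⟩
    exact ⟨d * c⁻¹, mul_mem hd (inv_mem hc), by group⟩

theorem classC_F {i : ℕ} (hi : i < 1750) : classC (F i) = classC (F (root (labT.at i))) := by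
  obtain ⟨hw, he⟩ := (facts hi).path
  have hr : root (labT.at i) < 1750 := by
    rcases Nat.lt_succ_iff_lt_or_eq.1 (facts hi).lab with h | h
    · rw [show labT.at i = 0 by omega]; exact idx_lt.1
    · rw [h]; exact idx_lt.2.2.1
  obtain ⟨-, -, h3⟩ := go_spec _ hw hr
  rw [he] at h3
  rw [← h3, classC_conj (ev_mem _ fun t _ => gc_mem t)]

/-- Automorphisms fixing the first generator keep the two classes. -/
theorem lab_map {φ : MulAut Spor.ON} (h0 : φ (g 0) = g 0) {i j : ℕ} (hi : i < 1750) (hj : j < 1750)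
    (e : φ (F i) = F j) : labT.at j = labT.at i := by
  have hCm : ∀ y, y ∈ C ↔ φ y ∈ C := fun y => by
    rw [mem_C, mem_C, ← h0, ← map_mul, ← map_mul, φ.injective.eq_iff]
    rw [h0]
  have himg : classC (F j) = φ '' classC (F i) := by
    ext y
    constructor
    · rintro ⟨c, hc, rfl⟩
      refine ⟨φ.symm c * F i * (φ.symm c)⁻¹, ⟨φ.symm c, (hCm _).2 (by rwa [φ.apply_symm_apply]), rfl⟩, ?_⟩
      rw [map_mul, map_mul, map_inv, φ.apply_symm_apply, e]
    · rintro ⟨_, ⟨c, hc, rfl⟩, rfl⟩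
      exact ⟨φ c, (hCm c).1 hc, by rw [map_mul, map_mul, map_inv, e]⟩
  have hn := congrArg Set.ncard himg
  rw [Set.ncard_image_of_injective _ φ.injective, classC_F hi, classC_F hj] at hn
  have key : ∀ l, l < 2 → (classC (F (root l))).ncard = if l = 0 then 630 else 1120 := by
    intro l hl
    have hcount : ((Finset.range 1750).filter fun i => labT.at i = 0).card = 630 := by
      rw [← lab_count, ← List.toFinset_card_of_nodup (List.Nodup.filter _ List.nodup_range)]
      congr 1
    obtain rfl | rfl : l = 0 ∨ l = 1 := by omega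
    · rw [ncard_class (l := 0) idx_lt.1 root_labs.1]; exact hcount
    · rw [ncard_class (l := 1) idx_lt.2.2.1 root_labs.2.2, if_neg (by norm_num)]
      have h2 := Finset.card_filter_add_card_filter_not (s := Finset.range 1750) (fun i => labT.at i = 0)
      rw [hcount, Finset.card_range] at h2
      have h3 : ((Finset.range 1750).filter fun i => ¬ labT.at i = 0) =
          (Finset.range 1750).filter fun i => labT.at i = 1 := by
        refine Finset.filter_congr fun k hk => ?_
        have := (facts (Finset.mem_range.1 hk)).lab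
        omega
      rw [h3] at h2
      omega
  rw [key _ (facts hj).lab, key _ (facts hi).lab] at hn
  have := (facts hj).lab
  have := (facts hi).lab
  split_ifs at hn <;> omega

end Cfsg.Agent.Fus.ONOut
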