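import Cfsg.Agent.Lib.Spor.Cos.OutTwo
import Cfsg.Agent.Lib.Fus.ONOut.Invol
import Cfsg.Agent.Lib.Fus.ONOut.ChkE
import Cfsg.Agent.Lib.Fus.ONOut.ChkU
import Cfsg.Agent.Lib.Fus.ONOut.ChkB

/-!
The outer automorphism group of the O'Nan group has order two: an automorphism fixing the first generator is fixed,
up to conjugation in the centraliser, on the generators of the centraliser and then on the second generator.
-/

set_option autoImplicit false
set_option maxRecDepth 100000
set_option maxHeartbeats 2000000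

open Cfsg.Agent.Spor.Cos
open Cfsg.Agent.Spor.Cos.ON

namespace Cfsg.Agent.Fus.ONOut

theorem ev_sub (is r : List ℕ) : ev gc (subI is r) = ev (fun t => F (is.getD t 0)) r := ev_subst gc _ r

theorem ev_subG (is r : List ℕ) : ev g (subG is r) = ev (fun t => F (is.getD t 0)) r := by
  rw [subG, ev_subst]
  exact congrArg (ev · r) (funext fun t => (F_eq _).symm)

theorem subI_lt {is r : List ℕ} (h : ∀ t ∈ r, is.getD t 0 < 1750) : ∀ s ∈ subI is r, s < 3 := by
  intro s hs
  obtain ⟨l, hl, hsl⟩ := List.mem_flatten.1 hs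
  obtain ⟨t, ht, rfl⟩ := List.mem_map.1 hl
  exact (facts (h t ht)).letters s hsl

/-- A node. -/
noncomputable def nodeIs (k : ℕ) : List ℕ := [iD, eRep (uNodes.getD k (0, 0)).1, uRep k]

theorem eRep_lt {k : ℕ} (hk : k < eReps.length) : eRep k < 1750 := by
  rw [eRep, List.getD_eq_getElem _ _ hk]
  exact idx_lt.2.2.2.2.1 _ (List.getElem_mem _)

theorem uRep_lt {k : ℕ} (hk : k < uNodes.length) : uRep k < 1750 := by
  rw [uRep, List.getD_eq_getElem _ _ hk]
  exact idx_lt.2.2.2.2.2 _ (List.getElem_mem _)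

theorem F_iD : F iD = g 3 := by rw [F_eq, eq_of_same root_words.1, ev_one]

theorem F_iE : F iE = g 4 := by rw [F_eq, eq_of_same root_words.2.1, ev_one]

theorem F_iU : F iU = g 6 := by rw [F_eq, eq_of_same root_words.2.2, ev_one]

theorem g_ne {s : ℕ} (h : diff [s] [] = true) : g s ≠ 1 := fun e => ne_of_diff h ((ev_one s).trans e)

theorem g_ne' {s t : ℕ} (h : diff [s] [t] = true) : g s ≠ g t :=
  fun e => ne_of_diff h ((ev_one s).trans (e.trans (ev_one t).symm))

/-- The image of a generator of the centraliser is listed. -/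
theorem exists_image {φ : MulAut Spor.ON} (h0 : φ (g 0) = g 0) {s : ℕ} (hs : same [s, 0] [0, s] = true)
    (h1 : g s ≠ 1) (h2 : g s ≠ g 0) {i : ℕ} (hi : i < 1750) (e : F i = g s) :
    ∃ j < 1750, φ (g s) = F j ∧ labT.at j = labT.at i := by
  obtain ⟨j, hj, ej⟩ := invol (x := φ (g s))
    (mem_C.2 (by rw [← h0, ← map_mul, ← map_mul, comm_of_same hs]))
    (by rw [← map_mul, g_sq, map_one])
    (fun e' => h1 (φ.injective (by rw [e', map_one])))
    (fun e' => h2 (φ.injective (by rw [e', h0])))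
  exact ⟨j, hj, ej, lab_map h0 hi hj (by rw [e, ej])⟩

/-- The third step: the images of the generators of the centraliser. -/
theorem exists_node (φ : MulAut Spor.ON) : ∃ (c : Spor.ON) (k : ℕ), k < uNodes.length ∧
    (MulAut.conj c * φ) (g 0) = g 0 ∧ (MulAut.conj c * φ) (g 3) = F iD ∧
    (MulAut.conj c * φ) (g 4) = F (eRep (uNodes.getD k (0, 0)).1) ∧ (MulAut.conj c * φ) (g 6) = F (uRep k) := by
  -- the first generator
  obtain ⟨c0, hc0⟩ := _root_.isConj_iff.1 (cls φ)
  set φ1 := MulAut.conj c0⁻¹ * φ with hφ1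
  have p0 : φ1 (g 0) = g 0 := by
    rw [hφ1, MulAut.mul_apply, MulAut.conj_apply, ← hc0]; group
  -- the fourth
  obtain ⟨i, hi, ei, li⟩ := exists_image p0 comm_words.1 (g_ne gen_diff.2.2.2.2.2.2.1) (g_ne' gen_diff.1) idx_lt.1 F_iD
  rw [root_labs.1] at li
  obtain ⟨hw1, he1⟩ := (facts hi).path
  rw [li] at he1
  set k1 := ev gc (decW (pathT.at i)) with hk1
  have k1C : k1 ∈ C := ev_mem _ fun t _ => gc_mem t
  obtain ⟨-, -, hk1'⟩ := go_spec _ hw1 (show root 0 < 1750 from idx_lt.1)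
  rw [he1] at hk1'
  set φ2 := MulAut.conj k1⁻¹ * φ1 with hφ2
  have q0 : φ2 (g 0) = g 0 := by
    rw [hφ2, MulAut.mul_apply, MulAut.conj_apply, p0, mem_C.1 (inv_mem k1C)]; group
  have q3 : φ2 (g 3) = F iD := by
    rw [hφ2, MulAut.mul_apply, MulAut.conj_apply, ei, ← hk1']
    show k1⁻¹ * (k1 * F (root 0) * k1⁻¹) * k1⁻¹⁻¹ = F iD
    rw [show root 0 = iD from rfl]; group
  -- the fifth
  obtain ⟨j, hj, ej, lj⟩ := exists_image q0 comm_words.2.1 (g_ne gen_diff.2.2.2.2.2.2.2.1) (g_ne' gen_diff.2.1)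
    idx_lt.2.1 F_iE
  rw [root_labs.2.1] at lj
  have r34 : ev (fun t => F ([iD, j].getD t 0)) [0, 1, 0, 1, 0, 1] = 1 := by
    have e := congrArg φ2 (eq_of_same comm_words.2.2.2.2.2)
    simp only [ev, mul_one, map_mul, map_one, q3, ej] at e
    simpa [ev] using e
  have h := e_ok j hj
  simp only [chkE, lj, Nat.beq_refl, Bool.not_true, Bool.false_or, force_eq] at h
  obtain ⟨k, c, hk, hc3, hcD, hcj⟩ : ∃ (k : ℕ) (c : List ℕ), k < eReps.length ∧ (∀ t ∈ c, t < 3) ∧
      actF.go c iD = iD ∧ actF.go c j = eRep k := by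
    rcases hE : Nat.beq (eT.at j % 4) 0 with _ | _
    · rw [hE, cond_false] at h
      rcases hE' : Nat.beq (eT.at j % 4) 1 with _ | _
      · rw [hE', cond_false] at h
        simp only [Bool.and_eq_true, List.all_eq_true, Nat.blt_eq, Nat.beq_eq] at h
        exact ⟨_, _, h.1.1.2, h.1.1.1, h.1.2, h.2⟩
      · rw [hE', cond_true] at h
        exact absurd ((ev_subG _ _).trans r34) (ne_of_diff h)
    · rw [hE, cond_true] at h
      simp only [Bool.and_eq_true, Nat.blt_eq, Bool.not_eq_true'] at h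
      refine absurd ((ev_sub _ _).trans r34) (ev_ne_one (subI_lt fun t ht => ?_) h.1 fun e => ?_)
      · simp only [List.mem_cons, List.not_mem_nil, or_false] at ht
        rcases ht with rfl | rfl | rfl | rfl | rfl | rfl
        exacts [idx_lt.1, hj, idx_lt.1, hj, idx_lt.1, hj]
      · exact Bool.eq_false_iff.1 h.2 (by rw [e]; exact Nat.beq_refl _)
  set k2 := ev gc c with hk2
  have k2C : k2 ∈ C := ev_mem _ fun t _ => gc_mem t
  obtain ⟨-, -, kD⟩ := go_spec c hc3 idx_lt.1
  obtain ⟨-, -, kj⟩ := go_spec c hc3 hj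
  rw [hcD] at kD
  rw [hcj] at kj
  set φ3 := MulAut.conj k2 * φ2 with hφ3
  have r0 : φ3 (g 0) = g 0 := by
    rw [hφ3, MulAut.mul_apply, MulAut.conj_apply, q0, mem_C.1 k2C]; group
  have r3 : φ3 (g 3) = F iD := by rw [hφ3, MulAut.mul_apply, MulAut.conj_apply, q3, kD]
  have r4 : φ3 (g 4) = F (eRep k) := by rw [hφ3, MulAut.mul_apply, MulAut.conj_apply, ej, kj]
  -- the seventh
  obtain ⟨l, hl, el, ll⟩ := exists_image r0 comm_words.2.2.1 (g_ne gen_diff.2.2.2.2.2.2.2.2) (g_ne' gen_diff.2.2.1)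
    idx_lt.2.2.1 F_iU
  rw [root_labs.2.2] at ll
  have rel : ∀ r ∈ relW, ev (fun t => F ([iD, eRep k, l].getD t 0)) r = 1 := fun r hr => by
    obtain ⟨h1, h2⟩ := rel_ok r hr
    have e := congrArg φ3.toMonoidHom ((ev_toG r).symm.trans (eq_of_same h2))
    rw [ev_map, show ev g [] = (1 : Spor.ON) from rfl, map_one] at e
    rw [← e]
    refine Tree5.ev_congr _ fun t ht => ?_
    have := lt_of_all h1 t ht
    interval_cases t
    exacts [r3.symm, r4.symm, el.symm]
  have hn : k * 1750 + l < 5250 := by have : eReps.length = 3 := rfl; omega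
  have h := u_ok _ hn
  simp only [chkU, force_eq, show (k * 1750 + l) / 1750 = k by omega, show (k * 1750 + l) % 1750 = l by omega, ll,
    Nat.beq_refl, Bool.not_true, Bool.false_or] at h
  obtain ⟨n, d, hn', hnode, hd3, hdD, hdk, hdl⟩ : ∃ (n : ℕ) (d : List ℕ), n < uNodes.length ∧
      (uNodes.getD n (0, 0)).1 = k ∧ (∀ t ∈ d, t < 3) ∧ actF.go d iD = iD ∧ actF.go d (eRep k) = eRep k ∧
      actF.go d l = uRep n := by
    rcases hE : Nat.beq (uT.at (k * 1750 + l) % 4) 0 with _ | _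
    · rw [hE, cond_false] at h
      rcases hE' : Nat.beq (uT.at (k * 1750 + l) % 4) 1 with _ | _
      · rw [hE', cond_false] at h
        simp only [Bool.and_eq_true, List.all_eq_true, Nat.blt_eq, Nat.beq_eq] at h
        exact ⟨_, _, h.1.1.1.1.2, h.1.1.1.2, h.1.1.1.1.1, h.1.1.2, h.1.2, h.2⟩
      · rw [hE', cond_true, Bool.and_eq_true, Nat.blt_eq] at h
        refine absurd ((ev_subG _ _).trans (rel _ ?_)) (ne_of_diff h.2)
        rw [List.getD_eq_getElem _ _ h.1]; exact List.getElem_mem _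
    · rw [hE, cond_true] at h
      simp only [Bool.and_eq_true, Nat.blt_eq, Bool.not_eq_true'] at h
      have hm : relW.getD ((uT.at (k * 1750 + l) >>> 2) % 65536) [] ∈ relW := by
        rw [List.getD_eq_getElem _ _ h.1.1]; exact List.getElem_mem _
      refine absurd ((ev_sub _ _).trans (rel _ hm)) (ev_ne_one (subI_lt fun t ht => ?_) h.1.2 fun e => ?_)
      · have := lt_of_all (rel_ok _ hm).1 t ht
        interval_cases t
        exacts [idx_lt.1, eRep_lt hk, hl]
      · exact Bool.eq_false_iff.1 h.2 (by rw [e]; exact Nat.beq_refl _)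
  set k3 := ev gc d with hk3
  have k3C : k3 ∈ C := ev_mem _ fun t _ => gc_mem t
  obtain ⟨-, -, dD⟩ := go_spec d hd3 idx_lt.1
  obtain ⟨-, -, dk⟩ := go_spec d hd3 (eRep_lt hk)
  obtain ⟨-, -, dl⟩ := go_spec d hd3 hl
  rw [hdD] at dD
  rw [hdk] at dk
  rw [hdl] at dl
  refine ⟨k3 * k2 * k1⁻¹ * c0⁻¹, n, hn', ?_⟩
  have e : MulAut.conj (k3 * k2 * k1⁻¹ * c0⁻¹) * φ = MulAut.conj k3 * φ3 := by
    rw [hφ3, hφ2, hφ1]; simp only [map_mul, mul_assoc]
  rw [e, hnode]
  refine ⟨?_, ?_, ?_, ?_⟩ <;> rw [MulAut.mul_apply, MulAut.conj_apply]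
  · rw [r0, mem_C.1 k3C]; group
  · rw [r3]; exact dD
  · rw [r4]; exact dk
  · rw [el]; exact dl

/-! ### The outer automorphism -/

theorem psi_facts : sigW.length = 7 ∧
    (∀ s < 7, ev g (sigW.getD s []) * ev g (sigW.getD s []) = 1) ∧ ev g (sigW.getD 0 []) = g 0 ∧
    ∀ w ∈ words, ev (fun s => ev g (sigW.getD s [])) w = 1 := by
  have h := psi_ok
  simp only [chkPsi, Bool.and_eq_true, List.all_eq_true, List.mem_range, Nat.beq_eq] at h
  obtain ⟨⟨⟨h1, h2⟩, h3⟩, h4⟩ := h
  refine ⟨h1, fun s hs => ?_, (eq_of_same h3).trans (ev_one 0), fun w hw => ?_⟩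
  · rw [← ev_append]; exact eq_of_same (h2 s hs)
  · rw [← ev_subst]; exact eq_of_same (h4 w hw)

theorem exists_psi : ∃ ψ : MulAut Spor.ON, ∀ s < 7, ψ (g s) = ev g (sigW.getD s []) := by
  have := ON.finite
  have := ON.isSimple
  obtain ⟨h7, hsq, h0, hw⟩ := psi_facts
  obtain ⟨f, hf⟩ := exists_hom (fun s => ev g (sigW.getD s []))
    (fun s => by
      rcases Nat.lt_or_ge s 7 with hs | hs
      · exact hsq s hs
      · rw [List.getD_eq_default _ _ (h7.trans_le hs)]; simp [ev])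
    hw (fun s hs => by rw [List.getD_eq_default _ _ (h7.trans_le hs)]; rfl)
  have hinj : Function.Injective f := by
    rw [← MonoidHom.ker_eq_bot_iff]
    refine f.normal_ker.eq_bot_or_eq_top.resolve_right fun htop => g_ne gen_diff.2.2.2.2.2.1 ?_
    rw [← h0, ← hf 0]
    exact MonoidHom.mem_ker.1 (htop ▸ Subgroup.mem_top _)
  exact ⟨MulEquiv.ofBijective f (Finite.injective_iff_bijective.1 hinj), fun s _ => hf s⟩

/-- The outer automorphism. -/
noncomputable def psi : MulAut Spor.ON := exists_psi.choose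

theorem psi_gen : ∀ s < 7, psi (g s) = ev g (sigW.getD s []) := exists_psi.choose_spec

theorem psi_zero : psi (g 0) = g 0 := (psi_gen 0 (by norm_num)).trans psi_facts.2.2.1

theorem psi_notMem : psi ∉ Cfsg.Inn Spor.ON := by
  rintro ⟨c, hc⟩
  have e : ∀ s < 7, c * g s * c⁻¹ = ev g (sigW.getD s []) := fun s hs => by
    rw [← psi_gen s hs, ← hc]; rfl
  have hcC : c ∈ C := by
    have := e 0 (by norm_num)
    rw [psi_facts.2.2.1, mul_inv_eq_iff_eq_mul] at this
    exact mem_C.2 this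
  have h := fixed_ok _ (piA c baseA).2
  have hfix : actA.im (piA c baseA : ℕ) 0 = (piA c baseA : ℕ) := by rw [← g0_apply, fixed_of_comm hcC g0_base]
  simp only [chkFixed, hfix, Nat.beq_refl, Bool.not_true, Bool.false_or, Bool.and_eq_true, List.any_eq_true,
    List.mem_range, Bool.not_eq_true'] at h
  obtain ⟨-, s, hs, hmove⟩ := h
  refine Bool.eq_false_iff.1 hmove ?_
  have hsame := psi_ok
  simp only [chkPsi, Bool.and_eq_true, List.all_eq_true, List.mem_range, same] at hsame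
  have hl : ∀ t ∈ sigW.getD s [], t < 7 := fun t ht =>
    Nat.le_of_ble_eq_true ((hsame.1.1.2 s (by omega)).1.1 t (List.mem_append_left _ ht))
  rw [← homA.apply_ev _ hl, ← e s (by omega), ← Equiv.Perm.mul_apply, ← map_mul, inv_mul_cancel_right, map_mul,
    Equiv.Perm.mul_apply, show piA (g s) baseA = baseA from Wide.mem_stab.1 (stabA ▸ g_mem_nodes hs)]
  exact Nat.beq_refl _

/-! ### The classification -/

theorem classify (φ : MulAut Spor.ON) :
    ∃ (c : Spor.ON) (τ : MulAut Spor.ON), (τ = 1 ∨ τ = psi) ∧ MulAut.conj c * φ = τ := by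
  obtain ⟨c, k, hk, h0, h3, h4, h6⟩ := exists_node φ
  set φ4 := MulAut.conj c * φ with hφ4
  set kk := ev g adW with hkk
  have hkr : ev g adW.reverse = kk⁻¹ := ev_reverse (n := 7) (fun s _ => g_sq s) _ (lt_of_all ad_words.2.2)
  have kconj : kk * g 0 * kk⁻¹ = g 3 := by
    have e := eq_of_same ad_words.2.1
    rwa [ev_append, ev, hkr, ev_one, ← mul_assoc] at e
  have hA : F iA = kk⁻¹ * g 0 * kk := by
    rw [F_eq, eq_of_same ad_words.1, ev_append, ev, hkr, ← mul_assoc]
  set y := φ4 (g 1) with hy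
  have y2 : y * y = 1 := by rw [hy, ← map_mul, g_sq, map_one]
  have y3 : y * g 3 = g 3 * y := by
    rw [← F_iD, ← h3, hy, ← map_mul, ← map_mul, comm_of_same comm_words.2.2.2.1]
  obtain ⟨z, hz, ez⟩ := invol (x := kk⁻¹ * y * kk)
    (mem_C.2 (by
      rw [show g 0 = kk⁻¹ * g 3 * kk by rw [← kconj]; group]
      rw [show kk⁻¹ * y * kk * (kk⁻¹ * g 3 * kk) = kk⁻¹ * (y * g 3) * kk by group, y3]
      group))
    (by rw [show kk⁻¹ * y * kk * (kk⁻¹ * y * kk) = kk⁻¹ * (y * y) * kk by group, y2]; group)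
    (fun e => g_ne gen_diff.2.2.2.2.1 (φ4.injective (by
      rw [map_one, ← hy, show y = kk * (kk⁻¹ * y * kk) * kk⁻¹ by group, e]; group)))
    (fun e => g_ne' gen_diff.2.2.2.1 (φ4.injective (by
      rw [← hy, h3, F_iD, show y = kk * (kk⁻¹ * y * kk) * kk⁻¹ by group, e, kconj])))
  have hey : y = kk * F z * kk⁻¹ := by rw [← ez]; group
  have rab : ev (fun t => F ([iA, z].getD t 0)) [0, 1, 0, 1, 0, 1] = 1 := by
    have e := congrArg φ4 (eq_of_same comm_words.2.2.2.2.1)
    simp only [ev, mul_one, map_mul, map_one, h0, ← hy, hey] at e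
    simp only [ev, mul_one, List.getD_cons_zero, List.getD_cons_succ, hA]
    calc _ = kk⁻¹ * (g 0 * (kk * F z * kk⁻¹ * (g 0 * (kk * F z * kk⁻¹ * (g 0 * (kk * F z * kk⁻¹)))))) * kk := by group
      _ = 1 := by rw [e]; group
  -- the images of the seven generators
  set is := nodeIs k with his
  have his_get : ∀ t < 3, φ4 (gc t) = F (is.getD t 0) := fun t ht => by
    interval_cases t
    exacts [h3, h4, h6]
  have hCword : ∀ (w : List ℕ) (s : ℕ), (w.all fun t => Nat.blt t 3) = true → same (toG w) [s] = true →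
      φ4 (g s) = ev g (subG is w) := fun w s hl hs => by
    rw [ev_subG, ← ev_one s, ← eq_of_same hs, ev_toG]
    show φ4.toMonoidHom (ev gc w) = _
    rw [ev_map]
    exact Tree5.ev_congr _ fun t ht => his_get t (lt_of_all hl t ht)
  have himg : ∀ s < 7, φ4 (g s) = ev g ((imgs k z).getD s []) := fun s hs => by
    interval_cases s
    · rw [h0]; exact (ev_one 0).symm
    · show y = ev g (adW ++ (fW z ++ adW.reverse))
      rw [ev_append, ev_append, hkr, ← F_eq, ← mul_assoc, hey]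
    · exact hCword cWord 2 c_words.2.2.1 c_words.1
    · rw [h3, F_eq]; rfl
    · rw [h4, F_eq]; rfl
    · exact hCword fWord 5 c_words.2.2.2 c_words.2.1
    · rw [h6, F_eq]; rfl
  have hn : k * 1750 + z < 7000 := by have : uNodes.length = 4 := rfl; omega
  have h := b_ok _ hn
  simp only [chkB, force_eq, show (k * 1750 + z) / 1750 = k by omega, show (k * 1750 + z) % 1750 = z by omega] at h
  generalize hE : bT.at (k * 1750 + z) = E at h
  rcases hb : Nat.beq (E % 4) 0 with _ | _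
  swap
  · rw [hb, cond_true] at h
    simp only [Bool.and_eq_true, Nat.blt_eq, Bool.not_eq_true'] at h
    refine absurd ((ev_sub _ _).trans rab) (ev_ne_one (subI_lt fun t ht => ?_) h.1 fun e => ?_)
    · simp only [List.mem_cons, List.not_mem_nil, or_false] at ht
      rcases ht with rfl | rfl | rfl | rfl | rfl | rfl
      exacts [idx_lt.2.2.2.1, hz, idx_lt.2.2.2.1, hz, idx_lt.2.2.2.1, hz]
    · exact Bool.eq_false_iff.1 h.2 (by rw [e]; exact Nat.beq_refl _)
  rw [hb, cond_false] at h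
  rcases hb' : Nat.beq (E % 4) 1 with _ | _
  swap
  · rw [hb', cond_true, Bool.and_eq_true, Nat.blt_eq] at h
    refine absurd ?_ (ne_of_diff h.2)
    have hm : words.getD (E >>> 2) [] ∈ words := by rw [List.getD_eq_getElem _ _ h.1]; exact List.getElem_mem _
    rw [ev_subst]
    have hl : ∀ t ∈ words.getD (E >>> 2) [], t < 7 := by
      have : ∀ w ∈ words, ∀ t ∈ w, t < 7 := by decide +kernel
      exact this _ hm
    rw [Tree5.ev_congr _ fun t ht => (himg t (hl t ht)).symm]
    show ev (fun t => φ4 (g t)) _ = 1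
    exact ((ev_map φ4.toMonoidHom g _).symm.trans (congrArg φ4.toMonoidHom (g_words _ hm))).trans (map_one _)
  rw [hb', cond_false] at h
  simp only [List.all_eq_true, List.mem_range] at h
  -- survivors
  obtain ⟨pre, hpre⟩ : ∃ pre : List ℕ, pre = bif Nat.beq ((E >>> 2) % 2) 1 then [0] else [] := ⟨_, rfl⟩
  rw [← hpre] at h
  have hpC : ev g pre * g 0 = g 0 * ev g pre ∧ ev g pre * ev g pre = 1 := by
    rw [hpre]; cases Nat.beq ((E >>> 2) % 2) 1 <;> simp [ev, g_sq]
  have hrev : (ev g pre)⁻¹ = ev g pre := inv_eq_of_mul_eq_one_left hpC.2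
  refine ⟨ev g pre * c, bif Nat.beq ((E >>> 3) % 2) 1 then psi else 1, ?_, ?_⟩
  · cases Nat.beq ((E >>> 3) % 2) 1 <;> simp
  · have e1 : MulAut.conj (ev g pre * c) * φ = MulAut.conj (ev g pre) * φ4 := by
      rw [hφ4, map_mul, mul_assoc]
    rw [e1]
    refine MulEquiv.toMonoidHom_injective (MonoidHom.eq_of_eqOn_dense g_gen ?_)
    rintro _ ⟨s, hs, rfl⟩
    show MulAut.conj (ev g pre) (φ4 (g s)) = (bif Nat.beq ((E >>> 3) % 2) 1 then psi else 1) (g s)
    rw [MulAut.conj_apply, himg s hs, eq_of_same (h s hs), ev_append, ev_append, hrev]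
    rcases Nat.beq ((E >>> 3) % 2) 1 with _ | _
    · rw [cond_false, cond_false, ev_one, MulAut.one_apply]
      calc _ = (ev g pre * ev g pre) * g s * (ev g pre * ev g pre) := by group
        _ = g s := by rw [hpC.2]; group
    · rw [cond_true, cond_true, psi_gen s hs]
      calc _ = (ev g pre * ev g pre) * ev g (sigW.getD s []) * (ev g pre * ev g pre) := by group
        _ = ev g (sigW.getD s []) := by rw [hpC.2]; group

theorem card_out : Nat.card (Cfsg.Out Spor.ON) = 2 := by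
  refine card_out_eq_two psi psi_notMem fun φ => ?_
  obtain ⟨c, τ, hτ, e⟩ := classify φ
  have hφ : φ = MulAut.conj c⁻¹ * τ := by rw [← e, ← mul_assoc, ← map_mul, inv_mul_cancel, map_one, one_mul]
  rcases hτ with rfl | rfl
  · exact Or.inl ⟨c⁻¹, by rw [hφ, mul_one]⟩
  · exact Or.inr ⟨c⁻¹, by rw [hφ, mul_assoc, mul_inv_cancel, mul_one]⟩

end Cfsg.Agent.Fus.ONOut
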